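import Cfsg.Prelude.Def_TwoFusion
import Cfsg.Agent.ZStar.Theorem
import Cfsg.Agent.PLocal.Cores
import Cfsg.Agent.Coprime.Action

/-!
Consequences of Glauberman's theorem for the Sylow subgroups normalized by an isolated involution.
-/

set_option autoImplicit false

namespace CfsgLib.TwoGroups

open Subgroup
open Cfsg (IsIsolatedInvolution oddCore)

variable {G : Type*} [Group G] [Finite G] {z : G}

theorem odd_card_oddCore : Odd (Nat.card (oddCore G)) :=
  Nat.coprime_two_right.1 (CfsgLib.PLocal.coprime_card_pPrimeCore 2 G)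

/-- An isolated involution is central modulo the odd core. -/
theorem comm_mem_oddCore (hz : IsIsolatedInvolution z) (g : G) :
    z * g * z⁻¹ * g⁻¹ ∈ oddCore G := by
  obtain ⟨N, hN, hodd, h⟩ := CfsgLib.ZStar.exists_oddNormal hz
  haveI := hN
  exact CfsgLib.PLocal.le_pPrimeCore (Nat.coprime_two_right.2 hodd) (h g)

/-- `G = O(G) C(z)`. -/
theorem exists_mul_centralizer (hz : IsIsolatedInvolution z) (g : G) :
    ∃ o ∈ oddCore G, ∃ c ∈ centralizer ({z} : Set G), g = o * c := by
  have hzz : z * z = 1 := by rw [← sq, ← hz.1, pow_orderOf_eq_one]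
  have hzi : z⁻¹ = z := inv_eq_of_mul_eq_one_right hzz
  set v := z * g * z⁻¹ * g⁻¹ with hv
  have hvO : v ∈ oddCore G := comm_mem_oddCore hz g
  have hinv : z * v * z⁻¹ = v⁻¹ := by
    calc z * v * z⁻¹ = (z * z) * g * z⁻¹ * g⁻¹ * z⁻¹ := by rw [hv]; group
      _ = g * z * g⁻¹ * z⁻¹ := by rw [hzz, one_mul, hzi]
      _ = v⁻¹ := by rw [hv]; group
  obtain ⟨e, he⟩ := Odd.of_dvd_nat (odd_card_oddCore (G := G)) (orderOf_dvd_natCard ⟨v, hvO⟩)
  rw [orderOf_mk] at he
  set m := v ^ (e + 1) with hm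
  have hmm : m * m = v := by
    rw [hm, ← pow_add, show e + 1 + (e + 1) = (2 * e + 1) + 1 by ring, ← he, pow_succ,
      pow_orderOf_eq_one, one_mul]
  have hzm : z * m * z⁻¹ = m⁻¹ := by rw [hm, ← conj_pow, hinv, inv_pow]
  refine ⟨m⁻¹, inv_mem (pow_mem hvO _), m * g, ?_, (inv_mul_cancel_left m g).symm⟩
  rw [mem_centralizer_singleton_iff]
  have h1 : z * (m * g) * z⁻¹ = m * g := by
    calc z * (m * g) * z⁻¹ = (z * m * z⁻¹) * (z * g * z⁻¹ * g⁻¹) * g := by group
      _ = m⁻¹ * (m * m) * g := by rw [hzm, hmm]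
      _ = m * g := by group
  exact (mul_inv_eq_iff_eq_mul.1 h1).symm

variable {p : ℕ} [Fact p.Prime]

/-- For odd `p` the invariant Sylow `p`-subgroups: there is a subgroup `M ⊇ O(G)` of odd order and
of index prime to `p`, normalized by `z`, containing a Sylow `p`-subgroup `R` of `C(z)`. -/
theorem exists_invariant_frame (hz : IsIsolatedInvolution z) (hp : p ≠ 2) :
    ∃ (M : Subgroup G) (R : Sylow p ↥(centralizer ({z} : Set G))),
      oddCore G ≤ M ∧ Odd (Nat.card M) ∧ ¬ p ∣ M.index ∧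
      zpowers z ≤ normalizer (M : Set G) ∧
      (R : Subgroup ↥(centralizer ({z} : Set G))).map (centralizer ({z} : Set G)).subtype ≤ M := by
  set C := centralizer ({z} : Set G) with hC
  let R : Sylow p ↥C := default
  set R' := (R : Subgroup ↥C).map C.subtype with hR'
  refine ⟨oddCore G ⊔ R', R, le_sup_left, ?_, ?_, ?_, le_sup_right⟩
  · have h := CfsgLib.PLocal.card_sup_dvd_mul R' (oddCore G)
    rw [sup_comm] at h
    refine Odd.of_dvd_nat ?_ h
    obtain ⟨k, hk⟩ := (R.2.map C.subtype).exists_card_eq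
    rw [hR', hk]
    exact (((Fact.out : p.Prime).odd_of_ne_two hp).pow).mul odd_card_oddCore
  · intro hdvd
    apply R.not_dvd_index
    refine dvd_trans hdvd ?_
    set M := oddCore G ⊔ R' with hM
    have hidx : M.index = (M.subgroupOf C).index := by
      refine Nat.card_congr (Equiv.ofBijective
        (Quotient.lift (fun c : C => ((c : G) : G ⧸ M)) fun c c' h => QuotientGroup.eq.2 ?_)
        ⟨?_, ?_⟩).symm
      · exact mem_subgroupOf.1 (QuotientGroup.leftRel_apply.1 h)
      · intro q q' h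
        induction q using Quotient.inductionOn with
        | h c =>
          induction q' using Quotient.inductionOn with
          | h c' =>
            exact Quotient.sound (QuotientGroup.leftRel_apply.2
              (mem_subgroupOf.2 (QuotientGroup.eq.1 h)))
      · intro q
        induction q using QuotientGroup.induction_on with
        | H g =>
          obtain ⟨o, ho, c, hc, rfl⟩ := exists_mul_centralizer hz g
          refine ⟨Quotient.mk'' ⟨c, hc⟩, QuotientGroup.eq.2 ?_⟩
          refine mem_sup_left ?_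
          have := (inferInstance : (oddCore G).Normal).conj_mem o ho c⁻¹
          rwa [inv_inv, mul_assoc] at this
    rw [hidx]
    exact index_dvd_of_le fun c hc => mem_subgroupOf.2 (mem_sup_right ⟨c, hc, rfl⟩)
  · rw [zpowers_le]
    have h1 : z ∈ normalizer (oddCore G : Set G) := by
      rw [normalizer_eq_top]; exact mem_top z
    have h2 : z ∈ normalizer (R' : Set G) := by
      refine centralizer_le_normalizer _ fun r hr => ?_
      obtain ⟨c, -, rfl⟩ := hr
      exact mem_centralizer_singleton_iff.1 c.2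
    apply mem_normalizer_iff_map_conj_eq.2
    rw [Subgroup.map_sup, mem_normalizer_iff_map_conj_eq.1 h1, mem_normalizer_iff_map_conj_eq.1 h2]

omit [Finite G] in
theorem map_conj_le_normalizer {P : Subgroup G} {c : G} (hc : Commute c z)
    (hzP : z ∈ normalizer (P : Set G)) :
    z ∈ normalizer ((P.map (MulAut.conj c).toMonoidHom : Subgroup G) : Set G) := by
  have := le_normalizer_map (H := P) (MulAut.conj c).toMonoidHom ⟨z, hzP, rfl⟩
  simpa [hc.eq] using this

/-- A `p`-subgroup (`p` odd) is moved into `M` by an element of `C(z)`. -/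
theorem exists_conj_le_frame (hz : IsIsolatedInvolution z) {M : Subgroup G} (hOM : oddCore G ≤ M)
    (hidx : ¬ p ∣ M.index) {Q : Subgroup G} (hQ : IsPGroup p Q) :
    ∃ c ∈ centralizer ({z} : Set G), Q.map (MulAut.conj c).toMonoidHom ≤ M := by
  obtain ⟨P₁, hP₁⟩ := hQ.exists_le_sylow
  let P₀ : Sylow p ↥M := default
  let P : Sylow p G := IsPGroup.toSylow (P := (P₀ : Subgroup ↥M).map M.subtype) (P₀.2.map _) (by
    rw [index_map_subtype]
    intro h
    rcases (Fact.out : p.Prime).dvd_mul.1 h with h | h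
    exacts [P₀.not_dvd_index h, hidx h])
  obtain ⟨x, hx⟩ := MulAction.exists_smul_eq G P₁ P
  obtain ⟨o, ho, c, hc, rfl⟩ := exists_mul_centralizer hz x
  refine ⟨c, hc, ?_⟩
  rintro _ ⟨q, hq, rfl⟩
  have h1 : (o * c) * q * (o * c)⁻¹ ∈ M := by
    have : (o * c) * q * (o * c)⁻¹ ∈ (P : Subgroup G) := by
      rw [← hx, Sylow.coe_subgroup_smul]
      exact ⟨q, hP₁ hq, rfl⟩
    exact map_subtype_le _ this
  show c * q * c⁻¹ ∈ M
  rw [show c * q * c⁻¹ = o⁻¹ * ((o * c) * q * (o * c)⁻¹) * o by group]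
  exact mul_mem (mul_mem (inv_mem (hOM ho)) h1) (hOM ho)

/-- A maximal `z`-invariant `p`-subgroup is a Sylow subgroup. -/
theorem exists_sylow_eq_of_maximal_invariant (hz : IsIsolatedInvolution z) {Q : Subgroup G}
    (hQ : IsPGroup p Q) (hzQ : z ∈ normalizer (Q : Set G))
    (hmax : ∀ R : Subgroup G, IsPGroup p R → z ∈ normalizer (R : Set G) → Q ≤ R → R = Q) :
    ∃ P : Sylow p G, (P : Subgroup G) = Q := by
  by_cases hp : p = 2
  · subst hp
    have hz2 : IsPGroup 2 (zpowers z) :=
      IsPGroup.of_card (n := 1) (by rw [Nat.card_zpowers, hz.1, pow_one])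
    obtain ⟨P, hP⟩ := (hz2.to_sup_of_normal_right' hQ (zpowers_le.2 hzQ)).exists_le_sylow
    exact ⟨P, hmax P P.2 (le_normalizer (hP (mem_sup_left (mem_zpowers z))))
      fun q hq => hP (mem_sup_right hq)⟩
  · obtain ⟨M, R, hOM, hodd, hidx, hzM, -⟩ := exists_invariant_frame (p := p) hz hp
    obtain ⟨c, hc, hcM⟩ := exists_conj_le_frame hz hOM hidx hQ
    have hcz : Commute c z := mem_centralizer_singleton_iff.1 hc
    obtain ⟨P, hQP, hAP⟩ := CfsgLib.Coprime.exists_invariant_sylow_ge hzM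
      (by rw [Nat.card_zpowers, hz.1]; exact Nat.coprime_two_left.2 hodd)
      (Or.inl (Group.isSolvable_of_comm fun a b => mul_comm' a b)) hcM (hQ.map _)
      (zpowers_le.2 (map_conj_le_normalizer hcz hzQ))
    let P' : Sylow p G := IsPGroup.toSylow (P := (P : Subgroup ↥M).map M.subtype) (P.2.map _) (by
      rw [index_map_subtype]
      intro h
      rcases (Fact.out : p.Prime).dvd_mul.1 h with h | h
      exacts [P.not_dvd_index h, hidx h])
    refine ⟨c⁻¹ • P', hmax _ (c⁻¹ • P').2 ?_ ?_⟩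
    · rw [Sylow.coe_subgroup_smul]
      exact map_conj_le_normalizer hcz.inv_left (zpowers_le.1 hAP)
    · intro q hq
      rw [Sylow.coe_subgroup_smul]
      exact ⟨c * q * c⁻¹, hQP ⟨q, hq, rfl⟩, by simp [mul_assoc]⟩

/-- `z`-invariant Sylow subgroups for odd primes. -/
theorem invariant_sylow_inf_centralizer (hz : IsIsolatedInvolution z) (hp : p ≠ 2) (P : Sylow p G)
    (hzP : z ∈ normalizer ((P : Subgroup G) : Set G)) :
    ¬ p ∣ ((P : Subgroup G) ⊓ centralizer ({z} : Set G)).relIndex (centralizer ({z} : Set G)) := by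
  set C := centralizer ({z} : Set G) with hC
  obtain ⟨M, R, hOM, hodd, hidx, hzM, hRM⟩ := exists_invariant_frame (p := p) hz hp
  have hcop : (Nat.card (zpowers z)).Coprime (Nat.card M) := by
    rw [Nat.card_zpowers, hz.1]; exact Nat.coprime_two_left.2 hodd
  have hsolv : Group.IsSolvable (zpowers z) ∨ Group.IsSolvable M :=
    Or.inl (Group.isSolvable_of_comm fun a b => mul_comm' a b)
  obtain ⟨c, hc, hcM⟩ := exists_conj_le_frame hz hOM hidx P.2
  obtain ⟨P₀, hRP, hAP⟩ := CfsgLib.Coprime.exists_invariant_sylow_ge hzM hcop hsolv hRM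
    (R.2.map _) (zpowers_le.2 (by
      refine centralizer_le_normalizer _ fun r hr => ?_
      obtain ⟨r', -, rfl⟩ := hr
      exact mem_centralizer_singleton_iff.1 r'.2))
  -- `P^c` is a Sylow subgroup of `M`
  set Pc := (P : Subgroup G).map (MulAut.conj c).toMonoidHom with hPc
  have hcard : Nat.card ((P₀ : Subgroup ↥M).map M.subtype) = Nat.card Pc := by
    rw [hPc, card_map_of_injective (f := (MulAut.conj c).toMonoidHom) (MulAut.conj c).injective]
    exact Nat.card_congr (Sylow.equiv (IsPGroup.toSylow (P := (P₀ : Subgroup ↥M).map M.subtype)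
      (P₀.2.map _) (by
        rw [index_map_subtype]
        intro h
        rcases (Fact.out : p.Prime).dvd_mul.1 h with h | h
        exacts [P₀.not_dvd_index h, hidx h]) : Sylow p G) P).toEquiv
  obtain ⟨Q, hQ⟩ := ((P.2.map (MulAut.conj c).toMonoidHom).of_equiv
    (subgroupOfEquivOfLe hcM).symm).exists_le_sylow
  have hQeq : (Q : Subgroup ↥M).map M.subtype = Pc := by
    refine (eq_of_le_of_card_ge ?_ ?_).symm
    · intro v hv; exact ⟨⟨v, hcM hv⟩, hQ (mem_subgroupOf.2 hv), rfl⟩
    · rw [← hcard, card_map_of_injective M.subtype_injective,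
        card_map_of_injective M.subtype_injective]
      exact (Nat.card_congr (Q.equiv P₀).toEquiv).le
  obtain ⟨g, hg, hgeq⟩ := CfsgLib.Coprime.exists_conj_map_sylow P₀ Q
  rw [hQeq] at hgeq
  have hcz : Commute c z := mem_centralizer_singleton_iff.1 hc
  obtain ⟨d, hd, hdeq⟩ := CfsgLib.Coprime.exists_conj_eq_of_invariant hzM hcop hsolv hAP
    (zpowers_le.2 (map_conj_le_normalizer hcz hzP)) hg hgeq
  -- a Sylow subgroup of `C` inside `P ⊓ C`
  have hdC : c⁻¹ * d ∈ C := by
    refine mul_mem (inv_mem hc) (mem_centralizer_singleton_iff.2 ?_)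
    exact ((mem_inf.1 hd).2 z (mem_zpowers z)).symm
  set e : C := ⟨c⁻¹ * d, hdC⟩ with he
  have hle : ((e • R : Sylow p ↥C) : Subgroup ↥C) ≤ ((P : Subgroup G) ⊓ C).subgroupOf C := by
    intro v hv
    rw [Sylow.coe_subgroup_smul] at hv
    obtain ⟨r, hr, rfl⟩ := hv
    refine mem_subgroupOf.2 (mem_inf.2 ⟨?_, Subtype.prop _⟩)
    have h1 : d * (r : G) * d⁻¹ ∈ Pc := by
      rw [hPc, ← hdeq]
      exact ⟨r, hRP ⟨r, hr, rfl⟩, rfl⟩
    obtain ⟨u, hu, hue⟩ := h1
    show (c⁻¹ * d) * (r : G) * (c⁻¹ * d)⁻¹ ∈ (P : Subgroup G)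
    rw [show (c⁻¹ * d) * (r : G) * (c⁻¹ * d)⁻¹ = c⁻¹ * (d * (r : G) * d⁻¹) * c by group, ← hue]
    show c⁻¹ * (c * u * c⁻¹) * c ∈ (P : Subgroup G)
    rwa [show c⁻¹ * (c * u * c⁻¹) * c = u by group]
  have hpg : IsPGroup p (((P : Subgroup G) ⊓ C).subgroupOf C) :=
    (P.2.to_le inf_le_left).of_equiv (subgroupOfEquivOfLe inf_le_right).symm
  rw [relIndex, (e • R).3 hpg hle]
  exact (e • R).not_dvd_index

end CfsgLib.TwoGroups
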