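import Cfsg.Agent.TwoGroups.Basic
import Cfsg.Agent.Transfer.Alperin
import Cfsg.Agent.Coprime.Abelian

/-!
Automizers of four-groups and of groups with a four-group as central quotient: their index over
the centralizing part divides 6.
-/

namespace CfsgLib.TwoGroups

open Subgroup

variable {G : Type*} [Group G]

theorem card_mulAut_dvd_six {V : Type*} [Group V] (hV : Nat.card V = 4) :
    Nat.card (MulAut V) ∣ 6 := by
  classical
  haveI : Finite V := Nat.finite_of_card_ne_zero (by omega)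
  let f : MulAut V →* Equiv.Perm {v : V // v ≠ 1} :=
    MonoidHom.mk' (fun φ => φ.toEquiv.subtypeEquiv fun v => by simp)
      (fun φ ψ => Equiv.ext fun v => Subtype.ext rfl)
  have hf : Function.Injective f := by
    intro φ ψ h
    refine MulEquiv.ext fun v => ?_
    by_cases hv : v = 1
    · rw [hv, map_one, map_one]
    · exact congrArg Subtype.val (Equiv.ext_iff.1 h ⟨v, hv⟩)
  have h := card_dvd_of_injective f hf
  have hc : Nat.card {v : V // v ≠ 1} = 3 := by
    haveI := Fintype.ofFinite V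
    rw [Nat.card_eq_fintype_card, Fintype.card_subtype_compl, Fintype.card_subtype_eq,
      ← Nat.card_eq_fintype_card, hV]
  haveI := Fintype.ofFinite {v : V // v ≠ 1}
  rw [Nat.card_eq_fintype_card (α := Equiv.Perm _), Fintype.card_perm, ← Nat.card_eq_fintype_card, hc] at h
  exact h

/-- An index which is the order of a subgroup of a group of order dividing 6, and which is moved
by a 2-element, is 2 or 6. -/
theorem relIndex_eq_two_or_six {A : Type*} [Group A] (hA : Nat.card A ∣ 6) {H N : Subgroup G}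
    (f : N →* A) (hker : f.ker = H.subgroupOf N) {u : G} (huN : u ∈ N) (huH : u ∉ H) {k : ℕ}
    (hu : u ^ 2 ^ k = 1) : H.relIndex N = 2 ∨ H.relIndex N = 6 := by
  have hidx : H.relIndex N = Nat.card f.range := by
    rw [relIndex, ← hker, index_ker]
  have hdvd : Nat.card f.range ∣ 6 := (card_subgroup_dvd_card f.range).trans hA
  have hne : f ⟨u, huN⟩ ≠ 1 := fun h => huH (by
    have : (⟨u, huN⟩ : N) ∈ f.ker := h
    rw [hker] at this
    exact mem_subgroupOf.1 this)
  have h2 : 2 ∣ Nat.card f.range := by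
    have hpow : f ⟨u, huN⟩ ^ 2 ^ k = 1 := by
      rw [← map_pow, show (⟨u, huN⟩ : N) ^ 2 ^ k = 1 from Subtype.ext hu, map_one]
    obtain ⟨j, -, hj⟩ := (Nat.dvd_prime_pow Nat.prime_two).1 (orderOf_dvd_of_pow_eq_one hpow)
    have hj0 : j ≠ 0 := fun h => hne (orderOf_eq_one_iff.1 (by rw [hj, h, pow_zero]))
    refine dvd_trans (dvd_trans (dvd_pow_self 2 hj0) (dvd_of_eq hj.symm)) ?_
    rw [← orderOf_mk (f ⟨u, huN⟩) (MonoidHom.mem_range.2 ⟨_, rfl⟩)]
    exact orderOf_dvd_natCard _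
  have hle := Nat.le_of_dvd (by norm_num) hdvd
  rw [hidx]
  generalize Nat.card f.range = c at hdvd h2 hle
  interval_cases c <;> omega

/-- The automizer of a four-group. -/
theorem relIndex_centralizer_kleinFour {T : Subgroup G} (hT : IsKleinFour T) {u : G}
    (huN : u ∈ normalizer (T : Set G)) (huH : u ∉ centralizer (T : Set G)) {k : ℕ}
    (hu : u ^ 2 ^ k = 1) :
    (centralizer (T : Set G)).relIndex (normalizer (T : Set G)) = 2 ∨
      (centralizer (T : Set G)).relIndex (normalizer (T : Set G)) = 6 :=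
  relIndex_eq_two_or_six (card_mulAut_dvd_six hT.card_four) T.normalizerMonoidHom
    T.normalizerMonoidHom_ker huN huH hu

/-- The automizer of `W` when `W/Z(W)` is a four-group generated by `a`, `b`, `Z(W) = Z` is
centralized by the normalizer and `[a, b]` is the only involution of `Z`. -/
theorem relIndex_sup_centralizer {W Z : Subgroup G} {a b : G} (ha : a ∈ W) (hb : b ∈ W)
    (hZW : Z ≤ W) (hZC : Z ≤ centralizer (W : Set G)) (hWC : W ⊓ centralizer (W : Set G) ≤ Z)
    (hform : ∀ w ∈ W, ∃ c ∈ Z, w = c ∨ w = a * c ∨ w = b * c ∨ w = a * b * c)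
    (ha2 : a * a ∈ Z) (hb2 : b * b ∈ Z) (hab : a * b ≠ b * a)
    (hinv : ∀ c ∈ Z, c * c = 1 → c = 1 ∨ c = a * b * a⁻¹ * b⁻¹)
    (hfix : ∀ g ∈ normalizer (W : Set G), ∀ c ∈ Z, g * c * g⁻¹ = c)
    {u : G} (huN : u ∈ normalizer (W : Set G)) (huH : u ∉ W ⊔ centralizer (W : Set G)) {k : ℕ}
    (hu : u ^ 2 ^ k = 1) :
    (W ⊔ centralizer (W : Set G)).relIndex (normalizer (W : Set G)) = 2 ∨
      (W ⊔ centralizer (W : Set G)).relIndex (normalizer (W : Set G)) = 6 := by
  have hWN : W ≤ normalizer (W : Set G) := le_normalizer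
  have hCN : centralizer (W : Set G) ≤ normalizer (W : Set G) := centralizer_le_normalizer _
  have hcW : ∀ c ∈ Z, ∀ w ∈ W, w * c = c * w := fun c hc w hw => hZC hc w hw
  have hC : ∀ v : G, v ∈ W → v * a = a * v → v * b = b * v → v ∈ Z := by
    intro v hvW hva hvb
    refine hWC (mem_inf.2 ⟨hvW, fun w hw => ?_⟩)
    obtain ⟨c, hc, hw'⟩ := hform w hw
    have e0 : Commute v c := hcW c hc v hvW
    have ea : Commute v a := hva
    have eb : Commute v b := hvb
    rcases hw' with rfl | rfl | rfl | rfl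
    exacts [e0.symm.eq, (ea.mul_right e0).symm.eq, (eb.mul_right e0).symm.eq,
      ((ea.mul_right eb).mul_right e0).symm.eq]
  let Z' : Subgroup W := Z.subgroupOf W
  haveI hn : Z'.Normal := ⟨fun v hv w => by
    rw [mem_subgroupOf] at hv ⊢
    simp only [coe_mul, coe_inv]
    rw [hcW _ hv _ w.2, mul_inv_cancel_right]
    exact hv⟩
  have hcard : Nat.card (W ⧸ Z') = 4 := by
    let r : Fin 4 → W := ![1, ⟨a, ha⟩, ⟨b, hb⟩, ⟨a * b, mul_mem ha hb⟩]
    have hbij : Function.Bijective fun i => (r i : W ⧸ Z') := by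
      refine ⟨fun i j hij => ?_, fun q => ?_⟩
      · have hij' : ((r i : G))⁻¹ * r j ∈ Z := mem_subgroupOf.1 (QuotientGroup.eq.1 hij)
        by_contra hne
        apply hab
        have ea : ∀ v ∈ Z, Commute a v := fun v hv => hcW v hv a ha
        have eb : ∀ v ∈ Z, Commute b v := fun v hv => hcW v hv b hb
        have k1 : a ∈ Z → a * b = b * a := fun h => (eb a h).symm.eq
        have k2 : b ∈ Z → a * b = b * a := fun h => (ea b h).eq
        have k3 : a⁻¹ * b ∈ Z → a * b = b * a := fun h => by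
          have := (Commute.refl a).mul_right (ea _ h)
          rwa [mul_inv_cancel_left] at this
        have k4 : a * b ∈ Z → a * b = b * a := fun h => by
          have := ((Commute.refl a).inv_right).mul_right (ea _ h)
          rwa [inv_mul_cancel_left] at this
        have k5 : b⁻¹ * (a * b) ∈ Z → a * b = b * a := fun h => by
          have := ((Commute.refl b).mul_right (eb _ h)).mul_right (Commute.refl b).inv_right
          rw [mul_inv_cancel_left, mul_inv_cancel_right] at this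
          exact this.symm.eq
        fin_cases i <;> fin_cases j <;> simp [r] at hne hij'
        all_goals first
          | exact k1 hij' | exact k1 (inv_mem_iff.1 hij') | exact k2 hij'
          | exact k2 (inv_mem_iff.1 hij') | exact k3 hij' | exact k4 hij'
          | exact k4 (by simpa using inv_mem hij') | exact k5 hij'
          | exact k3 (by simpa using inv_mem hij') | exact k5 (by simpa using inv_mem hij')
      · induction q using QuotientGroup.induction_on with
        | H w =>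
          obtain ⟨c, hc, hw⟩ := hform w w.2
          have hcc : ∀ v : G, v⁻¹ * (v * c) ∈ Z := fun v => by rwa [inv_mul_cancel_left]
          rcases hw with hw | hw | hw | hw
          · refine ⟨0, QuotientGroup.eq.2 (mem_subgroupOf.2 ?_)⟩
            show (1 : G)⁻¹ * w ∈ Z
            simpa [hw] using hc
          · refine ⟨1, QuotientGroup.eq.2 (mem_subgroupOf.2 ?_)⟩
            show a⁻¹ * w ∈ Z
            rw [hw]; exact hcc a
          · refine ⟨2, QuotientGroup.eq.2 (mem_subgroupOf.2 ?_)⟩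
            show b⁻¹ * w ∈ Z
            rw [hw]; exact hcc b
          · refine ⟨3, QuotientGroup.eq.2 (mem_subgroupOf.2 ?_)⟩
            show (a * b)⁻¹ * w ∈ Z
            rw [hw]; exact hcc (a * b)
    rw [← Nat.card_congr (Equiv.ofBijective _ hbij), Nat.card_eq_fintype_card, Fintype.card_fin]
  have hcomm : ∀ p ∈ W, ∀ q ∈ W, p * q * p⁻¹ * q⁻¹ ∈ Z := by
    haveI : Fact (Nat.Prime 2) := ⟨Nat.prime_two⟩
    haveI := IsPGroup.isMulCommutative_of_card_eq_prime_sq (p := 2) (G := W ⧸ Z') (by rw [hcard]; rfl)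
    intro p hp q hq
    have h : ((⟨p, hp⟩ * ⟨q, hq⟩ * ⟨p, hp⟩⁻¹ * ⟨q, hq⟩⁻¹ : W) : W ⧸ Z') = 1 := by
      simp only [QuotientGroup.mk_mul, QuotientGroup.mk_inv]
      rw [IsMulCommutative.is_comm.comm ((⟨p, hp⟩ : W) : W ⧸ Z'), mul_inv_cancel_right,
        mul_inv_cancel]
    exact mem_subgroupOf.1 ((QuotientGroup.eq_one_iff _).1 h)
  have hmap : ∀ g : normalizer (W : Set G), Z'.map (W.normalizerMonoidHom g : W →* W) = Z' := by
    intro g
    ext v
    constructor
    · rintro ⟨w, hw, rfl⟩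
      show (g : G) * (w : G) * (g : G)⁻¹ ∈ Z
      rw [hfix g g.2 _ (mem_subgroupOf.1 hw)]; exact mem_subgroupOf.1 hw
    · intro hv
      exact ⟨v, hv, Subtype.ext (hfix g g.2 _ (mem_subgroupOf.1 hv))⟩
  let f : normalizer (W : Set G) →* MulAut (W ⧸ Z') :=
    MonoidHom.mk' (fun g => QuotientGroup.congr Z' Z' (W.normalizerMonoidHom g) (hmap g))
      (fun g h => MulEquiv.ext fun q => by
        induction q using QuotientGroup.induction_on with
        | H w => simp only [QuotientGroup.congr_mk, map_mul, MulAut.mul_apply])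
  refine relIndex_eq_two_or_six (card_mulAut_dvd_six hcard) f (le_antisymm ?_ ?_) huN huH hu
  · intro g hg
    rw [mem_subgroupOf]
    have hmem : ∀ w ∈ W, w⁻¹ * ((g : G) * w * (g : G)⁻¹) ∈ Z := by
      intro w hw
      have h2 : f g ((⟨w, hw⟩ : W) : W ⧸ Z') = ((⟨w, hw⟩ : W) : W ⧸ Z') := by
        rw [MonoidHom.mem_ker.1 hg]; rfl
      exact mem_subgroupOf.1 (QuotientGroup.eq.1 h2.symm)
    have hsq : ∀ w ∈ W, w * w ∈ Z → ∃ c, (c = 1 ∨ c = a * b * a⁻¹ * b⁻¹) ∧
        (g : G) * w * (g : G)⁻¹ = w * c := by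
      intro w hw hw2
      refine ⟨_, hinv _ (hmem w hw) ?_, (mul_inv_cancel_left _ _).symm⟩
      have h3 : ((g : G) * w * (g : G)⁻¹) * ((g : G) * w * (g : G)⁻¹) = w * w := by
        rw [← hfix g g.2 _ hw2]; group
      have hc : Commute w⁻¹ (w⁻¹ * ((g : G) * w * (g : G)⁻¹)) :=
        hcW _ (hmem w hw) _ (inv_mem hw)
      calc w⁻¹ * ((g : G) * w * (g : G)⁻¹) * (w⁻¹ * ((g : G) * w * (g : G)⁻¹))
          = (w⁻¹ * (w⁻¹ * ((g : G) * w * (g : G)⁻¹))) * ((g : G) * w * (g : G)⁻¹) := by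
            rw [hc.eq]; group
        _ = w⁻¹ * w⁻¹ * (((g : G) * w * (g : G)⁻¹) * ((g : G) * w * (g : G)⁻¹)) := by group
        _ = 1 := by rw [h3]; group
    obtain ⟨ca, hca, hga⟩ := hsq a ha ha2
    obtain ⟨cb, hcb, hgb⟩ := hsq b hb hb2
    have key : ∃ w ∈ W, w * a * w⁻¹ = a * ca ∧ w * b * w⁻¹ = b * cb := by
      set z := a * b * a⁻¹ * b⁻¹ with hz
      have hzZ : z ∈ Z := hcomm a ha b hb
      have hza : Commute a z := hcW z hzZ a ha
      have hzb : Commute b z := hcW z hzZ b hb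
      have e1 : a * b * a⁻¹ = b * z := by rw [hzb.eq, hz]; group
      have hz2 : z * z = 1 := by
        have h1 : a * a * b * (a * a)⁻¹ = b := by
          rw [show a * a * b = b * (a * a) from (hcW _ ha2 b hb).symm, mul_inv_cancel_right]
        have h2 : a * a * b * (a * a)⁻¹ = b * (z * z) := by
          rw [show a * a * b * (a * a)⁻¹ = a * (a * b * a⁻¹) * a⁻¹ by group, e1,
            show a * (b * z) * a⁻¹ = (a * b * a⁻¹) * (a * z * a⁻¹) by group, e1, hza.eq,
            mul_inv_cancel_right, mul_assoc]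
        exact mul_eq_left.1 (h2.symm.trans h1)
      have e2 : b * a * b⁻¹ = a * z := by
        rw [show b * a * b⁻¹ = z⁻¹ * a by rw [hz]; group, inv_eq_of_mul_eq_one_right hz2, hza.eq]
      rcases hca with rfl | rfl <;> rcases hcb with rfl | rfl
      · exact ⟨1, one_mem _, by simp, by simp⟩
      · exact ⟨a, ha, by simp, e1⟩
      · exact ⟨b, hb, e2, by simp⟩
      · refine ⟨a * b, mul_mem ha hb, ?_, ?_⟩
        · rw [show a * b * a * (a * b)⁻¹ = a * (b * a * b⁻¹) * a⁻¹ by group, e2,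
            mul_assoc a (a * z), mul_assoc a z, ← hza.inv_left.eq, mul_inv_cancel_left]
        · rw [show a * b * b * (a * b)⁻¹ = a * b * a⁻¹ by group, e1]
    obtain ⟨w, hw, hwa, hwb⟩ := key
    have hcent : w⁻¹ * (g : G) ∈ centralizer (W : Set G) := by
      intro v hv
      obtain ⟨c, hc, hv'⟩ := hform v hv
      have hval : ∀ t : G, (g : G) * t * (g : G)⁻¹ = w * t * w⁻¹ → Commute t (w⁻¹ * g) := by
        intro t ht
        show t * (w⁻¹ * g) = w⁻¹ * g * t
        calc t * (w⁻¹ * g) = w⁻¹ * (w * t * w⁻¹) * g := by group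
          _ = w⁻¹ * ((g : G) * t * (g : G)⁻¹) * g := by rw [ht]
          _ = w⁻¹ * g * t := by group
      have ea := hval a (hga.trans hwa.symm)
      have eb := hval b (hgb.trans hwb.symm)
      have ec := hval c (by rw [hfix g g.2 c hc, hfix w (hWN hw) c hc])
      rcases hv' with rfl | rfl | rfl | rfl
      exacts [ec.eq, (ea.mul_left ec).eq, (eb.mul_left ec).eq, ((ea.mul_left eb).mul_left ec).eq]
    rw [show (g : G) = w * (w⁻¹ * g) by group]
    exact mul_mem_sup hw hcent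
  · intro g hg
    rw [mem_subgroupOf] at hg
    have hle : W ⊔ centralizer (W : Set G) ≤ f.ker.map (normalizer (W : Set G)).subtype := by
      refine sup_le (fun w hw => ⟨⟨w, hWN hw⟩, MonoidHom.mem_ker.2 ?_, rfl⟩)
        (fun c hc => ⟨⟨c, hCN hc⟩, MonoidHom.mem_ker.2 ?_, rfl⟩)
      · refine MulEquiv.ext fun q => ?_
        induction q using QuotientGroup.induction_on with
        | H v =>
          refine QuotientGroup.eq.2 (mem_subgroupOf.2 ?_)
          show (w * (v : G) * w⁻¹)⁻¹ * v ∈ Z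
          have h := hcomm w hw (v : G)⁻¹ (inv_mem v.2)
          rwa [inv_inv, show w * (v : G)⁻¹ * w⁻¹ = (w * (v : G) * w⁻¹)⁻¹ by group] at h
      · refine MulEquiv.ext fun q => ?_
        induction q using QuotientGroup.induction_on with
        | H v =>
          refine QuotientGroup.eq.2 (mem_subgroupOf.2 ?_)
          show (c * (v : G) * c⁻¹)⁻¹ * v ∈ Z
          rw [← hc v v.2, mul_inv_cancel_right, inv_mul_cancel]
          exact one_mem _
    obtain ⟨g', hg', he⟩ := hle hg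
    rwa [← Subtype.ext (he : (g' : G) = g)]

/-- A `p`-subgroup of an intermediate group `N` is moved into a Sylow subgroup contained in `N`
by an element of `N`. -/
theorem exists_conj_mem_sylow [Finite G] {p : ℕ} [Fact p.Prime] (S : Sylow p G) {N P : Subgroup G}
    (hSN : (S : Subgroup G) ≤ N) (hPN : P ≤ N) (hP : IsPGroup p P) :
    ∃ h ∈ N, ∀ u ∈ P, h * u * h⁻¹ ∈ (S : Subgroup G) := by
  obtain ⟨R, hR⟩ := (hP.of_equiv (subgroupOfEquivOfLe hPN).symm).exists_le_sylow
  obtain ⟨h, hh⟩ := MulAction.exists_smul_eq N R (S.subtype hSN)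
  refine ⟨h, h.2, fun u hu => ?_⟩
  have h1 : (⟨(h : G) * u * (h : G)⁻¹, mul_mem (mul_mem h.2 (hPN hu)) (inv_mem h.2)⟩ : N) ∈
      ((S.subtype hSN : Sylow p N) : Subgroup N) := by
    rw [← hh, Sylow.coe_subgroup_smul]
    exact ⟨⟨u, hPN hu⟩, hR (mem_subgroupOf.2 hu), rfl⟩
  rw [Sylow.coe_subtype] at h1
  exact mem_subgroupOf.1 h1

/-- An element normalizing an abelian 2-group and fixing its involutions centralizes it, provided
its 2-part does. -/
theorem mem_centralizer_of_fix_invol [Finite G] {V : Subgroup G} [IsMulCommutative V]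
    (hV : IsPGroup 2 V) {g : G} (hg : g ∈ normalizer (V : Set G))
    (hfix : ∀ v ∈ V, v * v = 1 → g * v * g⁻¹ = v)
    (h2 : ∀ u ∈ zpowers g, (∃ k : ℕ, u ^ 2 ^ k = 1) → u ∈ centralizer (V : Set G)) :
    g ∈ centralizer (V : Set G) := by
  haveI : Fact (Nat.Prime 2) := ⟨Nat.prime_two⟩
  obtain ⟨k, m, hm, hord⟩ := Nat.exists_eq_two_pow_mul_odd (orderOf_pos g).ne'
  have h1 : g ^ m ∈ centralizer (V : Set G) := h2 _ (pow_mem (mem_zpowers g) m) ⟨k, by
    rw [← pow_mul, mul_comm, ← hord, pow_orderOf_eq_one]⟩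
  have hle : zpowers (g ^ 2 ^ k) ≤ centralizer (V : Set G) := by
    refine CfsgLib.Coprime.le_centralizer_of_forall_prime_order
      (zpowers_le.2 (pow_mem hg _)) ?_ ?_
    · obtain ⟨j, hj⟩ := hV.exists_card_eq
      rw [hj, Nat.card_zpowers]
      have hdvd : orderOf (g ^ 2 ^ k) ∣ m :=
        orderOf_dvd_of_pow_eq_one (by rw [← pow_mul, ← hord, pow_orderOf_eq_one])
      exact Nat.Coprime.pow_right _ (Nat.coprime_two_right.2 (hm.of_dvd_nat hdvd))
    · intro v hv hvp
      have hv2 : orderOf v = 2 := by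
        obtain ⟨j, hj⟩ := IsPGroup.iff_orderOf.1 hV ⟨v, hv⟩
        rw [orderOf_mk] at hj
        exact ((Nat.prime_dvd_prime_iff_eq hvp Nat.prime_two).1
          (hvp.dvd_of_dvd_pow (n := j) (dvd_of_eq hj)))
      have hgv : Commute g v := mul_inv_eq_iff_eq_mul.1
        (hfix v hv (by rw [← sq, ← hv2, pow_orderOf_eq_one]))
      rintro _ ⟨i, rfl⟩
      exact ((hgv.pow_left _).zpow_left i).eq
  have hcop : Nat.Coprime m (2 ^ k) := Nat.Coprime.pow_right _ (Nat.coprime_two_right.2 hm)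
  have hg' : g = (g ^ m) ^ (Nat.gcdA m (2 ^ k)) * (g ^ 2 ^ k) ^ (Nat.gcdB m (2 ^ k)) := by
    rw [← zpow_natCast g m, ← zpow_natCast g (2 ^ k), ← zpow_mul, ← zpow_mul, ← zpow_add,
      ← Nat.gcd_eq_gcd_ab, hcop.gcd_eq_one, Nat.cast_one, zpow_one]
  rw [hg']
  exact mul_mem (zpow_mem h1 _) (zpow_mem (hle (mem_zpowers _)) _)

theorem isKleinFour_subgroupOf {T S : Subgroup G} (hT : IsKleinFour T) (hTS : T ≤ S) :
    IsKleinFour (T.subgroupOf S) := by
  refine isKleinFour_iff.2 ⟨?_, fun v hv => Subtype.ext ?_⟩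
  · rw [Nat.card_congr (subgroupOfEquivOfLe hTS).toEquiv]; exact hT.card_four
  · exact (isKleinFour_iff.1 hT).2 _ (mem_subgroupOf.1 hv)

theorem quaternion8_form {Q : Subgroup G} (e : Q ≃* QuaternionGroup 2) {a b w : G} (ha : a ∈ Q)
    (hb : b ∈ Q) (hab : a * b ≠ b * a) (hw : w ∈ Q) :
    ∃ c, (c = 1 ∨ c = a * a) ∧ (w = c ∨ w = a * c ∨ w = b * c ∨ w = a * b * c) := by
  have hd : ∀ p q : QuaternionGroup 2, p * q ≠ q * p → ∀ r, r = 1 ∨ r = p * 1 ∨ r = q * 1 ∨
      r = p * q * 1 ∨ r = p * p ∨ r = p * (p * p) ∨ r = q * (p * p) ∨ r = p * q * (p * p) := by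
    decide
  have h := hd (e ⟨a, ha⟩) (e ⟨b, hb⟩) (by
    rw [← map_mul, ← map_mul, ne_eq, EmbeddingLike.apply_eq_iff_eq]
    exact fun h => hab (congrArg Subtype.val h)) (e ⟨w, hw⟩)
  simp only [← map_one e, ← map_mul, EmbeddingLike.apply_eq_iff_eq, Subtype.ext_iff, coe_mul,
    coe_one] at h
  rcases h with h | h | h | h | h | h | h | h
  exacts [⟨1, Or.inl rfl, Or.inl h⟩, ⟨1, Or.inl rfl, Or.inr (Or.inl h)⟩,
    ⟨1, Or.inl rfl, Or.inr (Or.inr (Or.inl h))⟩, ⟨1, Or.inl rfl, Or.inr (Or.inr (Or.inr h))⟩,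
    ⟨_, Or.inr rfl, Or.inl h⟩, ⟨_, Or.inr rfl, Or.inr (Or.inl h)⟩,
    ⟨_, Or.inr rfl, Or.inr (Or.inr (Or.inl h))⟩, ⟨_, Or.inr rfl, Or.inr (Or.inr (Or.inr h))⟩]

theorem quaternion8_invol {Q : Subgroup G} (e : Q ≃* QuaternionGroup 2) {a b c : G} (ha : a ∈ Q)
    (hb : b ∈ Q) (hab : a * b ≠ b * a) (hc : c ∈ Q) (hc2 : c * c = 1) :
    c = 1 ∨ c = a * b * a⁻¹ * b⁻¹ := by
  have hd : ∀ p q : QuaternionGroup 2, p * q ≠ q * p → ∀ r, r * r = 1 →
      r = 1 ∨ r = p * q * p⁻¹ * q⁻¹ := by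
    decide
  have h := hd (e ⟨a, ha⟩) (e ⟨b, hb⟩) (by
    rw [← map_mul, ← map_mul, ne_eq, EmbeddingLike.apply_eq_iff_eq]
    exact fun h => hab (congrArg Subtype.val h)) (e ⟨c, hc⟩)
    (by rw [← map_mul, EmbeddingLike.map_eq_one_iff]; exact Subtype.ext hc2)
  simp only [← map_one e, ← map_mul, ← map_inv, EmbeddingLike.apply_eq_iff_eq, Subtype.ext_iff,
    coe_mul, coe_one, coe_inv] at h
  exact h

theorem quaternion8_sq_central {Q : Subgroup G} (e : Q ≃* QuaternionGroup 2) {a : G}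
    (ha : a ∈ Q) : a * a ∈ centralizer (Q : Set G) := fun _ hv =>
  (quaternion8_sq_eq_one e (mul_mem ha ha) hv (quaternion8_pow_four e ha)).symm

end CfsgLib.TwoGroups
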