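import Mathlib.GroupTheory.Transfer
import Mathlib.GroupTheory.Abelianization.Defs
import Mathlib.GroupTheory.Sylow

/-!
Transfer to an abelian section when the powers of an element have controlled fusion.
-/

namespace CfsgLib.TwoGroups

open Subgroup

variable {G : Type*} [Group G] [Finite G]

open MulAction in
/-- If `H/K` is abelian of index prime to `p` and the powers of the `p`-element `g ∈ H \ K` are
fused only modulo `K`, then `g ∉ G'`. -/
theorem notMem_commutator_of_transfer {p : ℕ} [Fact p.Prime] {H K : Subgroup G}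
    (hn : (K.subgroupOf H).Normal) (hab : ∀ x ∈ H, ∀ y ∈ H, x * y * x⁻¹ * y⁻¹ ∈ K)
    (hidx : Nat.Coprime p H.index) {g : G} (hgH : g ∈ H) (hgK : g ∉ K) {k : ℕ}
    (hgp : g ^ p ^ k = 1)
    (hctrl : ∀ (m : ℤ) (a : G), a * g ^ m * a⁻¹ ∈ H → (a * g ^ m * a⁻¹) * (g ^ m)⁻¹ ∈ K) :
    g ∉ commutator G := by
  classical
  haveI := hn
  haveI := H.fintypeQuotientOfFiniteIndex
  haveI : Fintype (Quotient (orbitRel (zpowers g) (G ⧸ H))) := Fintype.ofFinite _
  letI : CommGroup (H ⧸ K.subgroupOf H) :=
    { (inferInstance : Group (H ⧸ K.subgroupOf H)) with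
      mul_comm := fun u v => by
        induction u using QuotientGroup.induction_on with
        | H u =>
          induction v using QuotientGroup.induction_on with
          | H v =>
            rw [← QuotientGroup.mk_mul, ← QuotientGroup.mk_mul, QuotientGroup.eq, mem_subgroupOf]
            simp only [coe_mul, coe_inv]
            have h := hab (v : G)⁻¹ (inv_mem v.2) (u : G)⁻¹ (inv_mem u.2)
            rwa [inv_inv, inv_inv, show (v : G)⁻¹ * (u : G)⁻¹ * v * u =
              ((u : G) * v)⁻¹ * (v * u) by group] at h }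
  let ϕ : H →* H ⧸ K.subgroupOf H := QuotientGroup.mk' _
  intro hg
  have hV : MonoidHom.transfer ϕ g = ϕ ⟨g, hgH⟩ ^ H.index := by
    rw [MonoidHom.transfer_eq_prod_quotient_orbitRel_zpowers_quot, index_eq_sum_minimalPeriod H g,
      ← Finset.prod_pow_eq_pow_sum]
    refine Finset.prod_congr rfl fun q _ => ?_
    rw [← map_pow]
    refine (QuotientGroup.eq.2 (mem_subgroupOf.2 ?_)).symm
    have hmem := QuotientGroup.out_conj_pow_minimalPeriod_mem H g q.out
    have h := hctrl (Function.minimalPeriod (g • ·) q.out) (q.out.out)⁻¹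
      (by rw [zpow_natCast, inv_inv]; exact hmem)
    rw [zpow_natCast, inv_inv] at h
    have h2 := hn.conj_mem (⟨_, mul_mem hmem (inv_mem (pow_mem hgH _))⟩ : H)
      (mem_subgroupOf.2 h) (⟨g ^ Function.minimalPeriod (g • ·) q.out, pow_mem hgH _⟩ : H)⁻¹
    rw [mem_subgroupOf] at h2
    simp only [coe_mul, coe_inv, SubmonoidClass.coe_pow, inv_inv] at h2 ⊢
    convert h2 using 1
    group
  have h1 : MonoidHom.transfer ϕ g = 1 := Abelianization.commutator_subset_ker _ hg
  rw [hV] at h1
  have hp : ϕ ⟨g, hgH⟩ ^ p ^ k = 1 := by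
    rw [← map_pow, show (⟨g, hgH⟩ : H) ^ p ^ k = 1 from Subtype.ext hgp, map_one]
  have h2 : orderOf (ϕ ⟨g, hgH⟩) = 1 := Nat.eq_one_of_dvd_coprimes
    (Nat.Coprime.pow_left k hidx) (orderOf_dvd_of_pow_eq_one hp) (orderOf_dvd_of_pow_eq_one h1)
  rw [orderOf_eq_one_iff] at h2
  exact hgK (mem_subgroupOf.1 ((QuotientGroup.eq_one_iff _).1 h2))

/-- A 2-element outside `G'` gives a subgroup of index 2. -/
theorem exists_index_two_of_notMem_commutator {g : G} (hg : g ∉ commutator G) {k : ℕ}
    (hk : g ^ 2 ^ k = 1) : ∃ H : Subgroup G, H.index = 2 := by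
  classical
  haveI : Fact (Nat.Prime 2) := ⟨Nat.prime_two⟩
  set π := Abelianization.of (G := G) with hπ
  haveI : Finite (Abelianization G) :=
    Finite.of_surjective π fun a => QuotientGroup.mk_surjective a
  have ha : π g ≠ 1 := fun h => hg (by
    rw [← Abelianization.ker_of G]; exact MonoidHom.mem_ker.2 h)
  obtain ⟨j, hj0, hj⟩ : ∃ j, j ≠ 0 ∧ orderOf (π g) = 2 ^ j := by
    obtain ⟨j, -, hj⟩ := (Nat.dvd_prime_pow Nat.prime_two).1
      (orderOf_dvd_of_pow_eq_one (show π g ^ 2 ^ k = 1 by rw [← map_pow, hk, map_one]))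
    exact ⟨j, fun h => ha (orderOf_eq_one_iff.1 (by rw [hj, h, pow_zero])), hj⟩
  let sq : Abelianization G →* Abelianization G := powMonoidHom 2
  have hne : sq.range ≠ ⊤ := by
    intro h
    have hinj := Finite.injective_iff_surjective.2 (MonoidHom.range_eq_top.1 h)
    obtain ⟨i, rfl⟩ := Nat.exists_eq_succ_of_ne_zero hj0
    have h1 : sq (π g ^ 2 ^ i) = sq 1 := by
      rw [map_one, powMonoidHom_apply, ← pow_mul, ← pow_succ, ← hj, pow_orderOf_eq_one]
    have h2 := orderOf_dvd_of_pow_eq_one (hinj h1)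
    rw [hj] at h2
    have := (Nat.pow_dvd_pow_iff_le_right (by norm_num)).1 h2
    omega
  have hexp : IsPGroup 2 (Abelianization G ⧸ sq.range) := fun q => by
    induction q using QuotientGroup.induction_on with
    | H a => exact ⟨1, (QuotientGroup.eq_one_iff _).2 ⟨a, rfl⟩⟩
  obtain ⟨c, hc⟩ := hexp.exists_card_eq
  have hc0 : c ≠ 0 := fun h => hne (by
    rw [h, pow_zero] at hc
    exact Subgroup.index_eq_one.1 hc)
  obtain ⟨d, rfl⟩ := Nat.exists_eq_succ_of_ne_zero hc0
  obtain ⟨M, hM⟩ := Sylow.exists_subgroup_card_pow_prime 2 (G := Abelianization G ⧸ sq.range)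
    (n := d) (by rw [hc]; exact pow_dvd_pow 2 (Nat.le_succ d))
  have hMi : M.index = 2 := by
    have := M.card_mul_index
    rw [hM, hc, pow_succ] at this
    exact Nat.eq_of_mul_eq_mul_left (pow_pos two_pos d) this
  refine ⟨(M.comap (QuotientGroup.mk' sq.range)).comap π, ?_⟩
  have hπs : Function.Surjective π := fun a => QuotientGroup.mk_surjective a
  exact ((index_comap_of_surjective (f := π) _ hπs).trans
    (index_comap_of_surjective _ (QuotientGroup.mk'_surjective _))).trans hMi

end CfsgLib.TwoGroups
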