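import Cfsg.Prelude.Def_TwoFusion
import Cfsg.Agent.ZStar.Theorem
import Cfsg.Agent.PLocal.Cores
import Cfsg.Agent.Transfer.Residual
import Cfsg.Agent.TwoGroups.Automizer
import Cfsg.Agent.TwoGroups.TransferPow

/-!
A central element of a Sylow 2-subgroup without other conjugates in it is central modulo `O(G)`.
-/

set_option autoImplicit false

namespace CfsgLib.TwoGroups

open Subgroup
open Cfsg (oddCore)

universe u

variable {G : Type u} [Group G] [Finite G]

/-- Passing to a quotient: no new conjugate appears in the image of the Sylow subgroup. -/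
theorem conj_eq_of_quotient (S : Sylow 2 G) {c : G}
    (hc : ∀ s ∈ (S : Subgroup G), s * c = c * s) {k : ℕ} (hk : c ^ 2 ^ k = 1)
    (hfix : ∀ g : G, g * c * g⁻¹ ∈ (S : Subgroup G) → g * c * g⁻¹ = c)
    (N : Subgroup G) [N.Normal] (g : G)
    (hg : (g : G ⧸ N) * (c : G ⧸ N) * (g : G ⧸ N)⁻¹ ∈
      (S : Subgroup G).map (QuotientGroup.mk' N)) :
    (g : G ⧸ N) * (c : G ⧸ N) * (g : G ⧸ N)⁻¹ = (c : G ⧸ N) := by
  haveI : Fact (Nat.Prime 2) := ⟨Nat.prime_two⟩
  obtain ⟨s, hs, hse⟩ := hg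
  have hmem : g * c * g⁻¹ ∈ (S : Subgroup G) ⊔ N := by
    have h1 : s⁻¹ * (g * c * g⁻¹) ∈ N := by
      rw [← QuotientGroup.eq]
      simpa using hse
    have h2 := mul_mem (mem_sup_left (T := N) hs) (mem_sup_right (S := (S : Subgroup G)) h1)
    rwa [mul_inv_cancel_left] at h2
  have hP : IsPGroup 2 (zpowers (g * c * g⁻¹)) := by
    obtain ⟨j, -, hj⟩ := (Nat.dvd_prime_pow Nat.prime_two).1
      (orderOf_dvd_of_pow_eq_one (show (g * c * g⁻¹) ^ 2 ^ k = 1 by
        rw [conj_pow, hk, mul_one, mul_inv_cancel]))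
    exact IsPGroup.of_card (by rw [Nat.card_zpowers, hj])
  obtain ⟨y, hy, hmv⟩ := exists_conj_mem_sylow S le_sup_left (zpowers_le.2 hmem) hP
  have h := hmv _ (mem_zpowers _)
  have e : y * (g * c * g⁻¹) * y⁻¹ = (y * g) * c * (y * g)⁻¹ := by group
  rw [e] at h
  have h' := hfix _ h
  rw [← e] at h'
  rw [sup_comm] at hy
  obtain ⟨n, hn, s', hs', rfl⟩ := CfsgLib.Coprime.exists_mul_of_mem_sup
    (N := N) (H := (S : Subgroup G)) (x := y) (le_normalizer_of_normal) hy
  rw [← QuotientGroup.mk_inv, ← QuotientGroup.mk_mul, ← QuotientGroup.mk_mul]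
  have h1 : ((n : G) : G ⧸ N) = 1 := (QuotientGroup.eq_one_iff _).2 hn
  have h2 := congrArg (QuotientGroup.mk' N) h'
  simp only [QuotientGroup.mk'_apply, QuotientGroup.mk_mul, QuotientGroup.mk_inv, h1, one_mul,
    mul_inv_rev, inv_one, mul_one] at h2 ⊢
  have h3 : (s' : G ⧸ N) * (c : G ⧸ N) = (c : G ⧸ N) * s' := by
    rw [← QuotientGroup.mk_mul, hc s' hs', QuotientGroup.mk_mul]
  calc (g : G ⧸ N) * c * (g : G ⧸ N)⁻¹
      = (s' : G ⧸ N)⁻¹ * (s' * ((g : G ⧸ N) * c * (g : G ⧸ N)⁻¹) * (s' : G ⧸ N)⁻¹) * s' := by group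
    _ = (c : G ⧸ N) := by rw [h2, mul_assoc, ← h3, inv_mul_cancel_left]

/-- A normal subgroup containing the central involution `z` with odd index is `⟨z⟩` when the odd
core is trivial. -/
theorem eq_zpowers_of_odd_relIndex {z : G} (hz : z * z = 1) (hzc : z ∈ center G) {M : Subgroup G}
    (hM : M.Normal) (hzM : z ∈ M) (hodd : Odd ((zpowers z).relIndex M))
    (hO : ∀ K : Subgroup G, K.Normal → Odd (Nat.card K) → K = ⊥) : M = zpowers z := by
  haveI : Fact (Nat.Prime 2) := ⟨Nat.prime_two⟩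
  set Z := (zpowers z).subgroupOf M with hZ
  have hZc : ∀ u ∈ Z, ∀ v : M, v * u = u * v := by
    intro u hu v
    obtain ⟨i, hi⟩ := mem_subgroupOf.1 hu
    apply Subtype.ext
    show (v : G) * u = u * v
    rw [← hi]
    exact mem_center_iff.1 (zpow_mem hzc i : z ^ i ∈ center G) (v : G)
  letI : CommGroup Z :=
    { (inferInstance : Group Z) with mul_comm := fun u v => Subtype.ext (hZc v v.2 u) }
  let f : M →* Z := MonoidHom.transfer (MonoidHom.id Z)
  have hf : ∀ v : M, (f v : M) = v ^ Z.index := fun v => by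
    show ((MonoidHom.transfer (MonoidHom.id Z) v : Z) : M) = _
    rw [MonoidHom.transfer_eq_pow (MonoidHom.id Z) v fun i v₀ hmem => by
      have := hZc _ hmem v₀
      rw [show v₀ * (v₀⁻¹ * v ^ i * v₀) = v ^ i * v₀ by group] at this
      exact mul_right_cancel this.symm]
    rfl
  set K := f.ker.map M.subtype with hK
  have hKmem : ∀ v : G, v ∈ K ↔ v ∈ M ∧ v ^ Z.index = 1 := by
    intro v
    constructor
    · rintro ⟨w, hw, rfl⟩
      refine ⟨w.2, ?_⟩
      have := hf w
      rw [MonoidHom.mem_ker.1 hw, coe_one] at this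
      exact (congrArg Subtype.val this).symm
    · rintro ⟨hv, hv2⟩
      refine ⟨⟨v, hv⟩, MonoidHom.mem_ker.2 (Subtype.ext (Subtype.ext ?_)), rfl⟩
      rw [hf]
      exact hv2
  haveI : K.Normal := ⟨fun v hv g => by
    rw [hKmem] at hv ⊢
    exact ⟨hM.conj_mem v hv.1 g, by rw [conj_pow, hv.2, mul_one, mul_inv_cancel]⟩⟩
  have hKodd : Odd (Nat.card K) := by
    rw [← Nat.not_even_iff_odd, even_iff_two_dvd]
    intro h2
    obtain ⟨⟨v, hv⟩, hv2⟩ := exists_prime_orderOf_dvd_card' 2 h2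
    rw [orderOf_mk] at hv2
    have := orderOf_dvd_of_pow_eq_one ((hKmem v).1 hv).2
    rw [hv2] at this
    exact (Nat.not_even_iff_odd.2 hodd) (even_iff_two_dvd.2 this)
  have hbot := hO K inferInstance hKodd
  refine le_antisymm (fun v hv => ?_) (zpowers_le.2 hzM)
  have h1 : f ⟨v, hv⟩ ^ 2 = 1 := by
    obtain ⟨i, hi⟩ := mem_subgroupOf.1 (f ⟨v, hv⟩).2
    apply Subtype.ext; apply Subtype.ext
    simp only [SubmonoidClass.coe_pow, coe_one]
    rw [← hi, ← zpow_natCast, ← zpow_mul, mul_comm, zpow_mul, zpow_natCast, sq, hz, one_zpow]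
  -- `v` and its projection differ by an element of the kernel
  have hpow : ∀ u : Z, f (u : M) = u := fun u => by
    obtain ⟨e, he⟩ := hodd
    apply Subtype.ext
    rw [hf, show Z.index = 2 * e + 1 from he, pow_succ, pow_mul]
    have hu2 : (u : M) ^ 2 = 1 := by
      obtain ⟨i, hi⟩ := mem_subgroupOf.1 u.2
      apply Subtype.ext
      simp only [SubmonoidClass.coe_pow, coe_one]
      rw [← hi, ← zpow_natCast, ← zpow_mul, mul_comm, zpow_mul, zpow_natCast, sq, hz, one_zpow]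
    rw [hu2, one_pow, one_mul]
  have h2 : (⟨v, hv⟩ * ((f ⟨v, hv⟩ : Z) : M)⁻¹ : M) ∈ f.ker := by
    rw [MonoidHom.mem_ker, map_mul, map_inv, hpow, mul_inv_cancel]
  have h3 : ((⟨v, hv⟩ * ((f ⟨v, hv⟩ : Z) : M)⁻¹ : M) : G) ∈ K := ⟨_, h2, rfl⟩
  rw [hbot, mem_bot, coe_mul, coe_inv, mul_inv_eq_one] at h3
  have h4 : v = (((f ⟨v, hv⟩ : Z) : M) : G) := h3
  rw [h4]
  exact mem_subgroupOf.1 (f ⟨v, hv⟩).2

/-- A central element of a Sylow 2-subgroup all of whose powers have no other conjugate in it is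
central modulo the odd core. -/
theorem comm_mem_oddCore_of_fixed (k : ℕ) : ∀ (G : Type u) [Group G] [Finite G] (S : Sylow 2 G)
    (c : G), c ∈ (S : Subgroup G) → (∀ s ∈ (S : Subgroup G), s * c = c * s) → c ^ 2 ^ k = 1 →
    (∀ (j : ℕ) (g : G), g * c ^ j * g⁻¹ ∈ (S : Subgroup G) → g * c ^ j * g⁻¹ = c ^ j) →
    ∀ g : G, g * c * g⁻¹ * c⁻¹ ∈ oddCore G := by
  induction k with
  | zero =>
    intro G _ _ S c _ _ hk _ g
    rw [show c = 1 by simpa using hk]
    simp
  | succ k ih =>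
    intro G _ _ S c hcS hc hk hfix g
    haveI : Fact (Nat.Prime 2) := ⟨Nat.prime_two⟩
    by_cases hz1 : c ^ 2 ^ k = 1
    · exact ih G S c hcS hc hz1 hfix g
    set z := c ^ 2 ^ k with hz
    have hzz : z * z = 1 := by rw [hz, ← sq, ← pow_mul, ← pow_succ, hk]
    have hoz : orderOf z = 2 := orderOf_eq_prime (by rw [sq, hzz]) hz1
    obtain ⟨N₀, hN₀, hodd₀, hN₀c⟩ := CfsgLib.ZStar.exists_oddNormal_of_sylow S hoz
      (pow_mem hcS _) (fun g hg => hfix _ g hg)
    haveI := hN₀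
    have hzO : ∀ g, z * g * z⁻¹ * g⁻¹ ∈ oddCore G := fun g =>
      CfsgLib.PLocal.le_pPrimeCore (Nat.coprime_two_right.2 hodd₀) (hN₀c g)
    set q := QuotientGroup.mk' (oddCore G) with hq
    set z' := q z with hz'
    have hz'c : z' ∈ center (G ⧸ oddCore G) := by
      rw [mem_center_iff]
      intro b
      obtain ⟨g, rfl⟩ := QuotientGroup.mk'_surjective _ b
      rw [← map_mul, ← map_mul, QuotientGroup.mk'_eq_mk', ]
      refine ⟨(g * z)⁻¹ * (z * g), ?_, by group⟩
      have := (inferInstance : (oddCore G).Normal).conj_mem _ (hzO g) (g * z)⁻¹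
      rwa [show (g * z)⁻¹ * (z * g * z⁻¹ * g⁻¹) * (g * z)⁻¹⁻¹ = (g * z)⁻¹ * (z * g) by group]
        at this
    have hz'2 : z' * z' = 1 := by rw [hz', ← map_mul, hzz, map_one]
    haveI hn : (zpowers z').Normal := ⟨fun v hv b => by
      obtain ⟨i, rfl⟩ := hv
      rw [mem_center_iff.1 (zpow_mem hz'c i) b, mul_inv_cancel_right]
      exact ⟨i, rfl⟩⟩
    set p := QuotientGroup.mk' (zpowers z') with hp
    have hO : ∀ K : Subgroup (G ⧸ oddCore G), K.Normal → Odd (Nat.card K) → K = ⊥ := by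
      intro K hK hKo
      haveI := hK
      rw [← le_bot_iff]
      exact le_trans (CfsgLib.PLocal.le_pPrimeCore (p := 2) (Nat.coprime_two_right.2 hKo))
        (CfsgLib.PLocal.pPrimeCore_quotient_pPrimeCore_eq_bot 2 G).le
    -- the induction step in `(G/O)/⟨z⟩`
    let S₁ : Sylow 2 (G ⧸ oddCore G) := S.mapSurjective (QuotientGroup.mk'_surjective _)
    have hS₁ : (S₁ : Subgroup (G ⧸ oddCore G)) = (S : Subgroup G).map q :=
      Sylow.coe_mapSurjective (QuotientGroup.mk'_surjective _) S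
    have hc₁ : ∀ s ∈ (S₁ : Subgroup (G ⧸ oddCore G)), s * q c = q c * s := by
      rw [hS₁]; rintro _ ⟨s, hs, rfl⟩; rw [← map_mul, ← map_mul, hc s hs]
    have hfix₁ : ∀ (j : ℕ) (b : G ⧸ oddCore G), b * q c ^ j * b⁻¹ ∈ (S₁ : Subgroup _) →
        b * q c ^ j * b⁻¹ = q c ^ j := by
      intro j b hb
      obtain ⟨g, rfl⟩ := QuotientGroup.mk'_surjective _ b
      rw [hS₁, ← map_pow] at hb
      rw [← map_pow]
      exact conj_eq_of_quotient S (c := c ^ j)
        (fun s hs => ((show Commute s c from hc s hs).pow_right j).eq) (k := k + 1)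
        (by rw [← pow_mul, mul_comm, pow_mul, hk, one_pow]) (hfix j) (oddCore G) g hb
    let S₂ : Sylow 2 ((G ⧸ oddCore G) ⧸ zpowers z') :=
      S₁.mapSurjective (QuotientGroup.mk'_surjective _)
    have hS₂ : (S₂ : Subgroup _) = (S₁ : Subgroup _).map p :=
      Sylow.coe_mapSurjective (QuotientGroup.mk'_surjective _) S₁
    have hk₂ : p (q c) ^ 2 ^ k = 1 := by
      rw [← map_pow, ← map_pow, ← hz]
      exact (QuotientGroup.eq_one_iff _).2 (mem_zpowers z')
    have key := ih _ S₂ (p (q c)) (by rw [hS₂, hS₁]; exact ⟨q c, ⟨c, hcS, rfl⟩, rfl⟩)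
      (by rw [hS₂]; rintro _ ⟨s, hs, rfl⟩; rw [← map_mul, ← map_mul, hc₁ s hs]) hk₂ (by
        intro j b hb
        obtain ⟨b₁, rfl⟩ := QuotientGroup.mk'_surjective _ b
        rw [hS₂, ← map_pow] at hb
        rw [← map_pow]
        exact conj_eq_of_quotient S₁ (c := q c ^ j)
          (fun s hs => ((show Commute s (q c) from hc₁ s hs).pow_right j).eq) (k := k + 1)
          (by rw [← pow_mul, mul_comm, pow_mul, ← map_pow, hk, map_one, one_pow]) (hfix₁ j)
          (zpowers z') b₁ hb) (p (q g))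
    -- the preimage of the odd core of the double quotient is `⟨z⟩`
    set M := (oddCore ((G ⧸ oddCore G) ⧸ zpowers z')).comap p with hM
    have hzM : z' ∈ M := by
      rw [hM, mem_comap, show p z' = 1 from (QuotientGroup.eq_one_iff _).2 (mem_zpowers z')]
      exact one_mem _
    have hMeq : M = zpowers z' := by
      refine eq_zpowers_of_odd_relIndex hz'2 hz'c (Normal.comap inferInstance _) hzM ?_ hO
      rw [show (zpowers z').relIndex M = p.ker.relIndex M by rw [hp, QuotientGroup.ker_mk'],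
        relIndex_ker, hM, map_comap_eq_self_of_surjective (QuotientGroup.mk'_surjective _)]
      exact Nat.coprime_two_right.1 (CfsgLib.PLocal.coprime_card_pPrimeCore 2 _)
    have hmem : q g * q c * (q g)⁻¹ * (q c)⁻¹ ∈ zpowers z' := by
      rw [← hMeq, hM, mem_comap]
      simpa using key
    obtain ⟨i, hi⟩ := hmem
    rcases Int.even_or_odd' i with ⟨l, rfl | rfl⟩
    · simp only [zpow_mul, zpow_two, hz'2, one_zpow] at hi
      rw [← QuotientGroup.eq_one_iff]
      simpa [hq] using hi.symm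
    · exfalso
      simp only [zpow_add, zpow_mul, zpow_two, hz'2, one_zpow, one_mul, zpow_one] at hi
      -- then a conjugate of `q c` equals `z' * q c`
      have h1 : q g * q c * (q g)⁻¹ = z' * q c := by rw [hi, inv_mul_cancel_right]
      have h2 : q g * q c * (q g)⁻¹ ∈ (S₁ : Subgroup _) := by
        rw [h1, hS₁, hz']
        exact ⟨z * c, mul_mem (pow_mem hcS _) hcS, map_mul q z c⟩
      have h3 := hfix₁ 1 (q g) (by rwa [pow_one])
      rw [pow_one, h1, mul_eq_right] at h3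
      have h4 : z ∈ oddCore G := (QuotientGroup.eq_one_iff _).1 h3
      have h5 := orderOf_dvd_natCard (⟨z, h4⟩ : oddCore G)
      rw [orderOf_mk, hoz] at h5
      exact (Nat.not_even_iff_odd.2
        (Nat.coprime_two_right.1 (CfsgLib.PLocal.coprime_card_pPrimeCore 2 G))) (even_iff_two_dvd.2 h5)

end CfsgLib.TwoGroups
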