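import Cfsg.Agent.TwoGroups.WreathedSubgroups
import Cfsg.Agent.TwoGroups.CentralMod
import Cfsg.Agent.Transfer.Alperin
import Cfsg.Agent.Isolated.Basic

/-!
Fusion of the centre of a wreathed Sylow 2-subgroup in the presence of an isolated involution,
and of weakly closed central cyclic subgroups.
-/

set_option autoImplicit false

namespace CfsgLib.TwoGroups

open Subgroup
open Cfsg (oddCore)

/-- An abelian subgroup of a wreathed group has at most the involutions of a four-group through
the central one. -/
theorem WRTriple.exists_invol_bound {S : Type*} [Group S] {n : ℕ} {x y z : S}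
    (d : WRTriple n x y z) (A : Subgroup S) (hA : ∀ u ∈ A, ∀ v ∈ A, u * v = v * u) :
    ∃ a : S, a * a = 1 ∧ ∀ v ∈ A, v * v = 1 → v = 1 ∨ v = el x y (TwoGroups.hw n) (TwoGroups.hw n) ∨ v = a ∨
      v = el x y (TwoGroups.hw n) (TwoGroups.hw n) * a := by
  set Z := el x y (TwoGroups.hw n) (TwoGroups.hw n) with hZ
  have hdiag : ∀ {p q : ℤ}, nn n ∣ p - q → el x y p q * el x y p q = 1 →
      el x y p q = 1 ∨ el x y p q = Z := by
    intro p q hpq h
    rcases d.el_invol h with h1 | h1 | h1 | h1
    · exact Or.inl h1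
    · exfalso
      obtain ⟨i, j⟩ := d.el_inj.1 h1
      apply d.not_nn_dvd_hw
      have := dvd_add (dvd_sub i j) hpq
      rwa [show TwoGroups.hw n - p - (0 - q) + (p - q) = TwoGroups.hw n by ring] at this
    · exfalso
      obtain ⟨i, j⟩ := d.el_inj.1 h1
      apply d.not_nn_dvd_hw
      have := dvd_sub (dvd_sub j i) hpq
      rwa [show TwoGroups.hw n - q - (0 - p) - (p - q) = TwoGroups.hw n by ring] at this
    · exact Or.inr h1
  by_cases hex : ∃ a ∈ A, a * a = 1 ∧ a ≠ 1 ∧ a ≠ Z
  · obtain ⟨a, ha, ha2, ha1, haZ⟩ := hex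
    refine ⟨a, ha2, fun v hv hv2 => ?_⟩
    have hc : Commute a v := hA a ha v hv
    obtain ⟨p, q, rfl | rfl⟩ := d.eq_cases a
    · obtain ⟨i, j, rfl | rfl⟩ := d.eq_cases v
      · have e1 : el x y (TwoGroups.hw n) (TwoGroups.hw n) * el x y (TwoGroups.hw n) 0 = el x y 0 (TwoGroups.hw n) := by
          rw [d.el_mul, d.el_inj]
          exact ⟨⟨-1, by rw [d.nn_eq]; ring⟩, ⟨0, by ring⟩⟩
        have e2 : el x y (TwoGroups.hw n) (TwoGroups.hw n) * el x y 0 (TwoGroups.hw n) = el x y (TwoGroups.hw n) 0 := by
          rw [d.el_mul, d.el_inj]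
          exact ⟨⟨0, by ring⟩, ⟨-1, by rw [d.nn_eq]; ring⟩⟩
        rcases d.el_invol ha2 with h1 | h1 | h1 | h1
        · exact absurd h1 ha1
        · rcases d.el_invol hv2 with h2 | h2 | h2 | h2
          · exact Or.inl h2
          · exact Or.inr (Or.inr (Or.inl (h2.trans h1.symm)))
          · exact Or.inr (Or.inr (Or.inr (by rw [h1, h2, hZ, e1])))
          · exact Or.inr (Or.inl h2)
        · rcases d.el_invol hv2 with h2 | h2 | h2 | h2
          · exact Or.inl h2
          · exact Or.inr (Or.inr (Or.inr (by rw [h1, h2, hZ, e2])))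
          · exact Or.inr (Or.inr (Or.inl (h2.trans h1.symm)))
          · exact Or.inr (Or.inl h2)
        · exact absurd h1 haZ
      · exfalso
        rcases hdiag (d.commute_el_elz.1 hc) ha2 with h1 | h1
        exacts [ha1 h1, haZ h1]
    · obtain ⟨i, j, rfl | rfl⟩ := d.eq_cases v
      · rcases hdiag (d.commute_el_elz.1 hc.symm) hv2 with h1 | h1
        exacts [Or.inl h1, Or.inr (Or.inl h1)]
      · have hm2 : (el x y i j * z * (el x y p q * z)) * (el x y i j * z * (el x y p q * z)) = 1 := by
          rw [hc.mul_mul_mul_comm, hv2, ha2, one_mul]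
        have hcm : Commute (el x y i j * z * (el x y p q * z)) (el x y p q * z) :=
          hc.symm.mul_left (Commute.refl _)
        have e : el x y i j * z * (el x y p q * z) = el x y (i + q) (j + p) := d.elz_mul_elz _ _ _ _
        rw [e] at hm2 hcm
        rcases hdiag (d.commute_el_elz.1 hcm) hm2 with h1 | h1 <;> rw [← e] at h1
        · refine Or.inr (Or.inr (Or.inl ?_))
          have h3 := congrArg (fun t => t * (el x y p q * z)) h1
          simpa [mul_assoc, ha2] using h3
        · refine Or.inr (Or.inr (Or.inr ?_))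
          have h3 := congrArg (fun t => t * (el x y p q * z)) h1
          simp only [mul_assoc] at h3 ha2 ⊢
          rw [ha2, mul_one] at h3
          exact h3
  · push Not at hex
    refine ⟨1, one_mul 1, fun v hv hv2 => ?_⟩
    by_cases h1 : v = 1
    · exact Or.inl h1
    · exact Or.inr (Or.inl (hex v hv hv2 h1))

theorem eq_of_invol_mem_zpowers {G : Type*} [Group G] [Finite G] {c a b : G} (ha : a ∈ zpowers c)
    (hb : b ∈ zpowers c) (ha2 : a * a = 1) (hb2 : b * b = 1) (ha1 : a ≠ 1) (hb1 : b ≠ 1) :
    a = b := by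
  classical
  by_contra hab
  haveI : Fintype (zpowers c) := Fintype.ofFinite _
  have h := IsCyclic.card_pow_eq_one_le (α := zpowers c) (n := 2) two_pos
  have hsub : ({1, ⟨a, ha⟩, ⟨b, hb⟩} : Finset (zpowers c)) ⊆
      Finset.univ.filter (fun v => v ^ 2 = 1) := by
    intro v hv
    simp only [Finset.mem_insert, Finset.mem_singleton] at hv
    simp only [Finset.mem_filter, Finset.mem_univ, true_and]
    rcases hv with rfl | rfl | rfl
    · exact one_pow 2
    · exact Subtype.ext (by rw [SubmonoidClass.coe_pow, sq]; exact ha2)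
    · exact Subtype.ext (by rw [SubmonoidClass.coe_pow, sq]; exact hb2)
  have h3 := (Finset.card_le_card hsub).trans h
  rw [Finset.card_insert_of_notMem, Finset.card_pair] at h3
  · omega
  · exact fun e => hab (congrArg Subtype.val e)
  · simp [Subtype.ext_iff, Ne.symm ha1, Ne.symm hb1]

variable {G : Type*} [Group G] [Finite G]

/-- In a wreathed Sylow 2-subgroup with an isolated involution no element of the centre has another
conjugate. -/
theorem center_conj_eq_of_wreathed (S : Sylow 2 G) {n : ℕ} {x y z : (S : Subgroup G)}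
    (d : WRTriple n x y z) (hiso : Cfsg.IsIsolatedInvolution ((el x y (TwoGroups.hw n) (TwoGroups.hw n) : (S : Subgroup G)) : G))
    {v : G} (hv : v ∈ (center (S : Subgroup G)).map (S : Subgroup G).subtype) (g : G)
    (hg : g * v * g⁻¹ ∈ (S : Subgroup G)) : g * v * g⁻¹ = v := by
  haveI : Fact (Nat.Prime 2) := ⟨Nat.prime_two⟩
  set Zc := ((el x y (TwoGroups.hw n) (TwoGroups.hw n) : (S : Subgroup G)) : G) with hZc
  obtain ⟨v', hv', rfl⟩ := hv
  have hcen : ∀ s ∈ (S : Subgroup G), s * (v' : G) = v' * s := fun s hs =>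
    congrArg Subtype.val (mem_center_iff.1 hv' ⟨s, hs⟩)
  have hchain : ∀ {A : Set G} {g : G}, CfsgLib.Transfer.FusionChain S A g →
      (v' : G) ∈ A → g⁻¹ * (v' : G) * g = v' := by
    intro A g hg
    induction hg with
    | nil A => intro _; simp
    | cons A Q u g hA ht hu _ ih =>
      intro hvA
      set D := (S : Subgroup G) ⊓ (Q : Subgroup G) with hD
      have hvD : (v' : G) ∈ D := hA hvA
      -- the normalizer of the tame intersection centralizes `v'`
      have hfix : ∀ w ∈ normalizer (D : Set G), w * (v' : G) = v' * w := by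
        set K := (normalizer (D : Set G) ⊓ centralizer ({(v' : G)} : Set G)).subgroupOf
          (normalizer (D : Set G)) with hK
        have hodd : ∀ w ∈ normalizer (D : Set G), Odd (orderOf w) → w * (v' : G) = v' * w := by
          intro w hw hwo
          by_cases hv1 : v' = 1
          · simp [hv1]
          let V : Subgroup G := (center D).map D.subtype
          have hVD : V ≤ D := map_subtype_le _
          haveI : IsMulCommutative V := by
            refine ⟨⟨fun p q => Subtype.ext ?_⟩⟩
            obtain ⟨p', hp, hp'⟩ := mem_map.1 p.2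
            obtain ⟨q', -, hq'⟩ := mem_map.1 q.2
            show (p : G) * q = q * p
            rw [← hp', ← hq']
            exact (congrArg Subtype.val (mem_center_iff.1 hp q')).symm
          have hvV : (v' : G) ∈ V := ⟨⟨v', hvD⟩, mem_center_iff.2 fun t => Subtype.ext
            (hcen t (mem_inf.1 t.2).1), rfl⟩
          have hwV : w ∈ normalizer (V : Set G) := by
            have hfwd : ∀ w' ∈ normalizer (D : Set G), ∀ t ∈ V, w' * t * w'⁻¹ ∈ V := by
              rintro w' hw' _ ⟨t', ht', rfl⟩
              refine ⟨⟨w' * (t' : G) * w'⁻¹, (mem_normalizer_iff.1 hw' _).1 t'.2⟩,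
                mem_center_iff.2 fun r => Subtype.ext ?_, rfl⟩
              show (r : G) * (w' * (t' : G) * w'⁻¹) = w' * (t' : G) * w'⁻¹ * r
              have hr : w'⁻¹ * (r : G) * w' ∈ D := (mem_normalizer_iff''.1 hw' r).1 r.2
              have := congrArg Subtype.val (mem_center_iff.1 ht' ⟨_, hr⟩)
              simp only [coe_mul] at this
              calc (r : G) * (w' * (t' : G) * w'⁻¹)
                  = w' * ((w'⁻¹ * (r : G) * w') * t') * w'⁻¹ := by group
                _ = w' * ((t' : G) * (w'⁻¹ * (r : G) * w')) * w'⁻¹ := by rw [this]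
                _ = w' * (t' : G) * w'⁻¹ * r := by group
            rw [mem_normalizer_iff]
            refine fun t => ⟨hfwd w hw t, fun ht => ?_⟩
            have := hfwd w⁻¹ (inv_mem hw) _ ht
            rwa [show w⁻¹ * (w * t * w⁻¹) * w⁻¹⁻¹ = t by group] at this
          -- the central involution is a power of `v'`
          have hZV : Zc ∈ V := by
            obtain ⟨j, hj⟩ := S.isPGroup' v'
            obtain ⟨i, -, hi⟩ := (Nat.dvd_prime_pow Nat.prime_two).1 (orderOf_dvd_of_pow_eq_one hj)
            have hi0 : i ≠ 0 := fun h => hv1 (orderOf_eq_one_iff.1 (by rw [hi, h, pow_zero]))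
            obtain ⟨l, rfl⟩ := Nat.exists_eq_succ_of_ne_zero hi0
            have hl2 : v' ^ 2 ^ l * v' ^ 2 ^ l = 1 := by
              rw [← pow_add, ← two_mul, ← pow_succ', ← hi, pow_orderOf_eq_one]
            have hl1 : v' ^ 2 ^ l ≠ 1 := fun h => by
              have h2 := orderOf_dvd_of_pow_eq_one h
              rw [hi, Nat.pow_dvd_pow_iff_le_right (by norm_num)] at h2
              omega
            obtain ⟨p, q, he, hpq⟩ := d.mem_center_iff.1 (pow_mem hv' (2 ^ l))
            rw [he] at hl2 hl1
            have : v' ^ 2 ^ l = el x y (TwoGroups.hw n) (TwoGroups.hw n) := by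
              rw [he]
              rcases d.el_invol hl2 with h | h | h | h
              · exact absurd h hl1
              · exfalso
                obtain ⟨i₁, j₁⟩ := d.el_inj.1 h
                apply d.not_nn_dvd_hw
                have := dvd_add (dvd_sub i₁ j₁) hpq
                rwa [show TwoGroups.hw n - p - (0 - q) + (p - q) = TwoGroups.hw n by ring] at this
              · exfalso
                obtain ⟨i₁, j₁⟩ := d.el_inj.1 h
                apply d.not_nn_dvd_hw
                have := dvd_sub (dvd_sub j₁ i₁) hpq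
                rwa [show TwoGroups.hw n - q - (0 - p) - (p - q) = TwoGroups.hw n by ring] at this
              · exact h
            rw [hZc, ← this, SubmonoidClass.coe_pow]
            exact pow_mem hvV _
          have hwZ : w * Zc * w⁻¹ = Zc := hiso.2 w (by
            have h1 : w * Zc * w⁻¹ ∈ (S : Subgroup G) :=
              (mem_inf.1 (hVD ((mem_normalizer_iff.1 hwV _).1 hZV))).1
            exact congrArg Subtype.val (mem_center_iff.1
              (d.mem_center_iff.2 ⟨TwoGroups.hw n, TwoGroups.hw n, rfl, by simp⟩) ⟨_, h1⟩).symm)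
          obtain ⟨a, ha2, hbound⟩ := d.exists_invol_bound (V.subgroupOf (S : Subgroup G))
            (fun p hp q hq => by
              apply Subtype.ext
              show (p : G) * q = q * p
              exact congrArg Subtype.val (IsMulCommutative.is_comm.comm
                (⟨_, mem_subgroupOf.1 hp⟩ : V) ⟨_, mem_subgroupOf.1 hq⟩))
          have hbound' : ∀ t ∈ V, t * t = 1 → t = 1 ∨ t = Zc ∨ t = (a : G) ∨ t = Zc * (a : G) := by
            intro t ht ht2
            rcases hbound ⟨t, (mem_inf.1 (hVD ht)).1⟩ (mem_subgroupOf.2 ht) (Subtype.ext ht2) with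
              h | h | h | h <;> have h' := congrArg Subtype.val h
            exacts [Or.inl h', Or.inr (Or.inl h'), Or.inr (Or.inr (Or.inl h')),
              Or.inr (Or.inr (Or.inr h'))]
          have hwC : w ∈ centralizer (V : Set G) := by
            refine mem_centralizer_of_fix_invol (S.2.to_le (hVD.trans inf_le_left)) hwV ?_ ?_
            · intro t ht ht2
              by_contra hne
              have hne1 : t ≠ 1 := fun h => hne (by rw [h, mul_one, mul_inv_cancel])
              have hneZ : t ≠ Zc := fun h => hne (by rw [h, hwZ])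
              set t' := w * t * w⁻¹ with ht'
              have ht'V : t' ∈ V := (mem_normalizer_iff.1 hwV _).1 ht
              have ht'2 : t' * t' = 1 := by
                rw [ht', show w * t * w⁻¹ * (w * t * w⁻¹) = w * (t * t) * w⁻¹ by group, ht2, mul_one,
                  mul_inv_cancel]
              have ht'1 : t' ≠ 1 := fun h => hne1 (conj_eq_one_iff.1 h)
              have ht'Z : t' ≠ Zc := fun h => hneZ
                (mul_left_cancel (mul_right_cancel (h.trans hwZ.symm)))
              have hZZ : Zc * Zc = 1 := by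
                rw [← sq, ← hiso.1, pow_orderOf_eq_one]
              have hswap : t' = Zc * t := by
                rcases hbound' t ht ht2 with h | h | h | h
                · exact absurd h hne1
                · exact absurd h hneZ
                · rcases hbound' t' ht'V ht'2 with k | k | k | k
                  exacts [absurd k ht'1, absurd k ht'Z, absurd (k.trans h.symm) hne, k.trans (by rw [h])]
                · rcases hbound' t' ht'V ht'2 with k | k | k | k
                  exacts [absurd k ht'1, absurd k ht'Z,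
                    k.trans (by rw [h, ← mul_assoc, hZZ, one_mul]),
                    absurd (k.trans h.symm) hne]
              have hsq : w ^ 2 * t * (w ^ 2)⁻¹ = t := by
                calc w ^ 2 * t * (w ^ 2)⁻¹ = w * t' * w⁻¹ := by rw [ht', sq]; group
                  _ = w * (Zc * t) * w⁻¹ := by rw [hswap]
                  _ = (w * Zc * w⁻¹) * (w * t * w⁻¹) := by group
                  _ = t := by rw [hwZ, ← ht', hswap, ← mul_assoc, hZZ, one_mul]
              obtain ⟨i, hi⟩ := CfsgLib.Isolated.mem_zpowers_sq hwo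
              exact hne (by
                have hc : Commute (w ^ 2) t := mul_inv_eq_iff_eq_mul.1 hsq
                have := hc.zpow_left i
                rw [show (w ^ 2) ^ i = w from hi] at this
                rw [ht', this.eq, mul_inv_cancel_right])
            · rintro u hu ⟨k, hk⟩
              have h1 : orderOf u ∣ orderOf w := orderOf_dvd_of_mem_zpowers hu
              have : u = 1 := orderOf_eq_one_iff.1 (Nat.eq_one_of_dvd_coprimes
                (Nat.Coprime.pow_left k (Nat.coprime_two_left.2 hwo))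
                (orderOf_dvd_of_pow_eq_one hk) h1)
              rw [this]; exact one_mem _
          exact (hwC (v' : G) hvV).symm
        have hKtop : K = ⊤ := by
          rw [← index_eq_one]
          have h1 : ((S : Subgroup G) ⊓ normalizer (D : Set G)).subgroupOf (normalizer (D : Set G)) ≤
              K := fun t ht => by
            rw [mem_subgroupOf] at ht
            exact mem_subgroupOf.2 ⟨t.2, mem_centralizer_singleton_iff.2 (hcen _ ht.1)⟩
          have h2 : Cfsg.pResidual 2 ↥(normalizer (D : Set G)) ≤ K := by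
            rw [Cfsg.pResidual, closure_le]
            intro t ht
            refine mem_subgroupOf.2 ⟨t.2, mem_centralizer_singleton_iff.2 (hodd _ t.2 ?_)⟩
            rw [Subgroup.orderOf_coe]
            exact Nat.coprime_two_right.1 ht
          obtain ⟨k, hk⟩ := CfsgLib.Transfer.exists_index_pResidual_eq_pow (p := 2)
            (G := ↥(normalizer (D : Set G)))
          refine Nat.eq_one_of_dvd_coprimes ?_ (index_dvd_of_le h2) (index_dvd_of_le h1)
          rw [hk]
          exact Nat.Coprime.pow_left k (Nat.prime_two.coprime_iff_not_dvd.2 ht.1)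
        intro w hw
        have : (⟨w, hw⟩ : normalizer (D : Set G)) ∈ K := by rw [hKtop]; exact mem_top _
        exact mem_centralizer_singleton_iff.1 (mem_subgroupOf.1 this).2
      have hux : u⁻¹ * (v' : G) * u = v' := by
        rw [mul_assoc, ← hfix u hu, inv_mul_cancel_left]
      have := ih ⟨_, hvA, hux⟩
      calc (u * g)⁻¹ * (v' : G) * (u * g) = g⁻¹ * (u⁻¹ * (v' : G) * u) * g := by group
        _ = v' := by rw [hux, this]
  obtain ⟨h, hh, hhS⟩ := CfsgLib.Transfer.exists_fusionChain_smul S (g⁻¹ • S)
  have hvA : (v' : G) ∈ ((((S : Subgroup G) ⊓ ((g⁻¹ • S : Sylow 2 G) : Subgroup G)) : Subgroup G) : Set G) :=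
    mem_inf.2 ⟨v'.2, CfsgLib.Transfer.mem_smul_iff.2 (by rw [inv_inv]; exact hg)⟩
  have h1 := hchain hh hvA
  have hy : g * h ∈ normalizer ((S : Subgroup G) : Set G) := by
    refine Sylow.smul_eq_iff_mem_normalizer.1 ?_
    have : h⁻¹ • g⁻¹ • S = S := hhS
    rw [smul_smul, ← mul_inv_rev, inv_smul_eq_iff] at this
    exact this.symm
  -- the normalizer of `S` is also covered by the chain argument
  have h2 := hchain (CfsgLib.Transfer.FusionChain.of_mem_normalizer
    (A := ({(v' : G)} : Set G)) (x := (g * h)⁻¹) (Set.singleton_subset_iff.2 v'.2) (inv_mem hy)) rfl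
  calc g * (v' : G) * g⁻¹ = (g * h) * (h⁻¹ * v' * h) * (g * h)⁻¹ := by group
    _ = (g * h)⁻¹⁻¹ * v' * (g * h)⁻¹ := by rw [h1, inv_inv]
    _ = v' := h2

/-- A weakly closed cyclic central subgroup consists of elements without other conjugates. -/
theorem conj_eq_of_weaklyClosed (S : Sylow 2 G) {c : G} (hcS : c ∈ (S : Subgroup G))
    (hc : ∀ s ∈ (S : Subgroup G), s * c = c * s)
    (hwc : Cfsg.IsWeaklyClosed (zpowers c) (S : Subgroup G)) (g : G)
    (hg : g * c * g⁻¹ ∈ (S : Subgroup G)) : g * c * g⁻¹ = c := by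
  haveI : Fact (Nat.Prime 2) := ⟨Nat.prime_two⟩
  have hmap : (zpowers c).map (MulAut.conj g).toMonoidHom = zpowers c := hwc.2 g (by
    rw [MonoidHom.map_zpowers, zpowers_le]; exact hg)
  have hgN : g ∈ normalizer (zpowers c : Set G) := mem_normalizer_iff_map_conj_eq.2 hmap
  have hSN : (S : Subgroup G) ≤ normalizer (zpowers c : Set G) := fun s hs =>
    centralizer_le_normalizer _ (fun t ht => by
      obtain ⟨i, rfl⟩ := ht
      exact ((show Commute s c from hc s hs).zpow_right i).symm.eq)
  have hgC : g ∈ centralizer (zpowers c : Set G) := by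
    refine mem_centralizer_of_fix_invol (S.2.to_le (zpowers_le.2 hcS)) hgN ?_ ?_
    · intro t ht ht2
      by_cases h1 : t = 1
      · rw [h1, mul_one, mul_inv_cancel]
      · exact eq_of_invol_mem_zpowers ((mem_normalizer_iff.1 hgN t).1 ht) ht
          (by rw [show g * t * g⁻¹ * (g * t * g⁻¹) = g * (t * t) * g⁻¹ by group, ht2, mul_one,
            mul_inv_cancel]) ht2 (fun h => h1 (conj_eq_one_iff.1 h)) h1
    · rintro u hu ⟨k, hk⟩ t ⟨i, rfl⟩
      have hP : IsPGroup 2 (zpowers u) := by
        obtain ⟨j, -, hj⟩ := (Nat.dvd_prime_pow Nat.prime_two).1 (orderOf_dvd_of_pow_eq_one hk)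
        exact IsPGroup.of_card (by rw [Nat.card_zpowers, hj])
      obtain ⟨h, hh, hmv⟩ := exists_conj_mem_sylow S hSN
        (zpowers_le.2 (zpowers_le.2 hgN hu)) hP
      have h1 := hmv u (mem_zpowers u)
      obtain ⟨l, hl⟩ := (mem_normalizer_iff.1 hh (c ^ i)).1 (zpow_mem (mem_zpowers c) i)
      have h2 : Commute (h * u * h⁻¹) (h * c ^ i * h⁻¹) := by
        rw [← hl]; exact (show Commute (h * u * h⁻¹) c from hc _ h1).zpow_right l
      calc c ^ i * u = h⁻¹ * ((h * c ^ i * h⁻¹) * (h * u * h⁻¹)) * h := by group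
        _ = u * c ^ i := by rw [← h2.eq]; group
  rw [← hgC c (mem_zpowers c), mul_inv_cancel_right]

/-- From commutation modulo `O(G)` to a factorization. -/
theorem exists_oddCore_mul_centralizer (S : Sylow 2 G) {c : G} (hcS : c ∈ (S : Subgroup G))
    (hcomm : ∀ g : G, g * c * g⁻¹ * c⁻¹ ∈ oddCore G) (g : G) :
    ∃ o ∈ oddCore G, ∃ u ∈ centralizer (zpowers c : Set G), g = o * u := by
  haveI : Fact (Nat.Prime 2) := ⟨Nat.prime_two⟩
  set N := oddCore G ⊔ zpowers c with hN
  have hgc : g * c * g⁻¹ ∈ N := by
    have := mul_mem (mem_sup_left (T := zpowers c) (hcomm g))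
      (mem_sup_right (S := oddCore G) (mem_zpowers c))
    rwa [inv_mul_cancel_right] at this
  obtain ⟨k, hk⟩ := S.2 ⟨c, hcS⟩
  have hk' : c ^ 2 ^ k = 1 := congrArg Subtype.val hk
  have hP : IsPGroup 2 (zpowers (g * c * g⁻¹)) := by
    obtain ⟨j, -, hj⟩ := (Nat.dvd_prime_pow Nat.prime_two).1 (orderOf_dvd_of_pow_eq_one
      (show (g * c * g⁻¹) ^ 2 ^ k = 1 by rw [conj_pow, hk', mul_one, mul_inv_cancel]))
    exact IsPGroup.of_card (by rw [Nat.card_zpowers, hj])
  -- a Sylow subgroup of `N` is `⟨c⟩`
  have hle : zpowers c ≤ N := le_sup_right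
  obtain ⟨T, hT⟩ := (hP.of_equiv (subgroupOfEquivOfLe (zpowers_le.2 hgc)).symm).exists_le_sylow
  have hcp : IsPGroup 2 (zpowers c) := S.2.to_le (zpowers_le.2 hcS)
  let T₀ : Sylow 2 N := IsPGroup.toSylow (P := (zpowers c).subgroupOf N)
    (hcp.of_equiv (subgroupOfEquivOfLe hle).symm) (by
      intro h2
      have h : (zpowers c).relIndex N ∣ Nat.card (oddCore G) := by
        have h1 := CfsgLib.PLocal.card_sup_dvd_mul (zpowers c) (oddCore G)
        rw [sup_comm, ← hN, ← CfsgLib.PLocal.card_mul_relIndex hle] at h1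
        exact Nat.dvd_of_mul_dvd_mul_left Nat.card_pos h1
      exact (Nat.not_even_iff_odd.2 (Nat.coprime_two_right.1
        (CfsgLib.PLocal.coprime_card_pPrimeCore 2 G))) (even_iff_two_dvd.2 (h2.trans h)))
  obtain ⟨w, hw⟩ := MulAction.exists_smul_eq N T T₀
  have hmem : (w : G) * (g * c * g⁻¹) * (w : G)⁻¹ ∈ zpowers c := by
    have : w * ⟨g * c * g⁻¹, hgc⟩ * w⁻¹ ∈ (T₀ : Subgroup N) := by
      rw [← hw, Sylow.coe_subgroup_smul]
      exact ⟨_, hT (mem_subgroupOf.2 (mem_zpowers _)), rfl⟩
    exact mem_subgroupOf.1 this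
  obtain ⟨o₁, ho₁, v, ⟨i, rfl⟩, hwe⟩ :=
    CfsgLib.Coprime.exists_mul_of_mem_sup (le_normalizer_of_normal) w.2
  set o := c ^ (-i) * o₁ * c ^ i with ho'
  have ho : o ∈ oddCore G := by
    have := (inferInstance : (oddCore G).Normal).conj_mem o₁ ho₁ (c ^ (-i))
    rwa [zpow_neg, inv_inv, ← zpow_neg] at this
  set u := o * g with hu
  have hoc : o * (g * c * g⁻¹) * o⁻¹ ∈ zpowers c := by
    rw [← hwe] at hmem
    obtain ⟨l, hl⟩ := hmem
    -- conjugation by the power of `c` fixes `⟨c⟩`
    refine ⟨l, ?_⟩
    calc c ^ l = c ^ (-i) * c ^ l * c ^ i := by rw [← zpow_add, ← zpow_add]; congr 1; ring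
      _ = _ := by rw [show c ^ l = _ from hl, ho']; group
  refine ⟨o⁻¹, inv_mem ho, u, fun t ht => ?_, (inv_mul_cancel_left o g).symm⟩
  have huc : u * c * u⁻¹ = c := by
    have h1 : u * c * u⁻¹ ∈ zpowers c := by
      rw [show u * c * u⁻¹ = o * (g * c * g⁻¹) * o⁻¹ by rw [hu]; group]; exact hoc
    have h2 : u * c * u⁻¹ * c⁻¹ ∈ oddCore G := hcomm u
    have h3 : u * c * u⁻¹ * c⁻¹ ∈ zpowers c := mul_mem h1 (inv_mem (mem_zpowers c))
    have h4 := CfsgLib.PLocal.disjoint_of_isPGroup_of_coprime (p := 2) hcp
      (B := oddCore G) (CfsgLib.PLocal.coprime_card_pPrimeCore 2 G)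
    exact mul_inv_eq_one.1 (mem_bot.1 (h4.le (mem_inf.2 ⟨h3, h2⟩)))
  obtain ⟨i, rfl⟩ := ht
  exact ((show Commute u c from mul_inv_eq_iff_eq_mul.1 huc).zpow_right i).symm.eq

end CfsgLib.TwoGroups
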