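import Cfsg.Agent.TwoGroups.OddFusion

/-!
Reduction of fusion in a Sylow subgroup to odd-order elements normalizing subgroups `E` of `S`
with `C_S(E) ≤ E`.
-/

set_option autoImplicit false

namespace CfsgLib.TwoGroups

open Subgroup

variable {G : Type*} [Group G]

/-- An element of odd order lies in every subgroup of relative index two. -/
theorem mem_of_relIndex_two_of_odd [Finite G] {H N : Subgroup G} (h : H.relIndex N = 2) {g : G}
    (hgN : g ∈ N) (hg : Odd (orderOf g)) : g ∈ H :=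
  mem_subgroupOf.1 (mem_of_index_two_of_odd (H := H.subgroupOf N) h
    (g := ⟨g, hgN⟩) (by rwa [orderOf_mk]))

/-- An element of odd order inducing an inner automorphism of a 2-group centralizes it. -/
theorem mem_centralizer_of_mem_sup [Finite G] {W : Subgroup G} (hW : IsPGroup 2 W) {g : G}
    (hgW : g ∈ W ⊔ centralizer (W : Set G)) (hg : Odd (orderOf g)) :
    g ∈ centralizer (W : Set G) := by
  obtain ⟨w, hw, c, hc, hgc⟩ :=
    CfsgLib.Coprime.exists_mul_of_mem_sup (centralizer_le_normalizer _) hgW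
  obtain ⟨k, hk⟩ := hW ⟨w, hw⟩
  have hk' : w ^ 2 ^ k = 1 := congrArg Subtype.val hk
  have hwc : Commute w c := hc w hw
  have h1 : g ^ 2 ^ k ∈ centralizer (W : Set G) := by
    rw [← hgc, hwc.mul_pow, hk', one_mul]
    exact pow_mem hc _
  have hcop : Nat.Coprime (2 ^ k) (orderOf g) :=
    Nat.Coprime.pow_left k (Nat.coprime_two_left.2 hg)
  obtain ⟨m, hm⟩ := exists_pow_eq_self_of_coprime hcop
  rw [← hm]
  exact pow_mem h1 m

/-- A `p`-subgroup of `K` is moved into a Sylow subgroup `P` of `K` by an element of `K`. -/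
theorem exists_conj_mem_of_relIndex [Finite G] {p : ℕ} [Fact p.Prime] {K P R : Subgroup G}
    (hP : IsPGroup p P) (hidx : ¬ p ∣ P.relIndex K) (hRK : R ≤ K)
    (hR : IsPGroup p R) : ∃ h ∈ K, ∀ r ∈ R, h * r * h⁻¹ ∈ P := by
  let PK : Sylow p K := IsPGroup.toSylow (P := P.subgroupOf K) (hP.comap_subtype) hidx
  obtain ⟨R', hR'⟩ := (hR.of_equiv (subgroupOfEquivOfLe hRK).symm).exists_le_sylow
  obtain ⟨h, hh⟩ := MulAction.exists_smul_eq K R' PK
  refine ⟨h, h.2, fun r hr => ?_⟩
  have h1 : h * ⟨r, hRK hr⟩ * h⁻¹ ∈ (PK : Subgroup K) := by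
    rw [← hh, Sylow.coe_subgroup_smul]
    exact ⟨_, hR' (mem_subgroupOf.2 hr), rfl⟩
  exact mem_subgroupOf.1 h1

theorem mem_normalizer_map_conj {W : Subgroup G} {s g : G} :
    g ∈ normalizer ((W.map (MulAut.conj s).toMonoidHom : Subgroup G) : Set G) ↔
      s⁻¹ * g * s ∈ normalizer (W : Set G) := by
  rw [show normalizer ((W.map (MulAut.conj s).toMonoidHom : Subgroup G) : Set G) =
      (normalizer (W : Set G)).map (MulAut.conj s).toMonoidHom from
    (map_equiv_normalizer_eq W (MulAut.conj s)).symm]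
  exact CfsgLib.Transfer.mem_map_conj_iff

theorem mem_centralizer_map_conj {W : Subgroup G} {s g : G} :
    g ∈ centralizer ((W.map (MulAut.conj s).toMonoidHom : Subgroup G) : Set G) ↔
      s⁻¹ * g * s ∈ centralizer (W : Set G) := by
  constructor
  · intro h w hw
    have := h (s * w * s⁻¹) ⟨w, hw, rfl⟩
    calc w * (s⁻¹ * g * s) = s⁻¹ * (s * w * s⁻¹ * g) * s := by group
      _ = s⁻¹ * g * s * w := by rw [this]; group
  · rintro h _ ⟨w, hw, rfl⟩
    have := h w hw
    show s * w * s⁻¹ * g = g * (s * w * s⁻¹)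
    calc s * w * s⁻¹ * g = s * (w * (s⁻¹ * g * s)) * s⁻¹ := by group
      _ = g * (s * w * s⁻¹) := by rw [this]; group

theorem odd_orderOf_conj {s g : G} (hg : Odd (orderOf g)) : Odd (orderOf (s * g * s⁻¹)) := by
  rw [show s * g * s⁻¹ = MulAut.conj s g from rfl, MulEquiv.orderOf_eq]
  exact hg

/-- Alperin-type induction: it suffices to look at `S` itself and at elements of odd order
normalizing subgroups `E ≤ S` with `C_S(E) ≤ E`. -/
theorem fusion_induction_centric [Finite G] (S : Sylow 2 G) (P : G → Prop)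
    (hS : ∀ s ∈ (S : Subgroup G), ∀ v ∈ (S : Subgroup G), P v → P (s * v * s⁻¹))
    (step : ∀ E : Subgroup G, E ≤ (S : Subgroup G) →
      (S : Subgroup G) ⊓ centralizer (E : Set G) ≤ E → ∀ g ∈ normalizer (E : Set G),
      Odd (orderOf g) → ∀ v ∈ E, P v → P (g * v * g⁻¹))
    {v : G} (hv : v ∈ (S : Subgroup G)) (hP : P v) (g : G)
    (hg : g * v * g⁻¹ ∈ (S : Subgroup G)) : P (g * v * g⁻¹) := by
  haveI : Fact (Nat.Prime 2) := ⟨Nat.prime_two⟩
  have key : ∀ {A : Set G} {x : G}, CfsgLib.Transfer.FusionChain S A x →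
      ∀ a ∈ A, P a → P (x⁻¹ * a * x) := by
    intro A x hx
    induction hx with
    | nil A => intro a _ ha; simpa using ha
    | cons A R x y hA ht hx _ ih =>
      intro a ha hPa
      suffices h1 : P (x⁻¹ * a * x) by
        have h2 := ih _ ⟨a, ha, rfl⟩ h1
        rwa [show (x * y)⁻¹ * a * (x * y) = y⁻¹ * (x⁻¹ * a * x) * y by group]
      have haD := hA ha
      set D := (S : Subgroup G) ⊓ (R : Subgroup G) with hD
      have hDS : D ≤ (S : Subgroup G) := inf_le_left
      set N := normalizer (D : Set G) with hN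
      set C := centralizer (D : Set G) with hC
      have hCN : C ≤ N := centralizer_le_normalizer _
      set u := x⁻¹ with hu
      have huN : u ∈ N := inv_mem hx
      let PN : Sylow 2 N := Sylow.ofCard _ (CfsgLib.Transfer.card_subgroupOf_eq S ht.1)
      haveI : (C.subgroupOf N).Normal := by
        rw [hC, hN, ← normalizerMonoidHom_ker]; infer_instance
      have hPC : ¬ 2 ∣ ((S : Subgroup G) ⊓ C).relIndex C := by
        rw [inf_relIndex_right, ← relIndex_subgroupOf hCN]
        exact CfsgLib.Transfer.not_dvd_relIndex_of_normal PN _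
      have hconjC : ((S : Subgroup G) ⊓ C).map (MulAut.conj u).toMonoidHom ≤ C := by
        rintro _ ⟨t, ht', rfl⟩ d hd
        have hd' : u⁻¹ * d * u ∈ D := (mem_normalizer_iff''.1 huN d).1 hd
        have := (mem_inf.1 ht').2 _ hd'
        show d * (u * t * u⁻¹) = u * t * u⁻¹ * d
        calc d * (u * t * u⁻¹) = u * (u⁻¹ * d * u * t) * u⁻¹ := by group
          _ = u * t * u⁻¹ * d := by rw [this]; group
      obtain ⟨h, hh, hhm⟩ := exists_conj_mem_of_relIndex (p := 2) (K := C)
        (P := (S : Subgroup G) ⊓ C) (S.isPGroup'.to_le inf_le_left) hPC hconjC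
        ((S.isPGroup'.to_le inf_le_left).map _)
      set E := D ⊔ ((S : Subgroup G) ⊓ C) with hE
      have hES : E ≤ (S : Subgroup G) := sup_le hDS inf_le_left
      have hcentric : (S : Subgroup G) ⊓ centralizer (E : Set G) ≤ E :=
        (inf_le_inf_left _ (centralizer_le (fun t ht => mem_sup_left ht))).trans le_sup_right
      have hu'N : h * u ∈ N := mul_mem (hCN hh) huN
      have hu'E : h * u ∈ normalizer (E : Set G) := by
        refine mem_normalizer_iff_map_conj_eq.2 (eq_of_le_of_card_ge ?_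
          (card_map_of_injective (MulAut.conj _).injective).ge)
        rw [hE, Subgroup.map_sup]
        refine sup_le (le_of_eq (mem_normalizer_iff_map_conj_eq.1 hu'N) |>.trans le_sup_left) ?_
        rintro _ ⟨t, ht', rfl⟩
        refine mem_sup_right ?_
        show h * u * t * (h * u)⁻¹ ∈ _
        rw [show h * u * t * (h * u)⁻¹ = h * (u * t * u⁻¹) * h⁻¹ by group]
        exact hhm _ ⟨t, ht', rfl⟩
      set M := N ⊓ normalizer (E : Set G) with hM
      have hSN : (S : Subgroup G) ⊓ N ≤ M := by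
        refine le_inf inf_le_right fun s hs => ?_
        refine mem_normalizer_iff_map_conj_eq.2 (eq_of_le_of_card_ge ?_
          (card_map_of_injective (MulAut.conj _).injective).ge)
        rw [hE, Subgroup.map_sup]
        refine sup_le (le_of_eq (mem_normalizer_iff_map_conj_eq.1 hs.2) |>.trans le_sup_left) ?_
        rintro _ ⟨t, ht', rfl⟩
        refine mem_sup_right (mem_inf.2 ⟨mul_mem (mul_mem hs.1 ht'.1) (inv_mem hs.1),
          fun d hd => ?_⟩)
        have hd' : s⁻¹ * d * s ∈ D := (mem_normalizer_iff''.1 hs.2 d).1 hd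
        have := ht'.2 _ hd'
        show d * (s * t * s⁻¹) = s * t * s⁻¹ * d
        calc d * (s * t * s⁻¹) = s * (s⁻¹ * d * s * t) * s⁻¹ := by group
          _ = s * t * s⁻¹ * d := by rw [this]; group
      let PM : Sylow 2 M := IsPGroup.toSylow (P := ((S : Subgroup G) ⊓ N).subgroupOf M)
        ((S.isPGroup'.to_le inf_le_left).comap_subtype) (fun h2 => ht.1 (h2.trans
          (Dvd.intro _ (relIndex_mul_relIndex _ _ _ hSN (inf_le_left : M ≤ N)))))
      have hu'M : (⟨h * u, hu'N, hu'E⟩ : M) ∈ (PM : Subgroup M) ⊔ Cfsg.pResidual 2 M := by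
        rw [CfsgLib.Transfer.sylow_sup_pResidual]; exact mem_top _
      rw [← SetLike.mem_coe, mul_normal] at hu'M
      obtain ⟨s, hs, c, hc, hsc⟩ := hu'M
      have hcl : ∀ r ∈ (Cfsg.pResidual 2 M).map M.subtype, r ∈ normalizer (E : Set G) ∧
          ∀ w ∈ E, P w → P (r * w * r⁻¹) ∧ P (r⁻¹ * w * r) := by
        intro r hr
        rw [CfsgLib.Transfer.map_subtype_pResidual] at hr
        induction hr using closure_induction with
        | mem r hr =>
          have hodd : Odd (orderOf r) := Nat.coprime_two_right.1 hr.2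
          refine ⟨(mem_inf.1 hr.1).2, fun w hw hPw =>
            ⟨step E hES hcentric r (mem_inf.1 hr.1).2 hodd w hw hPw, ?_⟩⟩
          have := step E hES hcentric r⁻¹ (inv_mem (mem_inf.1 hr.1).2)
            (by rwa [orderOf_inv]) w hw hPw
          rwa [inv_inv] at this
        | one => exact ⟨one_mem _, fun w _ hPw => by simpa using And.intro hPw hPw⟩
        | mul r t _ _ hr' ht' =>
          refine ⟨mul_mem hr'.1 ht'.1, fun w hw hPw => ⟨?_, ?_⟩⟩
          · have := (hr'.2 _ ((mem_normalizer_iff.1 ht'.1 w).1 hw) (ht'.2 w hw hPw).1).1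
            rwa [show r * t * w * (r * t)⁻¹ = r * (t * w * t⁻¹) * r⁻¹ by group]
          · have := (ht'.2 _ ((mem_normalizer_iff''.1 hr'.1 w).1 hw) (hr'.2 w hw hPw).2).2
            rwa [show (r * t)⁻¹ * w * (r * t) = t⁻¹ * (r⁻¹ * w * r) * t by group]
        | inv r _ hr' =>
          exact ⟨inv_mem hr'.1, fun w hw hPw =>
            ⟨by rw [inv_inv]; exact (hr'.2 w hw hPw).2, by rw [inv_inv]; exact (hr'.2 w hw hPw).1⟩⟩
      obtain ⟨hcE, hcP⟩ := hcl (c : G) ⟨c, hc, rfl⟩
      have haE : a ∈ E := mem_sup_left haD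
      have h1 := hS (s : G) (mem_inf.1 (mem_subgroupOf.1 hs)).1 _
        (hES ((mem_normalizer_iff.1 hcE a).1 haE)) (hcP a haE hPa).1
      have hsc' : (s : G) * (c : G) = h * u := congrArg Subtype.val hsc
      rw [show (s : G) * ((c : G) * a * (c : G)⁻¹) * (s : G)⁻¹ =
        (s : G) * c * a * ((s : G) * c)⁻¹ by group, hsc',
        show h * u * a * (h * u)⁻¹ = h * (u * a * u⁻¹) * h⁻¹ by group,
        ← hh _ ((mem_normalizer_iff.1 huN a).1 haD), mul_inv_cancel_right] at h1
      rwa [hu, inv_inv] at h1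
  have hc := CfsgLib.Transfer.exists_fusionChain S (A := {v}) (g := g⁻¹)
    (Set.singleton_subset_iff.2 hv)
    (by rw [Set.image_singleton, inv_inv]; exact Set.singleton_subset_iff.2 hg)
  simpa using key hc v rfl hP

/-- If elements of odd order centralize every `E ≤ S` with `C_S(E) ≤ E` which they normalize, they
centralize every normalized 2-subgroup. -/
theorem mem_centralizer_of_centric [Finite G] (S : Sylow 2 G)
    (hcent : ∀ E : Subgroup G, E ≤ (S : Subgroup G) →
      (S : Subgroup G) ⊓ centralizer (E : Set G) ≤ E → ∀ g ∈ normalizer (E : Set G),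
      Odd (orderOf g) → g ∈ centralizer (E : Set G))
    {D : Subgroup G} (hD : IsPGroup 2 D) {g : G} (hgN : g ∈ normalizer (D : Set G))
    (hg : Odd (orderOf g)) : g ∈ centralizer (D : Set G) := by
  haveI : Fact (Nat.Prime 2) := ⟨Nat.prime_two⟩
  set N := normalizer (D : Set G) with hN
  set C := centralizer (D : Set G) with hC
  have hCN : C ≤ N := centralizer_le_normalizer _
  let PC : Sylow 2 C := default
  set P := (PC : Subgroup C).map C.subtype with hP
  have hPC : P ≤ C := map_subtype_le _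
  have hPp : IsPGroup 2 P := PC.isPGroup'.map _
  have hidx : ¬ 2 ∣ P.relIndex C := by
    rw [relIndex, subgroupOf, hP, comap_map_eq_self_of_injective (subtype_injective _)]
    exact PC.not_dvd_index
  have hconjC : P.map (MulAut.conj g).toMonoidHom ≤ C := by
    rintro _ ⟨t, ht', rfl⟩ d hd
    have hd' : g⁻¹ * d * g ∈ D := (mem_normalizer_iff''.1 hgN d).1 hd
    have := hPC ht' _ hd'
    show d * (g * t * g⁻¹) = g * t * g⁻¹ * d
    calc d * (g * t * g⁻¹) = g * (g⁻¹ * d * g * t) * g⁻¹ := by group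
      _ = g * t * g⁻¹ * d := by rw [this]; group
  obtain ⟨h, hh, hhm⟩ := exists_conj_mem_of_relIndex hPp hidx hconjC (hPp.map _)
  have hg'N : h * g ∈ N := mul_mem (hCN hh) hgN
  set E := D ⊔ P with hE
  have hg'E : h * g ∈ normalizer (E : Set G) := by
    refine mem_normalizer_iff_map_conj_eq.2 (eq_of_le_of_card_ge ?_
      (card_map_of_injective (MulAut.conj _).injective).ge)
    rw [hE, Subgroup.map_sup]
    refine sup_le (le_of_eq (mem_normalizer_iff_map_conj_eq.1 hg'N) |>.trans le_sup_left) ?_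
    rintro _ ⟨t, ht', rfl⟩
    refine mem_sup_right ?_
    show h * g * t * (h * g)⁻¹ ∈ _
    rw [show h * g * t * (h * g)⁻¹ = h * (g * t * g⁻¹) * h⁻¹ by group]
    exact hhm _ ⟨t, ht', rfl⟩
  have hEp : IsPGroup 2 E := by
    rw [hE, sup_comm]
    exact IsPGroup.to_sup_of_normal_right' hPp hD (hPC.trans hCN)
  obtain ⟨s, -, hs⟩ := exists_conj_mem_sylow S (N := ⊤) le_top le_top hEp
  set E' := E.map (MulAut.conj s).toMonoidHom with hE'
  have hE'S : E' ≤ (S : Subgroup G) := by rintro _ ⟨e, he, rfl⟩; exact hs e he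
  have hcentric : (S : Subgroup G) ⊓ centralizer (E' : Set G) ≤ E' := by
    intro t ht
    set R := (S : Subgroup G).map (MulAut.conj s⁻¹).toMonoidHom ⊓ C with hR
    have hRp : IsPGroup 2 R := (S.isPGroup'.map _).to_le inf_le_left
    have hPR : P ≤ R := le_inf (fun p hp => ⟨s * p * s⁻¹, hs p (mem_sup_right hp), by
      show s⁻¹ * (s * p * s⁻¹) * s⁻¹⁻¹ = p
      group⟩) hPC
    have hRP : R.subgroupOf C = (PC : Subgroup C) := PC.3 hRp.comap_subtype
      (fun p hp => mem_subgroupOf.2 (hPR ⟨p, hp, rfl⟩))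
    have htC : s⁻¹ * t * s ∈ C :=
      centralizer_le (fun d hd => mem_sup_left hd) (mem_centralizer_map_conj.1 ht.2)
    have htR : (⟨s⁻¹ * t * s, htC⟩ : C) ∈ R.subgroupOf C :=
      mem_subgroupOf.2 (mem_inf.2 ⟨⟨t, ht.1, by
        show s⁻¹ * t * s⁻¹⁻¹ = s⁻¹ * t * s
        group⟩, htC⟩)
    rw [hRP] at htR
    exact ⟨s⁻¹ * t * s, mem_sup_right ⟨_, htR, rfl⟩, by
      show s * (s⁻¹ * t * s) * s⁻¹ = t
      group⟩
  obtain ⟨k, m, hm, hord⟩ := Nat.exists_eq_two_pow_mul_odd (orderOf_pos (h * g)).ne'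
  have hodd : Odd (orderOf ((h * g) ^ 2 ^ k)) :=
    hm.of_dvd_nat (orderOf_dvd_of_pow_eq_one (by rw [← pow_mul, ← hord, pow_orderOf_eq_one]))
  have h1 := hcent E' hE'S hcentric (s * (h * g) ^ 2 ^ k * s⁻¹)
    (mem_normalizer_map_conj.2 (by
      rw [show s⁻¹ * (s * (h * g) ^ 2 ^ k * s⁻¹) * s = (h * g) ^ 2 ^ k by group]
      exact pow_mem hg'E _))
    (odd_orderOf_conj hodd)
  rw [mem_centralizer_map_conj,
    show s⁻¹ * (s * (h * g) ^ 2 ^ k * s⁻¹) * s = (h * g) ^ 2 ^ k by group] at h1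
  have h2 : (h * g) ^ 2 ^ k ∈ C := centralizer_le (fun d hd => mem_sup_left hd) h1
  let f := D.normalizerMonoidHom
  have hker : ∀ v : N, f v = 1 ↔ (v : G) ∈ C := fun v => by
    rw [← MonoidHom.mem_ker, normalizerMonoidHom_ker, mem_subgroupOf]
  have hfg : f ⟨h * g, hg'N⟩ = f ⟨g, hgN⟩ := by
    have : (⟨h * g, hg'N⟩ : N) = ⟨h, hCN hh⟩ * ⟨g, hgN⟩ := rfl
    rw [this, map_mul, (hker ⟨h, hCN hh⟩).2 hh, one_mul]
  have e1 : f ⟨g, hgN⟩ ^ 2 ^ k = 1 := by
    rw [← hfg, ← map_pow, hker, SubmonoidClass.coe_pow]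
    exact h2
  have e2 : f ⟨g, hgN⟩ ^ orderOf g = 1 := by
    rw [← map_pow, show (⟨g, hgN⟩ : N) ^ orderOf g = 1 from Subtype.ext (pow_orderOf_eq_one g),
      map_one]
  exact (hker ⟨g, hgN⟩).1 (orderOf_eq_one_iff.1 (Nat.eq_one_of_dvd_coprimes
    (Nat.Coprime.pow_left k (Nat.coprime_two_left.2 hg)) (orderOf_dvd_of_pow_eq_one e1)
    (orderOf_dvd_of_pow_eq_one e2)))

end CfsgLib.TwoGroups
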