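import Cfsg.Agent.TwoGroups.DihedralClasses
import Cfsg.Agent.TwoGroups.CentricFusion
import Cfsg.Agent.TwoGroups.CenterFusion

/-!
Four-group normalizers in groups with dihedral Sylow 2-subgroups.
-/

set_option autoImplicit false
set_option linter.style.haveILetI false

namespace CfsgLib.DihedralLocal

open Subgroup
open CfsgLib.TwoGroups
open CfsgLib.DihedralClasses
open DihedralGroup (r sr)

variable {G : Type*} [Group G] [Finite G]

omit [Finite G] in
theorem mem_centralizer_of_image_isPGroup {U : Subgroup G} {g : G}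
    (hgN : g ∈ normalizer (U : Set G)) (hg : Odd (orderOf g)) {k : ℕ}
    (hk : U.normalizerMonoidHom ⟨g, hgN⟩ ^ 2 ^ k = 1) : g ∈ centralizer (U : Set G) := by
  have e2 : U.normalizerMonoidHom ⟨g, hgN⟩ ^ orderOf g = 1 := by
    rw [← map_pow, show (⟨g, hgN⟩ : normalizer (U : Set G)) ^ orderOf g = 1 from
      Subtype.ext (pow_orderOf_eq_one g), map_one]
  have h1 : (⟨g, hgN⟩ : normalizer (U : Set G)) ∈ U.normalizerMonoidHom.ker :=
    MonoidHom.mem_ker.2 (orderOf_eq_one_iff.1 (Nat.eq_one_of_dvd_coprimes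
      (Nat.Coprime.pow_left k (Nat.coprime_two_left.2 hg)) (orderOf_dvd_of_pow_eq_one hk)
      (orderOf_dvd_of_pow_eq_one e2)))
  rw [normalizerMonoidHom_ker] at h1
  exact mem_subgroupOf.1 h1

/-- An element of odd order outside the centralizer permutes the involutions of a four-group
transitively. -/
theorem isConj_of_moved {U : Subgroup G} (hU : IsKleinFour U) {g : G}
    (hgN : g ∈ normalizer (U : Set G)) (hg : Odd (orderOf g))
    (hgC : g ∉ centralizer (U : Set G)) {u v : G} (hu : u ∈ U) (hv : v ∈ U) (hu1 : u ≠ 1)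
    (hv1 : v ≠ 1) : IsConj u v := by
  set u' := g * u * g⁻¹ with hu'
  set u'' := g * u' * g⁻¹ with hu''
  have hu'U : u' ∈ U := (mem_normalizer_iff.1 hgN u).1 hu
  have hu''U : u'' ∈ U := (mem_normalizer_iff.1 hgN u').1 hu'U
  have hu'1 : u' ≠ 1 := fun h => hu1 (conj_eq_one_iff.1 h)
  have hu''1 : u'' ≠ 1 := fun h => hu'1 (conj_eq_one_iff.1 h)
  have hne : u' ≠ u := fun h => hgC (mem_centralizer_of_fix_kleinFour hU hgN hg hu hu1 h)
  have hne' : u'' ≠ u' := fun h => hne (mul_left_cancel (mul_right_cancel h))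
  have hne'' : u'' ≠ u := fun h => hne (conj_eq_of_sq_conj_eq hg h)
  have hc : IsConj u u' := isConj_iff.2 ⟨g, rfl⟩
  rcases (klein_mem_iff hU hu hu'U hu1 hu'1 hne.symm v).1 hv with rfl | rfl | rfl | rfl
  · exact absurd rfl hv1
  · exact IsConj.refl _
  · exact hc
  · rcases (klein_mem_iff hU hu hu'U hu1 hu'1 hne.symm u'').1 hu''U with h | h | h | h
    · exact absurd h hu''1
    · exact absurd h hne''
    · exact absurd h hne'
    · exact h ▸ hc.trans (isConj_iff.2 ⟨g, rfl⟩)

variable {m : ℕ} [NeZero m] {S : Sylow 2 G} (eS : (S : Subgroup G) ≃* DihedralGroup m)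

include eS in
theorem exists_pow_two : ∃ k, m = 2 ^ k := by
  haveI : Fact (Nat.Prime 2) := ⟨Nat.prime_two⟩
  obtain ⟨k, hk⟩ := S.isPGroup'.exists_card_eq
  rw [Nat.card_congr eS.toEquiv, DihedralGroup.nat_card] at hk
  obtain ⟨j, -, hj⟩ := (Nat.dvd_prime_pow Nat.prime_two).1 (Dvd.intro_left 2 hk)
  exact ⟨j, hj⟩

include eS in
theorem isKleinFour_of_two (hm : m = 2) : IsKleinFour (S : Subgroup G) := by
  subst hm
  refine isKleinFour_iff.2 ⟨?_, fun v hv => ?_⟩
  · rw [Nat.card_congr eS.toEquiv, DihedralGroup.nat_card]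
  · have h : ∀ d : DihedralGroup 2, d * d = 1 := by decide
    have := h (eS ⟨v, hv⟩)
    rw [← map_mul, EmbeddingLike.map_eq_one_iff] at this
    exact congrArg Subtype.val this

include eS in
theorem four_dvd_of_ne_two (hm2 : 2 ≤ m) (hm : m ≠ 2) : 4 ∣ m := by
  obtain ⟨k, rfl⟩ := exists_pow_two eS
  rcases k with _ | _ | k
  · simp at hm2
  · simp at hm
  · exact ⟨2 ^ k, by rw [pow_succ, pow_succ]; ring⟩

include eS in
/-- A four-group of the dihedral Sylow subgroup contains its own centralizer in it. -/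
theorem centralizer_inf_eq {U : Subgroup G} (hU : IsKleinFour U) (hUS : U ≤ (S : Subgroup G))
    {t : G} (htS : t ∈ (S : Subgroup G)) (ht : t ∈ centralizer (U : Set G)) : t ∈ U := by
  have hT : IsKleinFour ((U.subgroupOf (S : Subgroup G)).map eS.toMonoidHom) := by
    refine isKleinFour_iff.2 ⟨?_, ?_⟩
    · rw [card_map_of_injective eS.injective,
        Nat.card_congr (subgroupOfEquivOfLe hUS).toEquiv]
      exact hU.card_four
    · rintro _ ⟨v, hv, rfl⟩
      rw [← map_mul, ← map_one eS.toMonoidHom]
      exact congrArg _ (Subtype.ext ((isKleinFour_iff.1 hU).2 _ (mem_subgroupOf.1 hv)))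
  have h1 : eS ⟨t, htS⟩ ∈ centralizer
      (((U.subgroupOf (S : Subgroup G)).map eS.toMonoidHom : Subgroup _) :
        Set (DihedralGroup m)) := by
    rintro _ ⟨v, hv, rfl⟩
    show eS v * eS ⟨t, htS⟩ = eS ⟨t, htS⟩ * eS v
    rw [← map_mul, ← map_mul]
    exact congrArg eS (Subtype.ext (ht _ (mem_subgroupOf.1 hv)))
  rw [centralizer_kleinFour_dihedral hT] at h1
  obtain ⟨v, hv, hve⟩ := h1
  rw [show v = ⟨t, htS⟩ from eS.injective hve] at hv
  exact mem_subgroupOf.1 hv

include eS in
/-- With a normal 2-complement the four-group normalizers split. -/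
theorem normalizer_eq_of_complement (h : Cfsg.HasNormalPComplement 2 G) {U : Subgroup G}
    (hUS : U ≤ (S : Subgroup G)) (hU : IsKleinFour U) :
    normalizer (U : Set G) =
      centralizer (U : Set G) ⊔ ((S : Subgroup G) ⊓ normalizer (U : Set G)) := by
  haveI : Fact (Nat.Prime 2) := ⟨Nat.prime_two⟩
  refine le_antisymm ?_ (sup_le (centralizer_le_normalizer _) inf_le_right)
  have hUp : IsPGroup 2 U := S.isPGroup'.to_le hUS
  have hodd : ∀ g ∈ normalizer (U : Set G), Odd (orderOf g) → g ∈ centralizer (U : Set G) :=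
    fun g hg hgo => CfsgLib.Transfer.mem_centralizer_of_hasNormalPComplement h hUp hg
      (Nat.coprime_two_right.2 hgo)
  have h3 : ¬ 3 ∣ (centralizer (U : Set G)).relIndex (normalizer (U : Set G)) := fun h3 => by
    obtain ⟨g, hgN, hgC, hg⟩ := exists_odd_mem_notMem h3
    exact hgC (hodd g hgN hg)
  have hidx : (centralizer (U : Set G)).relIndex (normalizer (U : Set G)) =
      Nat.card U.normalizerMonoidHom.range := by
    rw [relIndex, ← normalizerMonoidHom_ker, index_ker]
  have hdvd : (centralizer (U : Set G)).relIndex (normalizer (U : Set G)) ∣ 2 := by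
    have h6 : (centralizer (U : Set G)).relIndex (normalizer (U : Set G)) ∣ 2 * 3 := by
      rw [hidx]
      exact (card_subgroup_dvd_card _).trans (card_mulAut_dvd_six hU.card_four)
    exact Nat.Coprime.dvd_of_dvd_mul_right
      ((Nat.prime_three.coprime_iff_not_dvd.2 h3).symm) h6
  by_cases hle : (S : Subgroup G) ⊓ normalizer (U : Set G) ≤ centralizer (U : Set G)
  · have hSU : U = (S : Subgroup G) := by
      by_contra hne
      obtain ⟨t, ht, htU⟩ := SetLike.exists_of_lt
        (CfsgLib.Transfer.lt_inf_normalizer S.isPGroup' (lt_of_le_of_ne hUS hne))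
      exact htU (centralizer_inf_eq eS hU hUS ht.1 (hle ht))
    have h2 : ¬ 2 ∣ (centralizer (U : Set G)).relIndex (normalizer (U : Set G)) := fun h2 => by
      have hSC : (S : Subgroup G) ≤ centralizer (U : Set G) := fun s hs => hle
        (mem_inf.2 ⟨hs, le_normalizer (hSU ▸ hs)⟩)
      exact S.not_dvd_index (h2.trans ((relIndex_dvd_index_of_le (centralizer_le_normalizer _)).trans
        (index_dvd_of_le hSC)))
    have h1 : (centralizer (U : Set G)).relIndex (normalizer (U : Set G)) = 1 := by
      rcases (Nat.dvd_prime Nat.prime_two).1 hdvd with h | h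
      · exact h
      · exact absurd h.symm.dvd h2
    exact (relIndex_eq_one.1 h1).trans le_sup_left
  · obtain ⟨a, ha, haC⟩ := SetLike.not_le_iff_exists.1 hle
    rcases (Nat.dvd_prime Nat.prime_two).1 hdvd with h | h
    · exact (relIndex_eq_one.1 h).trans le_sup_left
    · exact le_of_relIndex_two h le_sup_left ha.2 haC (mem_sup_right ha)

include eS in
/-- Split four-group normalizers give a normal 2-complement. -/
theorem complement_of_normalizer_eq (hm2 : 2 ≤ m)
    (h : ∀ U : Subgroup G, U ≤ (S : Subgroup G) → IsKleinFour U → normalizer (U : Set G) =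
      centralizer (U : Set G) ⊔ ((S : Subgroup G) ⊓ normalizer (U : Set G))) :
    Cfsg.HasNormalPComplement 2 G := by
  haveI : Fact (Nat.Prime 2) := ⟨Nat.prime_two⟩
  refine CfsgLib.Transfer.hasNormalPComplement_of_local S fun D hD g hgN hgp => ?_
  refine mem_centralizer_of_centric S (fun E hES hcent g' hg'N hg' => ?_)
    (S.isPGroup'.to_le hD) hgN (Nat.coprime_two_right.1 hgp)
  have hfour : IsKleinFour E → g' ∈ centralizer (E : Set G) := by
    intro hE
    have hg'' := hg'N
    rw [h E hES hE] at hg''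
    obtain ⟨c, hc, s, hs, hsc⟩ := CfsgLib.Coprime.exists_mul_of_mem_sup
      (show (S : Subgroup G) ⊓ normalizer (E : Set G) ≤
          normalizer ((centralizer (E : Set G) : Subgroup G) : Set G) from fun s hs =>
        mem_normalizer_iff.2 fun c => by
          have hfwd : ∀ t ∈ normalizer (E : Set G), ∀ c ∈ centralizer (E : Set G),
              t * c * t⁻¹ ∈ centralizer (E : Set G) := fun t ht c hc e he => by
            have := hc _ ((mem_normalizer_iff''.1 ht e).1 he)
            calc e * (t * c * t⁻¹) = t * (t⁻¹ * e * t * c) * t⁻¹ := by group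
              _ = t * c * t⁻¹ * e := by rw [this]; group
          refine ⟨fun hc => hfwd s hs.2 c hc, fun hc => ?_⟩
          have := hfwd s⁻¹ (inv_mem hs.2) _ hc
          rwa [show s⁻¹ * (s * c * s⁻¹) * s⁻¹⁻¹ = c by group] at this) hg''
    obtain ⟨k, hk⟩ := S.isPGroup' ⟨s, hs.1⟩
    refine mem_centralizer_of_image_isPGroup hg'N hg' (k := k) ?_
    have hf : E.normalizerMonoidHom ⟨g', hg'N⟩ = E.normalizerMonoidHom ⟨s, hs.2⟩ := by
      have e : (⟨g', hg'N⟩ : normalizer (E : Set G)) =
          ⟨c, centralizer_le_normalizer _ hc⟩ * ⟨s, hs.2⟩ := Subtype.ext hsc.symm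
      rw [e, map_mul, MonoidHom.mem_ker.1 (show (⟨c, centralizer_le_normalizer _ hc⟩ :
        normalizer (E : Set G)) ∈ E.normalizerMonoidHom.ker by
          rw [normalizerMonoidHom_ker]; exact hc), one_mul]
    rw [hf, ← map_pow, show (⟨s, hs.2⟩ : normalizer (E : Set G)) ^ 2 ^ k = 1 from
      Subtype.ext (show s ^ 2 ^ k = 1 from congrArg Subtype.val hk), map_one]
  by_cases hm : m = 2
  · have hS4 := isKleinFour_of_two eS hm
    have hE : E = (S : Subgroup G) := le_antisymm hES fun s hs => hcent
      (mem_inf.2 ⟨hs, fun e he => klein_mul_comm hS4 (hES he) hs⟩)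
    exact hfour (hE ▸ hS4)
  have hm4 := four_dvd_of_ne_two eS hm2 hm
  have hm' : 2 ∣ m := dvd_trans (by norm_num) hm4
  by_cases hsr : ∃ i, emb S eS (sr i) ∈ E ∧ ∀ e ∈ E, Commute e (emb S eS (sr i))
  · obtain ⟨i, hiE, hicen⟩ := hsr
    have hEeq : E = (centralizer ({sr i} : Set (DihedralGroup m))).map (emb S eS) := by
      refine le_antisymm (fun e he => ?_) ?_
      · obtain ⟨d, rfl⟩ := exists_emb eS (hES he)
        exact mem_map_of_mem _ (mem_centralizer_singleton_iff.2 (emb_injective eS (by
          rw [map_mul, map_mul]; exact (hicen _ he).eq)))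
      · rintro _ ⟨d, hd, rfl⟩
        refine hcent (mem_inf.2 ⟨emb_mem eS d, fun e he => ?_⟩)
        obtain ⟨d', rfl⟩ := exists_emb eS (hES he)
        have hd' : d' ∈ centralizer ({sr i} : Set (DihedralGroup m)) :=
          mem_centralizer_singleton_iff.2 (emb_injective eS (by
            rw [map_mul, map_mul]; exact (hicen _ he).eq))
        rw [← map_mul, ← map_mul, klein_mul_comm (isKleinFour_centralizer_sr hm' i) hd' hd]
    refine hfour (hEeq ▸ isKleinFour_iff.2 ⟨?_, ?_⟩)
    · rw [card_map_of_injective (emb_injective eS)]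
      exact (isKleinFour_centralizer_sr hm' i).card_four
    · rintro _ ⟨v, hv, rfl⟩
      rw [← map_mul, (isKleinFour_iff.1 (isKleinFour_centralizer_sr hm' i)).2 v hv, map_one]
  -- the rotations of `E` stay rotations
  push Not at hsr
  obtain ⟨k, hk⟩ := exists_pow_two eS
  set R := zpowers (emb S eS (r 1)) with hR
  have hmemR : ∀ l : ZMod m, emb S eS (r l) ∈ R := fun l => ⟨(l.val : ℤ), by
    show emb S eS (r 1) ^ (l.val : ℤ) = _
    rw [zpow_natCast, ← map_pow, DihedralGroup.r_one_pow, ZMod.natCast_zmod_val]⟩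
  have hzc : ∀ d : DihedralGroup m, Commute (zz : DihedralGroup m) d := fun d => by
    have h2 : ((m / 2 : ℕ) : ZMod m) + ((m / 2 : ℕ) : ZMod m) = 0 :=
      (two_torsion_ne_zero (m := m) hm').1
    rcases d with j | j
    · show zz * r j = r j * zz
      rw [zz, DihedralGroup.r_mul_r, DihedralGroup.r_mul_r, add_comm]
    · show zz * sr j = sr j * zz
      rw [zz, DihedralGroup.r_mul_sr, DihedralGroup.sr_mul_r]
      congr 1
      linear_combination -h2
  have hrot : ∀ t ∈ E ⊓ R, g' * t * g'⁻¹ ∈ R := by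
    intro t ht
    obtain ⟨htE, j, hj⟩ := ht
    have ht' : emb S eS (r j) = t := by
      rw [← show emb S eS (r 1) ^ j = t from hj, ← map_zpow, DihedralGroup.r_one_zpow]
    subst ht'
    have himE := (mem_normalizer_iff.1 hg'N _).1 htE
    obtain ⟨d, hd⟩ := exists_emb eS (hES himE)
    rcases d with l | l
    · exact hd ▸ hmemR l
    exfalso
    have hord : orderOf (emb S eS (r (j : ZMod m))) = 2 := by
      rw [← MulEquiv.orderOf_eq (MulAut.conj g'), MulAut.conj_apply, ← hd, orderOf_sr]
    rcases invol_cases eS hm4 (emb_mem eS _) hord with e | ⟨i, e⟩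
    · obtain ⟨e', he', hne⟩ := hsr l (hd ▸ himE)
      refine hne ?_
      have he'' : g'⁻¹ * e' * g' ∈ E := (mem_normalizer_iff''.1 hg'N e').1 he'
      obtain ⟨d', hd'⟩ := exists_emb eS (hES he'')
      show e' * emb S eS (sr l) = emb S eS (sr l) * e'
      rw [hd, e]
      calc e' * (g' * emb S eS zz * g'⁻¹) = g' * (emb S eS d' * emb S eS zz) * g'⁻¹ := by
            rw [hd']; group
        _ = g' * (emb S eS zz * emb S eS d') * g'⁻¹ := by rw [← map_mul, ← (hzc d').eq, map_mul]
        _ = g' * emb S eS zz * g'⁻¹ * e' := by rw [hd']; group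
    · exact nomatch (emb_injective eS e)
  haveI hcom : IsMulCommutative (E ⊓ R : Subgroup G) := ⟨⟨fun p q => Subtype.ext (by
    obtain ⟨a, ha⟩ := (mem_inf.1 p.2).2
    obtain ⟨b, hb⟩ := (mem_inf.1 q.2).2
    show (p : G) * q = q * p
    rw [← show emb S eS (r 1) ^ a = (p : G) from ha, ← show emb S eS (r 1) ^ b = (q : G) from hb]
    exact ((Commute.refl _).zpow_zpow a b).eq)⟩⟩
  have hgV : g' ∈ normalizer ((E ⊓ R : Subgroup G) : Set G) := by
    refine mem_normalizer_iff_map_conj_eq.2 (eq_of_le_of_card_ge ?_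
      (card_map_of_injective (MulAut.conj g').injective).ge)
    rintro _ ⟨t, ht, rfl⟩
    exact mem_inf.2 ⟨(mem_normalizer_iff.1 hg'N _).1 ht.1, hrot t ht⟩
  have hgC : g' ∈ centralizer ((E ⊓ R : Subgroup G) : Set G) := by
    refine mem_centralizer_of_fix_invol (S.2.to_le (inf_le_left.trans hES)) hgV ?_ ?_
    · intro t ht ht2
      by_cases h1 : t = 1
      · rw [h1, mul_one, mul_inv_cancel]
      · exact eq_of_invol_mem_zpowers ((mem_inf.1 ((mem_normalizer_iff.1 hgV t).1 ht)).2)
          (mem_inf.1 ht).2 (by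
            rw [show g' * t * g'⁻¹ * (g' * t * g'⁻¹) = g' * (t * t) * g'⁻¹ by group, ht2, mul_one,
              mul_inv_cancel]) ht2 (fun h => h1 (conj_eq_one_iff.1 h)) h1
    · rintro u hu ⟨k, hk⟩
      have h1 : u = 1 := orderOf_eq_one_iff.1 (Nat.eq_one_of_dvd_coprimes
        (Nat.Coprime.pow_left k (Nat.coprime_two_left.2 hg'))
        (orderOf_dvd_of_pow_eq_one hk) (orderOf_dvd_of_mem_zpowers hu))
      rw [h1]; exact one_mem _
  intro b hb
  suffices h : g' * b * g'⁻¹ = b from (mul_inv_eq_iff_eq_mul.1 h).symm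
  have hfix : ∀ t ∈ E ⊓ R, g' * t * g'⁻¹ = t := fun t ht => by
    rw [← hgC t ht, mul_inv_cancel_right]
  by_cases hbR : b ∈ R
  · exact hfix b (mem_inf.2 ⟨hb, hbR⟩)
  have hb'E : g' * b * g'⁻¹ ∈ E := (mem_normalizer_iff.1 hg'N b).1 hb
  have hb'R : g' * b * g'⁻¹ ∉ R := fun h => hbR (by
    have := hfix _ (mem_inf.2 ⟨hb'E, h⟩)
    rwa [mul_left_cancel (mul_right_cancel this)] at h)
  have hout : ∀ e ∈ E, e ∉ R → ∃ i, e = emb S eS (sr i) := by
    intro e he heR
    obtain ⟨d, rfl⟩ := exists_emb eS (hES he)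
    rcases d with l | l
    · exact absurd (hmemR l) heR
    · exact ⟨l, rfl⟩
  obtain ⟨i, hi⟩ := hout b hb hbR
  obtain ⟨i', hi'⟩ := hout _ hb'E hb'R
  have hc : b⁻¹ * (g' * b * g'⁻¹) ∈ E ⊓ R := by
    refine mem_inf.2 ⟨mul_mem (inv_mem hb) hb'E, ?_⟩
    rw [hi, hi'] at *
    rw [← map_inv, ← map_mul, DihedralGroup.inv_sr, DihedralGroup.sr_mul_sr]
    exact hmemR _
  obtain ⟨l, hl⟩ := S.2.to_le (inf_le_left.trans hES) ⟨_, hc⟩
  have := eq_one_of_conj_eq_mul hg' (b := b) (by rw [mul_inv_cancel_left]) (hfix _ hc)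
    (congrArg Subtype.val hl)
  exact (inv_mul_eq_one.1 this).symm

include eS in
/-- No subgroup of index two and no isolated involution iff one class of involutions or full
four-group automizers. -/
theorem noIndexTwo_noIsolated_iff (hm2 : 2 ≤ m) :
    ((∀ H : Subgroup G, H.index ≠ 2) ∧ (∀ z : G, ¬ Cfsg.IsIsolatedInvolution z)) ↔
      ((∀ a b : G, orderOf a = 2 → orderOf b = 2 → IsConj a b) ∨
        (∀ U : Subgroup G, U ≤ (S : Subgroup G) → IsKleinFour U →
          (centralizer (U : Set G)).relIndex (normalizer (U : Set G)) =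
            (if Nat.card S = 4 then 3 else 6))) := by
  haveI : Fact (Nat.Prime 2) := ⟨Nat.prime_two⟩
  have hall : ∀ a₀ : G, (∀ s : (S : Subgroup G), orderOf s = 2 → IsConj (s : G) a₀) →
      ∀ a b : G, orderOf a = 2 → orderOf b = 2 → IsConj a b := by
    intro a₀ h a b ha hb
    obtain ⟨s, hs, has⟩ := exists_isConj_sylow S (k := 1) (by simpa using ha)
    obtain ⟨t, ht, hbt⟩ := exists_isConj_sylow S (k := 1) (by simpa using hb)
    exact (has.trans (h s (by simpa using hs))).trans (hbt.trans (h t (by simpa using ht))).symm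
  constructor
  · rintro ⟨hG, -⟩
    left
    by_cases hm : m = 2
    · have hS4 := isKleinFour_of_two eS hm
      have hex : ∃ g ∈ normalizer ((S : Subgroup G) : Set G),
          g ∉ centralizer ((S : Subgroup G) : Set G) ∧ Odd (orderOf g) := by
        by_contra hne
        push Not at hne
        obtain ⟨P, N, hN, hcompl⟩ : Cfsg.HasNormalPComplement 2 G := by
          refine CfsgLib.Transfer.hasNormalPComplement_of_local S fun D hD g hgN hgp => ?_
          refine mem_centralizer_of_centric S (fun E hES hcent g' hg'N hg' => ?_)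
            (S.isPGroup'.to_le hD) hgN (Nat.coprime_two_right.1 hgp)
          obtain rfl : E = (S : Subgroup G) := le_antisymm hES fun s hs => hcent
            (mem_inf.2 ⟨hs, fun e he => klein_mul_comm hS4 (hES he) hs⟩)
          by_contra hc
          exact hne g' hg'N hc hg'
        have hc : Nat.card (G ⧸ N) = 2 ^ 2 := by
          show N.index = _
          rw [hcompl.symm.index_eq_card, Nat.card_congr (P.equiv S).toEquiv]
          exact hS4.card_four
        obtain ⟨H, hH⟩ := Sylow.exists_subgroup_card_pow_prime (G := G ⧸ N) 2 (n := 1)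
          (hc ▸ dvd_pow_self 2 two_ne_zero)
        refine hG (H.comap (QuotientGroup.mk' N)) ?_
        rw [index_comap_of_surjective _ (QuotientGroup.mk'_surjective N)]
        have h2 := H.card_mul_index
        rw [hH, hc] at h2
        omega
      obtain ⟨g, hgN, hgC, hg⟩ := hex
      obtain ⟨a, ha⟩ := exists_prime_orderOf_dvd_card' (G := (S : Subgroup G)) 2
        (by rw [hS4.card_four]; norm_num)
      refine hall (a : G) fun s hs => ?_
      exact isConj_of_moved hS4 hgN hg hgC s.2 a.2
        (fun h => by rw [OneMemClass.coe_eq_one] at h; rw [h, orderOf_one] at hs; omega)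
        (fun h => by rw [OneMemClass.coe_eq_one] at h; rw [h, orderOf_one] at ha; omega)
    · have hm4 := four_dvd_of_ne_two eS hm2 hm
      refine hall (emb S eS zz) fun s hs => ?_
      rcases invol_cases eS hm4 s.2 (by rw [orderOf_coe, hs]) with h | ⟨i, h⟩
      · rw [h]
      · rw [h]
        by_contra hc
        obtain ⟨N, -, hidx, -⟩ := exists_index_two eS hm4 hc
        exact hG N hidx
  · intro h
    have hconj : ∀ a b : G, orderOf a = 2 → orderOf b = 2 → IsConj a b := by
      rcases h with h | h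
      · exact h
      have h3 : ∀ U : Subgroup G, U ≤ (S : Subgroup G) → IsKleinFour U → ∀ u ∈ U, ∀ v ∈ U,
          u ≠ 1 → v ≠ 1 → IsConj u v := by
        intro U hUS hU u hu v hv hu1 hv1
        obtain ⟨g, hgN, hgC, hg⟩ := exists_odd_mem_notMem (H := centralizer (U : Set G))
          (N := normalizer (U : Set G)) (by rw [h U hUS hU]; split <;> norm_num)
        exact isConj_of_moved hU hgN hg hgC hu hv hu1 hv1
      by_cases hm : m = 2
      · have hS4 := isKleinFour_of_two eS hm
        obtain ⟨a, ha⟩ := exists_prime_orderOf_dvd_card' (G := (S : Subgroup G)) 2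
          (by rw [hS4.card_four]; norm_num)
        refine hall (a : G) fun s hs => h3 _ le_rfl hS4 _ s.2 _ a.2 ?_ ?_
        · exact fun h => by rw [OneMemClass.coe_eq_one] at h; rw [h, orderOf_one] at hs; omega
        · exact fun h => by rw [OneMemClass.coe_eq_one] at h; rw [h, orderOf_one] at ha; omega
      · have hm4 := four_dvd_of_ne_two eS hm2 hm
        have hm' : 2 ∣ m := dvd_trans (by norm_num) hm4
        refine hall (emb S eS zz) fun s hs => ?_
        rcases invol_cases eS hm4 s.2 (by rw [orderOf_coe, hs]) with h' | ⟨i, h'⟩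
        · rw [h']
        · rw [h']
          refine h3 ((centralizer ({sr i} : Set (DihedralGroup m))).map (emb S eS))
            (by rintro _ ⟨d, -, rfl⟩; exact emb_mem eS d) (isKleinFour_iff.2 ⟨?_, ?_⟩)
            _ (mem_map_of_mem _ (mem_centralizer_singleton_iff.2 rfl))
            _ (mem_map_of_mem _ (mem_centralizer_singleton_iff.2 ?_)) ?_ ?_
          · rw [card_map_of_injective (emb_injective eS)]
            exact (isKleinFour_centralizer_sr hm' i).card_four
          · rintro _ ⟨v, hv, rfl⟩
            rw [← map_mul, (isKleinFour_iff.1 (isKleinFour_centralizer_sr hm' i)).2 v hv, map_one]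
          · have h2 : ((m / 2 : ℕ) : ZMod m) + ((m / 2 : ℕ) : ZMod m) = 0 :=
              (two_torsion_ne_zero (m := m) hm').1
            rw [zz, DihedralGroup.r_mul_sr, DihedralGroup.sr_mul_r]
            congr 1
            linear_combination -h2
          · intro e
            have := orderOf_sr eS i
            rw [e, orderOf_one] at this; omega
          · intro e
            have := orderOf_zz eS hm4
            rw [e, orderOf_one] at this; omega
    have hsr : ∀ i : ZMod m, orderOf (emb S eS (sr i)) = 2 := orderOf_sr eS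
    refine ⟨fun H hH => ?_, fun z hz => ?_⟩
    · haveI := normal_of_index_eq_two hH
      have hex : ∃ a, a ∈ H ∧ orderOf a = 2 := by
        by_cases hm : m = 2
        · have hS4 := isKleinFour_of_two eS hm
          by_cases hi : emb S eS (sr 0) ∈ H
          · exact ⟨_, hi, hsr 0⟩
          by_cases hj : emb S eS (sr 1) ∈ H
          · exact ⟨_, hj, hsr 1⟩
          refine ⟨emb S eS (sr 0) * emb S eS (sr 1),
            (mul_mem_iff_of_index_two hH).2 (iff_of_false hi hj), ?_⟩
          rw [← map_mul, orderOf_injective _ (emb_injective eS), DihedralGroup.sr_mul_sr,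
            sub_zero, DihedralGroup.orderOf_r_one, hm]
        · have hm4 := four_dvd_of_ne_two eS hm2 hm
          refine ⟨emb S eS zz, ?_, orderOf_zz eS hm4⟩
          obtain ⟨c, hc⟩ := hm4
          have h2 : zz = (r (c : ZMod m) * r (c : ZMod m) : DihedralGroup m) := by
            rw [zz, DihedralGroup.r_mul_r, ← Nat.cast_add]
            congr 2
            omega
          rw [h2, map_mul]
          exact mul_self_mem_of_index_two hH _
      obtain ⟨a, haH, ha⟩ := hex
      have hin : ∀ i, emb S eS (sr i) ∈ H := fun i => by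
        obtain ⟨g, hg⟩ := isConj_iff.1 (hconj a _ ha (hsr i))
        rw [← hg]
        exact (inferInstance : H.Normal).conj_mem a haH g
      have hle : (S : Subgroup G) ≤ H := fun x hx => by
        obtain ⟨d, rfl⟩ := exists_emb eS hx
        rcases d with l | l
        · have := mul_mem (hin 0) (hin l)
          rwa [← map_mul, DihedralGroup.sr_mul_sr, sub_zero] at this
        · exact hin l
      exact S.not_dvd_index (hH.symm.dvd.trans (index_dvd_of_le hle))
    · obtain ⟨a, b, ha, hb, hab, hne⟩ : ∃ a b : G, orderOf a = 2 ∧ orderOf b = 2 ∧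
          Commute a b ∧ a ≠ b := by
        obtain ⟨k, hk⟩ := exists_pow_two eS
        have hm' : 2 ∣ m := hk ▸ dvd_pow_self 2 (fun h0 => by rw [h0, pow_zero] at hk; omega)
        have h2 : ((m / 2 : ℕ) : ZMod m) + ((m / 2 : ℕ) : ZMod m) = 0 :=
          (two_torsion_ne_zero (m := m) hm').1
        have h2' : ((m / 2 : ℕ) : ZMod m) ≠ 0 := (two_torsion_ne_zero (m := m) hm').2
        refine ⟨emb S eS (sr 0), emb S eS (sr ((m / 2 : ℕ) : ZMod m)), hsr _, hsr _, ?_, ?_⟩
        · refine Commute.map ?_ _
          show sr 0 * sr _ = sr _ * sr 0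
          rw [DihedralGroup.sr_mul_sr, DihedralGroup.sr_mul_sr, sub_zero, zero_sub]
          congr 1
          linear_combination h2
        · intro e
          exact h2' (DihedralGroup.sr.inj (emb_injective eS e)).symm
      obtain ⟨g, hg⟩ := isConj_iff.1 (hconj a z ha hz.1)
      obtain ⟨g', hg'⟩ := isConj_iff.1 (hconj z (g * b * g⁻¹) hz.1
        (((MulAut.conj g).orderOf_eq b).trans hb))
      have hc : Commute z (g' * z * g'⁻¹) := by
        rw [hg', ← hg]
        exact (Commute.conj_iff g).2 hab
      have := hz.2 g' hc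
      rw [hg', ← hg] at this
      exact hne (mul_left_cancel (mul_right_cancel this)).symm

end CfsgLib.DihedralLocal
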