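import Mathlib.GroupTheory.SpecificGroups.KleinFour
import Mathlib.GroupTheory.SpecificGroups.Quaternion
import Mathlib.GroupTheory.SpecificGroups.Dihedral
import Mathlib.GroupTheory.Index
import Mathlib.GroupTheory.Sylow
import Mathlib.Tactic

/-!
# Four-groups, quaternion groups of order 8, class counts, index two
-/

namespace CfsgLib.TwoGroups

open Subgroup

variable {S : Type*} [Group S]

theorem isKleinFour_iff {T : Subgroup S} :
    IsKleinFour T ↔ Nat.card T = 4 ∧ ∀ g ∈ T, g * g = 1 := by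
  constructor
  · intro h
    refine ⟨h.card_four, fun g hg => ?_⟩
    have := Monoid.pow_exponent_eq_one (⟨g, hg⟩ : T)
    rw [h.exponent_two, sq] at this
    exact congrArg Subtype.val this
  · rintro ⟨hc, h2⟩
    refine ⟨hc, ?_⟩
    haveI : Finite T := Nat.finite_of_card_ne_zero (by omega)
    haveI : Nontrivial T := Finite.one_lt_card_iff_nontrivial.1 (by omega)
    have hd : Monoid.exponent T ∣ 2 :=
      Monoid.exponent_dvd_of_forall_pow_eq_one fun g => Subtype.ext (by
        rw [sq]; exact h2 g g.2)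
    rcases (Nat.dvd_prime Nat.prime_two).1 hd with h | h
    · exact absurd (Monoid.exp_eq_one_iff.1 h) (not_subsingleton T)
    · exact h

theorem klein_mul_comm {T : Subgroup S} (hT : IsKleinFour T) {a b : S} (ha : a ∈ T) (hb : b ∈ T) :
    a * b = b * a := by
  have h2 := (isKleinFour_iff.1 hT).2
  calc a * b = a * (a * b * (a * b)) * b := by rw [h2 _ (mul_mem ha hb)]; group
    _ = (a * a) * (b * a) * (b * b) := by group
    _ = b * a := by rw [h2 a ha, h2 b hb, one_mul, mul_one]

/-- A four-group consists of `1` and three involutions `a`, `b`, `ab`. -/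
theorem klein_mem_iff {T : Subgroup S} (hT : IsKleinFour T) {a b : S} (ha : a ∈ T) (hb : b ∈ T)
    (ha1 : a ≠ 1) (hb1 : b ≠ 1) (hab : a ≠ b) (g : S) :
    g ∈ T ↔ g = 1 ∨ g = a ∨ g = b ∨ g = a * b := by
  classical
  obtain ⟨hc, h2⟩ := isKleinFour_iff.1 hT
  refine ⟨fun hg => ?_, ?_⟩
  · by_contra hne
    push Not at hne
    obtain ⟨n1, n2, n3, n4⟩ := hne
    haveI : Finite T := Nat.finite_of_card_ne_zero (by omega)
    have hab1 : a * b ≠ 1 := fun h => hab (by
      rw [eq_inv_of_mul_eq_one_left h, inv_eq_of_mul_eq_one_right (h2 b hb)])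
    have hsub : ({1, a, b, a * b, g} : Finset S) ≤
        (Set.toFinite (T : Set S)).toFinset := by
      intro v hv
      simp only [Finset.mem_insert, Finset.mem_singleton] at hv
      simp only [Set.Finite.mem_toFinset, SetLike.mem_coe]
      rcases hv with rfl | rfl | rfl | rfl | rfl
      exacts [one_mem _, ha, hb, mul_mem ha hb, hg]
    have hcard := Finset.card_le_card hsub
    rw [← Set.ncard_eq_toFinset_card _ (Set.toFinite (T : Set S)), ← Nat.card_coe_set_eq] at hcard
    change _ ≤ Nat.card T at hcard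
    rw [hc, Finset.card_insert_of_notMem, Finset.card_insert_of_notMem,
      Finset.card_insert_of_notMem, Finset.card_insert_of_notMem, Finset.card_singleton] at hcard
    · omega
    all_goals simp [Finset.mem_insert, Ne.symm ha1, Ne.symm hb1, Ne.symm hab1, Ne.symm n1, hab,
      Ne.symm n2, Ne.symm n3, Ne.symm n4, mul_eq_left, left_eq_mul, right_eq_mul, ha1, hb1]
  · rintro (rfl | rfl | rfl | rfl)
    exacts [one_mem _, ha, hb, mul_mem ha hb]

/-- Two commuting distinct involutions lie in a four-group. -/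
theorem exists_kleinFour {a b : S} (ha : a * a = 1) (hb : b * b = 1) (hc : a * b = b * a)
    (ha1 : a ≠ 1) (hb1 : b ≠ 1) (hab : a ≠ b) :
    ∃ T : Subgroup S, IsKleinFour T ∧ a ∈ T ∧ b ∈ T := by
  classical
  have hba : b * a = a * b := hc.symm
  have h3 : a * (a * b) = b := by rw [← mul_assoc, ha, one_mul]
  have h4 : b * (a * b) = a := by rw [← mul_assoc, hba, mul_assoc, hb, mul_one]
  have h5 : a * b * a = b := by rw [mul_assoc, hba, h3]
  have h6 : a * b * b = a := by rw [mul_assoc, hb, mul_one]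
  have h7 : a * b * (a * b) = 1 := by rw [← mul_assoc, h5, hb]
  let T : Subgroup S :=
    { carrier := {1, a, b, a * b}
      one_mem' := by simp
      mul_mem' := by
        intro u v hu hv
        simp only [Set.mem_insert_iff, Set.mem_singleton_iff] at hu hv ⊢
        rcases hu with rfl | rfl | rfl | rfl <;> rcases hv with rfl | rfl | rfl | rfl <;>
          simp [ha, hb, hba, h3, h4, h5, h6, h7]
      inv_mem' := by
        intro u hu
        simp only [Set.mem_insert_iff, Set.mem_singleton_iff] at hu ⊢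
        rcases hu with rfl | rfl | rfl | rfl
        · simp
        · rw [inv_eq_of_mul_eq_one_right ha]; simp
        · rw [inv_eq_of_mul_eq_one_right hb]; simp
        · rw [inv_eq_of_mul_eq_one_right h7]; simp }
  refine ⟨T, isKleinFour_iff.2 ⟨?_, ?_⟩, by simp [T], by simp [T]⟩
  · show Nat.card ({1, a, b, a * b} : Set S) = 4
    have hab1 : a * b ≠ 1 := fun h => hab (by
      rw [eq_inv_of_mul_eq_one_left h, inv_eq_of_mul_eq_one_right hb])
    rw [Nat.card_coe_set_eq, Set.ncard_insert_of_notMem, Set.ncard_insert_of_notMem,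
      Set.ncard_pair]
    all_goals simp [Ne.symm ha1, Ne.symm hb1, Ne.symm hab1, hab, ha1, hb1, left_eq_mul,
      right_eq_mul]
  · intro g hg
    change g ∈ ({1, a, b, a * b} : Set S) at hg
    simp only [Set.mem_insert_iff, Set.mem_singleton_iff] at hg
    rcases hg with rfl | rfl | rfl | rfl
    exacts [one_mul 1, ha, hb, h7]

/-- Index two from one outside element. -/
theorem relIndex_eq_two {H K : Subgroup S} {a : S} (haK : a ∈ K) (haH : a ∉ H)
    (h : ∀ b ∈ K, b ∈ H ∨ b * a ∈ H) : H.relIndex K = 2 := by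
  rw [relIndex_eq_two_iff]
  refine ⟨a, haK, fun b hb => ?_⟩
  rcases h b hb with h1 | h1
  · exact Or.inr ⟨h1, fun h2 => haH (by simpa using mul_mem (inv_mem h1) h2)⟩
  · exact Or.inl ⟨h1, fun h2 => haH (by simpa using mul_mem (inv_mem h2) h1)⟩

theorem card_classes_one {P : S → Prop} {a : S} (ha : P a) (h : ∀ t, P t → IsConj t a) :
    Nat.card {C : ConjClasses S // ∃ t, P t ∧ ConjClasses.mk t = C} = 1 := by
  rw [Nat.card_eq_one_iff_unique]
  refine ⟨⟨fun ⟨C, t, ht, hC⟩ ⟨C', t', ht', hC'⟩ => Subtype.ext ?_⟩, ⟨⟨_, a, ha, rfl⟩⟩⟩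
  subst hC hC'
  show ConjClasses.mk t = ConjClasses.mk t'
  rw [ConjClasses.mk_eq_mk_iff_isConj]
  exact (h t ht).trans (h t' ht').symm

theorem card_classes_two {P : S → Prop} {a b : S} (ha : P a) (hb : P b) (hab : ¬ IsConj a b)
    (h : ∀ t, P t → IsConj t a ∨ IsConj t b) :
    Nat.card {C : ConjClasses S // ∃ t, P t ∧ ConjClasses.mk t = C} = 2 := by
  rw [Nat.card_eq_two_iff]
  refine ⟨⟨_, a, ha, rfl⟩, ⟨_, b, hb, rfl⟩, ?_, ?_⟩
  · intro e
    exact hab (ConjClasses.mk_eq_mk_iff_isConj.1 (congrArg Subtype.val e))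
  · refine Set.eq_univ_iff_forall.2 ?_
    rintro ⟨C, t, ht, rfl⟩
    rcases h t ht with e | e
    · exact Or.inl (Subtype.ext (ConjClasses.mk_eq_mk_iff_isConj.2 e))
    · exact Or.inr (Subtype.ext (ConjClasses.mk_eq_mk_iff_isConj.2 e))

theorem card_classes_three {P : S → Prop} {a b c : S} (ha : P a) (hb : P b) (hc : P c)
    (hab : ¬ IsConj a b) (hac : ¬ IsConj a c) (hbc : ¬ IsConj b c)
    (h : ∀ t, P t → IsConj t a ∨ IsConj t b ∨ IsConj t c) :
    Nat.card {C : ConjClasses S // ∃ t, P t ∧ ConjClasses.mk t = C} = 3 := by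
  classical
  have hne : ∀ {u v : S}, ¬ IsConj u v → ConjClasses.mk u ≠ ConjClasses.mk v := fun huv e =>
    huv (ConjClasses.mk_eq_mk_iff_isConj.1 e)
  have : {C : ConjClasses S | ∃ t, P t ∧ ConjClasses.mk t = C} =
      {ConjClasses.mk a, ConjClasses.mk b, ConjClasses.mk c} := by
    ext C
    simp only [Set.mem_setOf_eq, Set.mem_insert_iff, Set.mem_singleton_iff]
    constructor
    · rintro ⟨t, ht, rfl⟩
      simpa only [ConjClasses.mk_eq_mk_iff_isConj] using h t ht
    · rintro (rfl | rfl | rfl)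
      exacts [⟨a, ha, rfl⟩, ⟨b, hb, rfl⟩, ⟨c, hc, rfl⟩]
  change Nat.card ({C : ConjClasses S | ∃ t, P t ∧ ConjClasses.mk t = C} : Set _) = 3
  rw [this, Nat.card_coe_set_eq]
  exact Set.ncard_eq_three.2 ⟨_, _, _, hne hab, hne hac, hne hbc, rfl⟩

theorem card_quaternion8 {Q : Subgroup S} (e : Q ≃* QuaternionGroup 2) : Nat.card Q = 8 := by
  rw [Nat.card_congr e.toEquiv, Nat.card_eq_fintype_card, QuaternionGroup.card]

theorem quaternion8_pow_four {Q : Subgroup S} (e : Q ≃* QuaternionGroup 2) {g : S} (hg : g ∈ Q) :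
    g * g * (g * g) = 1 := by
  have h : ∀ q : QuaternionGroup 2, q * q * (q * q) = 1 := by decide
  have := h (e ⟨g, hg⟩)
  rw [← map_mul, ← map_mul, EmbeddingLike.map_eq_one_iff] at this
  exact congrArg Subtype.val this

theorem quaternion8_sq_eq_one {Q : Subgroup S} (e : Q ≃* QuaternionGroup 2) {g h : S} (hg : g ∈ Q)
    (hh : h ∈ Q) (hg2 : g * g = 1) : g * h = h * g := by
  have hd : ∀ q r : QuaternionGroup 2, q * q = 1 → q * r = r * q := by decide
  have := hd (e ⟨g, hg⟩) (e ⟨h, hh⟩) (by rw [← map_mul]; simp [hg2])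
  rw [← map_mul, ← map_mul, EmbeddingLike.apply_eq_iff_eq] at this
  exact congrArg Subtype.val this

theorem quaternion8_inverts {Q : Subgroup S} (e : Q ≃* QuaternionGroup 2) {g h : S} (hg : g ∈ Q)
    (hh : h ∈ Q) (hne : g * h ≠ h * g) : g * h * g⁻¹ = h⁻¹ ∧ g * g = h * h ∧ g * g ≠ 1 := by
  have hd : ∀ q r : QuaternionGroup 2, q * r ≠ r * q →
      q * r * q⁻¹ = r⁻¹ ∧ q * q = r * r ∧ q * q ≠ 1 := by decide
  have := hd (e ⟨g, hg⟩) (e ⟨h, hh⟩) (by
    rw [← map_mul, ← map_mul, ne_eq, EmbeddingLike.apply_eq_iff_eq]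
    exact fun e' => hne (congrArg Subtype.val e'))
  rw [← map_mul, ← map_mul, ← map_inv, ← map_inv, ← map_mul, EmbeddingLike.apply_eq_iff_eq,
    ← map_mul, EmbeddingLike.apply_eq_iff_eq, ne_eq, EmbeddingLike.map_eq_one_iff] at this
  exact ⟨congrArg Subtype.val this.1, congrArg Subtype.val this.2.1,
    fun h' => this.2.2 (Subtype.ext h')⟩

theorem quaternion8_not_comm {Q : Subgroup S} (e : Q ≃* QuaternionGroup 2) :
    ∃ g ∈ Q, ∃ h ∈ Q, g * h ≠ h * g := by
  refine ⟨e.symm (.a 1), (e.symm (.a 1)).2, e.symm (.xa 0), (e.symm (.xa 0)).2, fun h => ?_⟩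
  have h' := congrArg e (Subtype.ext h : e.symm (.a 1) * e.symm (.xa 0) = e.symm (.xa 0) * e.symm (.a 1))
  simp only [map_mul, MulEquiv.apply_symm_apply] at h'
  revert h'; decide

theorem quaternion8_central_sq {Q : Subgroup S} (e : Q ≃* QuaternionGroup 2) {g : S} (hg : g ∈ Q)
    (h : ∀ u ∈ Q, g * u = u * g) : g * g = 1 := by
  have hd : ∀ q : QuaternionGroup 2, (∀ r, q * r = r * q) → q * q = 1 := by decide
  have := hd (e ⟨g, hg⟩) fun r => by
    rw [← e.apply_symm_apply r, ← map_mul, ← map_mul]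
    exact congrArg e (Subtype.ext (h _ (e.symm r).2))
  rw [← map_mul, EmbeddingLike.map_eq_one_iff] at this
  exact congrArg Subtype.val this

end CfsgLib.TwoGroups
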