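import Cfsg.Agent.TwoGroups.Semidihedral
import Cfsg.Agent.TwoGroups.Basic
import Mathlib.GroupTheory.Frattini
import Mathlib.GroupTheory.Abelianization.Defs

/-!
# Subgroups of semidihedral groups
-/

namespace CfsgLib.TwoGroups

open Subgroup

variable {S : Type*} [Group S] {n : ℕ} {x y : S} (d : SDPair n x y)
include d

theorem SDPair.z_sq : x ^ hh n * x ^ hh n = 1 := d.sq_eq_one_iff.2 dvd_rfl

theorem SDPair.z_ne_one : x ^ hh n ≠ 1 := fun h => by
  have := d.orderOf_z; rw [h, orderOf_one] at this; omega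

theorem SDPair.zpow_y_sq {i : ℤ} (hi : 2 ∣ i) : x ^ i * y * (x ^ i * y) = 1 := by
  rw [← sq, ← d.orderOf_zpow_y_even hi, pow_orderOf_eq_one]

theorem SDPair.zpow_y_ne_one (i : ℤ) : x ^ i * y ≠ 1 := fun h =>
  d.zpow_y_notMem i (h ▸ one_mem _)

theorem SDPair.zpow_y_ne_zpow (i j : ℤ) : x ^ i * y ≠ x ^ j := fun h =>
  d.zpow_y_notMem i (h ▸ zpow_mem_zpowers x j)

/-- A four-group contains the central involution and a reflection. -/
theorem SDPair.kleinFour_structure {T : Subgroup S} (hT : IsKleinFour T) :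
    x ^ hh n ∈ T ∧ ∃ i : ℤ, 2 ∣ i ∧ x ^ i * y ∈ T ∧
      ∀ g, g ∈ T ↔ g = 1 ∨ g = x ^ hh n ∨ g = x ^ i * y ∨ g = x ^ hh n * (x ^ i * y) := by
  obtain ⟨hc, h2⟩ := isKleinFour_iff.1 hT
  have hclass : ∀ g ∈ T, g = 1 ∨ g = x ^ hh n ∨ ∃ i : ℤ, 2 ∣ i ∧ g = x ^ i * y := by
    intro g hg
    by_cases h1 : g = 1
    · exact Or.inl h1
    · exact Or.inr (d.orderOf_eq_two_iff.1 (orderOf_eq_prime (by rw [sq, h2 g hg]) h1))
  haveI : Finite T := Nat.finite_of_card_ne_zero (by omega)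
  obtain ⟨i, hi, hiT⟩ : ∃ i : ℤ, 2 ∣ i ∧ x ^ i * y ∈ T := by
    by_contra hne
    push Not at hne
    have hsub : (T : Set S) ⊆ {1, x ^ hh n} := fun g hg => by
      rcases hclass g hg with h | h | ⟨i, hi, h⟩
      · exact Or.inl h
      · exact Or.inr h
      · exact absurd (h ▸ hg) (hne i hi)
    have := Set.ncard_le_ncard hsub (Set.toFinite _)
    rw [← Nat.card_coe_set_eq] at this
    change Nat.card T ≤ _ at this
    rw [hc, Set.ncard_pair d.z_ne_one.symm] at this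
    omega
  have hz : x ^ hh n ∈ T := by
    by_contra hz
    have hsub : (T : Set S) ⊆ {1, x ^ i * y} := fun g hg => by
      rcases hclass g hg with h | h | ⟨l, hl, h⟩
      · exact Or.inl h
      · exact absurd (h ▸ hg) hz
      · by_cases he : g = x ^ i * y
        · exact Or.inr he
        · exfalso
          have hc := (d.commute_zpow_y).1 (klein_mul_comm hT (h ▸ hg) hiT)
          rcases d.zpow_of_hh_dvd hc with e | e
          · apply he
            rw [h, show l = (l - i) + i by ring, zpow_add, e, one_mul]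
          · apply hz
            rw [← e]
            have := mul_mem (h ▸ hg) (inv_mem hiT)
            rwa [mul_inv_rev, ← mul_assoc, mul_inv_cancel_right, ← zpow_neg, ← zpow_add,
              ← sub_eq_add_neg] at this
    have := Set.ncard_le_ncard hsub (Set.toFinite _)
    rw [← Nat.card_coe_set_eq] at this
    change Nat.card T ≤ _ at this
    rw [hc, Set.ncard_pair (d.zpow_y_ne_one i).symm] at this
    omega
  exact ⟨hz, i, hi, hiT, klein_mem_iff hT hz hiT d.z_ne_one (d.zpow_y_ne_one i)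
    (fun h => d.zpow_y_ne_zpow i _ h.symm)⟩

theorem SDPair.exists_conj_kleinFour {T₁ T₂ : Subgroup S} (h₁ : IsKleinFour T₁)
    (h₂ : IsKleinFour T₂) : ∃ s : S, T₁.map (MulAut.conj s).toMonoidHom = T₂ := by
  obtain ⟨-, i, hi, -, m₁⟩ := d.kleinFour_structure h₁
  obtain ⟨-, k, hk, -, m₂⟩ := d.kleinFour_structure h₂
  obtain ⟨j, hj⟩ := d.exists_conj (i := i) (i' := k) (dvd_sub hk hi)
  refine ⟨x ^ j, ?_⟩
  have e2 : x ^ j * x ^ hh n * (x ^ j)⁻¹ = x ^ hh n := by
    rw [← zpow_neg, ← zpow_add, ← zpow_add]; congr 1; ring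
  have e4 : x ^ j * (x ^ hh n * (x ^ i * y)) * (x ^ j)⁻¹ = x ^ hh n * (x ^ k * y) := by
    calc _ = (x ^ j * x ^ hh n * (x ^ j)⁻¹) * (x ^ j * (x ^ i * y) * (x ^ j)⁻¹) := by group
      _ = _ := by rw [e2, hj]
  ext g
  rw [m₂ g]
  constructor
  · rintro ⟨t, ht, rfl⟩
    simp only [MulEquiv.coe_toMonoidHom, MulAut.conj_apply]
    rcases (m₁ t).1 ht with rfl | rfl | rfl | rfl
    · simp
    · exact Or.inr (Or.inl e2)
    · exact Or.inr (Or.inr (Or.inl hj))
    · exact Or.inr (Or.inr (Or.inr e4))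
  · rintro (rfl | rfl | rfl | rfl)
    · exact one_mem _
    · exact ⟨_, (m₁ _).2 (Or.inr (Or.inl rfl)), e2⟩
    · exact ⟨_, (m₁ _).2 (Or.inr (Or.inr (Or.inl rfl))), hj⟩
    · exact ⟨_, (m₁ _).2 (Or.inr (Or.inr (Or.inr rfl))), e4⟩

theorem SDPair.centralizer_kleinFour {T : Subgroup S} (hT : IsKleinFour T) :
    Subgroup.centralizer (T : Set S) = T := by
  obtain ⟨hz, i, hi, hiT, m⟩ := d.kleinFour_structure hT
  refine le_antisymm (fun g hg => ?_) fun g hg t ht => klein_mul_comm hT ht hg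
  have hc : Commute g (x ^ i * y) := (hg _ hiT).symm
  obtain ⟨l, rfl | rfl⟩ := d.eq_cases g
  · rcases d.zpow_of_hh_dvd (d.commute_zpow_zpow_y.1 hc) with e | e <;> rw [e]
    · exact one_mem T
    · exact hz
  · rw [show l = (l - i) + i by ring, zpow_add, mul_assoc]
    refine mul_mem ?_ hiT
    rcases d.zpow_of_hh_dvd (d.commute_zpow_y.1 hc) with e | e <;> rw [e]
    · exact one_mem T
    · exact hz

theorem SDPair.relIndex_kleinFour {T : Subgroup S} (hT : IsKleinFour T) :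
    T.relIndex (Subgroup.normalizer (T : Set S)) = 2 := by
  obtain ⟨hz, i, hi, hiT, m⟩ := d.kleinFour_structure hT
  obtain ⟨j, hj⟩ := d.exists_conj (i := i) (i' := hh n + i)
    (by rw [show hh n + i - i = hh n by ring, d.hh_eq]; exact dvd_mul_right 2 _)
  have hj' : x ^ j * (x ^ i * y) * (x ^ j)⁻¹ = x ^ hh n * (x ^ i * y) := by
    rw [hj, zpow_add, mul_assoc]
  have hcz : ∀ g : S, g * x ^ hh n * g⁻¹ = x ^ hh n := fun g => by
    rw [Subgroup.mem_center_iff.1 d.z_mem_center g, mul_inv_cancel_right]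
  haveI := d.finite
  have hmem : ∀ g : S, g * (x ^ i * y) * g⁻¹ ∈ T → g ∈ normalizer (T : Set S) := by
    intro g hg
    apply Subgroup.mem_normalizer_iff_map_conj_eq.2
    refine eq_of_le_of_card_ge ?_ (card_map_of_injective (MulAut.conj g).injective).ge
    rintro _ ⟨t, ht, rfl⟩
    show g * t * g⁻¹ ∈ T
    rcases (m t).1 ht with rfl | rfl | rfl | rfl
    · simp
    · rw [hcz]; exact hz
    · exact hg
    · rw [show g * (x ^ hh n * (x ^ i * y)) * g⁻¹ =
        (g * x ^ hh n * g⁻¹) * (g * (x ^ i * y) * g⁻¹) by group, hcz]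
      exact mul_mem hz hg
  have hjT : x ^ j ∉ T := by
    intro h
    have := klein_mul_comm hT h hiT
    rw [this, mul_inv_cancel_right, right_eq_mul] at hj'
    exact d.z_ne_one hj'
  refine relIndex_eq_two (a := x ^ j) (hmem _ (hj' ▸ mul_mem hz hiT)) hjT fun b hb => ?_
  have hb' : b * (x ^ i * y) * b⁻¹ ∈ T := (Subgroup.mem_normalizer_iff.1 hb _).1 hiT
  have hcent : ∀ g : S, Commute g (x ^ i * y) → g ∈ T := fun g hg => by
    rw [← d.centralizer_kleinFour hT]
    intro t ht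
    rcases (m t).1 ht with rfl | rfl | rfl | rfl
    · simp
    · exact (Subgroup.mem_center_iff.1 d.z_mem_center g).symm
    · exact hg.eq.symm
    · exact (Commute.mul_right (Subgroup.mem_center_iff.1 d.z_mem_center g :
        Commute g (x ^ hh n)) hg).eq.symm
  rcases (m _).1 hb' with e | e | e | e
  · exact absurd (mul_eq_left.1 (mul_inv_eq_one.1 e)) (d.zpow_y_ne_one i)
  · exfalso
    have : x ^ i * y = x ^ hh n := by
      calc x ^ i * y = b⁻¹ * (b * (x ^ i * y) * b⁻¹) * b := by group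
        _ = b⁻¹ * (b * x ^ hh n * b⁻¹) * b := by rw [e, hcz]
        _ = x ^ hh n := by group
    exact d.zpow_y_ne_zpow i _ this
  · exact Or.inl (hcent b (mul_inv_eq_iff_eq_mul.1 e))
  · right
    refine hcent _ (mul_inv_eq_iff_eq_mul.1 ?_)
    rw [show b * x ^ j * (x ^ i * y) * (b * x ^ j)⁻¹ =
      b * (x ^ j * (x ^ i * y) * (x ^ j)⁻¹) * b⁻¹ by group, hj',
      show b * (x ^ hh n * (x ^ i * y)) * b⁻¹ =
        (b * x ^ hh n * b⁻¹) * (b * (x ^ i * y) * b⁻¹) by group, hcz, e, ← mul_assoc, d.z_sq,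
      one_mul]

/-- A quaternion subgroup of order 8 is `⟨x^(2^(n-2)), x^i y⟩` with `i` odd. -/
theorem SDPair.quaternion_structure {Q : Subgroup S} (e : Q ≃* QuaternionGroup 2) :
    x ^ qq n ∈ Q ∧ ∃ i : ℤ, ¬ 2 ∣ i ∧ x ^ i * y ∈ Q ∧
      ∀ g, g ∈ Q ↔ ∃ k : ℤ, g = x ^ (qq n * k) ∨ g = x ^ (qq n * k + i) * y := by
  have hin : ∀ l : ℤ, x ^ l ∈ Q → qq n ∣ l := by
    intro l hl
    have := quaternion8_pow_four e hl
    rw [← zpow_add, d.sq_eq_one_iff, show l + l = 2 * l by ring, d.hh_eq,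
      mul_dvd_mul_iff_left two_ne_zero] at this
    exact this
  obtain ⟨g, hg, g', hg', hne⟩ := quaternion8_not_comm e
  obtain ⟨l, hl⟩ : ∃ l : ℤ, x ^ l * y ∈ Q := by
    rcases d.eq_cases g with ⟨a, rfl | rfl⟩
    · rcases d.eq_cases g' with ⟨b, rfl | rfl⟩
      · exact absurd ((Commute.refl x).zpow_zpow a b).eq hne
      · exact ⟨b, hg'⟩
    · exact ⟨a, hg⟩
  have hodd : ¬ 2 ∣ l := by
    intro h2
    have hcomm := fun h hh' => quaternion8_sq_eq_one e (h := h) hl hh' (d.zpow_y_sq h2)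
    have h1 : Commute g (x ^ l * y) := (hcomm g hg).symm
    have h2' : Commute g' (x ^ l * y) := (hcomm g' hg').symm
    have hcase : ∀ u : S, Commute u (x ^ l * y) →
        ∃ a : ℤ, hh n ∣ a ∧ (u = x ^ a ∨ u = x ^ a * (x ^ l * y)) := by
      intro u hu
      obtain ⟨a, rfl | rfl⟩ := d.eq_cases u
      · exact ⟨a, d.commute_zpow_zpow_y.1 hu, Or.inl rfl⟩
      · exact ⟨a - l, d.commute_zpow_y.1 hu,
          Or.inr (by rw [← mul_assoc, ← zpow_add, sub_add_cancel])⟩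
    have hz : ∀ a : ℤ, hh n ∣ a → ∀ u : S, Commute (x ^ a) u := fun a ha u => by
      rcases d.zpow_of_hh_dvd ha with e | e <;> rw [e]
      · exact Commute.one_left u
      · exact (Subgroup.mem_center_iff.1 d.z_mem_center u).symm
    obtain ⟨a, ha, hga⟩ := hcase g h1
    obtain ⟨b, hb, hgb⟩ := hcase g' h2'
    apply hne
    rcases hga with rfl | rfl
    · exact (hz a ha g').eq
    · refine ((hz a ha g').mul_left ?_).eq
      rcases hgb with rfl | rfl
      · exact (hz b hb _).symm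
      · exact ((hz b hb _).mul_left (Commute.refl _)).symm
  have hz : x ^ hh n ∈ Q := d.sq_zpow_y_odd hodd ▸ mul_mem hl hl
  have hw : x ^ qq n ∈ Q := by
    by_contra hw
    have hsub : ∀ u ∈ Q, u * (x ^ l * y) = (x ^ l * y) * u := by
      intro u hu
      have hcase : ∀ a : ℤ, x ^ a ∈ Q → Commute (x ^ a) (x ^ l * y) := by
        intro a ha
        obtain ⟨k, rfl⟩ := hin a ha
        rcases Int.even_or_odd' k with ⟨m, rfl | rfl⟩
        · exact d.commute_zpow_zpow_y.2 ⟨m, by rw [d.hh_eq]; ring⟩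
        · exfalso; apply hw
          have h1 : x ^ (qq n * (2 * m)) ∈ Q := by
            rw [show qq n * (2 * m) = hh n * m by rw [d.hh_eq]; ring, zpow_mul]
            exact zpow_mem hz m
          have h2 := mul_mem ha (inv_mem h1)
          rwa [← zpow_neg, ← zpow_add,
            show qq n * (2 * m + 1) + -(qq n * (2 * m)) = qq n by ring] at h2
      obtain ⟨a, rfl | rfl⟩ := d.eq_cases u
      · exact (hcase a hu).eq
      · have h1 := mul_mem hu (inv_mem hl)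
        have e1 : x ^ a * y * (x ^ l * y)⁻¹ = x ^ (a - l) := by
          rw [mul_inv_rev, ← mul_assoc, mul_inv_cancel_right, ← zpow_neg, ← zpow_add,
            sub_eq_add_neg]
        rw [e1] at h1
        have e2 : x ^ a * y = x ^ (a - l) * (x ^ l * y) := by
          rw [← mul_assoc, ← zpow_add, sub_add_cancel]
        rw [e2]
        exact ((hcase _ h1).mul_left (Commute.refl _)).eq
    exact d.z_ne_one (d.sq_zpow_y_odd hodd ▸
      quaternion8_central_sq e hl fun u hu => (hsub u hu).symm)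
  refine ⟨hw, l, hodd, hl, fun u => ⟨fun hu => ?_, ?_⟩⟩
  · obtain ⟨a, rfl | rfl⟩ := d.eq_cases u
    · obtain ⟨k, rfl⟩ := hin a hu
      exact ⟨k, Or.inl rfl⟩
    · have h1 := mul_mem hu (inv_mem hl)
      rw [mul_inv_rev, ← mul_assoc, mul_inv_cancel_right, ← zpow_neg, ← zpow_add] at h1
      obtain ⟨k, hk⟩ := hin _ h1
      exact ⟨k, Or.inr (by rw [show a = qq n * k + l by linarith])⟩
  · rintro ⟨k, rfl | rfl⟩
    · rw [zpow_mul]; exact zpow_mem hw k
    · rw [zpow_add, mul_assoc, zpow_mul]; exact mul_mem (zpow_mem hw k) hl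

theorem SDPair.exists_conj_quaternion {Q₁ Q₂ : Subgroup S} (e₁ : Q₁ ≃* QuaternionGroup 2)
    (e₂ : Q₂ ≃* QuaternionGroup 2) : ∃ s : S, Q₁.map (MulAut.conj s).toMonoidHom = Q₂ := by
  obtain ⟨-, i, hi, -, m₁⟩ := d.quaternion_structure e₁
  obtain ⟨hw, k, hk, hkQ, m₂⟩ := d.quaternion_structure e₂
  obtain ⟨j, hj⟩ := d.exists_conj (i := i) (i' := k) (by omega)
  haveI := d.finite
  refine ⟨x ^ j, eq_of_le_of_card_ge ?_ ?_⟩
  · rintro _ ⟨t, ht, rfl⟩
    show x ^ j * t * (x ^ j)⁻¹ ∈ Q₂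
    obtain ⟨l, rfl | rfl⟩ := (m₁ t).1 ht
    · rw [← zpow_neg, ← zpow_add, ← zpow_add, show j + qq n * l + -j = qq n * l by ring, zpow_mul]
      exact zpow_mem hw l
    · rw [zpow_add, show x ^ j * (x ^ (qq n * l) * x ^ i * y) * (x ^ j)⁻¹ =
        x ^ (qq n * l) * (x ^ j * (x ^ i * y) * (x ^ j)⁻¹) by group, hj, zpow_mul]
      exact mul_mem (zpow_mem hw l) hkQ
  · rw [card_map_of_injective (MulAut.conj (x ^ j)).injective, card_quaternion8 e₁,
      card_quaternion8 e₂]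

theorem SDPair.centralizer_quaternion {Q : Subgroup S} (e : Q ≃* QuaternionGroup 2) :
    Subgroup.centralizer (Q : Set S) = (Subgroup.center Q).map Q.subtype := by
  obtain ⟨hw, i, hi, hiQ, m⟩ := d.quaternion_structure e
  refine le_antisymm (fun g hg => ?_) ?_
  · have hgQ : g ∈ Q := by
      obtain ⟨a, rfl | rfl⟩ := d.eq_cases g
      · rcases d.zpow_of_hh_dvd (d.commute_zpow_zpow_y.1 (hg _ hiQ).symm) with h | h <;> rw [h]
        · exact one_mem Q
        · rw [d.hh_eq, mul_comm, zpow_mul]; exact zpow_mem hw 2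
      · exfalso
        have h1 := d.conj_zpow_qq _ (d.zpow_y_notMem a)
        rw [(hg _ hw).symm, mul_inv_cancel_right, d.zpow_eq] at h1
        obtain ⟨c, hc⟩ := h1
        rw [d.hh_eq] at hc
        have hq : qq n ≠ 0 := (pow_pos two_pos _).ne'
        have : (-2 : ℤ) = 4 * c := mul_left_cancel₀ hq (by linarith)
        omega
    exact ⟨⟨g, hgQ⟩, Subgroup.mem_center_iff.2 fun u => Subtype.ext (hg u u.2), rfl⟩
  · rintro _ ⟨g, hg, rfl⟩ u hu
    exact congrArg Subtype.val (Subgroup.mem_center_iff.1 hg ⟨u, hu⟩)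

theorem SDPair.relIndex_quaternion {Q : Subgroup S} (e : Q ≃* QuaternionGroup 2) :
    Q.relIndex (Subgroup.normalizer (Q : Set S)) = 2 := by
  obtain ⟨hw, i, hi, hiQ, m⟩ := d.quaternion_structure e
  haveI := d.finite
  obtain ⟨q', hq'⟩ := d.even_qq
  have hqpos : qq n ≠ 0 := (pow_pos two_pos _).ne'
  have hzpow : ∀ a : ℤ, x ^ a ∈ Q ↔ qq n ∣ a := by
    intro a
    constructor
    · intro ha
      obtain ⟨k, h | h⟩ := (m _).1 ha
      · rw [d.zpow_eq, d.hh_eq] at h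
        obtain ⟨c, hc⟩ := h
        exact ⟨k - 4 * c, by rw [mul_sub, ← mul_assoc]; linarith⟩
      · exact absurd h.symm (d.zpow_y_ne_zpow _ _)
    · rintro ⟨k, rfl⟩; exact (m _).2 ⟨k, Or.inl rfl⟩
  have hnorm : ∀ a : ℤ, x ^ a ∈ normalizer (Q : Set S) ↔ q' ∣ a := by
    intro a
    constructor
    · intro ha
      have h1 := (Subgroup.mem_normalizer_iff.1 ha _).1 hiQ
      rw [d.conj_zpow_y] at h1
      obtain ⟨k, h | h⟩ := (m _).1 h1
      · exact absurd h (d.zpow_y_ne_zpow _ _)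
      · rw [d.zpow_y_inj, d.hh_eq] at h
        obtain ⟨c, hc⟩ := h
        refine ⟨k + 2 * a - 4 * c, mul_left_cancel₀ two_ne_zero ?_⟩
        rw [hq'] at hc; linear_combination -hc
    · rintro ⟨k, rfl⟩
      apply Subgroup.mem_normalizer_iff_map_conj_eq.2
      refine eq_of_le_of_card_ge ?_ (card_map_of_injective (MulAut.conj _).injective).ge
      rintro _ ⟨t, ht, rfl⟩
      show x ^ (q' * k) * t * (x ^ (q' * k))⁻¹ ∈ Q
      obtain ⟨l, rfl | rfl⟩ := (m t).1 ht
      · rw [← zpow_neg, ← zpow_add, ← zpow_add, hzpow]; exact ⟨l, by ring⟩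
      · rw [d.conj_zpow_y]
        exact (m _).2 ⟨l + k * (1 - qq n), Or.inr (by
          congr 2; rw [d.hh_eq, hq']; ring)⟩
  have hns : x ^ i * y ∈ normalizer (Q : Set S) := le_normalizer hiQ
  refine relIndex_eq_two (a := x ^ q') ((hnorm q').2 dvd_rfl) ?_ fun b hb => ?_
  · rw [hzpow]
    rintro ⟨c, hc⟩
    rw [hq'] at hc
    have hq0 : q' ≠ 0 := fun h0 => hqpos (by rw [hq', h0, mul_zero])
    have : (1 : ℤ) = 2 * c := mul_left_cancel₀ hq0 (by linarith)
    omega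
  · have key : ∀ a : ℤ, x ^ a ∈ normalizer (Q : Set S) →
        x ^ a ∈ Q ∨ x ^ (a + q') ∈ Q := by
      intro a ha
      obtain ⟨k, rfl⟩ := (hnorm a).1 ha
      rcases Int.even_or_odd' k with ⟨c, rfl | rfl⟩
      · exact Or.inl ((hzpow _).2 ⟨c, by rw [hq']; ring⟩)
      · exact Or.inr ((hzpow _).2 ⟨c + 1, by rw [hq']; ring⟩)
    obtain ⟨a, rfl | rfl⟩ := d.eq_cases b
    · rw [← zpow_add]; exact key a hb
    · have e1 : x ^ a * y = x ^ (a - i) * (x ^ i * y) := by
        rw [← mul_assoc, ← zpow_add, sub_add_cancel]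
      have ha : x ^ (a - i) ∈ normalizer (Q : Set S) := by
        have h := mul_mem hb (inv_mem hns)
        rw [e1, mul_inv_cancel_right] at h; exact h
      rw [e1]
      rcases key _ ha with h | h
      · exact Or.inl (mul_mem h hiQ)
      · right
        have e2 : x ^ (a - i) * (x ^ i * y) * x ^ q' =
            x ^ (a - i + q') * x ^ ((hh n - 2) * q') * (x ^ i * y) := by
          rw [← mul_assoc (x ^ (a - i)), ← zpow_add, mul_assoc _ y, d.y_mul, ← mul_assoc,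
            ← mul_assoc, ← zpow_add, ← zpow_add, ← zpow_add]
          congr 2; ring
        rw [e2]
        exact mul_mem (mul_mem h ((hzpow _).2 ⟨qq n - 1, by rw [d.hh_eq, hq']; ring⟩)) hiQ

/-- The subgroup `⟨x², x^ε y⟩`. -/
def SDPair.maxSub (ε : ℤ) : Subgroup S where
  carrier := {g | ∃ k : ℤ, g = x ^ (2 * k) ∨ g = x ^ (2 * k + ε) * y}
  one_mem' := ⟨0, Or.inl (by simp)⟩
  mul_mem' := by
    rintro a b ⟨k, rfl | rfl⟩ ⟨l, rfl | rfl⟩
    · exact ⟨k + l, Or.inl (by rw [← zpow_add]; congr 1; ring)⟩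
    · exact ⟨k + l, Or.inr (by rw [← mul_assoc, ← zpow_add]; congr 2; ring)⟩
    · refine ⟨k + (hh n - 1) * l, Or.inr ?_⟩
      rw [mul_assoc, d.y_mul, ← mul_assoc, ← zpow_add]; congr 2; ring
    · refine ⟨k + (hh n - 1) * l + qq n * ε, Or.inl ?_⟩
      rw [mul_assoc, ← mul_assoc y, d.y_mul, mul_assoc, d.y_mul_y, mul_one, ← zpow_add]
      congr 1; rw [d.hh_eq]; ring
  inv_mem' := by
    rintro a ⟨k, rfl | rfl⟩
    · exact ⟨-k, Or.inl (by rw [← zpow_neg]; congr 1; ring)⟩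
    · refine ⟨(hh n - 1) * (-k) - qq n * ε, Or.inr ?_⟩
      rw [mul_inv_rev, d.y_inv, ← zpow_neg, d.y_mul]; congr 2; rw [d.hh_eq]; ring

theorem SDPair.mem_maxSub {ε : ℤ} {g : S} :
    g ∈ d.maxSub ε ↔ ∃ k : ℤ, g = x ^ (2 * k) ∨ g = x ^ (2 * k + ε) * y := Iff.rfl

theorem SDPair.zpow_mem_maxSub {ε a : ℤ} : x ^ a ∈ d.maxSub ε ↔ 2 ∣ a := by
  constructor
  · rintro ⟨k, h | h⟩
    · rw [d.zpow_eq] at h
      obtain ⟨c, hc⟩ := h
      exact ⟨k - hh n * c, by linarith⟩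
    · exact absurd h.symm (d.zpow_y_ne_zpow _ _)
  · rintro ⟨k, rfl⟩; exact ⟨k, Or.inl rfl⟩

theorem SDPair.zpow_y_mem_maxSub {ε a : ℤ} : x ^ a * y ∈ d.maxSub ε ↔ 2 ∣ a - ε := by
  constructor
  · rintro ⟨k, h | h⟩
    · exact absurd h (d.zpow_y_ne_zpow _ _)
    · rw [d.zpow_y_inj] at h
      obtain ⟨c, hc⟩ := h
      exact ⟨k - hh n * c, by linarith⟩
  · rintro ⟨k, hk⟩; exact ⟨k, Or.inr (by congr 2; linarith)⟩

theorem SDPair.index_maxSub (ε : ℤ) : (d.maxSub ε).index = 2 := by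
  rw [← relIndex_top_right]
  refine relIndex_eq_two (a := x ^ (1 : ℤ)) (mem_top _) (by rw [d.zpow_mem_maxSub]; omega)
    fun b _ => ?_
  obtain ⟨a, rfl | rfl⟩ := d.eq_cases b
  · rcases Int.even_or_odd' a with ⟨c, rfl | rfl⟩
    · exact Or.inl (d.zpow_mem_maxSub.2 ⟨c, rfl⟩)
    · exact Or.inr (by rw [← zpow_add, d.zpow_mem_maxSub]; omega)
  · rw [mul_assoc, d.y_mul, ← mul_assoc, ← zpow_add, d.zpow_y_mem_maxSub, d.zpow_y_mem_maxSub,
      d.hh_eq]
    omega

theorem SDPair.card_maxSub (ε : ℤ) : Nat.card (d.maxSub ε) = 2 ^ n := by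
  have h := (d.maxSub ε).card_mul_index
  rw [d.index_maxSub, d.card, pow_succ] at h
  exact mul_right_cancel₀ two_ne_zero h

theorem SDPair.isCoatom_of_index_two {M : Subgroup S} (h : M.index = 2) : IsCoatom M := by
  refine ⟨fun e => by rw [e, index_top] at h; omega, fun K hK => ?_⟩
  rw [← index_eq_one]
  have h2 := relIndex_mul_index hK.le
  rw [h] at h2
  have hne : M.relIndex K ≠ 1 := fun h1 => hK.not_ge (relIndex_eq_one.1 h1)
  rcases (Nat.dvd_prime Nat.prime_two).1 (Dvd.intro _ h2) with h3 | h3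
  · exact absurd h3 hne
  · rw [h3] at h2; omega

/-- `x²` lies in any normal subgroup not contained in `⟨x²⟩`. -/
theorem SDPair.sq_mem_of_normal {N : Subgroup S} (hN : N.Normal) {g : S} (hg : g ∈ N)
    (h : g ∉ zpowers (x ^ (2 : ℤ))) : x ^ (2 : ℤ) ∈ N := by
  have hx : x ^ (2 : ℤ) ∈ zpowers (x ^ (2 - hh n)) := by
    refine ⟨1 + qq n, ?_⟩
    show (x ^ (2 - hh n)) ^ (1 + qq n) = x ^ (2 : ℤ)
    rw [← zpow_mul, d.zpow_eq]
    obtain ⟨c, hc⟩ := d.hh_dvd_sq
    refine ⟨c, ?_⟩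
    rw [d.hh_eq] at hc ⊢
    linear_combination 2 * hc
  obtain ⟨a, rfl | rfl⟩ := d.eq_cases g
  · rcases Int.even_or_odd' a with ⟨c, rfl | rfl⟩
    · exact absurd (by rw [zpow_mul]; exact zpow_mem_zpowers _ c) h
    · have hc := mul_mem hg (inv_mem (hN.conj_mem _ hg y))
      rw [d.conj_y, ← zpow_neg, ← zpow_add,
        show 2 * c + 1 + -((hh n - 1) * (2 * c + 1)) = (2 - hh n) * (2 * c + 1) by ring] at hc
      have h2 : x ^ (2 : ℤ) ∈ zpowers (x ^ ((2 - hh n) * (2 * c + 1))) := by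
        have hgx : x ∈ zpowers (x ^ (2 * c + 1)) := by
          have hcop : Nat.Coprime (2 ^ n) (Int.natAbs (2 * c + 1)) :=
            Nat.Coprime.pow_left n (Nat.prime_two.coprime_iff_not_dvd.2 (by omega))
          obtain ⟨u, v, huv⟩ := (Int.isCoprime_iff_gcd_eq_one (m := ((2 ^ n : ℕ) : ℤ))
            (n := 2 * c + 1)).2 (by simpa [Int.gcd, Int.natAbs_natCast] using hcop)
          refine ⟨v, ?_⟩
          show (x ^ (2 * c + 1)) ^ v = x
          conv_rhs => rw [← zpow_one x]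
          rw [← zpow_mul, d.zpow_eq, ← d.order_eq]
          exact ⟨u, by linarith⟩
        obtain ⟨k, hk⟩ := hx
        obtain ⟨l, hl⟩ := hgx
        have hk' : (x ^ (2 - hh n)) ^ k = x ^ (2 : ℤ) := hk
        have hl' : (x ^ (2 * c + 1)) ^ l = x := hl
        refine ⟨l * k, ?_⟩
        show (x ^ ((2 - hh n) * (2 * c + 1))) ^ (l * k) = x ^ (2 : ℤ)
        rw [← hk', ← zpow_mul, ← zpow_mul]
        conv_rhs => rw [← hl', ← zpow_mul, ← zpow_mul]
        congr 1; ring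
      exact (zpowers_le.2 hc) h2
  · have hc := mul_mem (hN.conj_mem _ hg (x ^ (1 : ℤ))) (inv_mem hg)
    rw [d.conj_zpow_y, mul_inv_rev, ← mul_assoc, mul_inv_cancel_right, ← zpow_neg, ← zpow_add,
      show a + 1 * (2 - hh n) + -a = 2 - hh n by ring] at hc
    exact (zpowers_le.2 hc) hx

theorem SDPair.commutator_eq : commutator S = zpowers (x ^ (2 : ℤ)) := by
  haveI := d.finite
  refine le_antisymm ?_ (zpowers_le.2 ?_)
  · have hle : ∀ (M : Subgroup S), M.index = 2 → commutator S ≤ M := by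
      intro M hM
      haveI := normal_of_index_eq_two hM
      haveI : Fact (Nat.Prime 2) := ⟨Nat.prime_two⟩
      haveI : IsCyclic (S ⧸ M) := isCyclic_of_prime_card (p := 2) (by rw [← index_eq_card, hM])
      refine (Normal.quotient_commutative_iff_commutator_le (N := M)).1 ⟨⟨fun a b => ?_⟩⟩
      obtain ⟨g, hg⟩ := IsCyclic.exists_generator (α := S ⧸ M)
      obtain ⟨i, rfl⟩ := hg a
      obtain ⟨k, rfl⟩ := hg b
      exact ((Commute.refl g).zpow_zpow i k).eq
    intro g hg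
    have h0 := hle _ (d.index_maxSub 0) hg
    have h1 := hle _ d.index_zpowers hg
    obtain ⟨a, ha⟩ := h1
    have ha' : x ^ a = g := ha
    rw [← ha'] at h0 ⊢
    obtain ⟨c, rfl⟩ := d.zpow_mem_maxSub.1 h0
    rw [zpow_mul]; exact zpow_mem_zpowers _ c
  · have hc : x ^ (2 - hh n) ∈ commutator S := by
      have he : x ^ (1 : ℤ) * y * (x ^ (1 : ℤ))⁻¹ * y⁻¹ = x ^ (2 - hh n) := by
        rw [← zpow_neg, mul_assoc _ y, d.y_mul, ← mul_assoc, mul_inv_cancel_right, ← zpow_add]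
        congr 1; ring
      rw [← he]
      exact Subgroup.commutator_mem_commutator (mem_top _) (mem_top _)
    have hx : x ^ (2 : ℤ) = (x ^ (2 - hh n)) ^ (1 + qq n) := by
      rw [← zpow_mul, eq_comm, d.zpow_eq]
      obtain ⟨c, hc⟩ := d.hh_dvd_sq
      refine ⟨c, ?_⟩
      rw [d.hh_eq] at hc ⊢
      linear_combination 2 * hc
    rw [hx]
    exact zpow_mem hc _

theorem SDPair.eq_maxSub_of_isCoatom {M : Subgroup S} (hM : IsCoatom M) :
    M = zpowers x ∨ M = d.maxSub 1 ∨ M = d.maxSub 0 := by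
  haveI := d.finite
  haveI : Fact (Nat.Prime 2) := ⟨Nat.prime_two⟩
  haveI := (IsPGroup.of_card (p := 2) d.card).isNilpotent
  have hn : M.Normal := (Subgroup.NormalizerCondition.normal_of_coatom M
    Group.normalizerCondition_of_isNilpotent hM)
  have hlt : zpowers (x ^ (2 : ℤ)) < zpowers x := by
    refine lt_of_le_of_ne (zpowers_le.2 (zpow_mem_zpowers x 2)) fun e => ?_
    have h1 : x ^ (1 : ℤ) ∈ d.maxSub 0 := by
      have : x ∈ zpowers (x ^ (2 : ℤ)) := e ▸ mem_zpowers x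
      rw [zpow_one]
      exact (zpowers_le.2 (d.zpow_mem_maxSub.2 dvd_rfl)) this
    have := d.zpow_mem_maxSub.1 h1
    omega
  obtain ⟨g, hg, hgnot⟩ : ∃ g ∈ M, g ∉ zpowers (x ^ (2 : ℤ)) := by
    by_contra hne
    push Not at hne
    have h1 := hM.2 _ (lt_of_le_of_lt (show M ≤ zpowers (x ^ (2 : ℤ)) from hne) hlt)
    have h2 := d.index_zpowers
    rw [h1, index_top] at h2; omega
  have h2 := d.sq_mem_of_normal hn hg hgnot
  have hsq : ∀ k : ℤ, x ^ (2 * k) ∈ M := fun k => by rw [zpow_mul]; exact zpow_mem h2 k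
  have hsub : ∀ ε : ℤ, x ^ ε * y ∈ M → d.maxSub ε ≤ M := by
    rintro ε hε u ⟨k, rfl | rfl⟩
    · exact hsq k
    · rw [zpow_add, mul_assoc]; exact mul_mem (hsq k) hε
  have hfin : ∀ L : Subgroup S, L ≤ M → L.index = 2 → M = L := fun L hle hL => by
    rcases eq_or_lt_of_le hle with e | hlt'
    · exact e.symm
    · exact absurd ((d.isCoatom_of_index_two hL).2 M hlt') hM.1
  obtain ⟨a, rfl | rfl⟩ := d.eq_cases g
  · rcases Int.even_or_odd' a with ⟨c, rfl | rfl⟩
    · exact absurd (by rw [zpow_mul]; exact zpow_mem_zpowers _ c) hgnot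
    · refine Or.inl (hfin _ (zpowers_le.2 ?_) d.index_zpowers)
      have := mul_mem hg (inv_mem (hsq c))
      rwa [← zpow_neg, ← zpow_add, show 2 * c + 1 + -(2 * c) = 1 by ring, zpow_one] at this
  · rcases Int.even_or_odd' a with ⟨c, rfl | rfl⟩
    · refine Or.inr (Or.inr (hfin _ (hsub 0 ?_) (d.index_maxSub 0)))
      rw [zpow_zero, one_mul]
      have := mul_mem (inv_mem (hsq c)) hg
      rwa [inv_mul_cancel_left] at this
    · refine Or.inr (Or.inl (hfin _ (hsub 1 ?_) (d.index_maxSub 1)))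
      have := mul_mem (inv_mem (hsq c)) hg
      rwa [← mul_assoc, ← zpow_neg, ← zpow_add, show -(2 * c) + (2 * c + 1) = 1 by ring] at this

theorem SDPair.x_notMem_sq : x ^ (1 : ℤ) ∉ zpowers (x ^ (2 : ℤ)) := fun h => by
  have := d.zpow_mem_maxSub.1 ((zpowers_le.2 (d.zpow_mem_maxSub (ε := 0).2 dvd_rfl)) h)
  omega

theorem SDPair.frattini_eq : frattini S = zpowers (x ^ (2 : ℤ)) := by
  refine le_antisymm (fun g hg => ?_) ?_
  · have h0 := (frattini_le_coatom (d.isCoatom_of_index_two (d.index_maxSub 0))) hg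
    obtain ⟨a, rfl⟩ := (frattini_le_coatom (d.isCoatom_of_index_two d.index_zpowers)) hg
    obtain ⟨c, rfl⟩ := d.zpow_mem_maxSub.1 h0
    show x ^ (2 * c) ∈ _
    rw [zpow_mul]; exact zpow_mem_zpowers _ c
  · refine zpowers_le.2 (Subgroup.mem_iInf.2 ?_)
    intro a
    refine Subgroup.mem_iInf.2 fun ha => ?_
    rcases d.eq_maxSub_of_isCoatom ha with rfl | rfl | rfl
    · exact zpow_mem_zpowers x 2
    · exact d.zpow_mem_maxSub.2 dvd_rfl
    · exact d.zpow_mem_maxSub.2 dvd_rfl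

theorem SDPair.orderOf_sq : orderOf (x ^ (2 : ℤ)) = 2 ^ (n - 1) := by
  have hn := d.le
  rw [show x ^ (2 : ℤ) = x ^ (2 : ℕ) from zpow_natCast x 2, orderOf_pow' _ two_ne_zero, d.ox,
    Nat.gcd_eq_right (dvd_pow_self 2 (by omega))]
  conv_lhs => rw [show n = (n - 1) + 1 by omega, pow_succ]
  simp

theorem SDPair.closure_invol : Subgroup.closure {g : S | orderOf g = 2} = d.maxSub 0 := by
  refine le_antisymm ((closure_le _).2 fun g hg => ?_) ?_
  · rcases d.orderOf_eq_two_iff.1 hg with rfl | ⟨i, ⟨k, rfl⟩, rfl⟩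
    · exact d.zpow_mem_maxSub.2 ⟨qq n, d.hh_eq⟩
    · exact ⟨k, Or.inr (by rw [add_zero])⟩
  · have hy : ∀ k : ℤ, x ^ (2 * k) * y ∈ Subgroup.closure {g : S | orderOf g = 2} := fun k =>
      subset_closure (d.orderOf_zpow_y_even ⟨k, rfl⟩)
    rintro g ⟨k, rfl | rfl⟩
    · have := mul_mem (hy k) (inv_mem (hy 0))
      simpa using this
    · rw [add_zero]; exact hy k

theorem SDPair.nonempty_equiv_maxSub_zero :
    Nonempty (d.maxSub 0 ≃* DihedralGroup (2 ^ (n - 1))) := by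
  haveI := d.finite
  have hn := d.le
  refine nonempty_equiv_dihedral (a := x ^ (2 : ℤ)) (b := y) ⟨1, Or.inl (by norm_num)⟩
    ⟨0, Or.inr (by simp)⟩ d.orderOf_sq d.y_mul_y ?_
    (fun h => d.y_notMem (zpowers_le.2 (zpow_mem_zpowers x 2) h)) ?_
  · rw [d.conj_y, ← zpow_neg, d.zpow_eq]
    exact ⟨-1, by ring⟩
  · rw [d.card_maxSub, ← pow_succ']; congr 1; omega

theorem SDPair.nonempty_equiv_maxSub_one :
    Nonempty (d.maxSub 1 ≃* QuaternionGroup (2 ^ (n - 2))) := by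
  haveI := d.finite
  have hn := d.le
  haveI : NeZero (2 ^ (n - 2)) := ⟨by positivity⟩
  refine nonempty_equiv_quaternion (a := x ^ (2 : ℤ)) (b := x ^ (1 : ℤ) * y)
    ⟨1, Or.inl (by norm_num)⟩ ⟨0, Or.inr (by simp)⟩ ?_ ?_ ?_
    (fun h => d.zpow_y_notMem 1 (zpowers_le.2 (zpow_mem_zpowers x 2) h)) ?_
  · rw [d.orderOf_sq, ← pow_succ']; congr 1; omega
  · rw [d.sq_zpow_y_odd (by omega), ← zpow_natCast (x ^ (2 : ℤ)), ← zpow_mul, d.hh_eq]
    simp [qq]
  · rw [show x ^ (1 : ℤ) * y * x ^ (2 : ℤ) * (x ^ (1 : ℤ) * y)⁻¹ =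
      x ^ (1 : ℤ) * (y * x ^ (2 : ℤ) * y⁻¹) * (x ^ (1 : ℤ))⁻¹ by group, d.conj_y, ← zpow_neg,
      ← zpow_neg, ← zpow_add, ← zpow_add, d.zpow_eq]
    exact ⟨-1, by ring⟩
  · rw [d.card_maxSub, show (4 : ℕ) = 2 ^ 2 by norm_num, ← pow_add]; congr 1; omega

theorem SDPair.normal_subgroup {N : Subgroup S} (hN : N.Normal) (hne : N ≠ ⊤) :
    IsCoatom N ∨ (IsCyclic N ∧ N ≤ commutator S) := by
  haveI := d.finite
  by_cases hsub : N ≤ zpowers (x ^ (2 : ℤ))
  · refine Or.inr ⟨?_, d.commutator_eq.symm ▸ hsub⟩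
    exact isCyclic_of_injective (inclusion hsub) (inclusion_injective hsub)
  · left
    obtain ⟨g, hg, hgnot⟩ := SetLike.not_le_iff_exists.1 hsub
    have h2 := d.sq_mem_of_normal hN hg hgnot
    have hlt : zpowers (x ^ (2 : ℤ)) < N :=
      lt_of_le_of_ne (zpowers_le.2 h2) fun e => hgnot (e ▸ hg)
    refine d.isCoatom_of_index_two ?_
    have h4 : (zpowers (x ^ (2 : ℤ))).index = 4 := by
      have h := (zpowers (x ^ (2 : ℤ))).card_mul_index
      rw [Nat.card_zpowers, d.orderOf_sq, d.card,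
        show n + 1 = (n - 1) + 2 by have := d.le; omega, pow_add] at h
      have := mul_left_cancel₀ (pow_ne_zero _ two_ne_zero) h
      simpa using this
    have h5 := relIndex_mul_index hlt.le
    rw [h4] at h5
    have hne1 : N.index ≠ 1 := fun h => hne (index_eq_one.1 h)
    have hne2 : (zpowers (x ^ (2 : ℤ))).relIndex N ≠ 1 := fun h =>
      hlt.not_ge (relIndex_eq_one.1 h)
    have hd : N.index ∣ 4 := Dvd.intro_left _ h5
    have hle := Nat.le_of_dvd (by norm_num) hd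
    interval_cases N.index <;> omega

end CfsgLib.TwoGroups
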