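import Cfsg.Agent.TwoGroups.Wreathed
import Cfsg.Agent.TwoGroups.Basic
import Mathlib.GroupTheory.Abelianization.Defs

/-!
# Subgroups of wreathed 2-groups
-/

namespace CfsgLib.TwoGroups

open Subgroup

open scoped commutatorElement

section Quaternion

variable {m : ℕ}

theorem quaternionGroup_two_ne_zero (hm : 2 ≤ m) : (2 : ZMod (2 * m)) ≠ 0 := fun h => by
  have h' : ((2 : ℕ) : ZMod (2 * m)) = 0 := by simpa using h
  rw [ZMod.natCast_eq_zero_iff] at h'
  have := Nat.le_of_dvd two_pos h'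
  omega

theorem quaternionGroup_not_comm (hm : 2 ≤ m) :
    (QuaternionGroup.a 1 : QuaternionGroup m) * .xa 0 ≠ .xa 0 * .a 1 := by
  simp only [QuaternionGroup.a_mul_xa, QuaternionGroup.xa_mul_a, ne_eq, QuaternionGroup.xa.injEq]
  intro h
  refine quaternionGroup_two_ne_zero hm ?_
  rw [zero_sub, zero_add, neg_eq_iff_add_eq_zero, one_add_one_eq_two] at h
  exact h

theorem quaternionGroup_central_sq (hm : 2 ≤ m) (q : QuaternionGroup m)
    (h : ∀ r, q * r = r * q) : q * q = 1 := by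
  rcases q with i | i
  · have h0 := h (.xa 0)
    simp only [QuaternionGroup.a_mul_xa, QuaternionGroup.xa_mul_a, QuaternionGroup.xa.injEq] at h0
    rw [zero_sub, zero_add, neg_eq_iff_add_eq_zero] at h0
    rw [QuaternionGroup.a_mul_a, h0, QuaternionGroup.a_zero]
  · exfalso
    have h0 := h (.a 1)
    simp only [QuaternionGroup.a_mul_xa, QuaternionGroup.xa_mul_a, QuaternionGroup.xa.injEq] at h0
    exact quaternionGroup_two_ne_zero hm (by linear_combination h0)

theorem quaternionGroup_conj [NeZero m] (q r : QuaternionGroup m)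
    (h : r * r * (r * r) ≠ 1) : q * r = r * q ∨ r * q * r = q := by
  rcases r with j | j
  · rcases q with i | i
    · left; simp [add_comm]
    · right
      simp [QuaternionGroup.a_mul_xa, QuaternionGroup.xa_mul_a]
  · exfalso
    apply h
    simp only [QuaternionGroup.xa_mul_xa, QuaternionGroup.a_mul_a]
    rw [QuaternionGroup.one_def]; congr 1
    have : ((2 * m : ℕ) : ZMod (2 * m)) = 0 := ZMod.natCast_self _
    push_cast at this
    linear_combination this

theorem quaternionGroup_unique_invol [NeZero m] (q r : QuaternionGroup m) (hq : q * q = 1)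
    (hq1 : q ≠ 1) (hr : r * r = 1) (hr1 : r ≠ 1) : q = r := by
  have key : ∀ s : QuaternionGroup m, s * s = 1 → s ≠ 1 → s = .a (m : ZMod (2 * m)) := by
    rintro (i | i) hs hs1
    · rw [QuaternionGroup.a_mul_a, QuaternionGroup.one_def, QuaternionGroup.a.injEq] at hs
      rw [QuaternionGroup.a.injEq]
      have hi : i ≠ 0 := fun h => hs1 (by rw [h, QuaternionGroup.a_zero])
      haveI : NeZero (2 * m) := ⟨by have := NeZero.ne m; omega⟩
      have hlt := ZMod.val_lt i
      have hpos : 0 < i.val := Nat.pos_of_ne_zero fun h => hi ((ZMod.val_eq_zero i).1 h)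
      have hv := congrArg ZMod.val hs
      rw [ZMod.val_add, ZMod.val_zero] at hv
      obtain ⟨c, hc⟩ := Nat.dvd_of_mod_eq_zero hv
      have hc1 : c = 1 := by
        rcases c with _ | _ | c
        · omega
        · rfl
        · nlinarith
      subst hc1
      rw [← ZMod.natCast_zmod_val i]; congr 1; omega
    · exfalso
      have h4 : orderOf (QuaternionGroup.xa i : QuaternionGroup m) = 4 := QuaternionGroup.orderOf_xa i
      have := orderOf_dvd_of_pow_eq_one (show (QuaternionGroup.xa i : QuaternionGroup m) ^ 2 = 1 by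
        rw [sq, hs])
      rw [h4] at this; omega
  exact (key q hq hq1).trans (key r hr hr1).symm

end Quaternion

variable {S : Type*} [Group S] {n : ℕ} {x y z : S} (d : WRTriple n x y z)
include d

theorem WRTriple.not_nn_dvd_hw : ¬ nn n ∣ hw n := fun h => by
  have := Int.le_of_dvd d.hw_pos h
  have := d.hw_pos
  rw [d.nn_eq] at *
  omega

theorem WRTriple.el_hw_ne_one_left (b : ℤ) : el x y (hw n) b ≠ 1 := fun h =>
  d.not_nn_dvd_hw (d.el_eq_one.1 h).1

theorem WRTriple.el_hw_ne_one_right (a : ℤ) : el x y a (hw n) ≠ 1 := fun h =>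
  d.not_nn_dvd_hw (d.el_eq_one.1 h).2

/-- The involutions of the base group. -/
theorem WRTriple.el_invol {a b : ℤ} (h : el x y a b * el x y a b = 1) :
    el x y a b = 1 ∨ el x y a b = el x y (hw n) 0 ∨ el x y a b = el x y 0 (hw n) ∨
      el x y a b = el x y (hw n) (hw n) := by
  obtain ⟨⟨i, rfl⟩, ⟨j, rfl⟩⟩ := d.el_sq_eq_one.1 h
  have key : ∀ k : ℤ, nn n ∣ 0 - hw n * k ∨ nn n ∣ hw n - hw n * k := by
    intro k
    rcases Int.even_or_odd' k with ⟨l, rfl | rfl⟩
    · exact Or.inl ⟨-l, by rw [d.nn_eq]; ring⟩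
    · exact Or.inr ⟨-l, by rw [d.nn_eq]; ring⟩
  rcases key i with hi | hi <;> rcases key j with hj | hj
  · left; rw [← d.el_zero, d.el_inj]; exact ⟨hi, hj⟩
  · right; right; left; rw [d.el_inj]; exact ⟨hi, hj⟩
  · right; left; rw [d.el_inj]; exact ⟨hi, hj⟩
  · right; right; right; rw [d.el_inj]; exact ⟨hi, hj⟩

theorem WRTriple.exists_conj_elz {a b c e : ℤ} (h : nn n ∣ (a + b) - (c + e)) :
    ∃ u : ℤ, el x y u 0 * (el x y a b * z) * (el x y u 0)⁻¹ = el x y c e * z := by
  refine ⟨c - a, ?_⟩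
  rw [d.conj_el_elz, d.elz_inj]
  obtain ⟨k, hk⟩ := h
  exact ⟨⟨0, by ring⟩, ⟨-k, by linear_combination -hk⟩⟩

/-! ### Centre and derived subgroup -/

theorem WRTriple.orderOf_diag : orderOf (el x y 1 1) = 2 ^ n := by
  have h : ∀ k : ℕ, el x y 1 1 ^ k = 1 ↔ 2 ^ n ∣ k := fun k => by
    rw [← zpow_natCast, d.el_zpow, d.el_eq_one, and_self_iff, one_mul,
      show nn n = ((2 ^ n : ℕ) : ℤ) by simp [nn], Int.natCast_dvd_natCast]
  exact Nat.dvd_antisymm (orderOf_dvd_of_pow_eq_one ((h _).2 dvd_rfl))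
    ((h _).1 (pow_orderOf_eq_one _))

theorem WRTriple.orderOf_anti : orderOf (el x y 1 (-1)) = 2 ^ n := by
  have h : ∀ k : ℕ, el x y 1 (-1) ^ k = 1 ↔ 2 ^ n ∣ k := fun k => by
    rw [← zpow_natCast, d.el_zpow, d.el_eq_one, one_mul, neg_mul, one_mul, dvd_neg, and_self_iff,
      show nn n = ((2 ^ n : ℕ) : ℤ) by simp [nn], Int.natCast_dvd_natCast]
  exact Nat.dvd_antisymm (orderOf_dvd_of_pow_eq_one ((h _).2 dvd_rfl))
    ((h _).1 (pow_orderOf_eq_one _))

theorem WRTriple.center_eq : Subgroup.center S = zpowers (el x y 1 1) := by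
  ext g
  rw [d.mem_center_iff]
  constructor
  · rintro ⟨a, b, rfl, h⟩
    refine ⟨a, ?_⟩
    show el x y 1 1 ^ a = el x y a b
    rw [d.el_zpow, one_mul, d.el_eq_diag h]
  · rintro ⟨a, rfl⟩
    exact ⟨a, a, (d.el_zpow 1 1 a).trans (by rw [one_mul]), by simp⟩

theorem WRTriple.card_center : Nat.card (Subgroup.center S) = 2 ^ n := by
  rw [d.center_eq, Nat.card_zpowers, d.orderOf_diag]

theorem WRTriple.mem_anti {a b : ℤ} (h : nn n ∣ a + b) :
    el x y a b ∈ zpowers (el x y 1 (-1)) := by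
  refine ⟨a, ?_⟩
  show el x y 1 (-1) ^ a = el x y a b
  rw [d.el_zpow, d.el_inj]
  exact ⟨by simp, by
    rw [show b - -1 * a = a + b by ring]
    exact h⟩

theorem WRTriple.commutator_eq : commutator S = zpowers (el x y 1 (-1)) := by
  refine le_antisymm ?_ (zpowers_le.2 ?_)
  · rw [commutator_def, commutator_le]
    intro g _ g' _
    obtain ⟨a, b, rfl | rfl⟩ := d.eq_cases g <;> obtain ⟨c, e, rfl | rfl⟩ := d.eq_cases g'
    · rw [commutatorElement_eq_one_iff_mul_comm.2 (d.commute_el_el a b c e).eq]; exact one_mem _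
    · rw [commutatorElement_def, d.conj_el_elz, mul_inv_rev, ← mul_assoc, mul_inv_cancel_right,
        d.el_inv, d.el_mul]
      exact d.mem_anti ⟨0, by ring⟩
    · rw [commutatorElement_def, d.conj_elz_el, d.el_inv, d.el_mul]
      exact d.mem_anti ⟨0, by ring⟩
    · rw [commutatorElement_def, mul_assoc, ← mul_inv_rev, d.elz_mul_elz, d.elz_mul_elz, d.el_inv,
        d.el_mul]
      exact d.mem_anti ⟨0, by ring⟩
  · have h := Subgroup.commutator_mem_commutator (mem_top (el x y 1 0)) (mem_top (el x y 0 0 * z))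
    rw [commutatorElement_def, d.conj_el_elz, mul_inv_rev, ← mul_assoc, mul_inv_cancel_right,
      d.el_inv, d.el_mul] at h
    norm_num at h
    exact h

theorem WRTriple.nonempty_equiv_quotient_center :
    Nonempty (S ⧸ Subgroup.center S ≃* DihedralGroup (2 ^ n)) := by
  haveI := d.finite
  let π := QuotientGroup.mk' (Subgroup.center S)
  have hker : ∀ g, π g = 1 ↔ g ∈ Subgroup.center S := fun g => QuotientGroup.eq_one_iff g
  have hpow : ∀ k : ℕ, π (el x y 1 0) ^ k = 1 ↔ 2 ^ n ∣ k := by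
    intro k
    rw [← map_pow, hker, d.mem_center_iff, ← zpow_natCast, d.el_zpow, one_mul, zero_mul,
      ← Int.natCast_dvd_natCast, show ((2 ^ n : ℕ) : ℤ) = nn n by simp [nn]]
    constructor
    · rintro ⟨a, b, h1, h2⟩
      obtain ⟨h3, h4⟩ := d.el_inj.1 h1
      have h5 := dvd_sub h2 (dvd_sub h3 h4)
      rwa [show a - b - (a - ↑k - (b - 0)) = (k : ℤ) by ring] at h5
    · intro h; exact ⟨_, _, rfl, by simpa using h⟩
  have ha : orderOf (π (el x y 1 0)) = 2 ^ n :=
    Nat.dvd_antisymm (orderOf_dvd_of_pow_eq_one ((hpow _).2 dvd_rfl))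
      ((hpow _).1 (pow_orderOf_eq_one _))
  obtain ⟨e⟩ := nonempty_equiv_dihedral (H := (⊤ : Subgroup (S ⧸ Subgroup.center S)))
    (a := π (el x y 1 0)) (b := π z) (mem_top _) (mem_top _) ha
    (by rw [← map_mul, d.z_mul_z, map_one])
    (by
      rw [← map_inv, ← map_inv, ← map_mul, ← map_mul, d.conj_z_el, ← mul_inv_eq_one, ← map_inv,
        ← map_mul, hker, inv_inv, d.el_mul, d.mem_center_iff]
      exact ⟨_, _, rfl, by simp⟩)
    (by
      rintro ⟨k, hk⟩
      have hk' : π (el x y 1 0) ^ k = π z := hk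
      rw [← map_zpow, ← mul_inv_eq_one, ← map_inv, ← map_mul, hker, d.mem_center_iff,
        d.el_zpow, d.z_inv] at hk'
      obtain ⟨a, b, h, -⟩ := hk'
      exact d.elz_ne_el _ _ _ _ h)
    (by
      rw [Nat.card_congr Subgroup.topEquiv.toEquiv]
      have h := (Subgroup.center S).card_eq_card_quotient_mul_card_subgroup
      rw [d.card, d.card_center, show 2 * n + 1 = (n + 1) + n by ring, pow_add] at h
      have h2 := mul_right_cancel₀ (pow_ne_zero _ two_ne_zero) h
      rw [← h2, pow_succ]; ring)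
  exact ⟨Subgroup.topEquiv.symm.trans e⟩

/-! ### Abelian subgroups, four-groups -/

theorem WRTriple.eq_base_of_isMulCommutative {A : Subgroup S} (hA : IsMulCommutative A)
    (hc : Nat.card A = 2 ^ (2 * n)) : A = d.base := by
  haveI := d.finite
  by_cases hle : A ≤ d.base
  · exact eq_of_le_of_card_ge hle (by rw [hc, d.card_base])
  · exfalso
    obtain ⟨g, hg, hgb⟩ := SetLike.not_le_iff_exists.1 hle
    obtain ⟨a, b, rfl | rfl⟩ := d.eq_cases g
    · exact hgb (d.el_mem_base a b)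
    have hsub : A ⊓ d.base ≤ Subgroup.center S := by
      rintro u ⟨hu, hub⟩
      obtain ⟨c, e, rfl⟩ := d.mem_base.1 hub
      refine d.mem_center_iff.2 ⟨c, e, rfl, (d.commute_el_elz (c := a) (e := b)).1 ?_⟩
      exact congrArg Subtype.val (mul_comm' (⟨_, hu⟩ : A) ⟨_, hg⟩)
    have h1 := Nat.le_of_dvd Nat.card_pos (card_dvd_of_le hsub)
    rw [d.card_center] at h1
    have h2 : d.base.relIndex A ≤ 2 := by
      haveI := normal_of_index_eq_two d.index_base
      exact Nat.le_of_dvd two_pos (d.index_base ▸ relIndex_dvd_index_of_normal d.base A)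
    have h3 : Nat.card (A ⊓ d.base : Subgroup S) * d.base.relIndex A = Nat.card A := by
      rw [inf_comm, ← inf_relIndex_right, ← relIndex_bot_left, ← relIndex_bot_left,
        relIndex_mul_relIndex _ _ _ bot_le inf_le_right]
    rw [hc] at h3
    have h4 : 2 ^ (2 * n) ≤ 2 ^ n * 2 := h3 ▸ Nat.mul_le_mul h1 h2
    rw [← pow_succ] at h4
    have := (Nat.pow_le_pow_iff_right one_lt_two).1 h4
    have := d.le
    omega

/-- The normal four-group `Ω₁(base)`. -/
theorem WRTriple.exists_baseFour : ∃ T : Subgroup S, IsKleinFour T ∧ T.Normal ∧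
    el x y (hw n) 0 ∈ T ∧ el x y 0 (hw n) ∈ T ∧
    ∀ g, g ∈ T ↔ g = 1 ∨ g = el x y (hw n) 0 ∨ g = el x y 0 (hw n) ∨
      g = el x y (hw n) (hw n) := by
  have h1 : el x y (hw n) 0 * el x y (hw n) 0 = 1 := d.el_sq_eq_one.2 ⟨dvd_rfl, dvd_zero _⟩
  have h2 : el x y 0 (hw n) * el x y 0 (hw n) = 1 := d.el_sq_eq_one.2 ⟨dvd_zero _, dvd_rfl⟩
  obtain ⟨T, hT, ha, hb⟩ := exists_kleinFour h1 h2 (d.commute_el_el _ _ _ _).eq
    (d.el_hw_ne_one_left 0) (d.el_hw_ne_one_right 0)
    (fun h => d.not_nn_dvd_hw (by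
      have := (d.el_inj.1 h).1; rwa [zero_sub, dvd_neg] at this))
  have hmem : ∀ g, g ∈ T ↔ g = 1 ∨ g = el x y (hw n) 0 ∨ g = el x y 0 (hw n) ∨
      g = el x y (hw n) (hw n) := by
    intro g
    rw [klein_mem_iff hT ha hb (d.el_hw_ne_one_left 0) (d.el_hw_ne_one_right 0)
      (fun h => d.not_nn_dvd_hw (by
        have := (d.el_inj.1 h).1; rwa [zero_sub, dvd_neg] at this)) g, d.el_mul, add_zero, zero_add]
  refine ⟨T, hT, ⟨fun t ht g => ?_⟩, ha, hb, hmem⟩
  obtain ⟨a, b, rfl | rfl⟩ := d.eq_cases g <;> rcases (hmem t).1 ht with rfl | rfl | rfl | rfl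
  all_goals simp only [mul_one, mul_inv_cancel, d.conj_el_el, d.conj_elz_el]
  all_goals rw [hmem]; simp

/-- A four-group different from `Ω₁(base)`. -/
theorem WRTriple.otherFour_structure {T : Subgroup S} (hT : IsKleinFour T)
    (h : ∃ g ∈ T, g ∉ d.base) : el x y (hw n) (hw n) ∈ T ∧
      ∃ a : ℤ, el x y a (-a) * z ∈ T := by
  obtain ⟨hc, h2⟩ := isKleinFour_iff.1 hT
  obtain ⟨g, hg, hgb⟩ := h
  obtain ⟨a, b, rfl | rfl⟩ := d.eq_cases g
  · exact absurd (d.el_mem_base a b) hgb
  have hab := d.elz_sq_eq_one.1 (h2 _ hg)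
  have ht : el x y a b * z = el x y a (-a) * z := by
    rw [d.elz_inj]
    exact ⟨by simp, by rw [show -a - b = -(a + b) by ring, dvd_neg]; exact hab⟩
  rw [ht] at hg
  refine ⟨?_, a, hg⟩
  haveI : Finite T := Nat.finite_of_card_ne_zero (by omega)
  by_contra hne
  have hsub : (T : Set S) ⊆ {1, el x y a (-a) * z} := by
    intro u hu
    obtain ⟨c, e, rfl | rfl⟩ := d.eq_cases u
    · left
      have hce := d.commute_el_elz.1 (klein_mul_comm hT hu hg)
      rcases d.el_invol (h2 _ hu) with e1 | e1 | e1 | e1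
      · exact e1
      · exfalso
        obtain ⟨h3, h4⟩ := d.el_inj.1 e1
        exact d.not_nn_dvd_hw (by
          have := dvd_add hce (dvd_sub h3 h4)
          rwa [show c - e + (hw n - c - (0 - e)) = hw n by ring] at this)
      · exfalso
        obtain ⟨h3, h4⟩ := d.el_inj.1 e1
        exact d.not_nn_dvd_hw (by
          have := dvd_sub (dvd_sub h4 h3) hce
          rwa [show hw n - e - (0 - c) - (c - e) = hw n by ring] at this)
      · exact absurd (e1 ▸ hu) hne
    · by_cases he : el x y c e * z = el x y a (-a) * z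
      · exact Or.inr he
      · exfalso
        have h5 := mul_mem hu hg
        have h6 := h2 _ h5
        rw [d.elz_mul_elz] at h5 h6
        have hce := d.commute_el_elz.1 (klein_mul_comm hT h5 hg)
        rcases d.el_invol h6 with e1 | e1 | e1 | e1
        · exact he (by rw [eq_inv_of_mul_eq_one_left ((d.elz_mul_elz _ _ _ _).trans e1),
            inv_eq_of_mul_eq_one_right (h2 _ hg)])
        · obtain ⟨h3, h4⟩ := d.el_inj.1 e1
          exact d.not_nn_dvd_hw (by
            have := dvd_add hce (dvd_sub h3 h4)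
            rwa [show c + -a - (e + a) + (hw n - (c + -a) - (0 - (e + a))) = hw n by ring] at this)
        · obtain ⟨h3, h4⟩ := d.el_inj.1 e1
          exact d.not_nn_dvd_hw (by
            have := dvd_sub (dvd_sub h4 h3) hce
            rwa [show hw n - (e + a) - (0 - (c + -a)) - (c + -a - (e + a)) = hw n by ring] at this)
        · exact hne (e1 ▸ h5)
  have := Set.ncard_le_ncard hsub (Set.toFinite _)
  rw [← Nat.card_coe_set_eq] at this
  change Nat.card T ≤ _ at this
  rw [hc, Set.ncard_pair (fun e => d.elz_notMem_base a (-a) (by rw [← e]; exact one_mem _))] at this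
  omega

/-! ### The quaternion subgroup of order `2^(n+1)` -/

/-- `{el c (-c)} ∪ {el a b * z : a + b ≡ 2^(n-1)}`. -/
def WRTriple.quatSub : Subgroup S where
  carrier := {g | ∃ a b : ℤ, (g = el x y a b ∧ nn n ∣ a + b) ∨
    (g = el x y a b * z ∧ nn n ∣ a + b - hw n)}
  one_mem' := ⟨0, 0, Or.inl ⟨d.el_zero.symm, by simp⟩⟩
  mul_mem' := by
    rintro u v ⟨a, b, ⟨rfl, h⟩ | ⟨rfl, h⟩⟩ ⟨c, e, ⟨rfl, h'⟩ | ⟨rfl, h'⟩⟩
    · refine ⟨a + c, b + e, Or.inl ⟨d.el_mul _ _ _ _, ?_⟩⟩
      have := dvd_add h h'; rwa [show a + c + (b + e) = a + b + (c + e) by ring]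
    · refine ⟨a + c, b + e, Or.inr ⟨d.el_mul_elz _ _ _ _, ?_⟩⟩
      have := dvd_add h h'; rwa [show a + c + (b + e) - hw n = a + b + (c + e - hw n) by ring]
    · refine ⟨a + e, b + c, Or.inr ⟨d.elz_mul_el _ _ _ _, ?_⟩⟩
      have := dvd_add h h'; rwa [show a + e + (b + c) - hw n = a + b - hw n + (c + e) by ring]
    · refine ⟨a + e, b + c, Or.inl ⟨d.elz_mul_elz _ _ _ _, ?_⟩⟩
      have := dvd_add (dvd_add h h') (dvd_refl (nn n))
      rwa [d.nn_eq, show a + b - hw n + (c + e - hw n) + 2 * hw n = a + e + (b + c) by ring,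
        ← d.nn_eq] at this
  inv_mem' := by
    rintro u ⟨a, b, ⟨rfl, h⟩ | ⟨rfl, h⟩⟩
    · refine ⟨-a, -b, Or.inl ⟨d.el_inv _ _, ?_⟩⟩
      rw [← neg_add, dvd_neg]; exact h
    · refine ⟨-b, -a, Or.inr ⟨?_, ?_⟩⟩
      · rw [inv_eq_iff_mul_eq_one, d.elz_mul_elz, d.el_eq_one]; simp
      · have := dvd_add h (dvd_refl (nn n))
        rw [show -b + -a - hw n = -(a + b - hw n + 2 * hw n) by ring, ← d.nn_eq, dvd_neg]
        exact this

theorem WRTriple.mem_quatSub {g : S} : g ∈ d.quatSub ↔ ∃ a b : ℤ,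
    (g = el x y a b ∧ nn n ∣ a + b) ∨ (g = el x y a b * z ∧ nn n ∣ a + b - hw n) := Iff.rfl

theorem WRTriple.card_quatSub : Nat.card d.quatSub = 2 ^ (n + 1) := by
  have hle : zpowers (el x y 1 (-1)) ≤ d.quatSub :=
    zpowers_le.2 ⟨1, -1, Or.inl ⟨rfl, by simp⟩⟩
  have h2 : (zpowers (el x y 1 (-1))).relIndex d.quatSub = 2 := by
    refine relIndex_eq_two (a := el x y (hw n) 0 * z) ⟨_, _, Or.inr ⟨rfl, by simp⟩⟩ ?_ ?_
    · intro h
      obtain ⟨k, hk⟩ := h
      have hk' : el x y 1 (-1) ^ k = el x y (hw n) 0 * z := hk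
      rw [d.el_zpow] at hk'
      exact d.elz_ne_el _ _ _ _ hk'.symm
    · rintro u ⟨a, b, ⟨rfl, h⟩ | ⟨rfl, h⟩⟩
      · exact Or.inl (d.mem_anti h)
      · right
        rw [d.elz_mul_elz]
        refine d.mem_anti ?_
        have := dvd_add h (dvd_refl (nn n))
        rw [show a + 0 + (b + hw n) = a + b - hw n + 2 * hw n by ring, ← d.nn_eq]
        exact this
  have h3 := relIndex_mul_relIndex ⊥ _ _ bot_le hle
  rw [relIndex_bot_left, relIndex_bot_left, Nat.card_zpowers, d.orderOf_anti, h2] at h3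
  rw [← h3, pow_succ]

theorem WRTriple.nonempty_equiv_quatSub :
    Nonempty (d.quatSub ≃* QuaternionGroup (2 ^ (n - 1))) := by
  haveI := d.finite
  have hn := d.le
  haveI : NeZero (2 ^ (n - 1)) := ⟨by positivity⟩
  refine nonempty_equiv_quaternion (a := el x y 1 (-1)) (b := el x y (hw n) 0 * z)
    ⟨1, -1, Or.inl ⟨rfl, by simp⟩⟩ ⟨_, _, Or.inr ⟨rfl, by simp⟩⟩ ?_ ?_ ?_ ?_ ?_
  · rw [d.orderOf_anti, ← pow_succ']; congr 1; omega
  · rw [d.elz_mul_elz, ← zpow_natCast, d.el_zpow, d.el_inj]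
    push_cast
    rw [← hw]
    exact ⟨⟨0, by ring⟩, ⟨-1, by rw [d.nn_eq]; ring⟩⟩
  · rw [d.conj_elz_el, d.el_inv, d.el_inj]; simp
  · intro h
    obtain ⟨k, hk⟩ := h
    have hk' : el x y 1 (-1) ^ k = el x y (hw n) 0 * z := hk
    rw [d.el_zpow] at hk'
    exact d.elz_ne_el _ _ _ _ hk'.symm
  · rw [d.card_quatSub, show (4 : ℕ) = 2 ^ 2 by norm_num, ← pow_add]; congr 1; omega

theorem WRTriple.quatSub_normal : d.quatSub.Normal := by
  refine ⟨fun u hu g => ?_⟩
  obtain ⟨a, b, ⟨rfl, h⟩ | ⟨rfl, h⟩⟩ := hu <;> obtain ⟨c, e, rfl | rfl⟩ := d.eq_cases g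
  · rw [d.conj_el_el]; exact ⟨a, b, Or.inl ⟨rfl, h⟩⟩
  · rw [d.conj_elz_el]; exact ⟨b, a, Or.inl ⟨rfl, by rwa [add_comm]⟩⟩
  · rw [d.conj_el_elz]
    refine ⟨_, _, Or.inr ⟨rfl, ?_⟩⟩
    rwa [show a + c - e + (b + e - c) - hw n = a + b - hw n by ring]
  · have e1 : z * (el x y a b * z) * z⁻¹ = el x y b a * z := by
      rw [← mul_assoc, d.z_mul_el, mul_assoc, mul_assoc, d.z_inv, d.z_mul_z, mul_one]
    rw [show el x y c e * z * (el x y a b * z) * (el x y c e * z)⁻¹ =
      el x y c e * (z * (el x y a b * z) * z⁻¹) * (el x y c e)⁻¹ by group, e1, d.conj_el_elz]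
    refine ⟨_, _, Or.inr ⟨rfl, ?_⟩⟩
    rwa [show b + c - e + (a + e - c) - hw n = a + b - hw n by ring]

theorem WRTriple.eq_quatSub {Y : Subgroup S} (hc : Nat.card Y = 2 ^ (n + 1))
    (e : Y ≃* QuaternionGroup (2 ^ (n - 1))) : Y = d.quatSub := by
  haveI := d.finite
  have hn := d.le
  haveI : NeZero (2 ^ (n - 1)) := ⟨by positivity⟩
  have hm : 2 ≤ 2 ^ (n - 1) := by
    calc 2 = 2 ^ 1 := rfl
      _ ≤ _ := Nat.pow_le_pow_right (by norm_num) (by omega)
  have heq : ∀ {u v : S} (hu : u ∈ Y) (hv : v ∈ Y), e ⟨u, hu⟩ = e ⟨v, hv⟩ ↔ u = v :=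
    fun hu hv => by rw [EmbeddingLike.apply_eq_iff_eq]; exact Subtype.ext_iff
  have huniq : ∀ u ∈ Y, ∀ v ∈ Y, u * u = 1 → u ≠ 1 → v * v = 1 → v ≠ 1 → u = v := by
    intro u hu v hv h1 h2 h3 h4
    refine (heq hu hv).1 (quaternionGroup_unique_invol _ _ ?_ ?_ ?_ ?_)
    · rw [← map_mul, EmbeddingLike.map_eq_one_iff]; exact Subtype.ext h1
    · rw [ne_eq, EmbeddingLike.map_eq_one_iff]; exact fun h => h2 (congrArg Subtype.val h)
    · rw [← map_mul, EmbeddingLike.map_eq_one_iff]; exact Subtype.ext h3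
    · rw [ne_eq, EmbeddingLike.map_eq_one_iff]; exact fun h => h4 (congrArg Subtype.val h)
  have hcentral : ∀ u ∈ Y, (∀ v ∈ Y, u * v = v * u) → u * u = 1 := by
    intro u hu h
    have := quaternionGroup_central_sq hm (e ⟨u, hu⟩) fun r => by
      rw [← e.apply_symm_apply r, ← map_mul, ← map_mul]
      exact congrArg e (Subtype.ext (h _ (e.symm r).2))
    rw [← map_mul, EmbeddingLike.map_eq_one_iff] at this
    exact congrArg Subtype.val this
  have hconj : ∀ u ∈ Y, ∀ v ∈ Y, v * v * (v * v) ≠ 1 → u * v = v * u ∨ v * u * v = u := by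
    intro u hu v hv h
    rcases quaternionGroup_conj (e ⟨u, hu⟩) (e ⟨v, hv⟩) (by
      rw [← map_mul, ← map_mul, ne_eq, EmbeddingLike.map_eq_one_iff]
      exact fun h' => h (congrArg Subtype.val h')) with h' | h'
    · rw [← map_mul, ← map_mul, EmbeddingLike.apply_eq_iff_eq] at h'
      exact Or.inl (congrArg Subtype.val h')
    · rw [← map_mul, ← map_mul, EmbeddingLike.apply_eq_iff_eq] at h'
      exact Or.inr (congrArg Subtype.val h')
  -- an element outside the base
  obtain ⟨a, b, hs⟩ : ∃ a b : ℤ, el x y a b * z ∈ Y := by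
    by_contra hne
    push Not at hne
    have hYb : ∀ u ∈ Y, ∃ a b : ℤ, u = el x y a b := fun u hu => by
      obtain ⟨a, b, rfl | rfl⟩ := d.eq_cases u
      · exact ⟨a, b, rfl⟩
      · exact absurd hu (hne a b)
    refine quaternionGroup_not_comm hm (e.symm.injective ?_)
    rw [map_mul, map_mul]
    refine Subtype.ext ?_
    obtain ⟨a, b, h1⟩ := hYb _ (e.symm (.a 1)).2
    obtain ⟨a', b', h2⟩ := hYb _ (e.symm (.xa 0)).2
    rw [Subgroup.coe_mul, Subgroup.coe_mul, h1, h2]
    exact (d.commute_el_el _ _ _ _).eq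
  have hdiag : ∀ c : ℤ, el x y c c ∈ Y → hw n ∣ c := fun c hc' => by
    have := hcentral _ hc' fun v _ =>
      (Subgroup.mem_center_iff.1 (d.mem_center_iff.2 ⟨c, c, rfl, by simp⟩) v).symm
    exact (d.el_sq_eq_one.1 this).1
  have hanti : ∀ c e' : ℤ, el x y c e' ∈ Y → nn n ∣ c + e' := by
    intro c e' hv
    by_cases hcz : nn n ∣ c - e'
    · rw [d.el_eq_diag hcz] at hv
      obtain ⟨k, hk⟩ := hdiag c hv
      obtain ⟨l, hl⟩ := hcz
      exact ⟨k - l, by rw [d.nn_eq] at hl ⊢; linear_combination 2 * hk - hl⟩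
    · by_cases h4 : el x y c e' * el x y c e' * (el x y c e' * el x y c e') = 1
      · by_cases h2 : el x y c e' * el x y c e' = 1
        · exfalso
          -- a second involution
          have hsw : el x y e' c ∈ Y := by
            rw [← d.conj_elz_el a b]; exact mul_mem (mul_mem hs hv) (inv_mem hs)
          have h2' : el x y e' c * el x y e' c = 1 :=
            d.el_sq_eq_one.2 (d.el_sq_eq_one.1 h2).symm
          have h1 : el x y c e' ≠ 1 := fun h => hcz (by
            obtain ⟨i, j⟩ := d.el_eq_one.1 h; exact dvd_sub i j)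
          have h1' : el x y e' c ≠ 1 := fun h => hcz (by
            obtain ⟨i, j⟩ := d.el_eq_one.1 h; exact dvd_sub j i)
          have := huniq _ hv _ hsw h2 h1 h2' h1'
          have h3 := (d.el_inj.1 this).1
          apply hcz
          rwa [← neg_sub, dvd_neg]
        · -- the square is the central involution
          have hsq : el x y (2 * c) (2 * e') ∈ Y := d.sq_el c e' ▸ mul_mem hv hv
          have hsw : el x y (2 * e') (2 * c) ∈ Y := by
            rw [← d.conj_elz_el a b]; exact mul_mem (mul_mem hs hsq) (inv_mem hs)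
          rw [d.sq_el] at h2 h4
          have h4' : el x y (2 * e') (2 * c) * el x y (2 * e') (2 * c) = 1 :=
            d.el_sq_eq_one.2 (d.el_sq_eq_one.1 h4).symm
          have h2' : el x y (2 * e') (2 * c) ≠ 1 := fun h =>
            h2 (d.el_eq_one.2 (d.el_eq_one.1 h).symm)
          have he := huniq _ hsq _ hsw h4 h2 h4' h2'
          rcases d.el_invol h4 with e1 | e1 | e1 | e1
          · exact absurd e1 h2
          · exfalso
            obtain ⟨i, j⟩ := d.el_inj.1 e1
            have k := (d.el_inj.1 he).1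
            exact d.not_nn_dvd_hw (by
              have := dvd_sub (dvd_sub i j) k
              rwa [show hw n - 2 * c - (0 - 2 * e') - (2 * e' - 2 * c) = hw n by ring] at this)
          · exfalso
            obtain ⟨i, j⟩ := d.el_inj.1 e1
            have k := (d.el_inj.1 he).1
            exact d.not_nn_dvd_hw (by
              have := dvd_add (dvd_sub j i) k
              rwa [show hw n - 2 * e' - (0 - 2 * c) + (2 * e' - 2 * c) = hw n by ring] at this)
          · obtain ⟨⟨i, hi⟩, ⟨j, hj⟩⟩ := d.el_inj.1 e1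
            rw [d.nn_eq] at hi hj
            obtain ⟨q, hq⟩ := d.even_hw
            rcases Int.even_or_odd' (i - j) with ⟨l, hl | hl⟩
            · exfalso; apply hcz
              rw [d.nn_eq]
              exact ⟨-l, mul_left_cancel₀ two_ne_zero
                (by linear_combination (norm := ring_nf) hj - hi + (-2 * hw n) * hl)⟩
            · rw [d.nn_eq]
              refine ⟨-l - j, mul_left_cancel₀ two_ne_zero ?_⟩
              linear_combination (norm := ring_nf) -hi - hj + (-2 * hw n) * hl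
      · rcases hconj _ hs _ hv h4 with h | h
        · exact absurd (d.commute_el_elz.1 h.symm) hcz
        · rw [d.el_mul_elz, d.elz_mul_el, d.elz_inj] at h
          have := h.1
          rw [show a - (c + a + e') = -(c + e') by ring, dvd_neg] at this
          exact this
  refine eq_of_le_of_card_ge (fun u hu => ?_) (by rw [d.card_quatSub, hc])
  obtain ⟨c, f, rfl | rfl⟩ := d.eq_cases u
  · exact ⟨c, f, Or.inl ⟨rfl, hanti c f hu⟩⟩
  · refine ⟨c, f, Or.inr ⟨rfl, ?_⟩⟩
    have h2 := mul_mem hu hu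
    rw [d.elz_mul_elz] at h2
    have h3 := hdiag (c + f) (by rwa [add_comm f c] at h2)
    obtain ⟨k, hk⟩ := h3
    rcases Int.even_or_odd' k with ⟨l, rfl | rfl⟩
    · exfalso
      -- otherwise a second involution
      have hsq : el x y c f * z * (el x y c f * z) = 1 :=
        d.elz_sq_eq_one.2 ⟨l, by rw [d.nn_eq, hk]; ring⟩
      have hsne : el x y c f * z ≠ 1 := fun h => d.elz_notMem_base c f (h ▸ one_mem _)
      have hcent : ∀ v ∈ Y, el x y c f * z * v = v * (el x y c f * z) := by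
        intro v hv
        refine (heq (mul_mem hu hv) (mul_mem hv hu)).1 ?_
        have hq : ∀ w : QuaternionGroup (2 ^ (n - 1)), e ⟨_, hu⟩ * w = w * e ⟨_, hu⟩ := by
          intro w
          have h5 := quaternionGroup_unique_invol (e ⟨_, hu⟩) (w * e ⟨_, hu⟩ * w⁻¹)
            (by rw [← map_mul, EmbeddingLike.map_eq_one_iff]; exact Subtype.ext hsq)
            (by rw [ne_eq, EmbeddingLike.map_eq_one_iff]
                exact fun h => hsne (congrArg Subtype.val h))
            (by rw [show w * e ⟨_, hu⟩ * w⁻¹ * (w * e ⟨_, hu⟩ * w⁻¹) =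
                  w * (e ⟨_, hu⟩ * e ⟨_, hu⟩) * w⁻¹ by group, ← map_mul,
                  show (⟨_, hu⟩ : Y) * ⟨_, hu⟩ = 1 from Subtype.ext hsq, map_one, mul_one,
                  mul_inv_cancel])
            (by rw [ne_eq, conj_eq_one_iff, EmbeddingLike.map_eq_one_iff]
                exact fun h => hsne (congrArg Subtype.val h))
          rw [eq_mul_inv_iff_mul_eq] at h5
          exact h5
        calc e ⟨_, mul_mem hu hv⟩ = e ⟨_, hu⟩ * e ⟨v, hv⟩ := by rw [← map_mul]; rfl
          _ = e ⟨v, hv⟩ * e ⟨_, hu⟩ := hq _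
          _ = e ⟨_, mul_mem hv hu⟩ := by rw [← map_mul]; rfl
      -- the unique involution is central, hence in the base
      obtain ⟨v, hv, hv2, hv1⟩ : ∃ v ∈ Y, v * v = 1 ∧ v ≠ 1 := ⟨_, hu, hsq, hsne⟩
      have hYb : ∀ v ∈ Y, ∀ p q : ℤ, v = el x y p q → nn n ∣ p - q := fun v hv p q hpq => by
        subst hpq; exact d.commute_el_elz.1 (hcent _ hv).symm
      have hsub : (Y ⊓ d.base) ≤ zpowers (el x y (hw n) (hw n)) := by
        rintro v ⟨hv, hvb⟩
        obtain ⟨p, q, rfl⟩ := d.mem_base.1 hvb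
        have hpq := hYb _ hv p q rfl
        rw [d.el_eq_diag hpq] at hv ⊢
        obtain ⟨r, hr⟩ := hdiag p hv
        refine ⟨r, ?_⟩
        show el x y (hw n) (hw n) ^ r = el x y p p
        rw [d.el_zpow, hr]
      have h4 : Nat.card (Y ⊓ d.base : Subgroup S) * d.base.relIndex Y = Nat.card Y := by
        rw [inf_comm, ← inf_relIndex_right, ← relIndex_bot_left, ← relIndex_bot_left,
          relIndex_mul_relIndex _ _ _ bot_le inf_le_right]
      have h5 : d.base.relIndex Y ≤ 2 := by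
        haveI := normal_of_index_eq_two d.index_base
        exact Nat.le_of_dvd two_pos (d.index_base ▸ relIndex_dvd_index_of_normal d.base Y)
      have h6 : Nat.card (Y ⊓ d.base : Subgroup S) ≤ 2 := by
        refine le_trans (Nat.le_of_dvd Nat.card_pos (card_dvd_of_le hsub)) ?_
        rw [Nat.card_zpowers]
        refine Nat.le_of_dvd two_pos (orderOf_dvd_of_pow_eq_one ?_)
        rw [sq]; exact d.el_sq_eq_one.2 ⟨dvd_rfl, dvd_rfl⟩
      rw [hc] at h4
      have : 2 ^ (n + 1) ≤ 2 ^ 2 := h4 ▸ Nat.mul_le_mul h6 h5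
      have := (Nat.pow_le_pow_iff_right one_lt_two).1 this
      omega
    · exact ⟨l, by rw [d.nn_eq, hk]; ring⟩

/-! ### The subgroup generated by the involutions -/

/-- `{el a b z^ε : 2^(n-1) ∣ a + b}`. -/
def WRTriple.involSub : Subgroup S where
  carrier := {g | ∃ a b : ℤ, hw n ∣ a + b ∧ (g = el x y a b ∨ g = el x y a b * z)}
  one_mem' := ⟨0, 0, by simp, Or.inl d.el_zero.symm⟩
  mul_mem' := by
    rintro u v ⟨a, b, h, rfl | rfl⟩ ⟨c, e, h', rfl | rfl⟩
    · exact ⟨a + c, b + e, by rw [show a + c + (b + e) = a + b + (c + e) by ring]; exact dvd_add h h',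
        Or.inl (d.el_mul _ _ _ _)⟩
    · exact ⟨a + c, b + e, by rw [show a + c + (b + e) = a + b + (c + e) by ring]; exact dvd_add h h',
        Or.inr (d.el_mul_elz _ _ _ _)⟩
    · exact ⟨a + e, b + c, by rw [show a + e + (b + c) = a + b + (c + e) by ring]; exact dvd_add h h',
        Or.inr (d.elz_mul_el _ _ _ _)⟩
    · exact ⟨a + e, b + c, by rw [show a + e + (b + c) = a + b + (c + e) by ring]; exact dvd_add h h',
        Or.inl (d.elz_mul_elz _ _ _ _)⟩
  inv_mem' := by
    rintro u ⟨a, b, h, rfl | rfl⟩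
    · exact ⟨-a, -b, by rw [← neg_add, dvd_neg]; exact h, Or.inl (d.el_inv _ _)⟩
    · refine ⟨-b, -a, by rw [← neg_add, dvd_neg, add_comm]; exact h, Or.inr ?_⟩
      rw [inv_eq_iff_mul_eq_one, d.elz_mul_elz, d.el_eq_one]; simp

theorem WRTriple.mem_involSub {g : S} : g ∈ d.involSub ↔
    ∃ a b : ℤ, hw n ∣ a + b ∧ (g = el x y a b ∨ g = el x y a b * z) := Iff.rfl

theorem WRTriple.closure_invol : Subgroup.closure {g : S | orderOf g = 2} = d.involSub := by
  refine le_antisymm ((closure_le _).2 fun g hg => ?_) ?_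
  · have hg2 : g * g = 1 := by rw [← sq, ← (hg : orderOf g = 2), pow_orderOf_eq_one]
    obtain ⟨a, b, rfl | rfl⟩ := d.eq_cases g
    · obtain ⟨h1, h2⟩ := d.el_sq_eq_one.1 hg2
      exact ⟨a, b, dvd_add h1 h2, Or.inl rfl⟩
    · refine ⟨a, b, ?_, Or.inr rfl⟩
      exact dvd_trans (by rw [d.nn_eq]; exact dvd_mul_left _ _) (d.elz_sq_eq_one.1 hg2)
  · have hinv : ∀ g : S, g * g = 1 → g ∈ Subgroup.closure {g : S | orderOf g = 2} := fun g hg => by
      by_cases h : g = 1
      · rw [h]; exact one_mem _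
      · exact subset_closure (orderOf_eq_prime (by rw [sq, hg]) h)
    have hz := hinv z d.z_mul_z
    have hel : ∀ a b : ℤ, hw n ∣ a + b →
        el x y a b ∈ Subgroup.closure {g : S | orderOf g = 2} := by
      intro a b h
      have h1 : el x y a (-a) * z ∈ Subgroup.closure {g : S | orderOf g = 2} :=
        hinv _ (d.elz_sq_eq_one.2 (by simp))
      have h2 := hinv (el x y 0 (a + b)) (d.el_sq_eq_one.2 ⟨dvd_zero _, h⟩)
      have h3 := mul_mem (mul_mem h1 (inv_mem hz)) h2
      rw [mul_inv_cancel_right, d.el_mul, add_zero, neg_add_cancel_left] at h3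
      exact h3
    rintro g ⟨a, b, h, rfl | rfl⟩
    · exact hel a b h
    · exact mul_mem (hel a b h) hz

theorem WRTriple.card_involSub : Nat.card d.involSub = 2 ^ (n + 2) := by
  haveI := d.finite
  have hn := d.le
  let f : ZMod (2 ^ n) × ZMod 2 → S := fun p => el x y p.1.cast (-p.1.cast + hw n * p.2.val)
  have hf : Function.Injective f := by
    rintro ⟨a, k⟩ ⟨a', k'⟩ h
    obtain ⟨h1, h2⟩ := d.el_inj.1 h
    have ha : a = a' := by
      rw [← show ((2 ^ n : ℕ) : ℤ) = nn n by simp [nn], ← ZMod.intCast_eq_intCast_iff_dvd_sub] at h1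
      simpa using h1
    subst ha
    rw [show -(a.cast : ℤ) + hw n * (k'.val : ℤ) - (-(a.cast : ℤ) + hw n * (k.val : ℤ)) =
      hw n * ((k'.val : ℤ) - k.val) by ring, d.nn_eq, mul_comm (2 : ℤ),
      mul_dvd_mul_iff_left d.hw_pos.ne'] at h2
    have hk := ZMod.val_lt k
    have hk' := ZMod.val_lt k'
    have : k.val = k'.val := by omega
    rw [Prod.mk.injEq]
    exact ⟨rfl, ZMod.val_injective 2 this⟩
  let L : Subgroup S := d.involSub ⊓ d.base
  have hrange : (L : Set S) = Set.range f := by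
    ext g
    constructor
    · rintro ⟨⟨a, b, ⟨k, hk⟩, hg⟩, hgb⟩
      rcases hg with rfl | rfl
      · refine ⟨((a : ZMod (2 ^ n)), (k : ZMod 2)), ?_⟩
        show el x y _ _ = el x y a b
        rw [d.el_inj]
        have h1 : nn n ∣ a - ((a : ZMod (2 ^ n)).cast : ℤ) := by
          rw [← show ((2 ^ n : ℕ) : ℤ) = nn n by simp [nn], ← ZMod.intCast_eq_intCast_iff_dvd_sub]
          simp
        refine ⟨h1, ?_⟩
        have h2 : (2 : ℤ) ∣ k - ((k : ZMod 2).val : ℤ) := by
          rw [← show ((2 : ℕ) : ℤ) = 2 from rfl, ← ZMod.intCast_eq_intCast_iff_dvd_sub]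
          simp
        obtain ⟨i, hi⟩ := h1
        obtain ⟨j, hj⟩ := h2
        refine ⟨j - i, ?_⟩
        rw [d.nn_eq] at hi ⊢
        linear_combination hk + hw n * hj - hi
      · exact absurd hgb (d.elz_notMem_base a b)
    · rintro ⟨⟨a, k⟩, rfl⟩
      exact ⟨⟨_, _, ⟨(k.val : ℤ), by ring⟩, Or.inl rfl⟩, d.el_mem_base _ _⟩
  have hL : Nat.card L = 2 ^ (n + 1) := by
    have h1 : Nat.card (L : Set S) = Nat.card (ZMod (2 ^ n) × ZMod 2) := by
      rw [hrange, Nat.card_range_of_injective hf]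
    rw [Nat.card_prod, Nat.card_zmod, Nat.card_zmod] at h1
    rw [pow_succ]; exact h1
  have h2 : L.relIndex d.involSub = 2 := by
    refine relIndex_eq_two (a := el x y 0 0 * z) ⟨0, 0, by simp, Or.inr rfl⟩
      (fun h => d.elz_notMem_base 0 0 h.2) ?_
    rintro u ⟨a, b, h, rfl | rfl⟩
    · exact Or.inl ⟨⟨a, b, h, Or.inl rfl⟩, d.el_mem_base a b⟩
    · right
      rw [d.elz_mul_elz, add_zero, add_zero]
      exact ⟨⟨a, b, h, Or.inl rfl⟩, d.el_mem_base a b⟩
  have h3 := relIndex_mul_relIndex ⊥ L d.involSub bot_le inf_le_left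
  rw [relIndex_bot_left, relIndex_bot_left, hL, h2] at h3
  rw [← h3, pow_succ _ (n + 1)]

theorem WRTriple.involSub_sup : d.involSub ⊔ zpowers (el x y 1 0) = ⊤ := by
  refine eq_top_iff.2 fun g _ => ?_
  have hel : ∀ a b : ℤ, el x y a b ∈ d.involSub ⊔ zpowers (el x y 1 0) := fun a b => by
    have h1 : el x y (-b) b ∈ d.involSub := ⟨-b, b, by simp, Or.inl rfl⟩
    have h := mul_mem (mem_sup_left (T := zpowers (el x y 1 0)) h1)
      (mem_sup_right (zpow_mem_zpowers (el x y 1 0) (a + b)))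
    rwa [d.el_zpow, d.el_mul, one_mul, zero_mul, add_zero, neg_add_cancel_comm_assoc] at h
  obtain ⟨a, b, rfl | rfl⟩ := d.eq_cases g
  · exact hel a b
  · exact mul_mem (hel a b) (mem_sup_left ⟨0, 0, by simp, Or.inr (by rw [d.el_zero, one_mul])⟩)

/-- The centre of a non-abelian subgroup is central. -/
theorem WRTriple.center_le_center {X : Subgroup S} (hX : ¬ IsMulCommutative X) :
    (Subgroup.center X).map X.subtype ≤ Subgroup.center S := by
  rintro _ ⟨⟨c, hc⟩, hcc, rfl⟩
  have hcomm : ∀ u ∈ X, Commute c u := fun u hu =>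
    (congrArg Subtype.val (Subgroup.mem_center_iff.1 hcc ⟨u, hu⟩)).symm
  have hex : ∃ a b : ℤ, el x y a b * z ∈ X := by
    by_contra hne
    push Not at hne
    refine hX ⟨⟨fun u v => Subtype.ext ?_⟩⟩
    obtain ⟨a, b, h1 | h1⟩ := d.eq_cases (u : S)
    · obtain ⟨p, q, h2 | h2⟩ := d.eq_cases (v : S)
      · show (u : S) * v = v * u
        rw [h1, h2]; exact (d.commute_el_el _ _ _ _).eq
      · exact absurd (h2 ▸ v.2) (hne p q)
    · exact absurd (h1 ▸ u.2) (hne a b)
  obtain ⟨a, b, hs⟩ := hex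
  obtain ⟨p, q, h1 | h1⟩ := d.eq_cases c
  · show c ∈ _
    have := hcomm _ hs
    rw [h1] at this ⊢
    exact d.mem_center_iff.2 ⟨p, q, rfl, d.commute_el_elz.1 this⟩
  · exfalso
    subst h1
    have hbase : ∀ u ∈ X, u ∈ d.base → u ∈ Subgroup.center S := by
      intro u hu hub
      obtain ⟨i, j, rfl⟩ := d.mem_base.1 hub
      exact d.mem_center_iff.2 ⟨i, j, rfl, d.commute_el_elz.1 (hcomm _ hu).symm⟩
    have hform : ∀ u ∈ X, ∃ w ∈ Subgroup.center S, u = w ∨ u = w * (el x y p q * z) := by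
      intro u hu
      obtain ⟨i, j, rfl | rfl⟩ := d.eq_cases u
      · exact ⟨_, hbase _ hu (d.el_mem_base _ _), Or.inl rfl⟩
      · refine ⟨el x y i j * z * (el x y p q * z)⁻¹, hbase _ (mul_mem hu (inv_mem hc)) ?_,
          Or.inr (by rw [inv_mul_cancel_right])⟩
        have hb := d.index_base
        exact (mul_mem_iff_of_index_two hb).2
          (iff_of_false (d.elz_notMem_base i j) fun h => d.elz_notMem_base p q (inv_mem_iff.1 h))
    refine hX ⟨⟨fun u v => Subtype.ext ?_⟩⟩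
    obtain ⟨w, hw1, h1⟩ := hform _ u.2
    obtain ⟨w', hw2, h2⟩ := hform _ v.2
    have c1 : ∀ t, Commute w t := fun t => (Subgroup.mem_center_iff.1 hw1 t).symm
    have c2 : ∀ t, Commute w' t := fun t => (Subgroup.mem_center_iff.1 hw2 t).symm
    show Commute (u : S) v
    rcases h1 with h1 | h1 <;> rcases h2 with h2 | h2 <;> rw [h1, h2]
    · exact c1 _
    · exact c1 _
    · exact (c2 _).symm
    · exact ((c1 _).mul_left ((c2 _).symm.mul_right (Commute.refl _)))

end CfsgLib.TwoGroups
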