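import Cfsg.Agent.TwoGroups.WreathedSubgroups

/-!
Self-centralizing subgroups of a wreathed group having an automorphism of odd order.
-/

namespace CfsgLib.TwoGroups

open Subgroup

open scoped commutatorElement

section OddAut

variable {X : Type*} [Group X] (hX : IsPGroup 2 X) {φ : MulAut X} {m : ℕ} (hm : Odd m)
  (hφ : φ ^ m = 1)
include hX hm hφ

/-- An automorphism of odd order of a 2-group which moves `g` by a fixed element fixes it. -/
theorem oddAut_fixed_of_mul {g t : X} (hg : φ g = g * t) (ht : φ t = t) : φ g = g := by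
  have hk : ∀ k : ℕ, (φ ^ k) g = g * t ^ k := by
    intro k
    induction k with
    | zero => simp
    | succ k ih =>
      rw [pow_succ', MulAut.mul_apply, ih, map_mul, map_pow, ht, hg, mul_assoc, ← pow_succ']
  have h1 : t ^ m = 1 := by
    have := hk m
    rw [hφ, MulAut.one_apply, left_eq_mul] at this
    exact this
  obtain ⟨j, hj⟩ := hX t
  have h2 : orderOf t = 1 := Nat.eq_one_of_dvd_coprimes
    (Nat.Coprime.pow_left j (Nat.coprime_two_left.2 hm)) (orderOf_dvd_of_pow_eq_one hj)
    (orderOf_dvd_of_pow_eq_one h1)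
  rw [hg, orderOf_eq_one_iff.1 h2, mul_one]

/-- An automorphism of odd order of a 2-group which acts on `c` modulo fixed elements as a power
map fixes `c`, as soon as it fixes some `c^(2^i)`. -/
theorem oddAut_fixed_of_zpow (i : ℕ) : ∀ {c t : X} {k : ℤ}, φ c = c ^ k * t → Commute c t →
    φ t = t → φ (c ^ 2 ^ i) = c ^ 2 ^ i → φ c = c := by
  induction i with
  | zero => intro c t k _ _ _ h; simpa using h
  | succ i ih =>
    intro c t k hc hct ht h
    have h2 : φ (c * c) = c * c := by
      refine ih (c := c * c) (t := t * t) (k := k) ?_ ?_ ?_ ?_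
      · rw [map_mul, hc, (hct.zpow_left k).symm.mul_mul_mul_comm, (Commute.refl c).mul_zpow]
      · exact (hct.mul_left hct).mul_right (hct.mul_left hct)
      · rw [map_mul, ht]
      · rw [← sq, ← pow_mul, ← pow_succ']; exact h
    rcases Int.even_or_odd' k with ⟨l, rfl | rfl⟩
    · refine φ.injective ?_
      have e : c ^ (2 * l) = (c * c) ^ l := by rw [zpow_mul, zpow_two]
      rw [e] at hc
      rw [hc, map_mul, map_zpow, h2, ht]
    · refine oddAut_fixed_of_mul hX hm hφ (t := (c * c) ^ l * t) ?_ ?_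
      · rw [hc, ← zpow_two, ← zpow_mul, ← mul_assoc, ← zpow_one_add, add_comm 1]
      · rw [map_mul, map_zpow, h2, ht]

end OddAut

variable {S : Type*} [Group S] {n : ℕ} {x y z : S} (d : WRTriple n x y z)
include d

/-- `{el a b z^ε : 2^(n-1) ∣ a - b}`. -/
def WRTriple.autSub : Subgroup S where
  carrier := {g | ∃ a b : ℤ, hw n ∣ a - b ∧ (g = el x y a b ∨ g = el x y a b * z)}
  one_mem' := ⟨0, 0, by simp, Or.inl d.el_zero.symm⟩
  mul_mem' := by
    rintro u v ⟨a, b, h, rfl | rfl⟩ ⟨c, e, h', rfl | rfl⟩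
    · exact ⟨a + c, b + e, by rw [show a + c - (b + e) = a - b + (c - e) by ring]; exact dvd_add h h',
        Or.inl (d.el_mul _ _ _ _)⟩
    · exact ⟨a + c, b + e, by rw [show a + c - (b + e) = a - b + (c - e) by ring]; exact dvd_add h h',
        Or.inr (d.el_mul_elz _ _ _ _)⟩
    · exact ⟨a + e, b + c, by rw [show a + e - (b + c) = a - b - (c - e) by ring]; exact dvd_sub h h',
        Or.inr (d.elz_mul_el _ _ _ _)⟩
    · exact ⟨a + e, b + c, by rw [show a + e - (b + c) = a - b - (c - e) by ring]; exact dvd_sub h h',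
        Or.inl (d.elz_mul_elz _ _ _ _)⟩
  inv_mem' := by
    rintro u ⟨a, b, h, rfl | rfl⟩
    · exact ⟨-a, -b, by rw [show -a - -b = -(a - b) by ring, dvd_neg]; exact h,
        Or.inl (d.el_inv _ _)⟩
    · refine ⟨-b, -a, by rw [show -b - -a = a - b by ring]; exact h, Or.inr ?_⟩
      rw [inv_eq_iff_mul_eq_one, d.elz_mul_elz, d.el_eq_one]; simp

theorem WRTriple.hw_dvd_nn : hw n ∣ nn n := by rw [d.nn_eq]; exact dvd_mul_left _ _

theorem WRTriple.el_mem_autSub {a b : ℤ} : el x y a b ∈ d.autSub ↔ hw n ∣ a - b := by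
  refine ⟨?_, fun h => ⟨a, b, h, Or.inl rfl⟩⟩
  rintro ⟨c, e, h, he | he⟩
  · obtain ⟨h1, h2⟩ := d.el_inj.1 he
    have := dvd_sub h (dvd_sub (d.hw_dvd_nn.trans h1) (d.hw_dvd_nn.trans h2))
    rwa [show c - e - (c - a - (e - b)) = a - b by ring] at this
  · exact absurd he.symm (d.elz_ne_el _ _ _ _)

theorem WRTriple.elz_mem_autSub {a b : ℤ} : el x y a b * z ∈ d.autSub ↔ hw n ∣ a - b := by
  refine ⟨?_, fun h => ⟨a, b, h, Or.inr rfl⟩⟩
  rintro ⟨c, e, h, he | he⟩
  · exact absurd he (d.elz_ne_el _ _ _ _)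
  · obtain ⟨h1, h2⟩ := d.elz_inj.1 he
    have := dvd_sub h (dvd_sub (d.hw_dvd_nn.trans h1) (d.hw_dvd_nn.trans h2))
    rwa [show c - e - (c - a - (e - b)) = a - b by ring] at this

theorem WRTriple.z_mem_autSub : z ∈ d.autSub := ⟨0, 0, by simp, Or.inr (by rw [d.el_zero, one_mul])⟩

theorem WRTriple.autSub_not_comm : ¬ IsMulCommutative d.autSub := fun h => by
  have h1 : el x y (hw n) 0 ∈ d.autSub := d.el_mem_autSub.2 (by simp)
  have h2 := congrArg Subtype.val (h.is_comm.comm (⟨_, h1⟩ : d.autSub) ⟨_, d.z_mem_autSub⟩)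
  have h3 : el x y (hw n) 0 * z = z * el x y (hw n) 0 := h2
  rw [d.z_mul_el, d.elz_inj, sub_zero] at h3
  exact d.not_nn_dvd_hw h3.2

theorem WRTriple.relIndex_autSub :
    d.autSub.relIndex (normalizer (d.autSub : Set S)) = 2 := by
  haveI := d.finite
  obtain ⟨q, hq⟩ := d.even_hw
  have hconjz : ∀ u v : ℤ,
      el x y u v * z * (el x y u v)⁻¹ = el x y (u - v) (v - u) * z := fun u v => by
    have := d.conj_el_elz u v 0 0
    rwa [d.el_zero, one_mul, zero_add, zero_add] at this
  have hN : el x y q 0 ∈ normalizer (d.autSub : Set S) := by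
    apply Subgroup.mem_normalizer_iff_map_conj_eq.2
    refine eq_of_le_of_card_ge ?_ (card_map_of_injective (MulAut.conj _).injective).ge
    rintro _ ⟨t, ⟨a, b, h, rfl | rfl⟩, rfl⟩
    · show el x y q 0 * el x y a b * (el x y q 0)⁻¹ ∈ _
      rw [d.conj_el_el]; exact d.el_mem_autSub.2 h
    · show el x y q 0 * (el x y a b * z) * (el x y q 0)⁻¹ ∈ _
      rw [d.conj_el_elz, d.elz_mem_autSub, show a + q - 0 - (b + 0 - q) = a - b + 2 * q by ring,
        ← hq]
      exact dvd_add h dvd_rfl
  have hnot : el x y q 0 ∉ d.autSub := fun h => by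
    rw [d.el_mem_autSub, sub_zero] at h
    have h1 := d.hw_pos
    have h2 := Int.le_of_dvd (by omega) h
    omega
  refine relIndex_eq_two hN hnot fun g hg => ?_
  have key : ∀ u v : ℤ, el x y u v ∈ normalizer (d.autSub : Set S) → ∃ k, u - v = q * k := by
    intro u v h
    have h1 := (mem_normalizer_iff.1 h z).1 d.z_mem_autSub
    rw [hconjz, d.elz_mem_autSub] at h1
    obtain ⟨k, hk⟩ := h1
    exact ⟨k, mul_left_cancel₀ two_ne_zero (by linear_combination hk + k * hq)⟩
  obtain ⟨u, v, rfl | rfl⟩ := d.eq_cases g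
  · obtain ⟨k, hk⟩ := key u v hg
    rcases Int.even_or_odd' k with ⟨l, rfl | rfl⟩
    · exact Or.inl (d.el_mem_autSub.2 ⟨l, by linear_combination hk - l * hq⟩)
    · right
      rw [d.el_mul, d.el_mem_autSub]
      exact ⟨l + 1, by linear_combination hk - (l + 1) * hq⟩
  · have h' : el x y u v ∈ normalizer (d.autSub : Set S) := by
      have := mul_mem hg (inv_mem (le_normalizer d.z_mem_autSub))
      rwa [mul_inv_cancel_right] at this
    obtain ⟨k, hk⟩ := key u v h'
    rcases Int.even_or_odd' k with ⟨l, rfl | rfl⟩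
    · exact Or.inl (d.elz_mem_autSub.2 ⟨l, by linear_combination hk - l * hq⟩)
    · right
      rw [d.elz_mul_el, d.elz_mem_autSub]
      exact ⟨l, by linear_combination hk - l * hq⟩

theorem WRTriple.exists_quaternion_autSub :
    ∃ Q : Subgroup S, Nonempty (Q ≃* QuaternionGroup 2) ∧ d.autSub = Q ⊔ Subgroup.center S := by
  haveI := d.finite
  obtain ⟨q, hq⟩ := d.even_hw
  set i := el x y (q + hw n) q with hi
  set j := el x y q q * z with hj
  have hii : i * i = el x y (hw n) (hw n) := by
    rw [hi, d.el_mul, d.el_inj]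
    exact ⟨⟨-1, by rw [d.nn_eq]; linear_combination hq⟩, ⟨0, by linear_combination hq⟩⟩
  have hjj : j * j = el x y (hw n) (hw n) := by
    rw [hj, d.elz_mul_elz, d.el_inj]
    exact ⟨⟨0, by linear_combination hq⟩, ⟨0, by linear_combination hq⟩⟩
  have hzz : el x y (hw n) (hw n) * el x y (hw n) (hw n) = 1 :=
    d.el_sq_eq_one.2 ⟨dvd_rfl, dvd_rfl⟩
  have hoi : orderOf i = 2 * 2 := by
    rw [show 2 * 2 = 2 ^ (1 + 1) by norm_num]
    refine orderOf_eq_prime_pow ?_ ?_
    · rw [pow_one, sq, hii]; exact d.el_hw_ne_one_left _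
    · rw [show 2 ^ (1 + 1) = 2 * 2 by norm_num, pow_mul, sq, sq, hii, hzz]
  have hrel : j * i * j⁻¹ = i⁻¹ := by
    rw [hi, hj, d.conj_elz_el, d.el_inv, d.el_inj]
    exact ⟨⟨-1, by rw [d.nn_eq]; linear_combination hq⟩,
      ⟨-1, by rw [d.nn_eq]; linear_combination hq⟩⟩
  have hji : j ∉ zpowers i := by
    rintro ⟨k, hk⟩
    simp only [hi, hj, d.el_zpow] at hk
    exact d.elz_ne_el _ _ _ _ hk.symm
  have hnorm : zpowers j ≤ normalizer (zpowers i : Set S) := by
    refine zpowers_le.2 (Subgroup.mem_normalizer_iff_map_conj_eq.2 ?_)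
    rw [MonoidHom.map_zpowers]
    show zpowers (j * i * j⁻¹) = zpowers i
    rw [hrel, zpowers_inv]
  set Q := zpowers i ⊔ zpowers j with hQ
  have hrelQ : (zpowers i).relIndex Q = 2 := by
    refine relIndex_eq_two (mem_sup_right (mem_zpowers j)) hji fun b hb => ?_
    rw [← SetLike.mem_coe, hQ, coe_mul_of_right_le_normalizer_left _ _ hnorm] at hb
    obtain ⟨u, hu, v, ⟨k, rfl⟩, rfl⟩ := hb
    have h2 : ∀ l : ℤ, j ^ (2 * l) ∈ zpowers i := fun l => by
      rw [zpow_mul, zpow_two, hjj, ← hii]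
      exact zpow_mem (mul_mem (mem_zpowers i) (mem_zpowers i)) l
    rcases Int.even_or_odd' k with ⟨l, rfl | rfl⟩
    · exact Or.inl (mul_mem hu (h2 l))
    · right
      show u * j ^ (2 * l + 1) * j ∈ zpowers i
      rw [mul_assoc, ← zpow_add_one, show 2 * l + 1 + 1 = 2 * (l + 1) by ring]
      exact mul_mem hu (h2 _)
  have hcQ : Nat.card Q = 4 * 2 := by
    have := relIndex_mul_relIndex ⊥ (zpowers i) Q bot_le le_sup_left
    rw [relIndex_bot_left, relIndex_bot_left, hrelQ, Nat.card_zpowers, hoi] at this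
    rw [← this]
  refine ⟨Q, nonempty_equiv_quaternion (mem_sup_left (mem_zpowers i))
    (mem_sup_right (mem_zpowers j)) hoi (by rw [hjj, sq, hii]) hrel hji hcQ, ?_⟩
  apply le_antisymm
  · rintro g ⟨a, b, ⟨k, hk⟩, hg⟩
    have hcen : ∀ t : ℤ, el x y t t ∈ Q ⊔ center S := fun t => by
      refine mem_sup_right ?_
      exact d.mem_center_iff.2 ⟨t, t, rfl, by simp⟩
    have he : el x y a b ∈ Q ⊔ center S := by
      have hik : el x y (q + hw n) q ^ k ∈ Q ⊔ center S :=
        mem_sup_left (mem_sup_left (zpow_mem_zpowers i k))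
      have := mul_mem (hcen (b - q * k)) hik
      rwa [d.el_zpow, d.el_mul, show b - q * k + (q + hw n) * k = a by linear_combination -hk,
        sub_add_cancel] at this
    rcases hg with rfl | rfl
    · exact he
    · refine mul_mem he ?_
      have := mul_mem (hcen (-q)) (mem_sup_left (T := center S)
        (mem_sup_right (S := zpowers i) (mem_zpowers j)))
      rwa [hj, d.el_mul_elz, neg_add_cancel, d.el_zero, one_mul] at this
  · refine sup_le (sup_le ?_ ?_) ?_
    · exact zpowers_le.2 (d.el_mem_autSub.2 (by simp))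
    · exact zpowers_le.2 (d.elz_mem_autSub.2 (by simp))
    · intro g hg
      obtain ⟨a, b, rfl, hab⟩ := d.mem_center_iff.1 hg
      exact d.el_mem_autSub.2 (d.hw_dvd_nn.trans hab)

/-- A self-centralizing subgroup of a wreathed group outside the base group with an automorphism
of odd order is conjugate to `autSub`. -/
theorem WRTriple.exists_conj_autSub {X : Subgroup S}
    (hC : Subgroup.centralizer (X : Set S) ≤ X) (hb : ¬ X ≤ d.base)
    (hA : ¬ IsPGroup 2 (MulAut X)) :
    ∃ g : S, d.autSub.map (MulAut.conj g).toMonoidHom = X := by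
  haveI := d.finite
  haveI : Fact (Nat.Prime 2) := ⟨Nat.prime_two⟩
  obtain ⟨φ, m, hm, hφ, hne⟩ : ∃ (φ : MulAut X) (m : ℕ), Odd m ∧ φ ^ m = 1 ∧ φ ≠ 1 := by
    by_contra hcon
    push Not at hcon
    apply hA
    intro φ
    obtain ⟨k, m, hm, hord⟩ := Nat.exists_eq_two_pow_mul_odd (orderOf_pos φ).ne'
    exact ⟨k, hcon (φ ^ 2 ^ k) m hm (by rw [← pow_mul, ← hord, pow_orderOf_eq_one])⟩
  have hXp : IsPGroup 2 X := IsPGroup.to_subgroup (IsPGroup.of_card d.card) X
  have fixmul := fun {g t : X} => oddAut_fixed_of_mul hXp hm hφ (g := g) (t := t)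
  obtain ⟨p, q, hs⟩ : ∃ p q : ℤ, el x y p q * z ∈ X := by
    by_contra hne'
    push Not at hne'
    refine hb fun g hg => ?_
    obtain ⟨a, b, rfl | rfl⟩ := d.eq_cases g
    · exact d.el_mem_base a b
    · exact absurd hg (hne' a b)
  have hD : ∀ t : ℤ, el x y t t ∈ X := fun t => hC fun v _ =>
    Subgroup.mem_center_iff.1 (d.mem_center_iff.2 ⟨t, t, rfl, by simp⟩) v
  have hsub : ∀ {a b : ℤ}, el x y a b ∈ X → el x y (a - b) 0 ∈ X := fun {a b} h => by
    have := mul_mem h (inv_mem (hD b))
    rwa [d.el_inv, d.el_mul, ← sub_eq_add_neg, add_neg_cancel] at this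
  let D : ℤ → X := fun t => ⟨el x y t t, hD t⟩
  let s : X := ⟨el x y p q * z, hs⟩
  have D1 : ∀ t : ℤ, D t = D 1 ^ t := fun t => Subtype.ext (by
    show el x y t t = ((D 1 ^ t : X) : S)
    rw [coe_zpow]; show _ = el x y 1 1 ^ t
    rw [d.el_zpow, one_mul])
  have hpow : ∀ g : X, φ (g ^ 2 ^ (2 * n + 1)) = g ^ 2 ^ (2 * n + 1) := fun g => by
    have : g ^ 2 ^ (2 * n + 1) = 1 := Subtype.ext (by
      rw [coe_pow, ← d.card]; exact pow_card_eq_one')
    rw [this, map_one]
  -- it suffices to fix the diagonal and the `el a 0`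
  have fin : (∀ t, φ (D t) = D t) →
      (∀ (a : ℤ) (h : el x y a 0 ∈ X), φ ⟨_, h⟩ = ⟨_, h⟩) → False := by
    intro hDf hIf
    have hAf : ∀ g : X, (g : S) ∈ d.base → φ g = g := by
      intro g hg
      obtain ⟨a, b, he⟩ := d.mem_base.1 hg
      have ha := hsub (he ▸ g.2 : el x y a b ∈ X)
      have e : g = (⟨_, ha⟩ : X) * D b := Subtype.ext (by
        show (g : S) = el x y (a - b) 0 * el x y b b
        rw [d.el_mul, sub_add_cancel, zero_add, he])
      rw [e, map_mul, hIf, hDf]
    have hsf : φ s = s := by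
      obtain ⟨a, b, he | he⟩ := d.eq_cases (φ s : S)
      · exact φ.injective (hAf _ (by rw [he]; exact d.el_mem_base a b))
      · refine fixmul (t := s⁻¹ * φ s) (mul_inv_cancel_left _ _).symm (hAf _ ?_)
        show (el x y p q * z)⁻¹ * (φ s : S) ∈ d.base
        rw [he]
        exact (mul_mem_iff_of_index_two d.index_base).2
          (iff_of_false (fun h => d.elz_notMem_base p q (inv_mem_iff.1 h))
            (d.elz_notMem_base a b))
    refine hne (MulEquiv.ext fun g => ?_)
    rw [MulAut.one_apply]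
    by_cases hg : (g : S) ∈ d.base
    · exact hAf g hg
    · have h : φ (g * s) = g * s := hAf _ ((mul_mem_iff_of_index_two d.index_base).2
        (iff_of_false hg (d.elz_notMem_base p q)))
      rw [map_mul, hsf, mul_left_inj] at h
      exact h
  by_cases h3 : ∃ a : ℤ, el x y a 0 ∈ X ∧ ¬ hw n ∣ a
  · -- `X ∩ base` is characteristic and the centre is diagonal
    exfalso
    obtain ⟨a, ha, hna⟩ := h3
    have hcen : ∀ g : X, g ∈ center X → ∃ w : ℤ, g = D w := by
      intro g hg
      obtain ⟨u, v, he | he⟩ := d.eq_cases (g : S)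
      · have := congrArg Subtype.val (Subgroup.mem_center_iff.1 hg s)
        have hc : Commute (el x y u v) (el x y p q * z) := by rw [← he]; exact this.symm
        exact ⟨u, Subtype.ext (he.trans (d.el_eq_diag (d.commute_el_elz.1 hc)))⟩
      · exfalso
        have := congrArg Subtype.val (Subgroup.mem_center_iff.1 hg ⟨_, ha⟩)
        have hc : Commute (el x y a 0) (el x y u v * z) := by rw [← he]; exact this
        have := d.commute_el_elz.1 hc
        rw [sub_zero] at this
        exact hna (d.hw_dvd_nn.trans this)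
    have hDf : ∀ t, φ (D t) = D t := by
      have hDc : D 1 ∈ center X := Subgroup.mem_center_iff.2 fun g => Subtype.ext
        (Subgroup.mem_center_iff.1 (d.mem_center_iff.2 ⟨1, 1, rfl, by simp⟩) g)
      have : φ (D 1) ∈ center X := Subgroup.mem_center_iff.2 fun g => by
        obtain ⟨g, rfl⟩ := φ.surjective g
        rw [← map_mul, ← map_mul, Subgroup.mem_center_iff.1 hDc g]
      obtain ⟨w, hw'⟩ := hcen _ this
      have h1 : φ (D 1) = D 1 := oddAut_fixed_of_zpow hXp hm hφ (2 * n + 1) (t := 1) (k := w)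
        (by rw [mul_one, ← D1, hw']) (Commute.one_right _) (map_one _) (hpow _)
      intro t
      rw [D1, map_zpow, h1]
    have hbase : ∀ g : X, (g : S) ∈ d.base → (φ g : S) ∈ d.base := by
      intro g hg
      by_contra hgb
      let A : X := ⟨el x y a 0, ha⟩
      have hcg : ∀ u v : X, g * ⁅u, v⁆ = ⁅u, v⁆ * g := by
        intro u v
        apply Subtype.ext
        have hmem : ((⁅u, v⁆ : X) : S) ∈ commutator S :=
          commutator_mem_commutator (mem_top (u : S)) (mem_top (v : S))
        rw [d.commutator_eq] at hmem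
        obtain ⟨r, hr⟩ := hmem
        obtain ⟨i, j, hij⟩ := d.mem_base.1 hg
        show (g : S) * ((⁅u, v⁆ : X) : S) = ((⁅u, v⁆ : X) : S) * g
        rw [← hr, hij]
        show el x y i j * el x y 1 (-1) ^ r = el x y 1 (-1) ^ r * el x y i j
        rw [d.el_zpow]
        exact (d.commute_el_el _ _ _ _).eq
      have hcφ : φ g * ⁅A, s⁆ = ⁅A, s⁆ * φ g := by
        obtain ⟨u, hu⟩ := φ.surjective A
        obtain ⟨v, hv⟩ := φ.surjective s
        rw [← hu, ← hv, ← map_commutatorElement, ← map_mul, ← map_mul, hcg]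
      obtain ⟨u, v, he | he⟩ := d.eq_cases (φ g : S)
      · exact hgb (he ▸ d.el_mem_base u v)
      · have h1 : ((⁅A, s⁆ : X) : S) = el x y a (-a) := by
          show ⁅el x y a 0, el x y p q * z⁆ = _
          rw [commutatorElement_def, d.conj_el_elz, mul_inv_rev, ← mul_assoc, mul_inv_cancel_right,
            d.el_inv, d.el_mul]
          congr 1 <;> ring
        have hc : Commute (el x y a (-a)) (el x y u v * z) := by
          rw [← h1, ← he]; exact (congrArg Subtype.val hcφ).symm
        have h2 := d.commute_el_elz.1 hc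
        rw [sub_neg_eq_add, ← two_mul, d.nn_eq, mul_dvd_mul_iff_left two_ne_zero] at h2
        exact hna h2
    let I : AddSubgroup ℤ :=
      { carrier := {b | el x y b 0 ∈ X}
        zero_mem' := by show el x y 0 0 ∈ X; exact hD 0
        add_mem' := fun {b c} hb hc => by
          show el x y (b + c) 0 ∈ X
          have := mul_mem (show el x y b 0 ∈ X from hb) (show el x y c 0 ∈ X from hc)
          rwa [d.el_mul, add_zero] at this
        neg_mem' := fun {b} hb => by
          show el x y (-b) 0 ∈ X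
          have := inv_mem (show el x y b 0 ∈ X from hb)
          rwa [d.el_inv, neg_zero] at this }
    obtain ⟨c₀, hI⟩ := Int.subgroup_cyclic I
    have hc₀ : el x y c₀ 0 ∈ X := by
      show c₀ ∈ I
      rw [hI]; exact AddSubgroup.subset_closure rfl
    let C : X := ⟨el x y c₀ 0, hc₀⟩
    have hCf : φ C = C := by
      obtain ⟨u, v, huv⟩ := d.mem_base.1 (hbase C (d.el_mem_base _ _))
      have hm' : u - v ∈ I := hsub (huv ▸ (φ C).2 : el x y u v ∈ X)
      rw [hI, AddSubgroup.mem_closure_singleton] at hm'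
      obtain ⟨k, hk⟩ := hm'
      refine oddAut_fixed_of_zpow hXp hm hφ (2 * n + 1) (t := D v) (k := k) (Subtype.ext ?_)
        (Subtype.ext (d.commute_el_el _ _ _ _).eq) (hDf v) (hpow C)
      show (φ C : S) = ((C ^ k : X) : S) * el x y v v
      rw [coe_zpow]
      show (φ C : S) = el x y c₀ 0 ^ k * el x y v v
      rw [d.el_zpow, d.el_mul, zero_mul, zero_add, huv]
      congr 1
      rw [zsmul_eq_mul, Int.cast_id] at hk
      linear_combination -hk
    refine fin hDf fun b hb => ?_
    have hb' : b ∈ I := hb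
    rw [hI, AddSubgroup.mem_closure_singleton] at hb'
    obtain ⟨k, hk⟩ := hb'
    have e : (⟨_, hb⟩ : X) = C ^ k := Subtype.ext (by
      show el x y b 0 = ((C ^ k : X) : S)
      rw [coe_zpow]; show _ = el x y c₀ 0 ^ k
      rw [d.el_zpow, zero_mul]
      congr 1
      rw [zsmul_eq_mul, Int.cast_id] at hk
      linear_combination -hk)
    rw [e, map_zpow, hCf]
  push Not at h3
  have hdiv : ∀ {a b : ℤ}, el x y a b ∈ X → hw n ∣ a - b := fun h => h3 _ (hsub h)
  have hzel : ∀ {a b : ℤ}, el x y a b * z ∈ X → hw n ∣ (a - b) - (p - q) := fun {a b} h => by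
    have := hdiv (show el x y (a + -p) (b + -q) ∈ X by
      have h' := mul_mem h (inv_mem hs)
      rwa [mul_inv_rev, ← mul_assoc, mul_inv_cancel_right, d.el_inv, d.el_mul] at h')
    rwa [show a + -p - (b + -q) = a - b - (p - q) by ring] at this
  by_cases hw1 : el x y (hw n) 0 ∈ X ∧ (2 : ℤ) ∣ p + q
  · obtain ⟨h1, t, ht⟩ := hw1
    obtain ⟨u, hu⟩ := d.exists_conj_elz (a := 0) (b := 0) (c := p - t) (e := q - t)
      ⟨0, by linear_combination -ht⟩
    refine ⟨el x y u 0, le_antisymm ?_ ?_⟩
    · have hz0 : el x y (p - t) (q - t) * z ∈ X := by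
        have := mul_mem (hD (-t)) hs
        rwa [d.el_mul_elz, neg_add_eq_sub, neg_add_eq_sub] at this
      rintro _ ⟨g, ⟨a, b, ⟨k, hk⟩, hg⟩, rfl⟩
      have he : el x y a b ∈ X := by
        have := mul_mem (hD b) (zpow_mem h1 k)
        rwa [d.el_zpow, d.el_mul, zero_mul, add_zero,
          show b + hw n * k = a by linear_combination -hk] at this
      rcases hg with rfl | rfl
      · show el x y u 0 * el x y a b * (el x y u 0)⁻¹ ∈ X
        rw [d.conj_el_el]; exact he
      · show el x y u 0 * (el x y a b * z) * (el x y u 0)⁻¹ ∈ X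
        rw [d.el_zero, one_mul] at hu
        rw [show el x y u 0 * (el x y a b * z) * (el x y u 0)⁻¹ =
          el x y u 0 * el x y a b * (el x y u 0)⁻¹ * (el x y u 0 * z * (el x y u 0)⁻¹) by group,
          d.conj_el_el, hu]
        exact mul_mem he hz0
    · intro g hg
      obtain ⟨a, b, rfl | rfl⟩ := d.eq_cases g
      · exact ⟨el x y a b, d.el_mem_autSub.2 (hdiv hg), d.conj_el_el _ _ _ _⟩
      · have h' : el x y (a - (p - t)) (b - (q - t)) ∈ d.autSub := by
          rw [d.el_mem_autSub, show a - (p - t) - (b - (q - t)) = (a - b) - (p - q) by ring]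
          exact hzel hg
        refine ⟨el x y (a - (p - t)) (b - (q - t)) * z, mul_mem h' d.z_mem_autSub, ?_⟩
        show el x y u 0 * (el x y (a - (p - t)) (b - (q - t)) * z) * (el x y u 0)⁻¹ = _
        rw [d.el_zero, one_mul] at hu
        rw [show el x y u 0 * (el x y (a - (p - t)) (b - (q - t)) * z) * (el x y u 0)⁻¹ =
          el x y u 0 * el x y (a - (p - t)) (b - (q - t)) * (el x y u 0)⁻¹ *
            (el x y u 0 * z * (el x y u 0)⁻¹) by group,
          d.conj_el_el, hu, d.el_mul_elz, sub_add_cancel, sub_add_cancel]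
  exfalso
  obtain ⟨r, hr⟩ := d.even_hw
  by_cases hpq : (2 : ℤ) ∣ p + q
  · -- `X` is `diag × ⟨involution⟩`
    have hno : el x y (hw n) 0 ∉ X := fun h => hw1 ⟨h, hpq⟩
    have hdiag : ∀ {a b : ℤ}, el x y a b ∈ X → nn n ∣ a - b := by
      intro a b h
      obtain ⟨k, hk⟩ := hdiv h
      rcases Int.even_or_odd' k with ⟨l, rfl | rfl⟩
      · exact ⟨l, by rw [d.nn_eq]; linear_combination hk⟩
      · exfalso; apply hno
        have e : el x y (a - b) 0 = el x y (hw n) 0 := by
          rw [d.el_inj]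
          exact ⟨⟨-l, by rw [d.nn_eq]; linear_combination -hk⟩, by simp⟩
        exact e ▸ hsub h
    obtain ⟨t, ht⟩ := hpq
    let s' : X := D (-t) * s
    have hs' : (s' : S) = el x y (p - t) (q - t) * z := by
      show el x y (-t) (-t) * (el x y p q * z) = _
      rw [d.el_mul_elz, neg_add_eq_sub, neg_add_eq_sub]
    have hform : ∀ g : X, ∃ w : ℤ, g = D w ∨ g = D w * s' := by
      intro g
      obtain ⟨a, b, he | he⟩ := d.eq_cases (g : S)
      · exact ⟨a, Or.inl (Subtype.ext (he.trans (d.el_eq_diag (hdiag (he ▸ g.2)))))⟩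
      · refine ⟨a - (p - t), Or.inr (Subtype.ext ?_)⟩
        show (g : S) = el x y _ _ * (s' : S)
        rw [he, hs', d.el_mul_elz, d.elz_inj]
        refine ⟨by simp, ?_⟩
        have h := mul_mem g.2 (inv_mem (hs' ▸ s'.2 : el x y (p - t) (q - t) * z ∈ X))
        rw [he, mul_inv_rev, ← mul_assoc, mul_inv_cancel_right, d.el_inv, d.el_mul] at h
        have := hdiag h
        rwa [show a + -(p - t) - (b + -(q - t)) = a - (p - t) + (q - t) - b by ring] at this
    have hcs : ∀ w, Commute (D w) s' := fun w => Subtype.ext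
      ((Subgroup.mem_center_iff.1 (d.mem_center_iff.2 ⟨w, w, rfl, by simp⟩)) s').symm
    have hDD : ∀ u v, D u * D v = D (u + v) := fun u v => Subtype.ext (d.el_mul _ _ _ _)
    have hs2 : s' * s' = 1 := Subtype.ext (by
      show (s' : S) * s' = 1
      rw [hs', d.elz_mul_elz, d.el_eq_one]
      exact ⟨⟨0, by linear_combination ht⟩, ⟨0, by linear_combination ht⟩⟩)
    -- squares
    have hD2 : ∀ w, φ (D (2 * w)) = D (2 * w) := by
      obtain ⟨v, hv⟩ := hform (φ (D 1))
      have h2 : φ (D 2) = D 2 ^ v := by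
        have e : φ (D 2) = φ (D 1) * φ (D 1) := by rw [← map_mul, hDD]; rfl
        have e2 : D 2 ^ v = D v * D v := by
          rw [hDD, D1 2, ← zpow_mul, ← D1, two_mul]
        rcases hv with hv | hv
        · rw [e, hv, e2]
        · rw [e, hv, e2, (hcs v).symm.mul_mul_mul_comm, hs2, mul_one]
      have h2' : φ (D 2) = D 2 := oddAut_fixed_of_zpow hXp hm hφ (2 * n + 1) (t := 1) (k := v)
        (by rw [mul_one, h2]) (Commute.one_right _) (map_one _) (hpow _)
      intro w
      rw [D1, zpow_mul, ← D1 2, map_zpow, h2']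
    have hnn : (2 : ℤ) ∣ nn n := ⟨hw n, d.nn_eq⟩
    have hD0 : D 0 = 1 := Subtype.ext d.el_zero
    have hsfix : φ s' = s' := by
      obtain ⟨w, hw' | hw'⟩ := hform (φ s')
      · -- an involution in the diagonal is fixed
        have h2 : D (2 * w) = 1 := by
          have := congrArg φ hs2
          rw [map_mul, map_one, hw', hDD, ← two_mul] at this
          exact this
        obtain ⟨k, hk⟩ := (d.el_eq_one.1 (congrArg Subtype.val h2)).1
        refine φ.injective ?_
        rw [hw', show w = 2 * (r * k) by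
          rw [d.nn_eq] at hk
          have := mul_left_cancel₀ two_ne_zero (show 2 * w = 2 * (hw n * k) by linear_combination hk)
          linear_combination this + k * hr, hD2]
      · have h2 : D (2 * w) = 1 := by
          have := congrArg φ hs2
          rw [map_mul, map_one, hw', (hcs w).symm.mul_mul_mul_comm, hs2, mul_one, hDD,
            ← two_mul] at this
          exact this
        obtain ⟨k, hk⟩ := (d.el_eq_one.1 (congrArg Subtype.val h2)).1
        refine fixmul (t := D w) (by rw [hw', (hcs w).eq]) ?_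
        rw [show w = 2 * (r * k) by
          rw [d.nn_eq] at hk
          have := mul_left_cancel₀ two_ne_zero (show 2 * w = 2 * (hw n * k) by linear_combination hk)
          linear_combination this + k * hr, hD2]
    have hD1 : φ (D 1) = D 1 := by
      obtain ⟨w, hw'⟩ := hform (φ (D 1))
      have h2 : φ (D 1 ^ 2 ^ 1) = D 1 ^ 2 ^ 1 := by
        rw [pow_one, sq, hDD]
        exact hD2 1
      rcases hw' with hw' | hw'
      · exact oddAut_fixed_of_zpow hXp hm hφ 1 (t := 1) (k := w) (by rw [mul_one, ← D1, hw'])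
          (Commute.one_right _) (map_one _) h2
      · exact oddAut_fixed_of_zpow hXp hm hφ 1 (t := s') (k := w) (by rw [← D1, hw'])
          (hcs 1) hsfix h2
    refine fin (fun w => by rw [D1, map_zpow, hD1]) fun a h => ?_
    have e : (⟨_, h⟩ : X) = D 0 := Subtype.ext (by
      show el x y a 0 = el x y 0 0
      rw [d.el_inj]
      have := hdiag h
      rw [sub_zero] at this
      exact ⟨by rw [zero_sub, dvd_neg]; exact this, by simp⟩)
    rw [e, hD0, map_one]
  · -- `p + q` odd
    have hodd : ∀ {a b : ℤ}, el x y a b * z ∈ X → ¬ (2 : ℤ) ∣ a + b := fun {a b} h h2 => by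
      obtain ⟨k, hk⟩ := hzel h
      obtain ⟨l, hl⟩ := h2
      exact hpq ⟨l - r * k - b + q, by linear_combination hl - hk - k * hr⟩
    have hsq : ∀ g : X, ∃ w : ℤ, g * g = D w := by
      intro g
      obtain ⟨a, b, he | he⟩ := d.eq_cases (g : S)
      · refine ⟨2 * a, Subtype.ext ?_⟩
        show (g : S) * g = el x y _ _
        rw [he, d.el_mul, d.el_inj]
        refine ⟨⟨0, by ring⟩, ?_⟩
        obtain ⟨k, hk⟩ := hdiv (he ▸ g.2 : el x y a b ∈ X)
        exact ⟨k, by rw [d.nn_eq]; linear_combination 2 * hk⟩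
      · refine ⟨a + b, Subtype.ext ?_⟩
        show (g : S) * g = el x y _ _
        rw [he, d.elz_mul_elz, add_comm b a]
    have hbase : ∀ g : X, (g : S) ∈ d.base → (φ g : S) ∈ d.base := by
      intro g hg
      obtain ⟨a, b, hab⟩ := d.mem_base.1 hg
      have hp : g ^ 2 ^ n = 1 := Subtype.ext (by
        rw [coe_pow, hab, ← zpow_natCast, d.el_zpow, coe_one, d.el_eq_one,
          show ((2 ^ n : ℕ) : ℤ) = nn n by simp [nn]]
        exact ⟨dvd_mul_left _ _, dvd_mul_left _ _⟩)
      obtain ⟨u, v, he | he⟩ := d.eq_cases (φ g : S)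
      · exact he ▸ d.el_mem_base u v
      · exfalso
        have h1 := congrArg Subtype.val (congrArg φ hp)
        rw [map_pow, map_one, coe_pow, he, coe_one,
          show 2 ^ n = 2 * 2 ^ (n - 1) by rw [← pow_succ']; congr 1; have := d.le; omega,
          pow_mul, sq, d.elz_mul_elz, ← zpow_natCast, d.el_zpow, d.el_eq_one,
          show ((2 ^ (n - 1) : ℕ) : ℤ) = hw n by simp [hw], d.nn_eq,
          mul_dvd_mul_iff_right d.hw_pos.ne'] at h1
        exact hodd (he ▸ (φ g).2) h1.1
    have hD1 : φ (D 1) = D 1 := by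
      obtain ⟨l, hl | hl⟩ := Int.even_or_odd' (p + q)
      · exact absurd ⟨l, hl⟩ hpq
      have e : (D (-l) * s) * (D (-l) * s) = D 1 := Subtype.ext (by
        show el x y _ _ * (el x y p q * z) * (el x y _ _ * (el x y p q * z)) = el x y 1 1
        rw [d.el_mul_elz, d.elz_mul_elz, d.el_inj]
        exact ⟨⟨0, by linear_combination -hl⟩, ⟨0, by linear_combination -hl⟩⟩)
      obtain ⟨w, hw'⟩ := hsq (φ (D (-l) * s))
      exact oddAut_fixed_of_zpow hXp hm hφ (2 * n + 1) (t := 1) (k := w)
        (by rw [mul_one, ← D1, ← hw', ← map_mul, e]) (Commute.one_right _) (map_one _) (hpow _)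
    have hDf : ∀ w, φ (D w) = D w := fun w => by rw [D1, map_zpow, hD1]
    refine fin hDf fun a h => ?_
    obtain ⟨u, v, huv⟩ := d.mem_base.1 (hbase ⟨_, h⟩ (d.el_mem_base _ _))
    obtain ⟨i, hi⟩ := hdiv (huv ▸ (φ ⟨_, h⟩).2 : el x y u v ∈ X)
    obtain ⟨k, hk⟩ := h3 a h
    have h2 : ∀ g : X, g = ⟨_, h⟩ → φ (g ^ 2 ^ 1) = g ^ 2 ^ 1 := by
      rintro g rfl
      have e : (⟨_, h⟩ : X) ^ 2 ^ 1 = 1 := Subtype.ext (by
        rw [pow_one, sq]; exact d.el_sq_eq_one.2 ⟨⟨k, hk⟩, dvd_zero _⟩)
      rw [e, map_one]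
    rcases Int.even_or_odd' k with ⟨l, hl | hl⟩
    · have e : (⟨_, h⟩ : X) = D 0 := Subtype.ext (by
        show el x y a 0 = el x y 0 0
        rw [d.el_inj]
        exact ⟨⟨-l, by rw [d.nn_eq]; linear_combination -hk - hw n * hl⟩, by simp⟩)
      rw [e, hDf]
    · refine oddAut_fixed_of_zpow hXp hm hφ 1 (t := D v) (k := i) (Subtype.ext ?_)
        (Subtype.ext (d.commute_el_el _ _ _ _).eq) (hDf v) (h2 _ rfl)
      show (φ ⟨_, h⟩ : S) = (((⟨_, h⟩ : X) ^ i : X) : S) * el x y v v
      rw [coe_zpow]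
      show (φ ⟨_, h⟩ : S) = el x y a 0 ^ i * el x y v v
      rw [d.el_zpow, d.el_mul, huv, d.el_inj]
      exact ⟨⟨l * i, by rw [d.nn_eq]; linear_combination i * hk + i * hw n * hl - hi⟩, by simp⟩

end CfsgLib.TwoGroups
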