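import Cfsg.Agent.TwoGroups.CentricFusion
import Cfsg.Agent.TwoGroups.WreathedAut
import Cfsg.Agent.TwoGroups.CenterFusion
import Cfsg.Agent.TwoGroups.TransferPow
import Cfsg.Agent.Inv53.TransferTwo

/-!
Fusion in groups with wreathed Sylow 2-subgroups.
-/

set_option autoImplicit false

namespace CfsgLib.TwoGroups

open Subgroup

section Internal

variable {S : Type*} [Group S] {n : ℕ} {x y z : S} (d : WRTriple n x y z)
include d

theorem WRTriple.elz_zero : el x y 0 0 * z = z := by rw [d.el_zero, one_mul]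

/-- The join of a quaternion group of order 8 with the centre is a conjugate of `autSub`. -/
theorem WRTriple.exists_sup_center_eq {X : Subgroup S} (e : X ≃* QuaternionGroup 2) :
    ∃ r : ℤ, d.autSub.map (MulAut.conj (el x y r 0)).toMonoidHom = X ⊔ center S := by
  obtain ⟨g, hg, g', hg', hne⟩ := quaternion8_not_comm e
  obtain ⟨i, hi, s, hs, his, hib, hsb⟩ : ∃ i ∈ X, ∃ s ∈ X, i * s ≠ s * i ∧ i ∈ d.base ∧
      s ∉ d.base := by
    by_cases h1 : g ∈ d.base
    · refine ⟨g, hg, g', hg', hne, h1, fun h2 => hne ?_⟩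
      obtain ⟨a, b, rfl⟩ := d.mem_base.1 h1
      obtain ⟨a', b', rfl⟩ := d.mem_base.1 h2
      exact (d.commute_el_el _ _ _ _).eq
    · by_cases h2 : g' ∈ d.base
      · exact ⟨g', hg', g, hg, Ne.symm hne, h2, h1⟩
      · refine ⟨g * g', mul_mem hg hg', g', hg', fun h => hne (mul_right_cancel (b := g') ?_),
          (mul_mem_iff_of_index_two d.index_base).2 (iff_of_false h1 h2), h2⟩
        rw [h, mul_assoc]
  obtain ⟨a, b, rfl⟩ := d.mem_base.1 hib
  obtain ⟨p, q, rfl | rfl⟩ := d.eq_cases s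
  · exact absurd (d.el_mem_base p q) hsb
  obtain ⟨hinv, -, hs2⟩ := quaternion8_inverts e hs hi (Ne.symm his)
  have hs4 := quaternion8_pow_four e hs
  rw [d.elz_mul_elz] at hs4 hs2
  rw [d.conj_elz_el, d.el_inv, d.el_inj] at hinv
  obtain ⟨hab, -⟩ := hinv
  have hab' : nn n ∣ a + b := by
    rwa [show -a - b = -(a + b) by ring, dvd_neg] at hab
  -- the square of `s` is diagonal of order two
  obtain ⟨k, hk⟩ := (d.el_sq_eq_one.1 hs4).1
  obtain ⟨hw', hhw'⟩ := d.even_hw
  obtain ⟨r, hr⟩ : ∃ r : ℤ, p - q = 2 * r :=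
    ⟨hw' * k - q, by rw [hhw'] at hk; linear_combination hk⟩
  refine ⟨r, le_antisymm ?_ (sup_le ?_ ?_)⟩
  · have hdiag : ∀ t : ℤ, el x y t t ∈ X ⊔ center S := fun t =>
      mem_sup_right (d.mem_center_iff.2 ⟨t, t, rfl, by simp⟩)
    have hi4 := quaternion8_pow_four e hi
    rw [d.el_mul, d.el_sq_eq_one] at hi4
    obtain ⟨l, hl⟩ := hi4.1
    have hl2 : ¬ 2 ∣ l := by
      rintro ⟨m, rfl⟩
      refine his (quaternion8_sq_eq_one e hi hs (d.el_sq_eq_one.2 ?_))
      have h1 : hw n ∣ a := ⟨m, by linarith⟩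
      refine ⟨h1, ?_⟩
      have := dvd_sub (d.hw_dvd_nn.trans hab') h1
      rwa [show a + b - a = b by ring] at this
    have hone : el x y (hw n) 0 ∈ X ⊔ center S := by
      have h1 : el x y (a - b) 0 ∈ X ⊔ center S := by
        have := mul_mem (mem_sup_left (T := center S) hi) (hdiag (-b))
        rwa [d.el_mul, add_neg_cancel, ← sub_eq_add_neg] at this
      convert h1 using 1
      rw [d.el_inj]
      obtain ⟨c, hc⟩ := hab'
      obtain ⟨m, rfl⟩ : Odd l := Int.not_even_iff_odd.1 fun he => hl2 he.two_dvd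
      exact ⟨⟨m - c, by rw [d.nn_eq] at hc ⊢; linear_combination hl - hc⟩, ⟨0, by ring⟩⟩
    have hel : ∀ a' b' : ℤ, hw n ∣ a' - b' → el x y a' b' ∈ X ⊔ center S := by
      rintro a' b' ⟨m, hm⟩
      have := mul_mem (hdiag b') (zpow_mem hone m)
      rwa [d.el_zpow, d.el_mul, zero_mul, add_zero, show b' + hw n * m = a' by linarith] at this
    have hz : el x y r (-r) * z ∈ X ⊔ center S := by
      have h1 := mul_mem (hdiag (r - p)) (mem_sup_left (T := center S) hs)
      rwa [d.el_mul_elz, sub_add_cancel, show r - p + q = -r by linarith] at h1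
    rintro _ ⟨t, ⟨a', b', hab2, rfl | rfl⟩, rfl⟩
    · show el x y r 0 * el x y a' b' * (el x y r 0)⁻¹ ∈ _
      rw [d.conj_el_el]; exact hel _ _ hab2
    · show el x y r 0 * (el x y a' b' * z) * (el x y r 0)⁻¹ ∈ _
      rw [d.conj_el_elz, show el x y (a' + r - 0) (b' + 0 - r) * z =
        el x y a' b' * (el x y r (-r) * z) by rw [d.el_mul_elz]; congr 2 <;> ring]
      exact mul_mem (hel _ _ hab2) hz
  · intro t ht
    obtain ⟨c, hc, h⟩ := quaternion8_form e hi hs his ht
    have hci : el x y a b ∈ d.autSub.map (MulAut.conj (el x y r 0)).toMonoidHom := by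
      refine ⟨el x y a b, d.el_mem_autSub.2 ?_, d.conj_el_el _ _ _ _⟩
      have hi4 := quaternion8_pow_four e hi
      rw [d.el_mul, d.el_sq_eq_one] at hi4
      have := dvd_sub hi4.1 (d.hw_dvd_nn.trans hab')
      rwa [show a + a - (a + b) = a - b by ring] at this
    have hcs : el x y p q * z ∈ d.autSub.map (MulAut.conj (el x y r 0)).toMonoidHom := by
      refine ⟨el x y (p - r) (q + r) * z, d.elz_mem_autSub.2 ⟨0, by linarith⟩, ?_⟩
      show el x y r 0 * (el x y (p - r) (q + r) * z) * (el x y r 0)⁻¹ = _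
      rw [d.conj_el_elz]
      congr 2 <;> ring
    have hc' : c ∈ d.autSub.map (MulAut.conj (el x y r 0)).toMonoidHom := by
      rcases hc with rfl | rfl
      exacts [one_mem _, mul_mem hci hci]
    rcases h with rfl | rfl | rfl | rfl
    exacts [hc', mul_mem hci hc', mul_mem hcs hc', mul_mem (mul_mem hci hcs) hc']
  · intro t ht
    obtain ⟨a', b', rfl, hab2⟩ := d.mem_center_iff.1 ht
    exact ⟨_, d.el_mem_autSub.2 (d.hw_dvd_nn.trans hab2), d.conj_el_el _ _ _ _⟩

end Internal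

variable {G : Type*} [Group G] [Finite G] (S : Sylow 2 G) {n : ℕ} {x y z : (S : Subgroup G)}
  (d : WRTriple n x y z)
include d

/-- The base group inside `G`. -/
def WRTriple.baseG : Subgroup G := d.base.map (S : Subgroup G).subtype

/-- `autSub` inside `G`. -/
def WRTriple.autG : Subgroup G := d.autSub.map (S : Subgroup G).subtype

theorem WRTriple.mem_baseG {t : G} :
    t ∈ d.baseG S ↔ ∃ a b : ℤ, t = (↑(el x y a b) : G) := by
  constructor
  · rintro ⟨u, hu, rfl⟩
    obtain ⟨a, b, rfl⟩ := d.mem_base.1 hu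
    exact ⟨a, b, rfl⟩
  · rintro ⟨a, b, rfl⟩
    exact ⟨_, d.el_mem_base a b, rfl⟩

theorem WRTriple.el_mem_baseG (a b : ℤ) : (↑(el x y a b) : G) ∈ d.baseG S :=
  (d.mem_baseG S).2 ⟨a, b, rfl⟩

theorem WRTriple.baseG_le : d.baseG S ≤ (S : Subgroup G) := map_subtype_le _

theorem WRTriple.autG_le : d.autG S ≤ (S : Subgroup G) := map_subtype_le _

theorem WRTriple.baseG_comm {u v : G} (hu : u ∈ d.baseG S) (hv : v ∈ d.baseG S) :
    u * v = v * u := by
  obtain ⟨a, b, rfl⟩ := (d.mem_baseG S).1 hu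
  obtain ⟨a', b', rfl⟩ := (d.mem_baseG S).1 hv
  exact congrArg Subtype.val (d.commute_el_el a b a' b').eq

theorem WRTriple.baseG_eq {U : Subgroup G} (hUS : U ≤ (S : Subgroup G))
    (hUab : IsMulCommutative U) (hUcard : Nat.card U = 2 ^ (2 * n)) : U = d.baseG S := by
  have h := d.eq_base_of_isMulCommutative (A := U.subgroupOf (S : Subgroup G))
    ⟨⟨fun p q => by
      apply Subtype.ext; apply Subtype.ext
      show ((p.1 : (S : Subgroup G)) : G) * q.1.1 = q.1.1 * p.1.1
      exact congrArg Subtype.val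
        (hUab.is_comm.comm (⟨_, mem_subgroupOf.1 p.2⟩ : U) ⟨_, mem_subgroupOf.1 q.2⟩)⟩⟩
    (by rw [Nat.card_congr (subgroupOfEquivOfLe hUS).toEquiv]; exact hUcard)
  rw [WRTriple.baseG, ← h, subgroupOf_map_subtype, inf_eq_left.2 hUS]

theorem WRTriple.sup_center_eq {Q : Subgroup G} (hQS : Q ≤ (S : Subgroup G))
    (eQ : Q ≃* QuaternionGroup 2) :
    ∃ s ∈ (S : Subgroup G), Q ⊔ (center (S : Subgroup G)).map (S : Subgroup G).subtype =
      (d.autG S).map (MulAut.conj s).toMonoidHom := by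
  obtain ⟨r, hr⟩ := d.exists_sup_center_eq ((subgroupOfEquivOfLe hQS).trans eQ)
  refine ⟨(↑(el x y r 0) : G), SetLike.coe_mem _, ?_⟩
  have h := congrArg (Subgroup.map (S : Subgroup G).subtype) hr
  rw [Subgroup.map_sup, subgroupOf_map_subtype, inf_eq_left.2 hQS, map_map] at h
  rw [← h, WRTriple.autG, map_map]
  congr 1

theorem WRTriple.center_le_autG :
    (center (S : Subgroup G)).map (S : Subgroup G).subtype ≤ d.autG S := by
  refine Subgroup.map_mono fun t ht => ?_
  obtain ⟨a, b, rfl, hab⟩ := d.mem_center_iff.1 ht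
  exact d.el_mem_autSub.2 (d.hw_dvd_nn.trans hab)

/-- The subgroups `E` with `C_S(E) ≤ E` which may be moved by elements of odd order. -/
theorem WRTriple.centric_cases {E : Subgroup G} (hES : E ≤ (S : Subgroup G))
    (hcent : (S : Subgroup G) ⊓ centralizer (E : Set G) ≤ E) {g : G}
    (hgN : g ∈ normalizer (E : Set G)) (hg : Odd (orderOf g)) :
    g ∈ centralizer (E : Set G) ∨ E = d.baseG S ∨
      ∃ s ∈ (S : Subgroup G), E = (d.autG S).map (MulAut.conj s).toMonoidHom := by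
  have hX : centralizer (E.subgroupOf (S : Subgroup G) : Set (S : Subgroup G)) ≤
      E.subgroupOf (S : Subgroup G) := fun v hv => mem_subgroupOf.2 (hcent (mem_inf.2 ⟨v.2,
    fun t ht => congrArg Subtype.val (hv ⟨t, hES ht⟩ (mem_subgroupOf.2 ht))⟩))
  have hmap : (E.subgroupOf (S : Subgroup G)).map (S : Subgroup G).subtype = E := by
    rw [subgroupOf_map_subtype, inf_eq_left.2 hES]
  by_cases hb : E.subgroupOf (S : Subgroup G) ≤ d.base
  · refine Or.inr (Or.inl ?_)
    have h : E.subgroupOf (S : Subgroup G) = d.base := le_antisymm hb fun u hu => hX fun v hv => by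
      obtain ⟨a, b, rfl⟩ := d.mem_base.1 hu
      obtain ⟨a', b', rfl⟩ := d.mem_base.1 (hb hv)
      exact (d.commute_el_el _ _ _ _).eq
    rw [WRTriple.baseG, ← h, hmap]
  by_cases hA : IsPGroup 2 (MulAut (E.subgroupOf (S : Subgroup G)))
  · refine Or.inl ?_
    have hA' : IsPGroup 2 (MulAut E) := hA.of_equiv (MulAut.congr (subgroupOfEquivOfLe hES))
    obtain ⟨k, hk⟩ := hA' (E.normalizerMonoidHom ⟨g, hgN⟩)
    have e2 : E.normalizerMonoidHom ⟨g, hgN⟩ ^ orderOf g = 1 := by
      rw [← map_pow, show (⟨g, hgN⟩ : normalizer (E : Set G)) ^ orderOf g = 1 from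
        Subtype.ext (pow_orderOf_eq_one g), map_one]
    have h1 : (⟨g, hgN⟩ : normalizer (E : Set G)) ∈ E.normalizerMonoidHom.ker :=
      MonoidHom.mem_ker.2 (orderOf_eq_one_iff.1 (Nat.eq_one_of_dvd_coprimes
        (Nat.Coprime.pow_left k (Nat.coprime_two_left.2 hg)) (orderOf_dvd_of_pow_eq_one hk)
        (orderOf_dvd_of_pow_eq_one e2)))
    rw [normalizerMonoidHom_ker] at h1
    exact mem_subgroupOf.1 h1
  · obtain ⟨s, hs⟩ := d.exists_conj_autSub hX hb hA
    refine Or.inr (Or.inr ⟨(s : G), s.2, ?_⟩)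
    rw [← hmap, ← hs, WRTriple.autG, map_map, map_map]
    congr 1

theorem WRTriple.z_center_ne_one : (↑(el x y (TwoGroups.hw n) (TwoGroups.hw n)) : G) ≠ 1 :=
  fun h => d.el_hw_ne_one_left _ (Subtype.ext h)

/-- An element of odd order normalizing `autSub` centralizes `Z(S)`. -/
theorem WRTriple.fix_center {g : G} (hgN : g ∈ normalizer (d.autG S : Set G))
    (hg : Odd (orderOf g)) :
    g ∈ centralizer ((center (S : Subgroup G)).map (S : Subgroup G).subtype : Set G) := by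
  set Zc := (center (S : Subgroup G)).map (S : Subgroup G).subtype with hZc
  have hZS : Zc ≤ (S : Subgroup G) := map_subtype_le _
  have hcomm : ∀ c ∈ Zc, ∀ t ∈ (S : Subgroup G), t * c = c * t := by
    rintro _ ⟨c, hc, rfl⟩ t ht
    exact congrArg Subtype.val (Subgroup.mem_center_iff.1 hc ⟨t, ht⟩)
  have hfwd : ∀ g' ∈ normalizer (d.autG S : Set G), ∀ c ∈ Zc, g' * c * g'⁻¹ ∈ Zc := by
    intro g' hg' c hc
    obtain ⟨e, he, he'⟩ := (mem_normalizer_iff.1 hg' c).1 (d.center_le_autG S hc)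
    have hcen : (⟨e, he⟩ : d.autSub) ∈ center d.autSub := Subgroup.mem_center_iff.2 fun t => by
      refine Subtype.ext (Subtype.ext ?_)
      show ((t : (S : Subgroup G)) : G) * (S : Subgroup G).subtype e =
        (S : Subgroup G).subtype e * ((t : (S : Subgroup G)) : G)
      rw [he']
      have ht : g'⁻¹ * ((t : (S : Subgroup G)) : G) * g' ∈ d.autG S :=
        (mem_normalizer_iff''.1 hg' _).1 ⟨_, t.2, rfl⟩
      have := hcomm c hc _ (d.autG_le S ht)
      calc ((t : (S : Subgroup G)) : G) * (g' * c * g'⁻¹)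
          = g' * (g'⁻¹ * ((t : (S : Subgroup G)) : G) * g' * c) * g'⁻¹ := by group
        _ = g' * c * g'⁻¹ * ((t : (S : Subgroup G)) : G) := by rw [this]; group
    exact ⟨e, d.center_le_center d.autSub_not_comm ⟨_, hcen, rfl⟩, he'⟩
  haveI : IsMulCommutative Zc :=
    ⟨⟨fun p q => Subtype.ext (hcomm _ q.2 _ (hZS p.2))⟩⟩
  have hgZ : g ∈ normalizer (Zc : Set G) := by
    refine mem_normalizer_iff_map_conj_eq.2 (eq_of_le_of_card_ge ?_
      (card_map_of_injective (MulAut.conj g).injective).ge)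
    rintro _ ⟨c, hc, rfl⟩
    exact hfwd g hgN c hc
  have hcyc : Zc = zpowers (↑(el x y 1 1) : G) := by
    rw [hZc, d.center_eq, MonoidHom.map_zpowers]; rfl
  refine mem_centralizer_of_fix_invol (S.isPGroup'.to_le hZS) hgZ (fun v hv hv2 => ?_) ?_
  · by_cases h1 : v = 1
    · rw [h1, mul_one, mul_inv_cancel]
    · exact eq_of_invol_mem_zpowers (hcyc ▸ hfwd g hgN v hv) (hcyc ▸ hv)
        (by rw [show g * v * g⁻¹ * (g * v * g⁻¹) = g * (v * v) * g⁻¹ by group, hv2, mul_one,
          mul_inv_cancel]) hv2 (fun h => h1 (conj_eq_one_iff.1 h)) h1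
  · rintro u hu ⟨k, hk⟩
    have h1 : u = 1 := orderOf_eq_one_iff.1 (Nat.eq_one_of_dvd_coprimes
      (Nat.Coprime.pow_left k (Nat.coprime_two_left.2 hg))
      (orderOf_dvd_of_pow_eq_one hk) (orderOf_dvd_of_mem_zpowers hu))
    rw [h1]; exact one_mem _

/-- If odd-order elements normalizing the base group centralize it, no element of `Z(S)` has
another conjugate in `S`. -/
theorem WRTriple.center_fusion
    (hU : ∀ g ∈ normalizer (d.baseG S : Set G), Odd (orderOf g) →
      g ∈ centralizer (d.baseG S : Set G))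
    {v : G} (hv : v ∈ (center (S : Subgroup G)).map (S : Subgroup G).subtype) (g : G)
    (hg : g * v * g⁻¹ ∈ (S : Subgroup G)) : g * v * g⁻¹ = v := by
  have hcomm : ∀ t ∈ (S : Subgroup G), t * v = v * t := by
    obtain ⟨v', hv', rfl⟩ := hv
    exact fun t ht => congrArg Subtype.val (Subgroup.mem_center_iff.1 hv' ⟨t, ht⟩)
  refine fusion_induction_centric S (fun w => w = v) ?_ ?_ (map_subtype_le _ hv) rfl g hg
  · intro s hs w _ hw
    show s * w * s⁻¹ = v
    rw [show w = v from hw, hcomm s hs, mul_inv_cancel_right]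
  · intro E hES hcent g' hg'N hg' w hwE hw
    change w = v at hw
    subst hw
    show g' * w * g'⁻¹ = w
    rcases d.centric_cases S hES hcent hg'N hg' with h | h | ⟨s, hs, h⟩
    · rw [← h w hwE, mul_inv_cancel_right]
    · subst h
      rw [← hU g' hg'N hg' w hwE, mul_inv_cancel_right]
    · subst h
      have h1 : Commute (s⁻¹ * g' * s) w := (d.fix_center S (mem_normalizer_map_conj.1 hg'N)
        (by simpa using odd_orderOf_conj (s := s⁻¹) hg') w hv).symm
      have hsw : Commute s w := hcomm s hs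
      have h2 : Commute g' w := by
        have := (hsw.mul_left h1).mul_left hsw.inv_left
        rwa [show s * (s⁻¹ * g' * s) * s⁻¹ = g' by group] at this
      rw [h2.eq, mul_inv_cancel_right]

/-- If odd-order elements normalizing `autSub` centralize it, the involutions of the base group
stay in it. -/
theorem WRTriple.invol_base_fusion
    (hV : ∀ g ∈ normalizer (d.autG S : Set G), Odd (orderOf g) →
      g ∈ centralizer (d.autG S : Set G))
    {v : G} (hv : v ∈ d.baseG S) (hv2 : v * v = 1) (g : G)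
    (hg : g * v * g⁻¹ ∈ (S : Subgroup G)) : g * v * g⁻¹ ∈ d.baseG S := by
  have hsq : ∀ g w : G, w * w = 1 → g * w * g⁻¹ * (g * w * g⁻¹) = 1 := fun g w h => by
    rw [show g * w * g⁻¹ * (g * w * g⁻¹) = g * (w * w) * g⁻¹ by group, h, mul_one, mul_inv_cancel]
  refine (fusion_induction_centric S (fun w => w ∈ d.baseG S ∧ w * w = 1) ?_ ?_
    (d.baseG_le S hv) ⟨hv, hv2⟩ g hg).1
  · rintro s hs w - ⟨hw, hw2⟩
    refine ⟨?_, hsq s w hw2⟩
    obtain ⟨w', hw', rfl⟩ := hw
    haveI := normal_of_index_eq_two d.index_base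
    exact ⟨_, (inferInstance : d.base.Normal).conj_mem w' hw' ⟨s, hs⟩, rfl⟩
  · rintro E hES hcent g' hg'N hg' w hwE ⟨hw, hw2⟩
    refine ⟨?_, hsq g' w hw2⟩
    rcases d.centric_cases S hES hcent hg'N hg' with h | h | ⟨s, hs, h⟩
    · rw [← h w hwE, mul_inv_cancel_right]; exact hw
    · subst h
      exact (mem_normalizer_iff.1 hg'N w).1 hwE
    · subst h
      have h1 := hV _ (mem_normalizer_map_conj.1 hg'N)
        (by simpa using odd_orderOf_conj (s := s⁻¹) hg')
      rw [← mem_centralizer_map_conj.2 h1 w hwE, mul_inv_cancel_right]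
      exact hw

/-- `Ω₁` of the base group, inside `G`. -/
theorem WRTriple.exists_omega : ∃ T : Subgroup G, IsKleinFour T ∧
    (∀ t, t ∈ T ↔ t ∈ d.baseG S ∧ t * t = 1) ∧
    ∀ t ∈ T, t = 1 ∨ t = (↑(el x y (TwoGroups.hw n) 0) : G) ∨
      t = (↑(el x y 0 (TwoGroups.hw n)) : G) ∨
      t = (↑(el x y (TwoGroups.hw n) (TwoGroups.hw n)) : G) := by
  obtain ⟨T₀, hT₀, -, -, -, hmem⟩ := d.exists_baseFour
  refine ⟨T₀.map (S : Subgroup G).subtype, ?_, fun t => ⟨?_, ?_⟩, ?_⟩
  · refine isKleinFour_iff.2 ⟨?_, ?_⟩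
    · rw [card_map_of_injective (subtype_injective _)]; exact hT₀.card_four
    · rintro _ ⟨u, hu, rfl⟩
      exact congrArg Subtype.val ((isKleinFour_iff.1 hT₀).2 u hu)
  · rintro ⟨u, hu, rfl⟩
    refine ⟨⟨u, ?_, rfl⟩, congrArg Subtype.val ((isKleinFour_iff.1 hT₀).2 u hu)⟩
    rcases (hmem u).1 hu with rfl | rfl | rfl | rfl
    exacts [one_mem _, d.el_mem_base _ _, d.el_mem_base _ _, d.el_mem_base _ _]
  · rintro ⟨⟨u, hu, rfl⟩, ht2⟩
    obtain ⟨a, b, rfl⟩ := d.mem_base.1 hu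
    exact ⟨_, (hmem _).2 (d.el_invol (Subtype.ext ht2)), rfl⟩
  · rintro _ ⟨u, hu, rfl⟩
    rcases (hmem u).1 hu with rfl | rfl | rfl | rfl
    exacts [Or.inl rfl, Or.inr (Or.inl rfl), Or.inr (Or.inr (Or.inl rfl)),
      Or.inr (Or.inr (Or.inr rfl))]

/-- An element of odd order normalizing the base group and fixing the central involution
centralizes the base group. -/
theorem WRTriple.mem_centralizer_baseG {g : G} (hgN : g ∈ normalizer (d.baseG S : Set G))
    (hg : Odd (orderOf g))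
    (hfix : g * (↑(el x y (TwoGroups.hw n) (TwoGroups.hw n)) : G) * g⁻¹ =
      (↑(el x y (TwoGroups.hw n) (TwoGroups.hw n)) : G)) :
    g ∈ centralizer (d.baseG S : Set G) := by
  obtain ⟨T, hT, hmem, -⟩ := d.exists_omega S
  have hc2 : el x y (TwoGroups.hw n) (TwoGroups.hw n) * el x y (TwoGroups.hw n) (TwoGroups.hw n) =
      1 := d.el_sq_eq_one.2 ⟨dvd_rfl, dvd_rfl⟩
  have hgT : g ∈ normalizer (T : Set G) := by
    rw [mem_normalizer_iff]
    intro t
    rw [hmem, hmem, show g * t * g⁻¹ * (g * t * g⁻¹) = g * (t * t) * g⁻¹ by group,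
      conj_eq_one_iff, ← mem_normalizer_iff.1 hgN t]
  have hgCT := mem_centralizer_of_fix_kleinFour hT hgT hg
    ((hmem _).2 ⟨d.el_mem_baseG S _ _, congrArg Subtype.val hc2⟩) (d.z_center_ne_one S) hfix
  haveI : IsMulCommutative (d.baseG S) :=
    ⟨⟨fun p q => Subtype.ext (d.baseG_comm S p.2 q.2)⟩⟩
  refine mem_centralizer_of_fix_invol (S.isPGroup'.to_le (d.baseG_le S)) hgN
    (fun v hv hv2 => ?_) ?_
  · rw [← hgCT v ((hmem v).2 ⟨hv, hv2⟩), mul_inv_cancel_right]
  · rintro u hu ⟨k, hk⟩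
    have h1 : u = 1 := orderOf_eq_one_iff.1 (Nat.eq_one_of_dvd_coprimes
      (Nat.Coprime.pow_left k (Nat.coprime_two_left.2 hg))
      (orderOf_dvd_of_pow_eq_one hk) (orderOf_dvd_of_mem_zpowers hu))
    rw [h1]; exact one_mem _

/-- An automizer of order six moves the central involution. -/
theorem WRTriple.exists_odd_base
    (h : (centralizer (d.baseG S : Set G)).relIndex (normalizer (d.baseG S : Set G)) = 6) :
    ∃ g ∈ normalizer (d.baseG S : Set G), Odd (orderOf g) ∧
      g * (↑(el x y (TwoGroups.hw n) (TwoGroups.hw n)) : G) * g⁻¹ ≠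
        (↑(el x y (TwoGroups.hw n) (TwoGroups.hw n)) : G) := by
  obtain ⟨g, hgN, hgC, hg⟩ := exists_odd_mem_notMem (H := centralizer (d.baseG S : Set G))
    (N := normalizer (d.baseG S : Set G)) (by rw [h]; norm_num)
  exact ⟨g, hgN, hg, fun hfix => hgC (d.mem_centralizer_baseG S hgN hg hfix)⟩

/-- An automizer of order six fuses `el hw 0` with an involution outside the base group. -/
theorem WRTriple.exists_odd_aut {g : G} (hgN : g ∈ normalizer (d.autG S : Set G))
    (hg : Odd (orderOf g)) (hgC : g ∉ centralizer (d.autG S : Set G)) :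
    ∃ p : ℤ, g * (↑(el x y (TwoGroups.hw n) 0) : G) * g⁻¹ = (↑(el x y p (-p) * z) : G) := by
  set a₁ : G := (↑(el x y (TwoGroups.hw n) 0) : G) with ha₁
  set c : G := (↑(el x y (TwoGroups.hw n) (TwoGroups.hw n)) : G) with hc
  have ha2 : el x y (TwoGroups.hw n) 0 * el x y (TwoGroups.hw n) 0 = 1 :=
    d.el_sq_eq_one.2 ⟨dvd_rfl, dvd_zero _⟩
  have haW : a₁ ∈ d.autG S := ⟨_, d.el_mem_autSub.2 (by simp), rfl⟩
  have hcZ : c ∈ (center (S : Subgroup G)).map (S : Subgroup G).subtype :=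
    ⟨_, d.mem_center_iff.2 ⟨_, _, rfl, by simp⟩, rfl⟩
  have hgZ := d.fix_center S hgN hg
  have hgc : g * c * g⁻¹ = c := by rw [← hgZ c hcZ, mul_inv_cancel_right]
  obtain ⟨v, hv, hv'⟩ := (mem_normalizer_iff.1 hgN a₁).1 haW
  have hv2 : v * v = 1 := by
    refine Subtype.ext ?_
    show (S : Subgroup G).subtype v * (S : Subgroup G).subtype v = 1
    rw [hv', show g * a₁ * g⁻¹ * (g * a₁ * g⁻¹) = g * (a₁ * a₁) * g⁻¹ by group, ha₁,
      show (↑(el x y (TwoGroups.hw n) 0) : G) * (↑(el x y (TwoGroups.hw n) 0) : G) = 1 from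
        congrArg Subtype.val ha2, mul_one, mul_inv_cancel]
  obtain ⟨p, q, rfl | rfl⟩ := d.eq_cases v
  swap
  · refine ⟨p, hv'.symm.trans (congrArg (S : Subgroup G).subtype
      (show el x y p q * z = el x y p (-p) * z from ?_))⟩
    rw [d.elz_inj]
    exact ⟨by simp, by
      rw [show -p - q = -(p + q) by ring, dvd_neg]; exact d.elz_sq_eq_one.1 hv2⟩
  exfalso
  have ha1 : a₁ ≠ 1 := fun h => d.el_hw_ne_one_left 0 (Subtype.ext h)
  have hca : c = a₁ * (↑(el x y 0 (TwoGroups.hw n)) : G) := by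
    rw [hc, ha₁, ← Subgroup.coe_mul, d.el_mul, add_zero, zero_add]
  have hfix : g * a₁ * g⁻¹ = a₁ := by
    have hv'' : (↑(el x y p q) : G) = g * a₁ * g⁻¹ := hv'
    rcases d.el_invol hv2 with h | h | h | h <;> rw [h] at hv''
    · exact absurd (conj_eq_one_iff.1 hv''.symm) ha1
    · exact hv''.symm
    · refine conj_eq_of_sq_conj_eq hg ?_
      have h2 : a₁ * a₁ = 1 := congrArg Subtype.val ha2
      rw [← hv'', show (↑(el x y 0 (TwoGroups.hw n)) : G) = a₁ * c by
        rw [hca, ← mul_assoc, h2, one_mul]]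
      rw [show g * (a₁ * c) * g⁻¹ = (g * a₁ * g⁻¹) * (g * c * g⁻¹) by group, hgc, ← hv'', hca,
        ← mul_assoc, (d.baseG_comm S (d.el_mem_baseG S 0 (TwoGroups.hw n))
          (d.el_mem_baseG S _ _) : (↑(el x y 0 (TwoGroups.hw n)) : G) * a₁ = _), mul_assoc,
        ← Subgroup.coe_mul, d.el_sq_eq_one.2 ⟨dvd_zero _, dvd_rfl⟩, Subgroup.coe_one, mul_one]
    · exfalso
      have h2 := mul_left_cancel (mul_right_cancel (hv''.symm.trans hgc.symm))
      exact d.el_hw_ne_one_right 0 (by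
        have h3 : (↑(el x y 0 (TwoGroups.hw n)) : G) = 1 := by
          rw [← h2, left_eq_mul] at hca; exact hca
        exact Subtype.ext h3)
  have hP0 : ∀ a b : ℤ, TwoGroups.hw n ∣ a - b →
      g * (↑(el x y a b) : G) * g⁻¹ = (↑(el x y a b) : G) := by
    rintro a b ⟨m, hm⟩
    have e : el x y a b = el x y b b * el x y (TwoGroups.hw n) 0 ^ m := by
      rw [d.el_zpow, d.el_mul]
      congr 1 <;> linarith
    have hb : Commute g (↑(el x y b b) : G) :=
      (hgZ _ ⟨_, d.mem_center_iff.2 ⟨b, b, rfl, by simp⟩, rfl⟩).symm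
    have ha : Commute g a₁ := mul_inv_eq_iff_eq_mul.1 hfix
    have := hb.mul_right (ha.zpow_right m)
    rw [ha₁, ← Subgroup.coe_zpow, ← Subgroup.coe_mul, ← e] at this
    rw [this.eq, mul_inv_cancel_right]
  obtain ⟨w, ⟨a, b, hab, hw'⟩, hw⟩ := (mem_normalizer_iff.1 hgN (z : G)).1 ⟨z, d.z_mem_autSub, rfl⟩
  have hwz : (w : G) = g * (z : G) * g⁻¹ := hw
  rcases hw' with rfl | rfl
  · have h1 := hP0 a b hab
    exact d.z_ne_el a b (Subtype.ext (mul_left_cancel (mul_right_cancel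
      (hwz.symm.trans h1.symm))))
  · have e : el x y a b * z = z * el x y b a := by rw [d.z_mul_el]
    rw [e, Subgroup.coe_mul] at hwz
    obtain ⟨j, hj⟩ := S.isPGroup' (el x y b a)
    have h1 := eq_one_of_conj_eq_mul hg hwz.symm
      (hP0 b a (by rw [← neg_sub, dvd_neg]; exact hab)) (congrArg Subtype.val hj)
    rw [h1, mul_one] at hwz
    have hgz : Commute g (z : G) := mul_inv_eq_iff_eq_mul.1 hwz.symm
    refine hgC ?_
    rintro _ ⟨t, ⟨a', b', hab', rfl | rfl⟩, rfl⟩
    · exact (show Commute g _ from mul_inv_eq_iff_eq_mul.1 (hP0 a' b' hab')).symm.eq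
    · exact ((show Commute g (↑(el x y a' b') : G) from
        mul_inv_eq_iff_eq_mul.1 (hP0 a' b' hab')).mul_right hgz).symm.eq

/-- A subgroup meeting the maximal subgroups of the base group and stable under an element moving
the central involution contains the base group. -/
theorem WRTriple.baseG_le_of_odd {g : G} (hgN : g ∈ normalizer (d.baseG S : Set G))
    (hg : Odd (orderOf g))
    (hgc : g * (↑(el x y (TwoGroups.hw n) (TwoGroups.hw n)) : G) * g⁻¹ ≠
      (↑(el x y (TwoGroups.hw n) (TwoGroups.hw n)) : G))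
    {M : Subgroup G} (hsq : ∀ a ∈ d.baseG S, a * a ∈ M)
    (h3 : ∀ a ∈ d.baseG S, ∀ b ∈ d.baseG S, a ∈ M ∨ b ∈ M ∨ a * b ∈ M)
    (hinv : ∀ a ∈ d.baseG S, a ∈ M → g * a * g⁻¹ ∈ M) : d.baseG S ≤ M := by
  obtain ⟨T, hT, hmem, hcases⟩ := d.exists_omega S
  let M' : Subgroup G :=
    { carrier := {t | ∃ a b : ℤ, (↑(el x y a b) : G) ∈ M ∧
        t = (↑(el x y (a * TwoGroups.hw n) (b * TwoGroups.hw n)) : G)}
      one_mem' := ⟨0, 0, by rw [d.el_zero]; exact one_mem M,
        by rw [zero_mul, d.el_zero]; rfl⟩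
      mul_mem' := by
        rintro _ _ ⟨a, b, h, rfl⟩ ⟨a', b', h', rfl⟩
        refine ⟨a + a', b + b', ?_, ?_⟩
        · rw [← d.el_mul]; exact mul_mem h h'
        · rw [← Subgroup.coe_mul, d.el_mul]; congr 2 <;> ring
      inv_mem' := by
        rintro _ ⟨a, b, h, rfl⟩
        refine ⟨-a, -b, ?_, ?_⟩
        · rw [← d.el_inv]; exact inv_mem h
        · rw [← Subgroup.coe_inv, d.el_inv]; congr 2 <;> ring }
  have hTform : ∀ t ∈ T, ∃ a b : ℤ,
      t = (↑(el x y (a * TwoGroups.hw n) (b * TwoGroups.hw n)) : G) := by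
    intro t ht
    rcases hcases t ht with rfl | rfl | rfl | rfl
    · exact ⟨0, 0, by rw [zero_mul, d.el_zero]; rfl⟩
    · exact ⟨1, 0, by rw [one_mul, zero_mul]⟩
    · exact ⟨0, 1, by rw [one_mul, zero_mul]⟩
    · exact ⟨1, 1, by rw [one_mul]⟩
  have hgT : g ∈ normalizer (T : Set G) := by
    rw [mem_normalizer_iff]
    intro t
    rw [hmem, hmem, show g * t * g⁻¹ * (g * t * g⁻¹) = g * (t * t) * g⁻¹ by group,
      conj_eq_one_iff, ← mem_normalizer_iff.1 hgN t]
  have hcT : (↑(el x y (TwoGroups.hw n) (TwoGroups.hw n)) : G) ∈ T :=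
    (hmem _).2 ⟨d.el_mem_baseG S _ _,
      congrArg Subtype.val (d.el_sq_eq_one.2 ⟨dvd_rfl, dvd_rfl⟩)⟩
  have hTM : T ≤ M' := by
    refine kleinFour_forall_mem hT hgT hg
      (fun h => hgc (by rw [← h _ hcT, mul_inv_cancel_right])) (fun t ht t' ht' => ?_)
      fun t _ ⟨a, b, hab, htab⟩ => ?_
    · obtain ⟨a, b, rfl⟩ := hTform t ht
      obtain ⟨a', b', rfl⟩ := hTform t' ht'
      rcases h3 _ (d.el_mem_baseG S a b) _ (d.el_mem_baseG S a' b') with h | h | h
      · exact Or.inl ⟨a, b, h, rfl⟩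
      · exact Or.inr (Or.inl ⟨a', b', h, rfl⟩)
      · refine Or.inr (Or.inr ⟨a + a', b + b', ?_, ?_⟩)
        · rw [← d.el_mul]; exact h
        · rw [← Subgroup.coe_mul, d.el_mul]; congr 2 <;> ring
    · obtain ⟨a', b', he⟩ := (d.mem_baseG S).1
        ((mem_normalizer_iff.1 hgN _).1 (d.el_mem_baseG S a b))
      refine ⟨a', b', he ▸ hinv _ (d.el_mem_baseG S a b) hab, ?_⟩
      rw [htab, ← d.el_zpow, Subgroup.coe_zpow, ← conj_zpow, he, ← Subgroup.coe_zpow, d.el_zpow]
  have hsq' : ∀ a b : ℤ, 2 ∣ a → 2 ∣ b → (↑(el x y a b) : G) ∈ M := by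
    rintro a b ⟨i, rfl⟩ ⟨j, rfl⟩
    rw [← d.sq_el, Subgroup.coe_mul]
    exact hsq _ (d.el_mem_baseG S i j)
  have hgen : ∀ i j : ℤ, (↑(el x y (i * TwoGroups.hw n) (j * TwoGroups.hw n)) : G) ∈ T →
      (↑(el x y i j) : G) ∈ M := by
    intro i j hij
    obtain ⟨a, b, hab, he⟩ := hTM hij
    obtain ⟨h1, h2⟩ := d.el_inj.1 (Subtype.ext he)
    rw [d.nn_eq, ← sub_mul, mul_dvd_mul_iff_right d.hw_pos.ne'] at h1 h2
    have := mul_mem hab (hsq' (i - a) (j - b) (dvd_sub_comm.1 h1) (dvd_sub_comm.1 h2))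
    rwa [← Subgroup.coe_mul, d.el_mul, add_sub_cancel, add_sub_cancel] at this
  intro t ht
  obtain ⟨a, b, rfl⟩ := (d.mem_baseG S).1 ht
  have e : el x y a b = el x y 1 0 ^ a * el x y 0 1 ^ b := by
    rw [d.el_zpow, d.el_zpow, d.el_mul]; congr 1 <;> ring
  rw [e, Subgroup.coe_mul, Subgroup.coe_zpow, Subgroup.coe_zpow]
  refine mul_mem (zpow_mem (hgen 1 0 ((hmem _).2 ⟨d.el_mem_baseG S _ _, congrArg Subtype.val
      (d.el_sq_eq_one.2 ⟨by simp, by simp⟩)⟩)) _)
    (zpow_mem (hgen 0 1 ((hmem _).2 ⟨d.el_mem_baseG S _ _, congrArg Subtype.val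
      (d.el_sq_eq_one.2 ⟨by simp, by simp⟩)⟩)) _)

/-! ### Involution classes -/

/-- The three classes of involutions of `S`. -/
theorem WRTriple.invol_cases (s : (S : Subgroup G)) (hs : orderOf s = 2) :
    s = el x y (TwoGroups.hw n) (TwoGroups.hw n) ∨
      IsConj (s : G) (↑(el x y (TwoGroups.hw n) 0) : G) ∨ IsConj (s : G) (z : G) := by
  have h2 : s * s = 1 := by
    have h := pow_orderOf_eq_one s
    rwa [hs, sq] at h
  obtain ⟨a, b, rfl | rfl⟩ := d.eq_cases s
  · rcases d.el_invol h2 with h | h | h | h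
    · rw [h, orderOf_one] at hs; omega
    · exact Or.inr (Or.inl (by rw [h]))
    · refine Or.inr (Or.inl (isConj_iff.2 ⟨(z : G), ?_⟩))
      rw [h]
      exact congrArg Subtype.val (d.conj_z_el 0 (TwoGroups.hw n))
    · exact Or.inl h
  · refine Or.inr (Or.inr ?_)
    obtain ⟨u, hu⟩ := d.exists_conj_elz (a := a) (b := b) (c := 0) (e := 0)
      (by simpa using d.elz_sq_eq_one.1 h2)
    rw [d.elz_zero] at hu
    exact isConj_iff.2 ⟨(↑(el x y u 0) : G), congrArg Subtype.val hu⟩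

/-- Six on the base group fuses the central involution with `el hw 0`. -/
theorem WRTriple.isConj_c_a
    (h : (centralizer (d.baseG S : Set G)).relIndex (normalizer (d.baseG S : Set G)) = 6) :
    IsConj (↑(el x y (TwoGroups.hw n) (TwoGroups.hw n)) : G)
      (↑(el x y (TwoGroups.hw n) 0) : G) := by
  obtain ⟨g, hgN, hg, hgc⟩ := d.exists_odd_base S h
  obtain ⟨T, hT, hmem, hcases⟩ := d.exists_omega S
  set c : G := (↑(el x y (TwoGroups.hw n) (TwoGroups.hw n)) : G) with hc
  have hc2 : c * c = 1 := congrArg Subtype.val (d.el_sq_eq_one.2 ⟨dvd_rfl, dvd_rfl⟩)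
  have hmem' : g * c * g⁻¹ ∈ T := (hmem _).2 ⟨(mem_normalizer_iff.1 hgN c).1
    (d.el_mem_baseG S _ _), by
      rw [show g * c * g⁻¹ * (g * c * g⁻¹) = g * (c * c) * g⁻¹ by group, hc2, mul_one,
        mul_inv_cancel]⟩
  rcases hcases _ hmem' with h' | h' | h' | h'
  · exact absurd (conj_eq_one_iff.1 h') (d.z_center_ne_one S)
  · exact isConj_iff.2 ⟨g, h'⟩
  · refine (isConj_iff.2 ⟨g, h'⟩).trans (isConj_iff.2 ⟨(z : G), ?_⟩)
    exact congrArg Subtype.val (d.conj_z_el 0 (TwoGroups.hw n))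
  · exact absurd h' hgc

/-- Six on `autSub` fuses `el hw 0` with `z`. -/
theorem WRTriple.isConj_a_z {g : G} (hgN : g ∈ normalizer (d.autG S : Set G))
    (hg : Odd (orderOf g)) (hgC : g ∉ centralizer (d.autG S : Set G)) :
    IsConj (↑(el x y (TwoGroups.hw n) 0) : G) (z : G) := by
  obtain ⟨p, hp⟩ := d.exists_odd_aut S hgN hg hgC
  obtain ⟨u, hu⟩ := d.exists_conj_elz (a := p) (b := -p) (c := 0) (e := 0) (by simp)
  rw [d.elz_zero] at hu
  exact (isConj_iff.2 ⟨g, hp⟩).trans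
    (isConj_iff.2 ⟨(↑(el x y u 0) : G), congrArg Subtype.val hu⟩)

theorem WRTriple.not_isConj_c
    (hU : ∀ g ∈ normalizer (d.baseG S : Set G), Odd (orderOf g) →
      g ∈ centralizer (d.baseG S : Set G))
    {s : (S : Subgroup G)} (hs : s ≠ el x y (TwoGroups.hw n) (TwoGroups.hw n)) :
    ¬ IsConj (↑(el x y (TwoGroups.hw n) (TwoGroups.hw n)) : G) (s : G) := by
  intro h
  obtain ⟨g, hg⟩ := isConj_iff.1 h
  refine hs (Subtype.ext ?_)
  have := d.center_fusion S hU (v := (↑(el x y (TwoGroups.hw n) (TwoGroups.hw n)) : G))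
    ⟨_, d.mem_center_iff.2 ⟨_, _, rfl, by simp⟩, rfl⟩ g (hg ▸ s.2)
  rw [← hg, this]

theorem WRTriple.not_isConj_z
    (hV : ∀ g ∈ normalizer (d.autG S : Set G), Odd (orderOf g) →
      g ∈ centralizer (d.autG S : Set G))
    {a b : ℤ} (h2 : el x y a b * el x y a b = 1) : ¬ IsConj (↑(el x y a b) : G) (z : G) := by
  intro h
  obtain ⟨g, hg⟩ := isConj_iff.1 h
  have := d.invol_base_fusion S hV (d.el_mem_baseG S a b) (congrArg Subtype.val h2) g (hg ▸ z.2)
  rw [hg] at this
  obtain ⟨a', b', he⟩ := (d.mem_baseG S).1 this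
  exact d.z_ne_el a' b' (Subtype.ext he)

theorem WRTriple.el_hw_ne : el x y (TwoGroups.hw n) 0 ≠ el x y (TwoGroups.hw n) (TwoGroups.hw n) :=
  fun h => d.not_nn_dvd_hw (by have := (d.el_inj.1 h).2; rwa [sub_zero] at this)

/-! ### The four cases -/

theorem WRTriple.index_ne_two_of_six
    (h : (centralizer (d.baseG S : Set G)).relIndex (normalizer (d.baseG S : Set G)) = 6)
    {g : G} (hgN : g ∈ normalizer (d.autG S : Set G))
    (hg : Odd (orderOf g)) (hgC : g ∉ centralizer (d.autG S : Set G)) (H : Subgroup G) :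
    H.index ≠ 2 := by
  intro hH
  haveI : Fact (Nat.Prime 2) := ⟨Nat.prime_two⟩
  haveI := normal_of_index_eq_two hH
  obtain ⟨g', hg'N, hg', hg'c⟩ := d.exists_odd_base S h
  have hU : d.baseG S ≤ H := d.baseG_le_of_odd S hg'N hg' hg'c
    (fun a _ => by rw [← sq]; exact sq_mem_of_index_two hH a)
    (fun a _ b _ => by
      rw [mul_mem_iff_of_index_two hH]; tauto)
    (fun a _ ha => (inferInstance : H.Normal).conj_mem a ha g')
  have hz : (z : G) ∈ H := by
    obtain ⟨u, hu⟩ := isConj_iff.1 (d.isConj_a_z S hgN hg hgC)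
    rw [← hu]
    exact (inferInstance : H.Normal).conj_mem _ (hU (d.el_mem_baseG S _ _)) u
  have hle : (S : Subgroup G) ≤ H := by
    intro s hs
    obtain ⟨a, b, e | e⟩ := d.eq_cases ⟨s, hs⟩ <;> rw [show s = _ from congrArg Subtype.val e]
    · exact hU (d.el_mem_baseG S a b)
    · exact mul_mem (hU (d.el_mem_baseG S a b)) hz
  exact S.not_dvd_index (hH.symm.dvd.trans (index_dvd_of_le hle))

theorem WRTriple.exists_index_two_base
    (h : (centralizer (d.baseG S : Set G)).relIndex (normalizer (d.baseG S : Set G)) = 6)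
    (hV : ∀ g ∈ normalizer (d.autG S : Set G), Odd (orderOf g) →
      g ∈ centralizer (d.autG S : Set G)) :
    ∃ K : Subgroup G, K.Normal ∧ K.index = 2 ∧ d.baseG S ≤ K ∧
      ∀ H : Subgroup K, H.index ≠ 2 := by
  haveI : Fact (Nat.Prime 2) := ⟨Nat.prime_two⟩
  obtain ⟨K, hKn, hK, hzK⟩ :=
    CfsgLib.Inv53.exists_index_two_notMem S (d.baseG S) (d.baseG_le S)
      (by rw [relIndex, subgroupOf, WRTriple.baseG,
            comap_map_eq_self_of_injective (subtype_injective _)]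
          exact d.index_base)
      le_rfl
      (fun t _ ht => by
        rw [show 2 ^ (1 - 1) = 1 from rfl]
        exact lt_of_le_of_ne (orderOf_pos t) fun h => ht (orderOf_eq_one_iff.1 h.symm ▸ one_mem _))
      (x := (z : G)) (by rw [orderOf_coe, d.oz, pow_one])
      (fun u hu => by
        obtain ⟨a, b, he⟩ := (d.mem_baseG S).1 hu
        refine d.not_isConj_z S hV (a := a) (b := b) (Subtype.ext ?_)
          (isConj_iff.2 ⟨u⁻¹, by rw [← he]; group⟩)
        rw [Subgroup.coe_mul, ← he,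
          show u * (z : G) * u⁻¹ * (u * (z : G) * u⁻¹) = u * ((z : G) * (z : G)) * u⁻¹ by group,
          ← Subgroup.coe_mul, d.z_mul_z, Subgroup.coe_one, mul_one, mul_inv_cancel])
  obtain ⟨g, hgN, hg, hgc⟩ := d.exists_odd_base S h
  have hU : d.baseG S ≤ K := d.baseG_le_of_odd S hgN hg hgc
    (fun a _ => by rw [← sq]; exact sq_mem_of_index_two hK a)
    (fun a _ b _ => by rw [mul_mem_iff_of_index_two hK]; tauto)
    (fun a _ ha => hKn.conj_mem a ha g)
  refine ⟨K, hKn, hK, hU, fun H hH => ?_⟩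
  obtain ⟨h3, hnorm⟩ := index_two_map_subtype hH
  have hgK : g ∈ K := mem_of_index_two_of_odd hK hg
  have hU' : d.baseG S ≤ H.map K.subtype := d.baseG_le_of_odd S hgN hg hgc
    (fun a ha => by
      refine ⟨⟨a, hU ha⟩ ^ 2, sq_mem_of_index_two hH _, ?_⟩
      rw [map_pow, sq]; rfl)
    (fun a ha b hb => h3 a (hU ha) b (hU hb))
    (fun a _ ha => hnorm g hgK a ha)
  refine not_inf_le_of_index_two S K hH fun t ht => ?_
  obtain ⟨htS, htK⟩ := mem_inf.1 ht
  obtain ⟨a, b, e | e⟩ := d.eq_cases ⟨t, htS⟩ <;>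
    rw [show t = _ from congrArg Subtype.val e] at htK ⊢
  · exact hU' (d.el_mem_baseG S a b)
  · refine absurd ?_ hzK
    have := mul_mem (inv_mem (hU (d.el_mem_baseG S a b))) htK
    rwa [Subgroup.coe_mul, inv_mul_cancel_left] at this

theorem WRTriple.exists_index_pow_quaternion
    (hU : ∀ g ∈ normalizer (d.baseG S : Set G), Odd (orderOf g) →
      g ∈ centralizer (d.baseG S : Set G))
    {g : G} (hgN : g ∈ normalizer (d.autG S : Set G))
    (hg : Odd (orderOf g)) (hgC : g ∉ centralizer (d.autG S : Set G)) :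
    ∃ K : Subgroup G, K.Normal ∧ K.index = 2 ^ n ∧
      (∀ P : Sylow 2 K, ∃ m : ℕ, 1 ≤ m ∧
        Nonempty ((P : Subgroup K) ≃* QuaternionGroup (2 ^ m))) ∧
      ∀ H : Subgroup K, H.index ≠ 2 := by
  haveI : Fact (Nat.Prime 2) := ⟨Nat.prime_two⟩
  haveI hfin := d.finite
  set K := Cfsg.pResidual 2 G with hKdef
  haveI hKn : K.Normal := by rw [hKdef]; infer_instance
  have hgK : g ∈ K := CfsgLib.Transfer.mem_pResidual_of_coprime (Nat.coprime_two_right.2 hg)
  set a₁ : G := (↑(el x y (TwoGroups.hw n) 0) : G) with ha₁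
  obtain ⟨p, hp⟩ := d.exists_odd_aut S hgN hg hgC
  have hout : ∀ a : ℤ, (↑(el x y a (TwoGroups.hw n - a) * z) : G) ∈ K := by
    intro a
    have h1 : (↑(el x y p (TwoGroups.hw n - p) * z) : G) ∈ K := by
      have h2 : g * (a₁ * g⁻¹ * a₁⁻¹) ∈ K :=
        mul_mem hgK (hKn.conj_mem _ (inv_mem hgK) a₁)
      rw [show g * (a₁ * g⁻¹ * a₁⁻¹) = g * a₁ * g⁻¹ * a₁⁻¹ by group, hp, ha₁,
        ← Subgroup.coe_inv, ← Subgroup.coe_mul, d.el_inv, d.elz_mul_el] at h2
      convert h2 using 2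
      rw [d.elz_inj]
      exact ⟨⟨0, by ring⟩, ⟨-1, by rw [d.nn_eq]; ring⟩⟩
    have h3 := hKn.conj_mem _ h1 (↑(el x y (a - p) 0) : G)
    rw [← Subgroup.coe_inv, ← Subgroup.coe_mul, ← Subgroup.coe_mul, d.conj_el_elz] at h3
    convert h3 using 4 <;> ring
  have hquat : ∀ s ∈ d.quatSub, (s : G) ∈ K := by
    rintro s ⟨a, b, ⟨rfl, h⟩ | ⟨rfl, h⟩⟩
    · have h1 := mul_mem (hout (a - TwoGroups.hw n)) (hout 0)
      rw [← Subgroup.coe_mul, d.elz_mul_elz] at h1
      convert h1 using 2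
      rw [d.el_inj]
      obtain ⟨c, hc⟩ := h
      exact ⟨⟨0, by ring⟩, ⟨1 - c, by rw [d.nn_eq] at hc ⊢; linear_combination -hc⟩⟩
    · have h1 := hout a
      convert h1 using 2
      rw [d.elz_inj]
      refine ⟨⟨0, by ring⟩, ?_⟩
      rwa [show TwoGroups.hw n - a - b = -(a + b - TwoGroups.hw n) by ring, dvd_neg]
  have ha2 : el x y (TwoGroups.hw n) 0 * el x y (TwoGroups.hw n) 0 = 1 :=
    d.el_sq_eq_one.2 ⟨dvd_rfl, dvd_zero _⟩
  have hRmem : ∀ t : (S : Subgroup G), t ∈ d.quatSub →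
      (t : G) ∈ d.quatSub.map (S : Subgroup G).subtype := fun t ht => ⟨t, ht, rfl⟩
  have haR : el x y (TwoGroups.hw n) 0 ∉ d.quatSub := by
    rintro ⟨a, b, ⟨h1, h2⟩ | ⟨h1, -⟩⟩
    · obtain ⟨i, j⟩ := d.el_inj.1 h1
      apply d.not_nn_dvd_hw
      have := dvd_sub h2 (dvd_add i j)
      rwa [show a + b - (a - TwoGroups.hw n + (b - 0)) = TwoGroups.hw n by ring] at this
    · exact d.elz_ne_el _ _ _ _ h1.symm
  have haG : a₁ ∉ commutator G := by
    refine notMem_commutator_of_transfer (p := 2) (H := (S : Subgroup G))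
      (K := d.quatSub.map (S : Subgroup G).subtype) ?_ ?_
      (Nat.prime_two.coprime_iff_not_dvd.2 S.not_dvd_index) (SetLike.coe_mem _) ?_ (k := 1) ?_ ?_
    · rw [subgroupOf, comap_map_eq_self_of_injective (subtype_injective _)]
      exact d.quatSub_normal
    · intro u hu v hv
      refine hRmem (⟨u, hu⟩ * ⟨v, hv⟩ * ⟨u, hu⟩⁻¹ * ⟨v, hv⟩⁻¹) ?_
      have := commutator_mem_commutator (mem_top (⟨u, hu⟩ : (S : Subgroup G)))
        (mem_top (⟨v, hv⟩ : (S : Subgroup G)))
      rw [← commutator_def, d.commutator_eq] at this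
      exact (zpowers_le.2 (d.mem_quatSub.2 ⟨1, -1, Or.inl ⟨rfl, by simp⟩⟩)) this
    · rintro ⟨t, ht, he⟩
      exact haR (Subtype.ext he ▸ ht)
    · rw [pow_one, sq]; exact congrArg Subtype.val ha2
    · intro m u hm
      have hsq : a₁ * a₁ = 1 := congrArg Subtype.val ha2
      rcases Int.even_or_odd' m with ⟨l, rfl | rfl⟩
      · rw [zpow_mul, zpow_two, hsq, one_zpow, mul_one, mul_inv_cancel, inv_one, one_mul]
        exact one_mem _
      · rw [zpow_add, zpow_mul, zpow_two, hsq, one_zpow, one_mul, zpow_one] at hm ⊢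
        rw [inv_eq_of_mul_eq_one_right hsq]
        obtain ⟨v, hv⟩ : ∃ v : (S : Subgroup G), (v : G) = u * a₁ * u⁻¹ := ⟨⟨_, hm⟩, rfl⟩
        rw [← hv, ha₁, ← Subgroup.coe_mul]
        refine hRmem _ ?_
        have hv2 : v * v = 1 := Subtype.ext (by
          rw [Subgroup.coe_mul, hv,
            show u * a₁ * u⁻¹ * (u * a₁ * u⁻¹) = u * (a₁ * a₁) * u⁻¹ by group, hsq, mul_one,
            mul_inv_cancel]
          rfl)
        obtain ⟨i, j, rfl | rfl⟩ := d.eq_cases v
        · rcases d.el_invol hv2 with h | h | h | h <;> rw [h] at hv ⊢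
          · exact absurd (conj_eq_one_iff.1 hv.symm)
              fun h' => d.el_hw_ne_one_left 0 (Subtype.ext h')
          · rw [d.el_mul]
            exact ⟨_, _, Or.inl ⟨rfl, ⟨1, by rw [d.nn_eq]; ring⟩⟩⟩
          · rw [d.el_mul]
            exact ⟨_, _, Or.inl ⟨rfl, ⟨1, by rw [d.nn_eq]; ring⟩⟩⟩
          · exact absurd (isConj_iff.2 ⟨u, hv.symm⟩ : IsConj a₁ _).symm
              (d.not_isConj_c S hU (s := el x y (TwoGroups.hw n) 0) (d.el_hw_ne S))
        · rw [d.elz_mul_el]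
          refine ⟨_, _, Or.inr ⟨rfl, ?_⟩⟩
          have := d.elz_sq_eq_one.1 hv2
          rwa [show i + 0 + (j + TwoGroups.hw n) - TwoGroups.hw n = i + j by ring]
  have haK : a₁ ∉ K := by
    intro haK
    apply haG
    let A := Abelianization G
    haveI : Finite A :=
      Finite.of_surjective (Abelianization.of (G := G)) fun a => QuotientGroup.mk_surjective a
    obtain ⟨e, m, hm, hcard⟩ := Nat.exists_eq_two_pow_mul_odd (Nat.card_pos (α := A)).ne'
    let f : G →* A := (powMonoidHom m).comp Abelianization.of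
    have hf : IsPGroup 2 f.range := by
      rintro ⟨_, u, rfl⟩
      refine ⟨e, Subtype.ext ?_⟩
      show (Abelianization.of u ^ m) ^ 2 ^ e = 1
      rw [← pow_mul, mul_comm, ← hcard, pow_card_eq_one']
    have h1 : a₁ ∈ f.rangeRestrict.ker :=
      CfsgLib.Transfer.pResidual_le_ker f.rangeRestrict hf haK
    rw [MonoidHom.ker_rangeRestrict, MonoidHom.mem_ker] at h1
    have h1' : Abelianization.of a₁ ^ m = 1 := h1
    have h2 : Abelianization.of a₁ ^ 2 = 1 := by
      rw [← map_pow, sq, show a₁ * a₁ = 1 from congrArg Subtype.val ha2, map_one]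
    rw [← Abelianization.ker_of G, MonoidHom.mem_ker]
    exact orderOf_eq_one_iff.1 (Nat.eq_one_of_dvd_coprimes (Nat.coprime_two_left.2 hm)
      (orderOf_dvd_of_pow_eq_one h2) (orderOf_dvd_of_pow_eq_one h1'))
  have hKS : K.subgroupOf (S : Subgroup G) = d.quatSub := by
    refine le_antisymm (fun s hs => ?_) fun s hs => mem_subgroupOf.2 (hquat s hs)
    rw [mem_subgroupOf] at hs
    have key : ∀ k : ℤ, (↑(el x y k 0) : G) ∈ K → nn n ∣ k := by
      intro k hk
      by_contra hnd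
      have hne : el x y k 0 ≠ 1 := fun h => hnd (d.el_eq_one.1 h).1
      obtain ⟨j, -, hj⟩ := (Nat.dvd_prime_pow Nat.prime_two).1
        (d.card ▸ orderOf_dvd_natCard (el x y k 0))
      have hj0 : j ≠ 0 := fun h => hne (orderOf_eq_one_iff.1 (by rw [hj, h, pow_zero]))
      obtain ⟨i, rfl⟩ := Nat.exists_eq_succ_of_ne_zero hj0
      have h1 : el x y k 0 ^ 2 ^ i = el x y (TwoGroups.hw n) 0 := by
        refine eq_of_invol_mem_zpowers (c := el x y 1 0) ⟨k * 2 ^ i, ?_⟩ ⟨TwoGroups.hw n, ?_⟩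
          ?_ ha2 ?_ (d.el_hw_ne_one_left 0)
        · show el x y 1 0 ^ (k * 2 ^ i) = _
          rw [← zpow_natCast, d.el_zpow, d.el_zpow]
          push_cast
          congr 1 <;> ring
        · show el x y 1 0 ^ TwoGroups.hw n = _
          rw [d.el_zpow]; congr 1 <;> ring
        · rw [← pow_add, ← two_mul, ← pow_succ', ← hj, pow_orderOf_eq_one]
        · intro h
          have h3 := orderOf_dvd_of_pow_eq_one h
          rw [hj, Nat.pow_dvd_pow_iff_le_right (by norm_num)] at h3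
          omega
      apply haK
      rw [ha₁, ← h1, Subgroup.coe_pow]
      exact pow_mem hk _
    obtain ⟨a, b, rfl | rfl⟩ := d.eq_cases s
    · have h1 := mul_mem hs (hquat (el x y b (-b)) ⟨b, -b, Or.inl ⟨rfl, by simp⟩⟩)
      rw [← Subgroup.coe_mul, d.el_mul, add_neg_cancel] at h1
      exact ⟨a, b, Or.inl ⟨rfl, key _ h1⟩⟩
    · have h1 := mul_mem hs (hquat (el x y (-a) (TwoGroups.hw n + a) * z)
        ⟨_, _, Or.inr ⟨rfl, ⟨0, by ring⟩⟩⟩)
      rw [← Subgroup.coe_mul, d.elz_mul_elz] at h1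
      have h2 := mul_mem h1 (hquat (el x y (b + -a) (-(b + -a))) ⟨_, _, Or.inl ⟨rfl, by simp⟩⟩)
      rw [← Subgroup.coe_mul, d.el_mul, add_neg_cancel] at h2
      refine ⟨a, b, Or.inr ⟨rfl, ?_⟩⟩
      have h3 := key (a + (TwoGroups.hw n + a) + (b + -a)) h2
      have h4 := dvd_sub h3 (dvd_refl (nn n))
      rwa [show a + (TwoGroups.hw n + a) + (b + -a) - nn n = a + b - TwoGroups.hw n by
        rw [d.nn_eq]; ring] at h4
  refine ⟨K, hKn, ?_, fun P => ?_, fun H hH => ?_⟩
  · have h1 : (S : Subgroup G) ⊔ K = ⊤ := CfsgLib.Transfer.sylow_sup_pResidual S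
    rw [← relIndex_top_right, ← h1, relIndex_sup_right, relIndex, hKS]
    have h := d.quatSub.card_mul_index
    rw [d.card_quatSub, d.card,
      show 2 ^ (2 * n + 1) = 2 ^ (n + 1) * 2 ^ n by rw [← pow_add]; congr 1; ring] at h
    exact mul_left_cancel₀ (pow_ne_zero _ two_ne_zero) h
  · obtain ⟨e⟩ := nonempty_sylow_equiv_of_normal S K hKS P
    obtain ⟨e'⟩ := d.nonempty_equiv_quatSub
    exact ⟨n - 1, by have := d.le; omega, ⟨e.trans e'⟩⟩
  · haveI := normal_of_index_eq_two hH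
    have h1 := CfsgLib.Transfer.pResidual_le_of_index_eq_pow (p := 2) H (k := 1)
      (by rw [hH, pow_one])
    rw [show Cfsg.pResidual 2 (K : Subgroup G) = ⊤ from CfsgLib.Transfer.pResidual_pResidual,
      top_le_iff] at h1
    rw [h1, index_top] at hH
    omega

theorem WRTriple.hasNormalPComplement
    (hU : ∀ g ∈ normalizer (d.baseG S : Set G), Odd (orderOf g) →
      g ∈ centralizer (d.baseG S : Set G))
    (hV : ∀ g ∈ normalizer (d.autG S : Set G), Odd (orderOf g) →
      g ∈ centralizer (d.autG S : Set G)) :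
    Cfsg.HasNormalPComplement 2 G := by
  haveI : Fact (Nat.Prime 2) := ⟨Nat.prime_two⟩
  refine CfsgLib.Transfer.hasNormalPComplement_of_local S fun D hD g hgN hgp => ?_
  refine mem_centralizer_of_centric S (fun E hES hcent g' hg'N hg' => ?_)
    (S.isPGroup'.to_le hD) hgN (Nat.coprime_two_right.1 hgp)
  rcases d.centric_cases S hES hcent hg'N hg' with h | h | ⟨s, hs, h⟩
  · exact h
  · subst h; exact hU g' hg'N hg'
  · subst h
    exact mem_centralizer_map_conj.2
      (hV _ (mem_normalizer_map_conj.1 hg'N) (by simpa using odd_orderOf_conj (s := s⁻¹) hg'))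

theorem WRTriple.autG_of_two {W : Subgroup G} {s : G}
    (hW : W = (d.autG S).map (MulAut.conj s).toMonoidHom)
    (h : (W ⊔ centralizer (W : Set G)).relIndex (normalizer (W : Set G)) = 2) :
    ∀ g ∈ normalizer (d.autG S : Set G), Odd (orderOf g) →
      g ∈ centralizer (d.autG S : Set G) := by
  intro g hgN hg
  have hWp : IsPGroup 2 W := hW ▸ (S.isPGroup'.to_le (d.autG_le S)).map _
  have hgW : s * g * s⁻¹ ∈ normalizer (W : Set G) := by
    subst hW
    rw [mem_normalizer_map_conj, show s⁻¹ * (s * g * s⁻¹) * s = g by group]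
    exact hgN
  have h1 := mem_centralizer_of_mem_sup hWp
    (mem_of_relIndex_two_of_odd h hgW (odd_orderOf_conj hg)) (odd_orderOf_conj hg)
  subst hW
  rwa [mem_centralizer_map_conj, show s⁻¹ * (s * g * s⁻¹) * s = g by group] at h1

theorem WRTriple.autG_of_six {W : Subgroup G} {s : G}
    (hW : W = (d.autG S).map (MulAut.conj s).toMonoidHom)
    (h : (W ⊔ centralizer (W : Set G)).relIndex (normalizer (W : Set G)) = 6) :
    ∃ g ∈ normalizer (d.autG S : Set G), Odd (orderOf g) ∧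
      g ∉ centralizer (d.autG S : Set G) := by
  obtain ⟨g, hgN, hgC, hg⟩ := exists_odd_mem_notMem (H := W ⊔ centralizer (W : Set G))
    (N := normalizer (W : Set G)) (by rw [h]; norm_num)
  subst hW
  refine ⟨s⁻¹ * g * s, mem_normalizer_map_conj.1 hgN,
    by simpa using odd_orderOf_conj (s := s⁻¹) hg,
    fun hc => hgC (mem_sup_right (mem_centralizer_map_conj.2 hc))⟩

theorem WRTriple.invol_classes_one
    (hca : IsConj (↑(el x y (TwoGroups.hw n) (TwoGroups.hw n)) : G)
      (↑(el x y (TwoGroups.hw n) 0) : G))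
    (haz : IsConj (↑(el x y (TwoGroups.hw n) 0) : G) (z : G)) :
    Nat.card {C : ConjClasses G // ∃ t : G, orderOf t = 2 ∧ ConjClasses.mk t = C} = 1 := by
  refine card_classes_one (a := (z : G)) (by rw [orderOf_coe]; exact d.oz) fun t ht => ?_
  obtain ⟨a, ha, hta⟩ := exists_isConj_sylow S (k := 1) (by simpa using ht)
  rcases d.invol_cases S a (by simpa using ha) with rfl | h | h
  exacts [hta.trans (hca.trans haz), hta.trans (h.trans haz), hta.trans h]

theorem WRTriple.orderOf_c : orderOf (el x y (TwoGroups.hw n) (TwoGroups.hw n)) = 2 :=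
  orderOf_eq_prime (by rw [sq, d.el_sq_eq_one]; exact ⟨dvd_rfl, dvd_rfl⟩)
    (d.el_hw_ne_one_left _)

theorem WRTriple.orderOf_a : orderOf (el x y (TwoGroups.hw n) 0) = 2 :=
  orderOf_eq_prime (by rw [sq, d.el_sq_eq_one]; exact ⟨dvd_rfl, dvd_zero _⟩)
    (d.el_hw_ne_one_left _)

theorem WRTriple.invol_classes_two_center
    (hU : ∀ g ∈ normalizer (d.baseG S : Set G), Odd (orderOf g) →
      g ∈ centralizer (d.baseG S : Set G))
    (haz : IsConj (↑(el x y (TwoGroups.hw n) 0) : G) (z : G)) :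
    Nat.card {C : ConjClasses G // ∃ t : G, orderOf t = 2 ∧ ConjClasses.mk t = C} = 2 := by
  refine card_classes_two (a := (↑(el x y (TwoGroups.hw n) (TwoGroups.hw n)) : G)) (b := (z : G))
    (by rw [orderOf_coe]; exact d.orderOf_c S) (by rw [orderOf_coe]; exact d.oz)
    (d.not_isConj_c S hU (d.z_ne_el _ _)) fun t ht => ?_
  obtain ⟨a, ha, hta⟩ := exists_isConj_sylow S (k := 1) (by simpa using ht)
  rcases d.invol_cases S a (by simpa using ha) with rfl | h | h
  exacts [Or.inl hta, Or.inr (hta.trans (h.trans haz)), Or.inr (hta.trans h)]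

theorem WRTriple.invol_classes_two_base
    (hca : IsConj (↑(el x y (TwoGroups.hw n) (TwoGroups.hw n)) : G)
      (↑(el x y (TwoGroups.hw n) 0) : G))
    (hV : ∀ g ∈ normalizer (d.autG S : Set G), Odd (orderOf g) →
      g ∈ centralizer (d.autG S : Set G)) :
    Nat.card {C : ConjClasses G // ∃ t : G, orderOf t = 2 ∧ ConjClasses.mk t = C} = 2 := by
  refine card_classes_two (a := (↑(el x y (TwoGroups.hw n) 0) : G)) (b := (z : G))
    (by rw [orderOf_coe]; exact d.orderOf_a S) (by rw [orderOf_coe]; exact d.oz)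
    (d.not_isConj_z S hV (d.el_sq_eq_one.2 ⟨dvd_rfl, dvd_zero _⟩)) fun t ht => ?_
  obtain ⟨a, ha, hta⟩ := exists_isConj_sylow S (k := 1) (by simpa using ht)
  rcases d.invol_cases S a (by simpa using ha) with rfl | h | h
  exacts [Or.inl (hta.trans hca), Or.inl (hta.trans h), Or.inr (hta.trans h)]

theorem WRTriple.invol_classes_three
    (hU : ∀ g ∈ normalizer (d.baseG S : Set G), Odd (orderOf g) →
      g ∈ centralizer (d.baseG S : Set G))
    (hV : ∀ g ∈ normalizer (d.autG S : Set G), Odd (orderOf g) →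
      g ∈ centralizer (d.autG S : Set G)) :
    Nat.card {C : ConjClasses G // ∃ t : G, orderOf t = 2 ∧ ConjClasses.mk t = C} = 3 := by
  refine card_classes_three (a := (↑(el x y (TwoGroups.hw n) (TwoGroups.hw n)) : G))
    (b := (↑(el x y (TwoGroups.hw n) 0) : G)) (c := (z : G))
    (by rw [orderOf_coe]; exact d.orderOf_c S) (by rw [orderOf_coe]; exact d.orderOf_a S)
    (by rw [orderOf_coe]; exact d.oz)
    (d.not_isConj_c S hU (d.el_hw_ne S)) (d.not_isConj_c S hU (d.z_ne_el _ _))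
    (d.not_isConj_z S hV (d.el_sq_eq_one.2 ⟨dvd_rfl, dvd_zero _⟩)) fun t ht => ?_
  obtain ⟨a, ha, hta⟩ := exists_isConj_sylow S (k := 1) (by simpa using ht)
  rcases d.invol_cases S a (by simpa using ha) with rfl | h | h
  exacts [Or.inl hta, Or.inr (Or.inl (hta.trans h)), Or.inr (Or.inr (hta.trans h))]

end CfsgLib.TwoGroups
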