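import Cfsg.Agent.TwoGroups.SDFusion
import Cfsg.Agent.TwoGroups.WRFusion
import Cfsg.Agent.S1203
import Cfsg.Agent.S1208

/-!
Groups with quasi-dihedral or wreathed Sylow 2-subgroups and no subgroup of index 2, and the
centralizers of their involutions.
-/

set_option autoImplicit false

namespace CfsgLib.TwoGroups

open Subgroup

/-- A proper normal subgroup of 2-power index gives a subgroup of index 2. -/
theorem exists_index_two_of_index_eq_pow {G : Type*} [Group G] [Finite G] {N : Subgroup G}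
    [N.Normal] {k : ℕ} (hk : N.index = 2 ^ k) (h1 : k ≠ 0) : ∃ H : Subgroup G, H.index = 2 := by
  haveI : Fact (Nat.Prime 2) := ⟨Nat.prime_two⟩
  have hc : Nat.card (G ⧸ N) = 2 ^ k := hk
  obtain ⟨H, hH⟩ := Sylow.exists_subgroup_card_pow_prime (G := G ⧸ N) 2 (n := k - 1)
    (hc ▸ pow_dvd_pow 2 (Nat.sub_le k 1))
  refine ⟨H.comap (QuotientGroup.mk' N), ?_⟩
  rw [index_comap_of_surjective _ (QuotientGroup.mk'_surjective N)]
  have h2 := H.card_mul_index
  rw [hH, hc, show 2 ^ k = 2 ^ (k - 1) * 2 by rw [← pow_succ]; congr 1; omega] at h2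
  exact mul_left_cancel₀ (pow_ne_zero _ two_ne_zero) h2

theorem no_normalPComplement {G : Type*} [Group G] [Finite G] (S : Sylow 2 G) {m : ℕ}
    (hc : Nat.card (S : Subgroup G) = 2 ^ m) (hm : m ≠ 0)
    (hG : ∀ H : Subgroup G, H.index ≠ 2) : ¬ Cfsg.HasNormalPComplement 2 G := by
  haveI : Fact (Nat.Prime 2) := ⟨Nat.prime_two⟩
  rintro ⟨P, N, hN, hcompl⟩
  obtain ⟨H, hH⟩ := exists_index_two_of_index_eq_pow (N := N) (k := m)
    (by rw [hcompl.symm.index_eq_card, Nat.card_congr (P.equiv S).toEquiv]; exact hc) hm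
  exact hG H hH

section Transport

variable {S S' : Type*} [Group S] [Group S'] {n : ℕ} {x y z : S}

theorem SDPair.map (d : SDPair n x y) (e : S ≃* S') : SDPair n (e x) (e y) where
  le := d.le
  card := (Nat.card_congr e.toEquiv).symm.trans d.card
  ox := (e.orderOf_eq x).trans d.ox
  oy := (e.orderOf_eq y).trans d.oy
  rel := by rw [← map_inv, ← map_mul, ← map_mul, d.rel, map_pow]

theorem WRTriple.map (d : WRTriple n x y z) (e : S ≃* S') : WRTriple n (e x) (e y) (e z) where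
  le := d.le
  card := (Nat.card_congr e.toEquiv).symm.trans d.card
  ox := (e.orderOf_eq x).trans d.ox
  comm := by rw [← map_mul, ← map_mul, d.comm]
  disj := by
    show zpowers ((e : S →* S') x) ⊓ zpowers ((e : S →* S') y) = ⊥
    rw [← MonoidHom.map_zpowers, ← MonoidHom.map_zpowers, ← map_inf _ _ _ e.injective, d.disj,
      Subgroup.map_bot]
  oz := (e.orderOf_eq z).trans d.oz
  rel := by rw [← map_inv, ← map_mul, ← map_mul, d.rel]

theorem map_el (e : S ≃* S') (a b : ℤ) : e (el x y a b) = el (e x) (e y) a b := by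
  rw [el, el, map_mul, map_zpow, map_zpow]

theorem SDPair.exists_four (d : SDPair n x y) : ∃ T : Subgroup S, IsKleinFour T := by
  obtain ⟨T, hT, -, -⟩ := exists_kleinFour d.z_sq (d.zpow_y_sq (dvd_zero 2))
    (d.commute_zpow_zpow_y.2 dvd_rfl).eq d.z_ne_one (d.zpow_y_ne_one 0)
    (fun h => d.zpow_y_ne_zpow 0 _ h.symm)
  exact ⟨T, hT⟩

theorem SDPair.exists_quaternion (d : SDPair n x y) :
    ∃ Q : Subgroup S, Nonempty (Q ≃* QuaternionGroup 2) := by
  haveI := d.finite
  set i := x ^ qq n with hi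
  set j := x ^ (1 : ℤ) * y with hj
  have hii : i * i = x ^ hh n := by rw [hi, ← zpow_add, d.hh_eq]; congr 1; ring
  have hjj : j * j = x ^ hh n := d.sq_zpow_y_odd (by omega)
  have hoi : orderOf i = 2 * 2 := d.orderOf_eq_four_iff.2 (Or.inl rfl)
  have hrel : j * i * j⁻¹ = i⁻¹ := by rw [hi, hj, d.conj_zpow_qq _ (d.zpow_y_notMem 1), zpow_neg]
  have hji : j ∉ zpowers i := fun h =>
    d.zpow_y_notMem 1 (zpowers_le.2 (zpow_mem_zpowers x _) h)
  have hnorm : zpowers j ≤ normalizer (zpowers i : Set S) := by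
    refine zpowers_le.2 (Subgroup.mem_normalizer_iff_map_conj_eq.2 ?_)
    rw [MonoidHom.map_zpowers]
    show zpowers (j * i * j⁻¹) = zpowers i
    rw [hrel, zpowers_inv]
  set Q := zpowers i ⊔ zpowers j with hQ
  have hrelQ : (zpowers i).relIndex Q = 2 := by
    refine relIndex_eq_two (mem_sup_right (mem_zpowers j)) hji fun b hb => ?_
    rw [← SetLike.mem_coe, hQ, coe_mul_of_right_le_normalizer_left _ _ hnorm] at hb
    obtain ⟨u, hu, v, ⟨k, rfl⟩, rfl⟩ := hb
    have h2 : ∀ l : ℤ, j ^ (2 * l) ∈ zpowers i := fun l => by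
      rw [zpow_mul, zpow_two, hjj, ← hii]
      exact zpow_mem (mul_mem (mem_zpowers i) (mem_zpowers i)) l
    rcases Int.even_or_odd' k with ⟨l, rfl | rfl⟩
    · exact Or.inl (mul_mem hu (h2 l))
    · right
      show u * j ^ (2 * l + 1) * j ∈ zpowers i
      rw [mul_assoc, ← zpow_add_one, show 2 * l + 1 + 1 = 2 * (l + 1) by ring]
      exact mul_mem hu (h2 _)
  have hcQ : Nat.card Q = 4 * 2 := by
    have := relIndex_mul_relIndex ⊥ (zpowers i) Q bot_le le_sup_left
    rw [relIndex_bot_left, relIndex_bot_left, hrelQ, Nat.card_zpowers, hoi] at this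
    rw [← this]
  exact ⟨Q, nonempty_equiv_quaternion (mem_sup_left (mem_zpowers i))
    (mem_sup_right (mem_zpowers j)) hoi (by rw [hjj, sq, hii]) hrel hji hcQ⟩

theorem quaternion8_invol_unique {Q : Subgroup S} (e : Q ≃* QuaternionGroup 2) {a b : S}
    (ha : a ∈ Q) (hb : b ∈ Q) (ha2 : a * a = 1) (hb2 : b * b = 1) (ha1 : a ≠ 1) (hb1 : b ≠ 1) :
    a = b := by
  have hd : ∀ p q : QuaternionGroup 2, p * p = 1 → q * q = 1 → p = 1 ∨ q = 1 ∨ p = q := by decide
  have h := hd (e ⟨a, ha⟩) (e ⟨b, hb⟩)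
    (by rw [← map_mul, EmbeddingLike.map_eq_one_iff]; exact Subtype.ext ha2)
    (by rw [← map_mul, EmbeddingLike.map_eq_one_iff]; exact Subtype.ext hb2)
  simp only [EmbeddingLike.map_eq_one_iff, EmbeddingLike.apply_eq_iff_eq, Subtype.ext_iff,
    coe_one] at h
  rcases h with h | h | h
  exacts [absurd h ha1, absurd h hb1, h]

end Transport

universe u

variable {G : Type u} [Group G] [Finite G] (S : Sylow 2 G)

/-- Without subgroup of index two both automizers have order six: quasi-dihedral case. -/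
theorem SDPair.six_of_no_index_two {n : ℕ} {x y : (S : Subgroup G)} (d : SDPair n x y)
    (hS : Cfsg.IsQuasiDihedral (S : Subgroup G)) (hG : ∀ H : Subgroup G, H.index ≠ 2) :
    ∃ (T Q : Subgroup G), IsKleinFour T ∧ T ≤ (S : Subgroup G) ∧ Q ≤ (S : Subgroup G) ∧
      Nonempty (Q ≃* QuaternionGroup 2) ∧
      (centralizer (T : Set G)).relIndex (normalizer (T : Set G)) = 6 ∧
      (Q ⊔ centralizer (Q : Set G)).relIndex (normalizer (Q : Set G)) = 6 := by
  obtain ⟨T₀, hT₀⟩ := d.exists_four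
  obtain ⟨Q₀, ⟨eQ₀⟩⟩ := d.exists_quaternion
  set T := T₀.map (S : Subgroup G).subtype with hTdef
  set Q := Q₀.map (S : Subgroup G).subtype with hQdef
  have hTS : T ≤ (S : Subgroup G) := map_subtype_le _
  have hQS : Q ≤ (S : Subgroup G) := map_subtype_le _
  have eQ : Q ≃* QuaternionGroup 2 :=
    (Q₀.equivMapOfInjective _ (subtype_injective _)).symm.trans eQ₀
  have hT : IsKleinFour T := isKleinFour_iff.2
    ⟨by rw [hTdef, card_map_of_injective (subtype_injective _)]; exact hT₀.card_four,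
      by rintro _ ⟨u, hu, rfl⟩; exact congrArg Subtype.val ((isKleinFour_iff.1 hT₀).2 u hu)⟩
  obtain ⟨h1, h2⟩ := Cfsg.Agent.S1203.result S hS T hT hTS Q hQS eQ
  refine ⟨T, Q, hT, hTS, hQS, ⟨eQ⟩, ?_, ?_⟩
  · rcases h1 with h1 | h1
    · exfalso
      have hz := d.conj_z_eq S hT hTS (d.normalizer_four_le S hT hTS h1)
      rcases h2 with h2 | h2
      · exact no_normalPComplement S d.card (by omega) hG (d.hasNormalPComplement S hz
          (d.conj_w_mem S hQS eQ (d.normalizer_quaternion_le S hQS eQ h2)))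
      · obtain ⟨K, -, hK, -⟩ := d.exists_index_two_quaternion S hQS eQ h2 hz
        exact hG K hK
    · exact h1
  · rcases h2 with h2 | h2
    · exfalso
      have hw := d.conj_w_mem S hQS eQ (d.normalizer_quaternion_le S hQS eQ h2)
      rcases h1 with h1 | h1
      · exact no_normalPComplement S d.card (by omega) hG
          (d.hasNormalPComplement S (d.conj_z_eq S hT hTS (d.normalizer_four_le S hT hTS h1)) hw)
      · obtain ⟨K, -, hK, -⟩ := d.exists_index_two_dihedral S hT hTS h1 hw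
        exact hG K hK
    · exact h2

/-- Without subgroup of index two both automizers have order six: wreathed case. -/
theorem WRTriple.six_of_no_index_two {n : ℕ} {x y z : (S : Subgroup G)} (d : WRTriple n x y z)
    (hS : Cfsg.IsWreathed (S : Subgroup G)) (hG : ∀ H : Subgroup G, H.index ≠ 2) :
    (centralizer (d.baseG S : Set G)).relIndex (normalizer (d.baseG S : Set G)) = 6 ∧
      ∃ g ∈ normalizer (d.autG S : Set G), Odd (orderOf g) ∧
        g ∉ centralizer (d.autG S : Set G) := by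
  obtain ⟨Q₀, ⟨eQ₀⟩, -⟩ := d.exists_quaternion_autSub
  set Q := Q₀.map (S : Subgroup G).subtype with hQdef
  have hQS : Q ≤ (S : Subgroup G) := map_subtype_le _
  have eQ : Q ≃* QuaternionGroup 2 :=
    (Q₀.equivMapOfInjective _ (subtype_injective _)).symm.trans eQ₀
  have hcard : Nat.card (d.baseG S) = 2 ^ (2 * n) := by
    rw [WRTriple.baseG, card_map_of_injective (subtype_injective _)]; exact d.card_base
  obtain ⟨h1, h2⟩ := Cfsg.Agent.S1208.result S hS n d.card (d.baseG S) (d.baseG_le S)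
    ⟨⟨fun p q => Subtype.ext (d.baseG_comm S p.2 q.2)⟩⟩ hcard Q hQS eQ
  obtain ⟨s, -, hV⟩ := d.sup_center_eq S hQS eQ
  have hU : (centralizer (d.baseG S : Set G)).relIndex (normalizer (d.baseG S : Set G)) = 2 →
      ∀ g ∈ normalizer (d.baseG S : Set G), Odd (orderOf g) →
        g ∈ centralizer (d.baseG S : Set G) :=
    fun h g hg hgo => mem_of_relIndex_two_of_odd h hg hgo
  refine ⟨?_, ?_⟩
  · rcases h1 with h1 | h1
    · exfalso
      rcases h2 with h2 | h2
      · exact no_normalPComplement S d.card (by omega) hG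
          (d.hasNormalPComplement S (hU h1) (d.autG_of_two S hV h2))
      · obtain ⟨g, hgN, hg, hgC⟩ := d.autG_of_six S hV h2
        obtain ⟨K, hKn, hK, -⟩ := d.exists_index_pow_quaternion S (hU h1) hgN hg hgC
        obtain ⟨H, hH⟩ := exists_index_two_of_index_eq_pow hK (by have := d.le; omega)
        exact hG H hH
    · exact h1
  · rcases h2 with h2 | h2
    · exfalso
      rcases h1 with h1 | h1
      · exact no_normalPComplement S d.card (by omega) hG
          (d.hasNormalPComplement S (hU h1) (d.autG_of_two S hV h2))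
      · obtain ⟨K, -, hK, -⟩ := d.exists_index_two_base S h1 (d.autG_of_two S hV h2)
        exact hG K hK
    · exact d.autG_of_six S hV h2

/-- The conclusion on an involution centralizer: a Sylow subgroup of the size of a given one, a
normal subgroup of 2-power index without subgroup of index two and with quaternion Sylow
subgroups, and weak closure of the central subgroups. -/
def CentralizerShape (C : Subgroup G) : Prop :=
  ∃ R : Sylow 2 C, Nat.card R = Nat.card S ∧
    (∃ K : Subgroup C, K.Normal ∧ (∃ a : ℕ, K.index = 2 ^ a) ∧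
      (∀ H : Subgroup K, H.index ≠ 2) ∧
      ∀ P : Sylow 2 K, ∃ m : ℕ, 1 ≤ m ∧
        Nonempty ((P : Subgroup K) ≃* QuaternionGroup (2 ^ m))) ∧
    ∀ Z₀ : Subgroup C, Z₀ ≤ (center (R : Subgroup C)).map (R : Subgroup C).subtype →
      Cfsg.IsWeaklyClosed Z₀ (R : Subgroup C)

theorem isWeaklyClosed_of_fixed {C : Subgroup G} {R Z₀ : Subgroup C} (hle : Z₀ ≤ R)
    (h : ∀ v ∈ Z₀, ∀ g : C, g * v * g⁻¹ ∈ R → g * v * g⁻¹ = v) :
    Cfsg.IsWeaklyClosed Z₀ R := by
  refine ⟨hle, fun u hu => ?_⟩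
  have hfix : ∀ v ∈ Z₀, u * v * u⁻¹ = v := fun v hv => h v hv u (hu ⟨v, hv, rfl⟩)
  ext v
  constructor
  · rintro ⟨w, hw, rfl⟩
    show u * w * u⁻¹ ∈ Z₀
    rw [hfix w hw]; exact hw
  · exact fun hv => ⟨v, hv, hfix v hv⟩

theorem SDPair.centralizerShape {n : ℕ} {x y : (S : Subgroup G)} (d : SDPair n x y)
    {Q : Subgroup G} (hQS : Q ≤ (S : Subgroup G)) (eQ : Q ≃* QuaternionGroup 2)
    (h₂ : (Q ⊔ centralizer (Q : Set G)).relIndex (normalizer (Q : Set G)) = 6)
    {t : G} (ht : t = (↑(x ^ hh n) : G)) :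
    CentralizerShape S (centralizer ({t} : Set G)) := by
  haveI : Fact (Nat.Prime 2) := ⟨Nat.prime_two⟩
  set C := centralizer ({t} : Set G) with hC
  have hSC : (S : Subgroup G) ≤ C := fun s hs => mem_centralizer_singleton_iff.2 (by
    subst ht
    exact congrArg Subtype.val (Subgroup.mem_center_iff.1 d.z_mem_center ⟨s, hs⟩))
  obtain ⟨hwQ, i, hi, hiQ, m⟩ := d.quaternion_sylow S hQS eQ
  have htQ : t ∈ Q := by
    subst ht
    rw [d.hh_eq, two_mul, zpow_add, Subgroup.coe_mul]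
    exact mul_mem hwQ hwQ
  have ht2 : t * t = 1 := by subst ht; exact congrArg Subtype.val d.z_sq
  have ht1 : t ≠ 1 := by subst ht; exact fun h => d.z_ne_one (Subtype.ext h)
  have hNC : normalizer (Q : Set G) ≤ C := fun g hg => mem_centralizer_singleton_iff.2 <| by
    have h : g * t * g⁻¹ = t := quaternion8_invol_unique eQ ((mem_normalizer_iff.1 hg t).1 htQ) htQ
      (by rw [show g * t * g⁻¹ * (g * t * g⁻¹) = g * (t * t) * g⁻¹ by group, ht2, mul_one,
        mul_inv_cancel]) ht2 (fun h => ht1 (conj_eq_one_iff.1 h)) ht1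
    exact mul_inv_eq_iff_eq_mul.1 h
  have hQC : Q ≤ C := hQS.trans hSC
  let S₀ : Sylow 2 C := S.subtype hSC
  let e₀ : (S : Subgroup G) ≃* (S₀ : Subgroup C) :=
    { toFun := fun a => ⟨⟨a, hSC a.2⟩, a.2⟩
      invFun := fun b => ⟨((b : C) : G), b.2⟩
      left_inv := fun a => rfl
      right_inv := fun b => rfl
      map_mul' := fun a b => rfl }
  have d₀ := d.map e₀
  set Q₀ := Q.subgroupOf C with hQ₀
  have hQ₀S : Q₀ ≤ (S₀ : Subgroup C) := fun q hq => hQS hq
  have eQ₀ : Q₀ ≃* QuaternionGroup 2 := (subgroupOfEquivOfLe hQC).trans eQ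
  have h₂' : (Q₀ ⊔ centralizer (Q₀ : Set C)).relIndex (normalizer (Q₀ : Set C)) = 6 := by
    have hcen : centralizer (Q₀ : Set C) = (centralizer (Q : Set G)).subgroupOf C := by
      ext g
      constructor
      · exact fun h q hq => congrArg Subtype.val (h ⟨q, hQC hq⟩ hq)
      · exact fun h q hq => Subtype.ext (h q hq)
    rw [hcen, hQ₀, ← subgroupOf_sup hQC ((centralizer_le_normalizer _).trans hNC),
      ← subgroupOf_normalizer_eq hQC, relIndex_subgroupOf hNC]
    exact h₂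
  have hzt : ((↑(e₀ x ^ hh n) : C) : G) = t := by
    rw [ht, ← map_zpow]; rfl
  have hz₀ : ∀ g : C, g * (↑(e₀ x ^ hh n) : C) * g⁻¹ ∈ (S₀ : Subgroup C) →
      g * (↑(e₀ x ^ hh n) : C) * g⁻¹ = (↑(e₀ x ^ hh n) : C) := fun g _ => by
    refine Subtype.ext ?_
    rw [Subgroup.coe_mul, Subgroup.coe_mul, Subgroup.coe_inv, hzt,
      mem_centralizer_singleton_iff.1 g.2, mul_inv_cancel_right]
  obtain ⟨K, hKn, hK, hP, hH⟩ := d₀.exists_index_two_quaternion S₀ hQ₀S eQ₀ h₂' hz₀
  refine ⟨S₀, (Nat.card_congr e₀.toEquiv).symm, ⟨K, hKn, ⟨1, by rw [hK, pow_one]⟩, hH, hP⟩,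
    fun Z₀ hZ₀ => isWeaklyClosed_of_fixed (hZ₀.trans (map_subtype_le _)) fun v hv g hg => ?_⟩
  obtain ⟨v', hv', rfl⟩ := hZ₀ hv
  have hv'2 : v' * v' = 1 := by
    rw [d₀.center_eq] at hv'
    obtain ⟨k, rfl⟩ := hv'
    show (e₀ x ^ hh n) ^ k * (e₀ x ^ hh n) ^ k = 1
    rw [(Commute.refl _).mul_zpow k |>.symm, d₀.z_sq, one_zpow]
  rcases eq_or_ne v' 1 with rfl | h1
  · simp
  · rcases d₀.orderOf_eq_two_iff.1 (orderOf_eq_prime (by rw [sq, hv'2]) h1) with rfl | ⟨k, -, rfl⟩
    · exact hz₀ g hg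
    · exfalso
      rw [d₀.center_eq] at hv'
      exact d₀.zpow_y_notMem k (zpowers_le.2 (zpow_mem_zpowers _ _) hv')

theorem WRTriple.centralizerShape {n : ℕ} {x y z : (S : Subgroup G)} (d : WRTriple n x y z)
    {g : G} (hgN : g ∈ normalizer (d.autG S : Set G)) (hg : Odd (orderOf g))
    (hgC : g ∉ centralizer (d.autG S : Set G))
    {t : G} (ht : t = (↑(el x y (TwoGroups.hw n) (TwoGroups.hw n)) : G)) :
    CentralizerShape S (centralizer ({t} : Set G)) := by
  haveI : Fact (Nat.Prime 2) := ⟨Nat.prime_two⟩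
  set C := centralizer ({t} : Set G) with hC
  have hcen : el x y (TwoGroups.hw n) (TwoGroups.hw n) ∈ center (S : Subgroup G) :=
    d.mem_center_iff.2 ⟨_, _, rfl, by simp⟩
  have hSC : (S : Subgroup G) ≤ C := fun s hs => mem_centralizer_singleton_iff.2 (by
    subst ht
    exact congrArg Subtype.val (Subgroup.mem_center_iff.1 hcen ⟨s, hs⟩))
  have hgCt : g ∈ C := mem_centralizer_singleton_iff.2 (by
    subst ht
    exact (d.fix_center S hgN hg _ ⟨_, hcen, rfl⟩).symm)
  let S₀ : Sylow 2 C := S.subtype hSC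
  let e₀ : (S : Subgroup G) ≃* (S₀ : Subgroup C) :=
    { toFun := fun a => ⟨⟨a, hSC a.2⟩, a.2⟩
      invFun := fun b => ⟨((b : C) : G), b.2⟩
      left_inv := fun a => rfl
      right_inv := fun b => rfl
      map_mul' := fun a b => rfl }
  have d₀ := d.map e₀
  have haut : ∀ u : C, u ∈ d₀.autG S₀ ↔ (u : G) ∈ d.autG S := by
    intro u
    constructor
    · rintro ⟨w, ⟨a, b, hab, hw'⟩, rfl⟩
      refine ⟨e₀.symm w, ⟨a, b, hab, ?_⟩, rfl⟩
      rcases hw' with rfl | rfl
      · exact Or.inl (e₀.injective (by rw [e₀.apply_symm_apply, map_el]))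
      · exact Or.inr (e₀.injective (by rw [e₀.apply_symm_apply, map_mul, map_el]))
    · rintro ⟨w, ⟨a, b, hab, hw'⟩, hu⟩
      refine ⟨e₀ w, ⟨a, b, hab, ?_⟩, Subtype.ext hu⟩
      rcases hw' with rfl | rfl
      · exact Or.inl (map_el e₀ a b)
      · exact Or.inr (by rw [map_mul, map_el])
  have hgN₀ : (⟨g, hgCt⟩ : C) ∈ normalizer (d₀.autG S₀ : Set C) := by
    rw [mem_normalizer_iff]
    intro u
    rw [haut, haut]
    exact mem_normalizer_iff.1 hgN u
  have hgC₀ : (⟨g, hgCt⟩ : C) ∉ centralizer (d₀.autG S₀ : Set C) := fun h => hgC fun v hv => by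
    have hvC : v ∈ C := hSC (d.autG_le S hv)
    exact congrArg Subtype.val (h ⟨v, hvC⟩ ((haut _).2 hv))
  have hgo : Odd (orderOf (⟨g, hgCt⟩ : C)) := by rwa [orderOf_mk]
  have hU₀ : ∀ u ∈ normalizer (d₀.baseG S₀ : Set C), Odd (orderOf u) →
      u ∈ centralizer (d₀.baseG S₀ : Set C) := fun u hu huo =>
    d₀.mem_centralizer_baseG S₀ hu huo (Subtype.ext (by
      rw [Subgroup.coe_mul, Subgroup.coe_mul, Subgroup.coe_inv,
        show ((↑(el (e₀ x) (e₀ y) (TwoGroups.hw n) (TwoGroups.hw n)) : C) : G) = t by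
          rw [ht, ← map_el]; rfl,
        mem_centralizer_singleton_iff.1 u.2, mul_inv_cancel_right]))
  obtain ⟨K, hKn, hK, hP, hH⟩ := d₀.exists_index_pow_quaternion S₀ hU₀ hgN₀ hgo hgC₀
  exact ⟨S₀, (Nat.card_congr e₀.toEquiv).symm, ⟨K, hKn, ⟨n, hK⟩, hH, hP⟩,
    fun Z₀ hZ₀ => isWeaklyClosed_of_fixed (hZ₀.trans (map_subtype_le _)) fun v hv u hu =>
      d₀.center_fusion S₀ hU₀ (hZ₀ hv) u hu⟩

/-- All involutions are conjugate, and every involution centralizer has the expected shape. -/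
theorem centralizerShape_of_no_index_two
    (hS : Cfsg.IsQuasiDihedral (S : Subgroup G) ∨ Cfsg.IsWreathed (S : Subgroup G))
    (hG : ∀ H : Subgroup G, H.index ≠ 2) {t : G} (ht : orderOf t = 2) :
    CentralizerShape S (centralizer ({t} : Set G)) := by
  haveI : Fact (Nat.Prime 2) := ⟨Nat.prime_two⟩
  have key : ∀ (g : G) (c : G), g * c * g⁻¹ = t → ∀ S' : Sylow 2 G,
      (∀ a : G, a ∈ (S' : Subgroup G) ↔ g⁻¹ * a * g ∈ (S : Subgroup G)) →
      ∃ e : (S : Subgroup G) ≃* (S' : Subgroup G), ∀ a, (e a : G) = g * (a : G) * g⁻¹ := by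
    intro g c _ S' hS'
    exact ⟨{ toFun := fun a => ⟨g * (a : G) * g⁻¹, (hS' _).2 (by
                rw [show g⁻¹ * (g * (a : G) * g⁻¹) * g = a by group]; exact a.2)⟩
             invFun := fun b => ⟨g⁻¹ * (b : G) * g, (hS' _).1 b.2⟩
             left_inv := fun a => Subtype.ext (by group)
             right_inv := fun b => Subtype.ext (by group)
             map_mul' := fun a b => Subtype.ext (by
              show g * ((a : G) * b) * g⁻¹ = g * (a : G) * g⁻¹ * (g * (b : G) * g⁻¹)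
              group) }, fun a => rfl⟩
  obtain ⟨a, ha, hta⟩ := exists_isConj_sylow S (k := 1) (by simpa using ht)
  rcases hS with hS | hS
  · obtain ⟨n, x, y, d⟩ := exists_sdPair hS
    obtain ⟨T, Q, hT, hTS, hQS, ⟨eQ⟩, h₁, h₂⟩ := d.six_of_no_index_two S hS hG
    obtain ⟨g, hg⟩ := isConj_iff.1 (hta.trans (d.isConj_z_of_six S hT hTS h₁ a (by simpa using ha))).symm
    obtain ⟨e, he⟩ := key g _ hg (g • S) fun a => CfsgLib.Transfer.mem_smul_iff
    have d' := d.map e
    have hS' : Cfsg.IsQuasiDihedral ((g • S : Sylow 2 G) : Subgroup G) :=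
      ⟨n, d'.le, d'.card, e x, e y, d'.ox, d'.oy, d'.rel⟩
    obtain ⟨T', Q', -, -, hQS', ⟨eQ'⟩, -, h₂'⟩ := d'.six_of_no_index_two (g • S) hS' hG
    obtain ⟨R, hR, h⟩ := d'.centralizerShape (g • S) hQS' eQ' h₂' (t := t)
      (by rw [← map_zpow, he]; exact hg.symm)
    exact ⟨R, hR.trans (Nat.card_congr e.toEquiv).symm, h⟩
  · obtain ⟨n, x, y, z, d⟩ := exists_wrTriple hS
    obtain ⟨h₁, g₀, hg₀N, hg₀, hg₀C⟩ := d.six_of_no_index_two S hS hG
    have hca := d.isConj_c_a S h₁
    have hac : IsConj (a : G) (↑(el x y (TwoGroups.hw n) (TwoGroups.hw n)) : G) := by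
      rcases d.invol_cases S a (by simpa using ha) with rfl | h | h
      exacts [IsConj.refl _, h.trans hca.symm,
        (h.trans (d.isConj_a_z S hg₀N hg₀ hg₀C).symm).trans hca.symm]
    obtain ⟨g, hg⟩ := isConj_iff.1 (hta.trans hac).symm
    obtain ⟨e, he⟩ := key g _ hg (g • S) fun a => CfsgLib.Transfer.mem_smul_iff
    have d' := d.map e
    have hS' : Cfsg.IsWreathed ((g • S : Sylow 2 G) : Subgroup G) :=
      ⟨n, d'.le, d'.card, e x, e y, e z, d'.ox, d'.comm, d'.disj, d'.oz, d'.rel⟩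
    obtain ⟨-, g', hg'N, hg', hg'C⟩ := d'.six_of_no_index_two (g • S) hS' hG
    obtain ⟨R, hR, h⟩ := d'.centralizerShape (g • S) hg'N hg' hg'C (t := t)
      (by rw [← map_el, he]; exact hg.symm)
    exact ⟨R, hR.trans (Nat.card_congr e.toEquiv).symm, h⟩

end CfsgLib.TwoGroups
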