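import Cfsg.Agent.FusionSub.GLTwoSylow
import Cfsg.Agent.TwoGroups.NoIndexTwo

/-!
The isomorphism type of a Sylow 2-subgroup of `GL(2,q)`, `q` odd.
-/

set_option autoImplicit false

namespace CfsgLib.TwoGroups

open Subgroup

theorem isWreathed_of_equiv {S S' : Type*} [Group S] [Group S'] (h : Cfsg.IsWreathed S) (e : S ≃* S') :
    Cfsg.IsWreathed S' := by
  obtain ⟨n, hn, hc, x, y, z, hx, hxy, hd, hz, hr⟩ := h
  have d' := WRTriple.map (⟨hn, hc, hx, hxy, hd, hz, hr⟩ : WRTriple n x y z) e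
  exact ⟨n, d'.le, d'.card, e x, e y, e z, d'.ox, d'.comm, d'.disj, d'.oz, d'.rel⟩

theorem isQuasiDihedral_of_equiv {S S' : Type*} [Group S] [Group S'] (h : Cfsg.IsQuasiDihedral S)
    (e : S ≃* S') : Cfsg.IsQuasiDihedral S' := by
  obtain ⟨n, x, y, d⟩ := exists_sdPair h
  have d' := d.map e
  exact ⟨n, d'.le, d'.card, e x, e y, d'.ox, d'.oy, d'.rel⟩

/-- In a dihedral group the elements that are not involutions commute. -/
theorem dihedral_commute {m : ℕ} {u v : DihedralGroup m} (hu : u ^ 2 ≠ 1) (hv : v ^ 2 ≠ 1) :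
    u * v = v * u := by
  cases u with
  | sr i => exact absurd (by rw [sq, DihedralGroup.sr_mul_self]) hu
  | r i =>
    cases v with
    | sr j => exact absurd (by rw [sq, DihedralGroup.sr_mul_self]) hv
    | r j => rw [DihedralGroup.r_mul_r, DihedralGroup.r_mul_r, add_comm]

theorem quaternion_noncommuting {m : ℕ} (hm : 1 ≤ m) :
    ∃ u v : QuaternionGroup (2 ^ m), u ^ 2 ≠ 1 ∧ v ^ 2 ≠ 1 ∧ u * v ≠ v * u := by
  have key : ∀ c : ℕ, 0 < c → c < 2 * 2 ^ m → (c : ZMod (2 * 2 ^ m)) ≠ 0 := by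
    intro c h0 hc h
    have := Nat.le_of_dvd h0 ((ZMod.natCast_eq_zero_iff c _).1 h)
    omega
  have h2 : 2 ≤ 2 ^ m := by simpa using Nat.pow_le_pow_right two_pos hm
  refine ⟨QuaternionGroup.a 1, QuaternionGroup.xa 0, ?_, ?_, ?_⟩
  · rw [sq, QuaternionGroup.a_mul_a, ← QuaternionGroup.a_zero, ne_eq, QuaternionGroup.a.injEq]
    simpa [one_add_one_eq_two] using key 2 two_pos (by omega)
  · rw [sq, QuaternionGroup.xa_mul_xa, ← QuaternionGroup.a_zero, ne_eq, QuaternionGroup.a.injEq]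
    simpa using key (2 ^ m) (by omega) (by omega)
  · rw [QuaternionGroup.a_mul_xa, QuaternionGroup.xa_mul_a, ne_eq, QuaternionGroup.xa.injEq]
    intro h
    apply key 2 two_pos (by omega)
    push_cast
    linear_combination -h

namespace GLTwoType

open CfsgLib CfsgLib.FusionSub.GLTwo Matrix
open scoped MatrixGroups

variable {F : Type*} [Field F] [Fintype F]

theorem wreathed_aux (hodd : Odd (Fintype.card F)) (h4 : Fintype.card F % 4 = 1) (P : Sylow 2 (GL (Fin 2) F))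
    (hw : FusionSub.GLTwo.swap ∈ (P : Subgroup (GL (Fin 2) F)))
    (hΔ : ∀ a b : Fˣ, (∃ k : ℕ, orderOf a = 2 ^ k) → (∃ k : ℕ, orderOf b = 2 ^ k) →
      Δ (a, b) ∈ (P : Subgroup (GL (Fin 2) F))) :
    Cfsg.IsWreathed (P : Subgroup (GL (Fin 2) F)) := by
  have : Fact (Nat.Prime 2) := ⟨Nat.prime_two⟩
  obtain ⟨q', hq'⟩ := hodd
  have hodd : Odd (Fintype.card F) := ⟨q', hq'⟩
  have h2 : (2 : F) ≠ 0 := Linear.two_ne_zero_of_odd hodd
  have hq3 : 3 ≤ Fintype.card F := by
    have := Fintype.one_lt_card (α := F)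
    omega
  obtain ⟨U⟩ : Nonempty (Sylow 2 Fˣ) := inferInstance
  obtain ⟨n, hn⟩ := U.isPGroup'.exists_card_eq
  obtain ⟨o, ho, hqo⟩ := card_two_part hodd n U hn
  have hUord : ∀ a ∈ (U : Subgroup Fˣ), ∃ k : ℕ, orderOf a = 2 ^ k := by
    intro a ha
    obtain ⟨k, -, hk⟩ := (Nat.dvd_prime_pow Nat.prime_two).1
      (hn ▸ Subgroup.orderOf_dvd_natCard (U : Subgroup Fˣ) ha)
    exact ⟨k, hk⟩
  obtain ⟨t₀, ht₀⟩ := IsCyclic.exists_generator (α := (U : Subgroup Fˣ))
  have hot : orderOf (t₀ : Fˣ) = 2 ^ n := by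
    rw [Subgroup.orderOf_coe, orderOf_eq_card_of_forall_mem_zpowers ht₀, hn]
  have hcardGL : Nat.card (GL (Fin 2) F) =
      Fintype.card F * (Fintype.card F - 1) * (Fintype.card F ^ 2 - 1) := Linear.card_GL_two
  have hsq : Fintype.card F ^ 2 - 1 = (Fintype.card F + 1) * (Fintype.card F - 1) := by
    rw [← Nat.sq_sub_sq, one_pow]
  have hP2 : IsPGroup 2 (P : Subgroup (GL (Fin 2) F)) := P.isPGroup'
  have hcardP : ∀ (j o' : ℕ), ¬ 2 ∣ o' → Nat.card (GL (Fin 2) F) = 2 ^ j * o' →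
      Nat.card (P : Subgroup (GL (Fin 2) F)) = 2 ^ j := by
    intro j o' ho' hj
    have h1 := P.card_eq_multiplicity
    rw [hj, Nat.factorization_mul (pow_ne_zero _ two_ne_zero) (fun h => ho' (by rw [h]; exact dvd_zero 2)),
      Nat.prime_two.factorization_pow, Finsupp.add_apply, Finsupp.single_eq_same,
      Nat.factorization_eq_zero_of_not_dvd ho', add_zero] at h1
    exact h1
  have hn2 : 2 ≤ n := by
    by_contra hlt
    have : n = 0 ∨ n = 1 := by omega
    rcases this with rfl | rfl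
    · omega
    · obtain ⟨c, hc⟩ : Odd o := Nat.not_even_iff_odd.1 fun he => ho he.two_dvd
      omega
  have hw' : Cfsg.IsWreathed (P : Subgroup (GL (Fin 2) F)) := by
    refine ⟨n, hn2, hcardP (2 * n + 1) (Fintype.card F * o * (((Fintype.card F + 1) / 2) * o)) ?_ ?_,
      ⟨Δ (t₀, 1), hΔ _ _ (hUord _ t₀.2) ⟨0, by simp⟩⟩,
      ⟨Δ (1, t₀), hΔ _ _ ⟨0, by simp⟩ (hUord _ t₀.2)⟩, ⟨FusionSub.GLTwo.swap, hw⟩, ?_, ?_, ?_, ?_, ?_⟩
    · have hodd1 : Odd ((Fintype.card F + 1) / 2) := by rw [Nat.odd_iff]; omega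
      have hoddo : Odd o := Nat.not_even_iff_odd.1 fun he => ho he.two_dvd
      have := (hodd.mul hoddo).mul (hodd1.mul hoddo)
      exact fun hd => Nat.not_even_iff_odd.2 this (even_iff_two_dvd.2 hd)
    · rw [hcardGL, hsq, hqo]
      have he : Fintype.card F + 1 = 2 * ((Fintype.card F + 1) / 2) := by omega
      rw [show Fintype.card F + 1 = 2 * ((Fintype.card F + 1) / 2) from he]
      rw [← he]
      conv_lhs => rw [he]
      ring
    · rw [← Subgroup.orderOf_coe, orderOf_injective Δ Δ_injective, Prod.orderOf, hot, orderOf_one,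
        Nat.lcm_one_right]
    · refine Subtype.ext ?_
      rw [Subgroup.coe_mul, Subgroup.coe_mul, ← map_mul, ← map_mul]
      simp [mul_comm]
    · rw [eq_bot_iff]
      rintro x ⟨⟨i, hi⟩, ⟨j, hj⟩⟩
      rw [Subgroup.mem_bot]
      have hi' := congrArg Subtype.val hi
      have hj' := congrArg Subtype.val hj
      simp only [Subgroup.coe_zpow, ← map_zpow] at hi' hj'
      have h := congrArg Prod.fst (Δ_injective (hi'.trans hj'.symm))
      simp only [Prod.pow_fst, _root_.one_zpow] at h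
      refine Subtype.ext ?_
      rw [Subgroup.coe_one, ← hi', map_eq_one_iff Δ Δ_injective]
      exact Prod.ext h (by simp)
    · rw [← Subgroup.orderOf_coe]
      refine orderOf_eq_prime (by rw [sq, swap_mul_swap]) fun h => ?_
      exact swap_ne_Δ 1 1 (h.trans (map_one Δ).symm)
    · exact Subtype.ext (swap_conj_Δ _ _)
  exact hw'

theorem quasiDihedral_aux (hodd : Odd (Fintype.card F)) (h4 : ¬ Fintype.card F % 4 = 1) (P : Sylow 2 (GL (Fin 2) F))
    (hw : FusionSub.GLTwo.swap ∈ (P : Subgroup (GL (Fin 2) F)))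
    (hΔ : ∀ a b : Fˣ, (∃ k : ℕ, orderOf a = 2 ^ k) → (∃ k : ℕ, orderOf b = 2 ^ k) →
      Δ (a, b) ∈ (P : Subgroup (GL (Fin 2) F))) :
    Cfsg.IsQuasiDihedral (P : Subgroup (GL (Fin 2) F)) := by
  have : Fact (Nat.Prime 2) := ⟨Nat.prime_two⟩
  obtain ⟨q', hq'⟩ := hodd
  have hodd : Odd (Fintype.card F) := ⟨q', hq'⟩
  have h2 : (2 : F) ≠ 0 := Linear.two_ne_zero_of_odd hodd
  have hq3 : 3 ≤ Fintype.card F := by
    have := Fintype.one_lt_card (α := F)
    omega
  obtain ⟨U⟩ : Nonempty (Sylow 2 Fˣ) := inferInstance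
  obtain ⟨n, hn⟩ := U.isPGroup'.exists_card_eq
  obtain ⟨o, ho, hqo⟩ := card_two_part hodd n U hn
  have hUord : ∀ a ∈ (U : Subgroup Fˣ), ∃ k : ℕ, orderOf a = 2 ^ k := by
    intro a ha
    obtain ⟨k, -, hk⟩ := (Nat.dvd_prime_pow Nat.prime_two).1
      (hn ▸ Subgroup.orderOf_dvd_natCard (U : Subgroup Fˣ) ha)
    exact ⟨k, hk⟩
  obtain ⟨t₀, ht₀⟩ := IsCyclic.exists_generator (α := (U : Subgroup Fˣ))
  have hot : orderOf (t₀ : Fˣ) = 2 ^ n := by
    rw [Subgroup.orderOf_coe, orderOf_eq_card_of_forall_mem_zpowers ht₀, hn]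
  have hcardGL : Nat.card (GL (Fin 2) F) =
      Fintype.card F * (Fintype.card F - 1) * (Fintype.card F ^ 2 - 1) := Linear.card_GL_two
  have hsq : Fintype.card F ^ 2 - 1 = (Fintype.card F + 1) * (Fintype.card F - 1) := by
    rw [← Nat.sq_sub_sq, one_pow]
  have hP2 : IsPGroup 2 (P : Subgroup (GL (Fin 2) F)) := P.isPGroup'
  have hcardP : ∀ (j o' : ℕ), ¬ 2 ∣ o' → Nat.card (GL (Fin 2) F) = 2 ^ j * o' →
      Nat.card (P : Subgroup (GL (Fin 2) F)) = 2 ^ j := by
    intro j o' ho' hj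
    have h1 := P.card_eq_multiplicity
    rw [hj, Nat.factorization_mul (pow_ne_zero _ two_ne_zero) (fun h => ho' (by rw [h]; exact dvd_zero 2)),
      Nat.prime_two.factorization_pow, Finsupp.add_apply, Finsupp.single_eq_same,
      Nat.factorization_eq_zero_of_not_dvd ho', add_zero] at h1
    exact h1
  have hn1 : n = 1 := by
    rcases n with _ | _ | n
    · simp at hqo; omega
    · rfl
    · rw [show n + 1 + 1 = n + 2 from rfl, pow_add] at hqo
      have : 4 ∣ Fintype.card F - 1 := ⟨2 ^ n * o, by rw [hqo]; ring⟩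
      omega
  have hpm : ∀ a : Fˣ, (∃ k : ℕ, orderOf a = 2 ^ k) → a = 1 ∨ a = -1 := by
    rintro a ⟨k, hk⟩
    have hd : 2 ^ k ∣ Fintype.card F - 1 := by
      rw [← hk, ← Linear.card_units]
      exact orderOf_dvd_natCard a
    have hk1 : k ≤ 1 := by
      by_contra hk1
      have h44 : 4 ∣ Fintype.card F - 1 :=
        (pow_dvd_pow 2 (show 2 ≤ k by omega)).trans hd
      omega
    have ha : (a : F) ^ 2 = 1 := by
      rw [← Units.val_pow_eq_pow_val, orderOf_dvd_iff_pow_eq_one.1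
        (show orderOf a ∣ 2 by rw [hk]; simpa using pow_dvd_pow 2 hk1), Units.val_one]
    rcases sq_eq_one_iff.1 ha with h | h
    · exact Or.inl (Units.ext h)
    · exact Or.inr (Units.ext (by simpa using h))
  have hm1 : ∃ k : ℕ, orderOf (-1 : Fˣ) = 2 ^ k := by
    obtain ⟨k, -, hk⟩ := (Nat.dvd_prime_pow Nat.prime_two).1
      (orderOf_dvd_of_pow_eq_one (by simp : (-1 : Fˣ) ^ (2 ^ 1) = 1))
    exact ⟨k, hk⟩
  have hone : ∃ k : ℕ, orderOf (1 : Fˣ) = 2 ^ k := ⟨0, by simp⟩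
  have hne : (-1 : Fˣ) ≠ 1 := fun h => h2 (by
    have := congrArg Units.val h
    simp at this
    linear_combination -this)
  let s : (P : Subgroup (GL (Fin 2) F)) := ⟨Δ (-1, 1), hΔ _ _ hm1 hone⟩
  have hs : orderOf s = 2 := by
    refine orderOf_eq_prime (Subtype.ext ?_) fun h => hne ?_
    · rw [Subgroup.coe_pow, ← map_pow]
      exact (congrArg Δ (Prod.ext (by simp) (by simp) : ((-1, 1) : Fˣ × Fˣ) ^ 2 = 1)).trans (map_one Δ)
    · exact congrArg Prod.fst (Δ_injective ((congrArg Subtype.val h).trans (map_one Δ).symm))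
  have hC : Nat.card (Subgroup.centralizer ({s} : Set (P : Subgroup (GL (Fin 2) F)))) = 4 := by
    let f : Fin 2 → Fˣ := ![1, -1]
    have hf : ∀ i, ∃ k : ℕ, orderOf (f i) = 2 ^ k := fun i => by fin_cases i <;> [exact hone; exact hm1]
    have hfi : Function.Injective f := fun i j h => by
      fin_cases i <;> fin_cases j <;> first | rfl | exact absurd h hne | exact absurd h.symm hne
    let g : Fin 2 × Fin 2 → Subgroup.centralizer ({s} : Set (P : Subgroup (GL (Fin 2) F))) := fun x =>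
      ⟨⟨Δ (f x.1, f x.2), hΔ _ _ (hf _) (hf _)⟩, Subgroup.mem_centralizer_singleton_iff.2
        (Subtype.ext (by
          show Δ (f x.1, f x.2) * Δ (-1, 1) = Δ (-1, 1) * Δ (f x.1, f x.2)
          rw [← map_mul, ← map_mul, mul_comm]))⟩
    rw [← Nat.card_eq_of_bijective g ⟨?_, ?_⟩, Nat.card_eq_fintype_card, Fintype.card_prod]
    · rfl
    · intro x y h
      have h' : (f x.1, f x.2) = (f y.1, f y.2) :=
        Δ_injective (congrArg Subtype.val (congrArg Subtype.val h) :)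
      exact Prod.ext (hfi (congrArg Prod.fst h')) (hfi (congrArg Prod.snd h'))
    · rintro ⟨⟨x, hx⟩, hxs⟩
      have hc : x * Δ (-1, 1) = Δ (-1, 1) * x :=
        congrArg Subtype.val (Subgroup.mem_centralizer_singleton_iff.1 hxs)
      have hc' := congrArg (fun u : GL (Fin 2) F => (u : Matrix (Fin 2) (Fin 2) F)) hc
      simp only [Units.val_mul, coe_Δ] at hc'
      have e01 := congrFun (congrFun hc' 0) 1
      have e10 := congrFun (congrFun hc' 1) 0
      simp [Matrix.mul_apply, Fin.sum_univ_two] at e01 e10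
      have h01 : (x : Matrix (Fin 2) (Fin 2) F) 0 1 = 0 := by
        have : (2 : F) * (x : Matrix (Fin 2) (Fin 2) F) 0 1 = 0 := by linear_combination e01
        simpa [h2] using this
      have h10 : (x : Matrix (Fin 2) (Fin 2) F) 1 0 = 0 := by
        have : (2 : F) * (x : Matrix (Fin 2) (Fin 2) F) 1 0 = 0 := by linear_combination -e10
        simpa [h2] using this
      have hdet : IsUnit (x : Matrix (Fin 2) (Fin 2) F).det :=
        (Matrix.GeneralLinearGroup.det x).isUnit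
      rw [Matrix.det_fin_two, h01, zero_mul, sub_zero, IsUnit.mul_iff] at hdet
      have hxΔ : x = Δ (hdet.1.unit, hdet.2.unit) := by
        ext i j
        fin_cases i <;> fin_cases j <;> simp [coe_Δ, h01, h10]
      obtain ⟨k, hk⟩ := hP2 ⟨x, hx⟩
      have hk' : x ^ 2 ^ k = 1 := congrArg Subtype.val hk
      rw [hxΔ, ← map_pow, map_eq_one_iff Δ Δ_injective, Prod.pow_mk, Prod.mk_eq_one] at hk'
      have hord : ∀ a : Fˣ, a ^ 2 ^ k = 1 → ∃ i : Fin 2, f i = a := by
        intro a ha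
        obtain ⟨l, -, hl⟩ := (Nat.dvd_prime_pow Nat.prime_two).1 (orderOf_dvd_of_pow_eq_one ha)
        rcases hpm a ⟨l, hl⟩ with rfl | rfl
        · exact ⟨0, rfl⟩
        · exact ⟨1, rfl⟩
      obtain ⟨i, hi⟩ := hord _ hk'.1
      obtain ⟨j, hj⟩ := hord _ hk'.2
      refine ⟨(i, j), Subtype.ext (Subtype.ext ?_)⟩
      show Δ (f i, f j) = x
      rw [hi, hj, ← hxΔ]
  obtain ⟨j, hj⟩ := hP2.exists_card_eq
  have h16 : 16 ≤ Nat.card (P : Subgroup (GL (Fin 2) F)) := by
    have hd : 2 ^ 4 ∣ Nat.card (GL (Fin 2) F) := by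
      rw [hcardGL, hsq]
      have h8 : 4 ∣ Fintype.card F + 1 := by omega
      obtain ⟨c, hc⟩ := h8
      refine ⟨Fintype.card F * o * (c * o), ?_⟩
      rw [hc, hqo, hn1]
      ring
    exact Nat.le_of_dvd Nat.card_pos (P.pow_dvd_card_of_pow_dvd_card hd)
  rcases CfsgLib.Inv53.dihedral_quasi_or_four hP2 s hs hC with ⟨m, ⟨e⟩⟩ | h | h
  · obtain ⟨k, hk1, ⟨eq⟩⟩ := inc_preimage_quaternion hodd P
    obtain ⟨u, v, hu, hv, huv⟩ := quaternion_noncommuting hk1
    let f : QuaternionGroup (2 ^ k) →* DihedralGroup m :=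
      (e.toMonoidHom.comp ((inc (F := F)).subgroupComap (P : Subgroup (GL (Fin 2) F)))).comp
        eq.symm.toMonoidHom
    have hf : Function.Injective f := by
      refine (e.injective.comp ?_).comp eq.symm.injective
      intro a b hab
      exact Subtype.ext (inc_injective (congrArg Subtype.val hab))
    refine absurd ?_ huv
    apply hf
    rw [map_mul, map_mul]
    refine dihedral_commute ?_ ?_ <;> rw [← map_pow, ne_eq, map_eq_one_iff f hf] <;> assumption
  · exact h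
  · omega

theorem sylow_type (P : Sylow 2 (GL (Fin 2) F)) :
    (Fintype.card F % 4 = 3 → Cfsg.IsQuasiDihedral (P : Subgroup (GL (Fin 2) F))) ∧
      (Fintype.card F % 4 = 1 → Cfsg.IsWreathed (P : Subgroup (GL (Fin 2) F))) := by
  have : Fact (Nat.Prime 2) := ⟨Nat.prime_two⟩
  refine ⟨fun h => ?_, fun h => ?_⟩
  · have hodd : Odd (Fintype.card F) := by rw [Nat.odd_iff]; omega
    obtain ⟨Q, hw, hΔ⟩ := exists_sylow (F := F) hodd
    exact isQuasiDihedral_of_equiv (quasiDihedral_aux hodd (by omega) Q hw hΔ) (Sylow.equiv Q P)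
  · have hodd : Odd (Fintype.card F) := by rw [Nat.odd_iff]; omega
    obtain ⟨Q, hw, hΔ⟩ := exists_sylow (F := F) hodd
    exact isWreathed_of_equiv (wreathed_aux hodd h Q hw hΔ) (Sylow.equiv Q P)

end GLTwoType

end CfsgLib.TwoGroups
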