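import Mathlib.GroupTheory.SpecificGroups.Dihedral
import Mathlib.GroupTheory.SpecificGroups.Quaternion
import Mathlib.Tactic

/-!
# Recognizing dihedral and quaternion groups from two elements
-/

namespace CfsgLib.TwoGroups

open Subgroup

variable {S : Type*} [Group S]

theorem zpow_mul_of_inverts {a b : S} (hba : b * a * b⁻¹ = a⁻¹) (i : ℤ) :
    a ^ i * b = b * a ^ (-i) := by
  have h1 : b * a ^ (-i) * b⁻¹ = a ^ i := by
    rw [← conj_zpow, hba, inv_zpow, zpow_neg, inv_inv]
  rw [← h1, inv_mul_cancel_right]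

theorem zpow_cast_eq {a : S} {m : ℕ} (ha : orderOf a = m) {i : ZMod m} {j : ℤ}
    (h : (j : ZMod m) = i) : a ^ (i.cast : ℤ) = a ^ j := by
  rw [zpow_eq_zpow_iff_modEq, ha, ← ZMod.intCast_eq_intCast_iff, h]
  simp

/-- A group of order `2m` with an element `a` of order `m` inverted by an involution outside
`⟨a⟩` is dihedral. -/
theorem nonempty_equiv_dihedral [Finite S] {H : Subgroup S} {a b : S} {m : ℕ}
    (haH : a ∈ H) (hbH : b ∈ H) (ha : orderOf a = m) (hb : b * b = 1)
    (hba : b * a * b⁻¹ = a⁻¹) (hnot : b ∉ zpowers a) (hcard : Nat.card H = 2 * m) :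
    Nonempty (H ≃* DihedralGroup m) := by
  subst ha
  let f : DihedralGroup (orderOf a) → S
    | .r i => a ^ (i.cast : ℤ)
    | .sr i => b * a ^ (i.cast : ℤ)
  have hf : ∀ p q, f (p * q) = f p * f q := by
    rintro (i | i) (j | j)
    · simp only [DihedralGroup.r_mul_r, f]
      rw [← zpow_add]; exact zpow_cast_eq rfl (by simp)
    · simp only [DihedralGroup.r_mul_sr, f]
      rw [← mul_assoc, zpow_mul_of_inverts hba, mul_assoc, ← zpow_add]
      congr 1
      exact zpow_cast_eq rfl (by simp [sub_eq_add_neg, add_comm])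
    · simp only [DihedralGroup.sr_mul_r, f]
      rw [mul_assoc, ← zpow_add]; congr 1; exact zpow_cast_eq rfl (by simp)
    · simp only [DihedralGroup.sr_mul_sr, f]
      rw [mul_assoc b, ← mul_assoc _ b, zpow_mul_of_inverts hba, mul_assoc b (a ^ _),
        ← zpow_add, ← mul_assoc, hb, one_mul]
      exact zpow_cast_eq rfl (by simp [sub_eq_add_neg, add_comm])
  have hmem : ∀ p, f p ∈ H := by
    rintro (i | i)
    · exact zpow_mem haH _
    · exact mul_mem hbH (zpow_mem haH _)
  have hinj : Function.Injective (MonoidHom.mk' (fun p => (⟨f p, hmem p⟩ : H))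
      fun p q => Subtype.ext (hf p q)) := by
    rw [injective_iff_map_eq_one]
    rintro (i | i) h
    · have h' : a ^ (i.cast : ℤ) = a ^ (0 : ℤ) := by
        rw [zpow_zero]; exact congrArg Subtype.val h
      rw [zpow_eq_zpow_iff_modEq, ← ZMod.intCast_eq_intCast_iff] at h'
      simp only [ZMod.intCast_zmod_cast, Int.cast_zero] at h'
      rw [h']; rfl
    · refine absurd ?_ hnot
      have h' : b * a ^ (i.cast : ℤ) = 1 := congrArg Subtype.val h
      rw [eq_inv_of_mul_eq_one_left h']
      exact inv_mem (zpow_mem_zpowers a _)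
  exact ⟨(MulEquiv.ofBijective _ ((Nat.bijective_iff_injective_and_card _).2
    ⟨hinj, by rw [DihedralGroup.nat_card, hcard]⟩)).symm⟩

/-- A group of order `4m` with an element `a` of order `2m` inverted by `b ∉ ⟨a⟩` with
`b² = aᵐ` is generalized quaternion. -/
theorem nonempty_equiv_quaternion [Finite S] {H : Subgroup S} {a b : S} {m : ℕ} [NeZero m]
    (haH : a ∈ H) (hbH : b ∈ H) (ha : orderOf a = 2 * m) (hb : b * b = a ^ m)
    (hba : b * a * b⁻¹ = a⁻¹) (hnot : b ∉ zpowers a) (hcard : Nat.card H = 4 * m) :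
    Nonempty (H ≃* QuaternionGroup m) := by
  let f : QuaternionGroup m → S
    | .a i => a ^ (i.cast : ℤ)
    | .xa i => b * a ^ (i.cast : ℤ)
  have hf : ∀ p q, f (p * q) = f p * f q := by
    rintro (i | i) (j | j)
    · simp only [QuaternionGroup.a_mul_a, f]
      rw [← zpow_add]; exact zpow_cast_eq ha (by simp)
    · simp only [QuaternionGroup.a_mul_xa, f]
      rw [← mul_assoc, zpow_mul_of_inverts hba, mul_assoc, ← zpow_add]
      congr 1
      exact zpow_cast_eq ha (by simp [sub_eq_add_neg, add_comm])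
    · simp only [QuaternionGroup.xa_mul_a, f]
      rw [mul_assoc, ← zpow_add]; congr 1; exact zpow_cast_eq ha (by simp)
    · simp only [QuaternionGroup.xa_mul_xa, f]
      rw [mul_assoc b, ← mul_assoc _ b, zpow_mul_of_inverts hba, mul_assoc b (a ^ _),
        ← zpow_add, ← mul_assoc, hb, ← zpow_natCast, ← zpow_add]
      exact zpow_cast_eq ha (by simp [sub_eq_add_neg, add_comm, add_assoc, add_left_comm])
  have hmem : ∀ p, f p ∈ H := by
    rintro (i | i)
    · exact zpow_mem haH _
    · exact mul_mem hbH (zpow_mem haH _)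
  have hinj : Function.Injective (MonoidHom.mk' (fun p => (⟨f p, hmem p⟩ : H))
      fun p q => Subtype.ext (hf p q)) := by
    rw [injective_iff_map_eq_one]
    rintro (i | i) h
    · have h' : a ^ (i.cast : ℤ) = a ^ (0 : ℤ) := by
        rw [zpow_zero]; exact congrArg Subtype.val h
      rw [zpow_eq_zpow_iff_modEq, ha, ← ZMod.intCast_eq_intCast_iff] at h'
      simp only [ZMod.intCast_zmod_cast, Int.cast_zero] at h'
      rw [h']; rfl
    · refine absurd ?_ hnot
      have h' : b * a ^ (i.cast : ℤ) = 1 := congrArg Subtype.val h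
      rw [eq_inv_of_mul_eq_one_left h']
      exact inv_mem (zpow_mem_zpowers a _)
  exact ⟨(MulEquiv.ofBijective _ ((Nat.bijective_iff_injective_and_card _).2
    ⟨hinj, by rw [Nat.card_eq_fintype_card, QuaternionGroup.card, hcard]⟩)).symm⟩

end CfsgLib.TwoGroups
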