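import Cfsg.Prelude.Def_CaseTheorems
import Cfsg.Agent.TwoGroups.Models

/-!
# The structure of quasi-dihedral (semidihedral) 2-groups

`SDPair n x y`: the group has order `2^(n+1)`, `x` has order `2^n`, `y` is an involution and
`y x y⁻¹ = x^(2^(n-1)-1)`. Exponents of `x` are integers; `hh n = 2^(n-1)`, `qq n = 2^(n-2)`.
-/

namespace CfsgLib.TwoGroups

open Subgroup

/-- Generators of a semidihedral group. -/
structure SDPair {S : Type*} [Group S] (n : ℕ) (x y : S) : Prop where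
  le : 3 ≤ n
  card : Nat.card S = 2 ^ (n + 1)
  ox : orderOf x = 2 ^ n
  oy : orderOf y = 2
  rel : y * x * y⁻¹ = x ^ (2 ^ (n - 1) - 1)

/-- `2^(n-1)`. -/
def hh (n : ℕ) : ℤ := 2 ^ (n - 1)

/-- `2^(n-2)`. -/
def qq (n : ℕ) : ℤ := 2 ^ (n - 2)

theorem exists_sdPair {S : Type*} [Group S] (h : Cfsg.IsQuasiDihedral S) :
    ∃ (n : ℕ) (x y : S), SDPair n x y := by
  obtain ⟨n, hn, hc, x, y, hx, hy, hr⟩ := h
  exact ⟨n, x, y, hn, hc, hx, hy, hr⟩

variable {S : Type*} [Group S] {n : ℕ} {x y : S} (d : SDPair n x y)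
include d

theorem SDPair.finite : Finite S :=
  Nat.finite_of_card_ne_zero (by rw [d.card]; positivity)

theorem SDPair.hh_eq : hh n = 2 * qq n := by
  have := d.le
  rw [hh, qq, ← pow_succ']; congr 1; omega

theorem SDPair.order_eq : ((2 ^ n : ℕ) : ℤ) = 2 * hh n := by
  have := d.le
  rw [hh, ← pow_succ']; push_cast; congr 1; omega

theorem SDPair.hh_dvd_sq : hh n ∣ qq n * qq n := by
  rw [hh, qq, ← pow_add]
  exact pow_dvd_pow 2 (by have := d.le; omega)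

theorem SDPair.even_qq : (2 : ℤ) ∣ qq n :=
  dvd_pow_self 2 (by have := d.le; omega)

theorem SDPair.hh_pos : 0 < hh n := pow_pos two_pos _

/-- Equality of powers of `x`. -/
theorem SDPair.zpow_eq {a b : ℤ} : x ^ a = x ^ b ↔ 2 * hh n ∣ b - a := by
  rw [zpow_eq_zpow_iff_modEq, d.ox, d.order_eq, Int.modEq_iff_dvd]

theorem SDPair.zpow_eq_one {a : ℤ} : x ^ a = 1 ↔ 2 * hh n ∣ a := by
  rw [← zpow_zero x, d.zpow_eq, zero_sub, dvd_neg]

theorem SDPair.y_mul_y : y * y = 1 := by rw [← sq, ← d.oy, pow_orderOf_eq_one]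

theorem SDPair.y_inv : y⁻¹ = y := inv_eq_of_mul_eq_one_right d.y_mul_y

theorem SDPair.conj_y (i : ℤ) : y * x ^ i * y⁻¹ = x ^ ((hh n - 1) * i) := by
  have h1 : x ^ (2 ^ (n - 1) - 1 : ℕ) = x ^ (hh n - 1) := by
    rw [← zpow_natCast, Nat.cast_sub Nat.one_le_two_pow]; simp [hh]
  rw [← conj_zpow, d.rel, h1, zpow_mul]

theorem SDPair.y_mul (i : ℤ) : y * x ^ i = x ^ ((hh n - 1) * i) * y := by
  rw [← d.conj_y, inv_mul_cancel_right]

theorem SDPair.y_notMem : y ∉ zpowers x := by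
  rintro ⟨k, hk⟩
  have hc : y * x ^ (1 : ℤ) * y⁻¹ = x ^ (1 : ℤ) := by
    have hk' : x ^ k = y := hk
    rw [← hk', ← zpow_neg, ← zpow_add, ← zpow_add]; congr 1; ring
  rw [d.conj_y, d.zpow_eq] at hc
  have h2 : (2 : ℤ) * hh n ∣ 2 - hh n := by
    rwa [show (1 : ℤ) - (hh n - 1) * 1 = 2 - hh n by ring] at hc
  have h4 : (4 : ℤ) ∣ hh n := by
    rw [hh, show (4 : ℤ) = 2 ^ 2 by norm_num]; exact pow_dvd_pow 2 (by have := d.le; omega)
  obtain ⟨a, ha⟩ := h4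
  obtain ⟨b, hb⟩ := h2
  rw [ha] at hb
  have : (2 : ℤ) = 4 * (2 * a * b + a) := by linarith
  omega

theorem SDPair.zpow_y_notMem (i : ℤ) : x ^ i * y ∉ zpowers x := fun h =>
  d.y_notMem (by simpa using mul_mem (inv_mem (zpow_mem_zpowers x i)) h)

theorem SDPair.index_zpowers : (zpowers x).index = 2 := by
  haveI := d.finite
  have h := (zpowers x).card_mul_index
  rw [Nat.card_zpowers, d.ox, d.card, pow_succ] at h
  exact mul_left_cancel₀ (by positivity) h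

theorem SDPair.eq_cases (g : S) : ∃ i : ℤ, g = x ^ i ∨ g = x ^ i * y := by
  by_cases hg : g ∈ zpowers x
  · obtain ⟨i, rfl⟩ := hg; exact ⟨i, Or.inl rfl⟩
  · have : g * y ∈ zpowers x :=
      (mul_mem_iff_of_index_two d.index_zpowers).2 (by simp [hg, d.y_notMem])
    obtain ⟨i, hi⟩ := this
    have hi' : x ^ i = g * y := hi
    exact ⟨i, Or.inr (by rw [hi', mul_assoc, d.y_mul_y, mul_one])⟩

theorem SDPair.zpow_y_inj {a b : ℤ} : x ^ a * y = x ^ b * y ↔ 2 * hh n ∣ b - a := by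
  rw [mul_left_inj, d.zpow_eq]

theorem SDPair.sq_zpow_y (i : ℤ) : x ^ i * y * (x ^ i * y) = x ^ (hh n * i) := by
  rw [mul_assoc, ← mul_assoc y, d.y_mul, mul_assoc, d.y_mul_y, mul_one, ← zpow_add]
  congr 1; ring

theorem SDPair.conj_zpow_y (j i : ℤ) :
    x ^ j * (x ^ i * y) * (x ^ j)⁻¹ = x ^ (i + j * (2 - hh n)) * y := by
  rw [← zpow_neg, mul_assoc, mul_assoc, d.y_mul, ← mul_assoc, ← mul_assoc, ← zpow_add,
    ← zpow_add]
  congr 2; ring

theorem SDPair.y_conj_zpow_y (i : ℤ) : y * (x ^ i * y) * y⁻¹ = x ^ ((hh n - 1) * i) * y := by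
  rw [← mul_assoc, d.y_mul, mul_assoc, mul_assoc, ← mul_assoc y, d.y_mul_y, one_mul, d.y_inv]

/-- The involution `z = x^(2^(n-1))`. -/
theorem SDPair.orderOf_z : orderOf (x ^ hh n) = 2 := by
  refine orderOf_eq_prime ?_ ?_
  · rw [← zpow_natCast, ← zpow_mul, d.zpow_eq_one]
    exact ⟨1, by push_cast; ring⟩
  · rw [ne_eq, d.zpow_eq_one]
    intro h
    have := Int.le_of_dvd d.hh_pos h
    linarith [d.hh_pos]

theorem SDPair.sq_eq_one_iff {i : ℤ} : x ^ i * x ^ i = 1 ↔ hh n ∣ i := by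
  rw [← zpow_add, d.zpow_eq_one, ← two_mul, mul_dvd_mul_iff_left two_ne_zero]

theorem SDPair.zpow_of_hh_dvd {i : ℤ} (h : hh n ∣ i) : x ^ i = 1 ∨ x ^ i = x ^ hh n := by
  obtain ⟨k, rfl⟩ := h
  rcases Int.even_or_odd' k with ⟨m, rfl | rfl⟩
  · exact Or.inl (d.zpow_eq_one.2 ⟨m, by ring⟩)
  · exact Or.inr (d.zpow_eq.2 ⟨-m, by ring⟩)

theorem SDPair.orderOf_zpow_y_even {i : ℤ} (hi : 2 ∣ i) : orderOf (x ^ i * y) = 2 := by
  obtain ⟨k, rfl⟩ := hi
  refine orderOf_eq_prime ?_ ?_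
  · rw [sq, d.sq_zpow_y, d.zpow_eq_one]; exact ⟨k, by ring⟩
  · intro h; exact d.zpow_y_notMem _ (h ▸ one_mem _)

theorem SDPair.sq_zpow_y_odd {i : ℤ} (hi : ¬ 2 ∣ i) : x ^ i * y * (x ^ i * y) = x ^ hh n := by
  obtain ⟨k, rfl⟩ : Odd i := Int.not_even_iff_odd.1 fun he => hi he.two_dvd
  rw [d.sq_zpow_y, d.zpow_eq]
  exact ⟨-k, by ring⟩

theorem SDPair.orderOf_zpow_y_odd {i : ℤ} (hi : ¬ 2 ∣ i) : orderOf (x ^ i * y) = 4 := by
  have h : (x ^ i * y) ^ 2 = x ^ hh n := by rw [sq, d.sq_zpow_y_odd hi]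
  refine orderOf_eq_prime_pow (p := 2) (n := 1) ?_ ?_
  · rw [pow_one, h]
    intro h1; have := d.orderOf_z; rw [h1, orderOf_one] at this; omega
  · rw [show 2 ^ (1 + 1) = 2 * 2 by rfl, pow_mul, h, ← orderOf_dvd_iff_pow_eq_one, d.orderOf_z]

/-- Multiplying by the odd number `1 - 2^(n-2)` can be undone modulo `2^(n-1)`. -/
theorem SDPair.hh_dvd_of_mul {j : ℤ} (h : hh n ∣ j * (1 - qq n)) : hh n ∣ j := by
  have h1 : hh n ∣ j * (1 - qq n) * (1 + qq n) := h.mul_right _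
  have h2 : hh n ∣ j * (qq n * qq n) := d.hh_dvd_sq.mul_left j
  have h3 := dvd_add h1 h2
  rwa [show j * (1 - qq n) * (1 + qq n) + j * (qq n * qq n) = j by ring] at h3

theorem SDPair.commute_zpow_zpow_y {j i : ℤ} :
    Commute (x ^ j) (x ^ i * y) ↔ hh n ∣ j := by
  have e : Commute (x ^ j) (x ^ i * y) ↔ x ^ (i + j * (2 - hh n)) * y = x ^ i * y := by
    rw [← d.conj_zpow_y]; exact mul_inv_eq_iff_eq_mul.symm
  rw [e, d.zpow_y_inj]
  constructor
  · intro h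
    apply d.hh_dvd_of_mul
    rw [show i - (i + j * (2 - hh n)) = 2 * -(j * (1 - qq n)) by rw [d.hh_eq]; ring,
      mul_dvd_mul_iff_left two_ne_zero, dvd_neg] at h
    exact h
  · intro h
    rw [show i - (i + j * (2 - hh n)) = 2 * -(j * (1 - qq n)) by rw [d.hh_eq]; ring,
      mul_dvd_mul_iff_left two_ne_zero, dvd_neg]
    exact h.mul_right _

theorem SDPair.commute_zpow_y {l i : ℤ} :
    Commute (x ^ l * y) (x ^ i * y) ↔ hh n ∣ l - i := by
  have e : x ^ l * y = x ^ (l - i) * (x ^ i * y) := by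
    rw [← mul_assoc, ← zpow_add, sub_add_cancel]
  rw [e]
  constructor
  · intro h
    refine (d.commute_zpow_zpow_y (i := i)).1 ?_
    have := h.mul_left (Commute.refl (x ^ i * y)).inv_left
    rwa [mul_inv_cancel_right] at this
  · intro h
    exact (d.commute_zpow_zpow_y.2 h).mul_left (Commute.refl _)

/-- Elements `x^i y` of equal parity are conjugate by powers of `x`. -/
theorem SDPair.exists_conj {i i' : ℤ} (h : 2 ∣ i' - i) :
    ∃ j : ℤ, x ^ j * (x ^ i * y) * (x ^ j)⁻¹ = x ^ i' * y := by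
  obtain ⟨k, hk⟩ := h
  refine ⟨k * (1 + qq n), ?_⟩
  rw [d.conj_zpow_y, d.zpow_y_inj]
  obtain ⟨c, hc⟩ := d.hh_dvd_sq
  refine ⟨k * c, ?_⟩
  calc i' - (i + k * (1 + qq n) * (2 - hh n))
      = (i' - i) - k * (1 + qq n) * (2 - hh n) := by ring
    _ = 2 * k * (qq n * qq n) := by rw [hk, d.hh_eq]; ring
    _ = 2 * hh n * (k * c) := by rw [hc]; ring

theorem SDPair.z_mem_center : x ^ hh n ∈ Subgroup.center S := by
  rw [Subgroup.mem_center_iff]
  intro g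
  obtain ⟨i, rfl | rfl⟩ := d.eq_cases g
  · exact ((Commute.refl x).zpow_zpow i _).eq
  · exact (d.commute_zpow_zpow_y.2 dvd_rfl).eq.symm

/-- The elements of order two. -/
theorem SDPair.orderOf_eq_two_iff {g : S} :
    orderOf g = 2 ↔ g = x ^ hh n ∨ ∃ i : ℤ, 2 ∣ i ∧ g = x ^ i * y := by
  constructor
  · intro hg
    obtain ⟨i, rfl | rfl⟩ := d.eq_cases g
    · left
      have : x ^ i * x ^ i = 1 := by rw [← sq, ← hg, pow_orderOf_eq_one]
      rcases d.zpow_of_hh_dvd (d.sq_eq_one_iff.1 this) with h | h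
      · rw [h, orderOf_one] at hg; omega
      · exact h
    · refine Or.inr ⟨i, ?_, rfl⟩
      by_contra hi
      rw [d.orderOf_zpow_y_odd hi] at hg; omega
  · rintro (rfl | ⟨i, hi, rfl⟩)
    · exact d.orderOf_z
    · exact d.orderOf_zpow_y_even hi

/-- The elements of order four. -/
theorem SDPair.orderOf_eq_four_iff {g : S} :
    orderOf g = 4 ↔ g = x ^ qq n ∨ g = x ^ (-qq n) ∨ ∃ i : ℤ, ¬ 2 ∣ i ∧ g = x ^ i * y := by
  have hw : ∀ i : ℤ, x ^ i * x ^ i = x ^ hh n → orderOf (x ^ i) = 4 := by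
    intro i h
    refine orderOf_eq_prime_pow (p := 2) (n := 1) ?_ ?_
    · rw [pow_one, sq, h]; intro h1; have := d.orderOf_z; rw [h1, orderOf_one] at this; omega
    · rw [show 2 ^ (1 + 1) = 2 * 2 by rfl, pow_mul, sq (x ^ i), h,
        ← orderOf_dvd_iff_pow_eq_one, d.orderOf_z]
  constructor
  · intro hg
    obtain ⟨i, rfl | rfl⟩ := d.eq_cases g
    · have h4 : (x ^ i * x ^ i) * (x ^ i * x ^ i) = 1 := by
        rw [← sq, ← sq, ← pow_mul, show 2 * 2 = 4 from rfl, ← hg, pow_orderOf_eq_one]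
      rw [← zpow_add, d.sq_eq_one_iff] at h4
      rw [show i + i = 2 * i by ring, d.hh_eq, mul_dvd_mul_iff_left two_ne_zero] at h4
      obtain ⟨k, rfl⟩ := h4
      rcases Int.even_or_odd' k with ⟨m, rfl | rfl⟩
      · exfalso
        have : x ^ (qq n * (2 * m)) ^ 1 * x ^ (qq n * (2 * m)) = 1 := by
          rw [pow_one, d.sq_eq_one_iff]; exact ⟨m, by rw [d.hh_eq]; ring⟩
        rw [pow_one, ← sq, ← orderOf_dvd_iff_pow_eq_one, hg] at this
        omega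
      · rcases Int.even_or_odd' m with ⟨l, rfl | rfl⟩
        · exact Or.inl (d.zpow_eq.2 ⟨-l, by rw [d.hh_eq]; ring⟩)
        · exact Or.inr (Or.inl (d.zpow_eq.2 ⟨-l - 1, by rw [d.hh_eq]; ring⟩))
    · refine Or.inr (Or.inr ⟨i, fun hi => ?_, rfl⟩)
      rw [d.orderOf_zpow_y_even hi] at hg; omega
  · rintro (rfl | rfl | ⟨i, hi, rfl⟩)
    · exact hw _ (by rw [← zpow_add, d.hh_eq]; congr 1; ring)
    · refine hw _ ?_
      rw [← zpow_add, d.zpow_eq]; exact ⟨1, by rw [d.hh_eq]; ring⟩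
    · exact d.orderOf_zpow_y_odd hi

/-- `y` inverts the elements of `⟨x⟩` of order four. -/
theorem SDPair.conj_zpow_qq (g : S) (hg : g ∉ zpowers x) :
    g * x ^ qq n * g⁻¹ = x ^ (-qq n) := by
  obtain ⟨i, rfl | rfl⟩ := d.eq_cases g
  · exact absurd (zpow_mem_zpowers x i) hg
  · have h1 : x ^ i * y * x ^ qq n * (x ^ i * y)⁻¹ = x ^ i * (y * x ^ qq n * y⁻¹) * (x ^ i)⁻¹ := by
      group
    rw [h1, d.conj_y, ← zpow_add, ← zpow_neg, ← zpow_add, d.zpow_eq]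
    obtain ⟨c, hc⟩ := d.even_qq
    refine ⟨-c / 1 * 1, ?_⟩
    rw [Int.ediv_one, mul_one, d.hh_eq, hc]; ring

theorem SDPair.center_eq : Subgroup.center S = zpowers (x ^ hh n) := by
  refine le_antisymm (fun g hg => ?_) (zpowers_le.2 d.z_mem_center)
  rw [Subgroup.mem_center_iff] at hg
  obtain ⟨i, rfl | rfl⟩ := d.eq_cases g
  · have h := (d.commute_zpow_zpow_y (i := 0)).1 (hg _).symm
    rcases d.zpow_of_hh_dvd h with e | e <;> rw [e]
    · exact one_mem _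
    · exact mem_zpowers _
  · exfalso
    have h := d.commute_zpow_zpow_y.1 (hg (x ^ (1 : ℤ)))
    have := Int.le_of_dvd one_pos h
    have h4 : (4 : ℤ) ≤ hh n := by
      rw [hh, show (4 : ℤ) = 2 ^ 2 by norm_num]
      exact pow_le_pow_right₀ (by norm_num) (by have := d.le; omega)
    omega

theorem SDPair.closure_eq_top : zpowers x ⊔ zpowers y = ⊤ := by
  refine eq_top_iff.2 fun g _ => ?_
  obtain ⟨i, rfl | rfl⟩ := d.eq_cases g
  · exact mem_sup_left (zpow_mem_zpowers x i)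
  · exact mul_mem (mem_sup_left (zpow_mem_zpowers x i)) (mem_sup_right (mem_zpowers y))

end CfsgLib.TwoGroups
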