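import Cfsg.Prelude.Def_TwoFusion
import Cfsg.Prelude.Def_Transfer
import Cfsg.Agent.Transfer.Fusion

/-!
# Weakly and strongly closed subgroups, and `O^p(G) = G` by the focal subgroup
-/

namespace CfsgLib.Closed

open Subgroup CfsgLib.Transfer
open Cfsg (pResidual)

variable {G : Type*} [Group G] {p : ℕ}

/-- Two conjugates of a weakly closed subgroup lying in a common `p`-subgroup are equal. -/
theorem eq_of_le_isPGroup [Finite G] [Fact p.Prime] (P : Sylow p G) {W : Subgroup G}
    (hW : Cfsg.IsWeaklyClosed W (P : Subgroup G)) {R : Subgroup G} (hR : IsPGroup p R) {a b : G}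
    (ha : W.map (MulAut.conj a).toMonoidHom ≤ R) (hb : W.map (MulAut.conj b).toMonoidHom ≤ R) :
    W.map (MulAut.conj a).toMonoidHom = W.map (MulAut.conj b).toMonoidHom := by
  obtain ⟨T, hT⟩ := hR.exists_le_sylow
  obtain ⟨h, rfl⟩ := MulAction.exists_smul_eq G P T
  have key : ∀ c : G, W.map (MulAut.conj c).toMonoidHom ≤ R →
      W.map (MulAut.conj c).toMonoidHom = W.map (MulAut.conj h).toMonoidHom := by
    intro c hc
    have h1 : W.map (MulAut.conj (h⁻¹ * c)).toMonoidHom = W := hW.2 _ fun x hx => by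
      rw [mem_map_conj_iff] at hx
      have : h * x * h⁻¹ ∈ W.map (MulAut.conj c).toMonoidHom := by
        rw [mem_map_conj_iff]; simpa [mul_assoc] using hx
      have h2 := mem_smul_iff'.1 (hT (hc this))
      simpa [mul_assoc] using h2
    conv_rhs => rw [← h1, map_conj_map_conj]
    rw [mul_inv_cancel_left]
  rw [key a ha, key b hb]
where
  mem_smul_iff' {P : Sylow p G} {h x : G} :
      x ∈ ((h • P : Sylow p G) : Subgroup G) ↔ h⁻¹ * x * h ∈ (P : Subgroup G) := by
    rw [Sylow.coe_subgroup_smul]; exact mem_map_conj_iff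

/-- A strongly closed subgroup is normalized by the group it is closed in. -/
theorem conj_mem_of_mem {A P : Subgroup G} (hA : Cfsg.IsStronglyClosed A P) {x s : G}
    (hx : x ∈ A) (hs : s ∈ P) : s * x * s⁻¹ ∈ A :=
  hA.2 x hx s (mul_mem (mul_mem hs (hA.1 hx)) (inv_mem hs))

/-- A strongly closed subgroup is weakly closed. -/
theorem isWeaklyClosed_of_isStronglyClosed [Finite G] {A P : Subgroup G}
    (hA : Cfsg.IsStronglyClosed A P) : Cfsg.IsWeaklyClosed A P := by
  refine ⟨hA.1, fun g hg => ?_⟩
  refine eq_of_le_of_card_ge ?_ (card_map_of_injective (MulAut.conj g).injective).ge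
  rintro _ ⟨x, hx, rfl⟩
  exact hA.2 x hx g (hg ⟨x, hx, rfl⟩)

/-- `O^p(G) = G` iff a Sylow `p`-subgroup lies in the derived subgroup. -/
theorem pResidual_eq_top_iff [Finite G] [Fact p.Prime] (P : Sylow p G) :
    pResidual p G = ⊤ ↔ (P : Subgroup G) ≤ commutator G := by
  constructor
  · intro h x hx
    haveI : Finite (Abelianization G) := Quotient.finite _
    obtain ⟨a, m, hm, hQ⟩ := Nat.exists_eq_pow_mul_and_not_dvd
      (Nat.card_pos (α := Abelianization G)).ne' p (Fact.out : p.Prime).ne_one
    let f : G →* Abelianization G := (powMonoidHom m).comp Abelianization.of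
    have hf : IsPGroup p f.range := by
      refine isPGroup_iff_pow_pow_eq_one.2 ?_
      rintro ⟨_, g, rfl⟩
      refine ⟨a, Subtype.ext ?_⟩
      show ((Abelianization.of g) ^ m) ^ p ^ a = 1
      rw [← pow_mul, mul_comm m, ← hQ, pow_card_eq_one']
    have hker := pResidual_le_ker (p := p) f.rangeRestrict hf
    rw [MonoidHom.ker_rangeRestrict, h] at hker
    have h1 : (Abelianization.of x) ^ m = 1 := hker (mem_top x)
    obtain ⟨k, hk⟩ := IsPGroup.iff_orderOf.1 P.isPGroup' ⟨x, hx⟩
    rw [Subgroup.orderOf_mk] at hk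
    have h2 : (Abelianization.of x) ^ p ^ k = 1 := by
      rw [← map_pow, ← hk, pow_orderOf_eq_one, map_one]
    have hcop : Nat.Coprime m (p ^ k) :=
      ((Fact.out : p.Prime).coprime_iff_not_dvd.2 hm).symm.pow_right k
    have h3 := pow_gcd_eq_one.2 ⟨h1, h2⟩
    rw [hcop, pow_one] at h3
    rwa [← Abelianization.ker_of G, MonoidHom.mem_ker]
  · intro h
    by_contra hne
    haveI : Nontrivial (G ⧸ pResidual p G) := by
      rw [← not_subsingleton_iff_nontrivial]
      exact fun hs => hne (@QuotientGroup.subgroup_eq_top_of_subsingleton _ _ _ hs)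
    haveI := (isPGroup_quotient_pResidual (p := p) (G := G)).isNilpotent
    haveI : Group.IsSolvable (G ⧸ pResidual p G) := inferInstance
    have hlt := Group.IsSolvable.commutator_lt_top_of_nontrivial (G ⧸ pResidual p G)
    apply hlt.ne
    rw [eq_top_iff]
    intro q _
    obtain ⟨g, rfl⟩ := QuotientGroup.mk_surjective q
    have hg : g ∈ commutator G ⊔ pResidual p G :=
      (sup_le_sup_right h _ : (P : Subgroup G) ⊔ _ ≤ _) (by
        rw [sylow_sup_pResidual]; exact mem_top g)
    rw [← SetLike.mem_coe, mul_normal] at hg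
    obtain ⟨c, hc, n, hn, rfl⟩ := hg
    show (QuotientGroup.mk' (pResidual p G)) (c * n) ∈ _
    rw [map_mul, show (QuotientGroup.mk' (pResidual p G)) n = 1 from
      (QuotientGroup.eq_one_iff n).2 hn, mul_one]
    have : (QuotientGroup.mk' (pResidual p G)) c ∈
        (commutator G).map (QuotientGroup.mk' (pResidual p G)) := ⟨c, hc, rfl⟩
    rw [commutator_def, map_commutator] at this
    exact commutator_mono le_top le_top this

end CfsgLib.Closed
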