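import Cfsg.Agent.TwoGroups.RankTwoTransitive

/-!
The structure of a 2-group with three involutions and a 3-automorphism moving them.
-/

set_option autoImplicit false
set_option linter.unusedSectionVars false

namespace CfsgLib.TwoGroups.RankTwoTransitive

open Subgroup
open scoped commutatorElement

universe u v

variable {T : Type u} [Group T] [Finite T] {ψ : MulAut T} {z : T}

theorem Tri.card_pow_le (h : Tri ψ z) (hc : ∀ x y : T, x * y = y * x) :
    ∀ i : ℕ, Nat.card {x : T // x ^ 2 ^ i = 1} ≤ 4 ^ i := by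
  classical
  let : Fintype T := Fintype.ofFinite T
  intro i
  induction i with
  | zero => simp
  | succ i ih =>
    rw [Nat.card_eq_fintype_card, Fintype.card_subtype] at ih ⊢
    have hsub : ∀ x ∈ Finset.univ.filter (fun x : T => x ^ 2 ^ (i + 1) = 1), x * x ∈ Finset.univ.filter (fun x : T => x ^ 2 ^ i = 1) := by
      intro x hx
      simp only [Finset.mem_filter, Finset.mem_univ, true_and] at hx ⊢
      rw [← pow_two, ← pow_mul, ← pow_succ']
      exact hx
    refine (Finset.card_le_mul_card_image (f := fun x : T => x * x) _ 4 fun y hy => ?_).trans ?_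
    · obtain ⟨x₀, hx₀, rfl⟩ := Finset.mem_image.1 hy
      have h4 := h.card
      rw [Nat.card_eq_fintype_card, Fintype.card_subtype] at h4
      rw [← h4]
      refine Finset.card_le_card_of_injOn (fun x => x * x₀⁻¹) (fun x hx => ?_) (fun a _ b _ e => mul_right_cancel e)
      simp only [Finset.coe_filter, Set.mem_setOf_eq, Finset.mem_univ, true_and] at hx ⊢
      calc x * x₀⁻¹ * (x * x₀⁻¹) = x * (x₀⁻¹ * x) * x₀⁻¹ := by group
        _ = x * (x * x₀⁻¹) * x₀⁻¹ := by rw [hc x₀⁻¹ x]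
        _ = x * x * (x₀ * x₀)⁻¹ := by group
        _ = 1 := by rw [hx.2, mul_inv_cancel]
    · rw [pow_succ' 4]
      refine Nat.mul_le_mul_left _ (le_trans (Finset.card_le_card ?_) ih)
      intro y hy
      obtain ⟨x, hx, rfl⟩ := Finset.mem_image.1 hy
      exact hsub x hx

/-- The abelian case: homocyclic of rank 2. -/
theorem Tri.homocyclic (h : Tri ψ z) (hc : ∀ x y : T, x * y = y * x) :
    ∃ n : ℕ, 1 ≤ n ∧ Nonempty (T ≃* Multiplicative (ZMod (2 ^ n) × ZMod (2 ^ n))) := by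
  classical
  let : Fintype T := Fintype.ofFinite T
  let : CommGroup T := { ‹Group T› with mul_comm := hc }
  have hex : ∃ n, ∀ x : T, x ^ 2 ^ n = 1 := by
    obtain ⟨n, hn⟩ := h.two.exists_card_eq
    exact ⟨n, fun x => by rw [← hn]; exact pow_card_eq_one'⟩
  set n := Nat.find hex with hn
  have hspec := Nat.find_spec hex
  have hn1 : 1 ≤ n := by
    by_contra hlt
    have h0 : n = 0 := by omega
    have := hspec z
    rw [← hn, h0, pow_zero, pow_one] at this
    exact h.ne this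
  obtain ⟨a, ha⟩ : ∃ a : T, a ^ 2 ^ (n - 1) ≠ 1 := by
    by_contra hall
    push Not at hall
    exact Nat.find_min hex (show n - 1 < n by omega) hall
  obtain ⟨x, hx⟩ : ∃ x : T, x ^ 2 ^ (n - 1) = z := by
    set c := a ^ 2 ^ (n - 1) with hcdef
    have hc2 : c * c = 1 := by
      rw [← pow_two, hcdef, ← pow_mul, ← pow_succ, show n - 1 + 1 = n by omega]
      exact hspec a
    rcases h.cases hc2 with e | e | e | e
    · exact absurd e ha
    · exact ⟨a, e⟩
    · exact ⟨ψ (ψ a), by rw [← map_pow, ← map_pow, ← hcdef, e, h.cube]⟩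
    · exact ⟨ψ a, by rw [← map_pow, ← hcdef, e, h.cube]⟩
  have hxn : x ^ 2 ^ n = 1 := hspec x
  set y := ψ x with hy
  have hyn : y ^ 2 ^ n = 1 := hspec y
  have hy' : y ^ 2 ^ (n - 1) = ψ z := by rw [hy, ← map_pow, hx]
  have hne : NeZero (2 ^ n) := ⟨(pow_pos two_pos n).ne'⟩
  let f : Multiplicative (ZMod (2 ^ n) × ZMod (2 ^ n)) →* T :=
    { toFun := fun v => x ^ (Multiplicative.toAdd v).1.val * y ^ (Multiplicative.toAdd v).2.val
      map_one' := by simp
      map_mul' := fun v w => by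
        simp only [toAdd_mul, Prod.fst_add, Prod.snd_add, ZMod.val_add]
        rw [← pow_eq_pow_mod _ hxn, ← pow_eq_pow_mod _ hyn, pow_add, pow_add]
        exact mul_mul_mul_comm _ _ _ _ }
  have hker : ∀ i j : ℕ, x ^ i * y ^ j = 1 → ∀ k, k ≤ n → 2 ^ k ∣ i ∧ 2 ^ k ∣ j := by
    intro i j hij k
    induction k with
    | zero => exact fun _ => ⟨one_dvd _, one_dvd _⟩
    | succ k ih =>
      intro hk
      obtain ⟨⟨a, ha⟩, ⟨b, hb⟩⟩ := ih (by omega)
      have h1 := congrArg (· ^ 2 ^ (n - 1 - k)) hij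
      simp only [mul_pow, one_pow, ← pow_mul] at h1
      have e : 2 ^ k * 2 ^ (n - 1 - k) = 2 ^ (n - 1) := by rw [← pow_add]; congr 1; omega
      rw [ha, hb, show 2 ^ k * a * 2 ^ (n - 1 - k) = 2 ^ k * 2 ^ (n - 1 - k) * a by ring,
        show 2 ^ k * b * 2 ^ (n - 1 - k) = 2 ^ k * 2 ^ (n - 1 - k) * b by ring, e, pow_mul, pow_mul,
        hx, hy'] at h1
      have hz2 : ∀ (w : T), w * w = 1 → ∀ m : ℕ, w ^ m = if Even m then 1 else w := by
        intro w hw m
        rcases Nat.even_or_odd m with ⟨t, rfl⟩ | ⟨t, rfl⟩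
        · rw [if_pos ⟨t, rfl⟩, ← two_mul, pow_mul, pow_two, hw, one_pow]
        · rw [if_neg (by simp [parity_simps]), pow_succ, pow_mul, pow_two, hw, one_pow, one_mul]
      rw [hz2 z h.sq a, hz2 (ψ z) (h.sq_map h.sq) b] at h1
      have hzne : z ≠ 1 := h.ne
      have hψne : ψ z ≠ 1 := fun e => h.ne (ψ.map_eq_one_iff.1 e)
      have hprod : z * ψ z ≠ 1 := fun e => h.move (by
        rw [mul_eq_one_iff_inv_eq.1 e |>.symm]; exact inv_eq_of_mul_eq_one_right h.sq)
      by_cases hA : Even a <;> by_cases hB : Even b <;>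
        simp only [hA, hB, if_true, if_false, one_mul, mul_one] at h1
      · exact ⟨ha ▸ pow_succ 2 k ▸ Nat.mul_dvd_mul_left _ hA.two_dvd, hb ▸ pow_succ 2 k ▸ Nat.mul_dvd_mul_left _ hB.two_dvd⟩
      · exact absurd h1 hψne
      · exact absurd h1 hzne
      · exact absurd h1 hprod
  have hinj : Function.Injective f := by
    rw [injective_iff_map_eq_one]
    intro v hv
    obtain ⟨h1, h2⟩ := hker _ _ hv n le_rfl
    refine Multiplicative.toAdd.injective (Prod.ext ?_ ?_)
    · exact (ZMod.val_eq_zero _).1 (Nat.eq_zero_of_dvd_of_lt h1 (ZMod.val_lt _))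
    · exact (ZMod.val_eq_zero _).1 (Nat.eq_zero_of_dvd_of_lt h2 (ZMod.val_lt _))
  have hle : Nat.card T ≤ Nat.card (Multiplicative (ZMod (2 ^ n) × ZMod (2 ^ n))) := by
    rw [show Nat.card (Multiplicative (ZMod (2 ^ n) × ZMod (2 ^ n))) = 4 ^ n by
      rw [Nat.card_congr Multiplicative.toAdd, Nat.card_prod, Nat.card_zmod, ← mul_pow]; norm_num]
    exact le_trans (le_of_eq (Nat.card_congr (Equiv.subtypeUnivEquiv fun w => hspec w)).symm)
      (h.card_pow_le hc n)
  exact ⟨n, hn1, ⟨(MulEquiv.ofBijective f ((Nat.bijective_iff_injective_and_card f).2 ⟨hinj,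
    le_antisymm (Nat.card_le_card_of_injective f hinj) hle⟩)).symm⟩⟩

/-- Generators and relations of the exceptional group of order 64. -/
structure Frame (T : Type*) [Group T] where
  card : Nat.card T = 64
  card_center : Nat.card (center T) = 4
  center_sq : ∀ c ∈ center T, c * c = 1
  sq_mem : ∀ x : T, x * x ∈ center T
  comm_mem : ∀ x y : T, ⁅x, y⁆ ∈ center T
  gen : Fin 4 → T
  z : T
  w : T
  hz : z ∈ center T
  hw : w ∈ center T
  z_ne : z ≠ 1
  w_ne : w ≠ 1
  zw_ne : z ≠ w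
  sq0 : gen 0 * gen 0 = z
  sq1 : gen 1 * gen 1 = w
  sq2 : gen 2 * gen 2 = w
  sq3 : gen 3 * gen 3 = z * w
  c01 : ⁅gen 0, gen 1⁆ = 1
  c23 : ⁅gen 2, gen 3⁆ = 1
  c02 : ⁅gen 0, gen 2⁆ = z
  c03 : ⁅gen 0, gen 3⁆ = z * w
  c12 : ⁅gen 1, gen 2⁆ = z * w
  c13 : ⁅gen 1, gen 3⁆ = w

namespace Frame

variable {T : Type u} [Group T] (fr : Frame T)

abbrev Coord : Type := Multiplicative (Fin 4 → ZMod 2)

include fr in
theorem cen {c : T} (hc : c ∈ center T) (g : T) : Commute c g := (mem_center_iff.1 hc g).symm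

include fr in
theorem sq_mul (x y : T) : x * y * (x * y) = x * x * (y * y) * ⁅x, y⁆ := by
  have hyx : ⁅y, x⁆ = ⁅x, y⁆ := by
    rw [← commutatorElement_inv x y]
    exact inv_eq_of_mul_eq_one_right (fr.center_sq _ (fr.comm_mem x y))
  calc x * y * (x * y) = x * (⁅y, x⁆ * (x * y)) * y := by simp only [commutatorElement_def]; group
    _ = ⁅y, x⁆ * (x * (x * y) * y) := by
        rw [← mul_assoc x, ← (fr.cen (fr.comm_mem y x) x).eq]; group
    _ = _ := by rw [(fr.cen (fr.comm_mem y x) _).eq, hyx]; group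

include fr in
theorem comm_mul (x y y' : T) : ⁅x, y * y'⁆ = ⁅x, y⁆ * ⁅x, y'⁆ := by
  have h1 : ⁅x, y * y'⁆ = ⁅x, y⁆ * (y * ⁅x, y'⁆ * y⁻¹) := by simp only [commutatorElement_def]; group
  rw [h1, ← (fr.cen (fr.comm_mem x y') y).eq, mul_inv_cancel_right]

/-- Coordinates of the centre. -/
def zc (v : ZMod 2 × ZMod 2) : T := fr.z ^ v.1.val * fr.w ^ v.2.val

theorem zc_mem (v : ZMod 2 × ZMod 2) : fr.zc v ∈ center T :=
  mul_mem (pow_mem fr.hz _) (pow_mem fr.hw _)

theorem zc_zero : fr.zc 0 = 1 := by simp [zc]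

theorem zc_mul (v v' : ZMod 2 × ZMod 2) : fr.zc v * fr.zc v' = fr.zc (v + v') := by
  have key : ∀ (c : T), c * c = 1 → ∀ i j : ZMod 2, c ^ i.val * c ^ j.val = c ^ (i + j).val := by
    intro c hc i j
    rw [← pow_add, ZMod.val_add, ← pow_eq_pow_mod _ (by rw [pow_two, hc] : c ^ 2 = 1)]
  rw [zc, zc, zc, ((fr.cen fr.hw (fr.z ^ v'.1.val)).pow_left v.2.val).mul_mul_mul_comm,
    key _ (fr.center_sq _ fr.hz), key _ (fr.center_sq _ fr.hw)]
  rfl

theorem zc_eq_one {v : ZMod 2 × ZMod 2} (h : fr.zc v = 1) : v = 0 := by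
  obtain ⟨a, b⟩ := v
  fin_cases a <;> fin_cases b
  · rfl
  · change fr.z ^ 0 * fr.w ^ 1 = 1 at h
    rw [pow_zero, one_mul, pow_one] at h
    exact absurd h fr.w_ne
  · change fr.z ^ 1 * fr.w ^ 0 = 1 at h
    rw [pow_zero, mul_one, pow_one] at h
    exact absurd h fr.z_ne
  · change fr.z ^ 1 * fr.w ^ 1 = 1 at h
    rw [pow_one, pow_one] at h
    exfalso
    exact fr.zw_ne ((mul_eq_one_iff_eq_inv.1 h).trans (inv_eq_of_mul_eq_one_right (fr.center_sq _ fr.hw)))

/-- A representative with given coordinates. -/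
def rep (v : Fin 4 → ZMod 2) : T :=
  fr.gen 0 ^ (v 0).val * fr.gen 1 ^ (v 1).val * fr.gen 2 ^ (v 2).val * fr.gen 3 ^ (v 3).val

/-- The squaring form. -/
def quad (v : Fin 4 → ZMod 2) : ZMod 2 × ZMod 2 :=
  (v 0 + v 3 + v 0 * v 2 + v 0 * v 3 + v 1 * v 2,
   v 1 + v 2 + v 3 + v 0 * v 3 + v 1 * v 2 + v 1 * v 3)

theorem quad_ne : ∀ v : Fin 4 → ZMod 2, quad v = 0 → v = 0 := by decide

theorem sq_pow (x : T) (i : ZMod 2) (v : ZMod 2 × ZMod 2) (hx : x * x = fr.zc v) :
    x ^ i.val * x ^ i.val = fr.zc (i.val • v) := by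
  have hi : i.val = 0 ∨ i.val = 1 := by have := ZMod.val_lt i; omega
  rcases hi with hi | hi <;> simp [hi, hx, fr.zc_zero]

theorem comm_pow (x y : T) (i j : ZMod 2) (v : ZMod 2 × ZMod 2) (hx : ⁅x, y⁆ = fr.zc v) :
    ⁅x ^ i.val, y ^ j.val⁆ = fr.zc ((i.val * j.val) • v) := by
  have hi : i.val = 0 ∨ i.val = 1 := by have := ZMod.val_lt i; omega
  have hj : j.val = 0 ∨ j.val = 1 := by have := ZMod.val_lt j; omega
  rcases hi with hi | hi <;> rcases hj with hj | hj <;> simp [hi, hj, hx, fr.zc_zero]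

theorem rep_sq (v : Fin 4 → ZMod 2) : fr.rep v * fr.rep v = fr.zc (quad v) := by
  have z10 : fr.zc (1, 0) = fr.z := by simp [zc, ZMod.val_one]
  have z01 : fr.zc (0, 1) = fr.w := by simp [zc, ZMod.val_one]
  have z11 : fr.zc (1, 1) = fr.z * fr.w := by simp [zc, ZMod.val_one]
  have z00 : fr.zc (0, 0) = 1 := by simp [zc]
  have s0 := fr.sq_pow _ (v 0) _ (fr.sq0.trans z10.symm)
  have s1 := fr.sq_pow _ (v 1) _ (fr.sq1.trans z01.symm)
  have s2 := fr.sq_pow _ (v 2) _ (fr.sq2.trans z01.symm)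
  have s3 := fr.sq_pow _ (v 3) _ (fr.sq3.trans z11.symm)
  have t01 := fr.comm_pow _ _ (v 0) (v 1) _ (fr.c01.trans z00.symm)
  have t02 := fr.comm_pow _ _ (v 0) (v 2) _ (fr.c02.trans z10.symm)
  have t03 := fr.comm_pow _ _ (v 0) (v 3) _ (fr.c03.trans z11.symm)
  have t12 := fr.comm_pow _ _ (v 1) (v 2) _ (fr.c12.trans z11.symm)
  have t13 := fr.comm_pow _ _ (v 1) (v 3) _ (fr.c13.trans z01.symm)
  have t23 := fr.comm_pow _ _ (v 2) (v 3) _ (fr.c23.trans z00.symm)
  rw [rep, mul_assoc (fr.gen 0 ^ (v 0).val), mul_assoc (fr.gen 0 ^ (v 0).val), fr.sq_mul, fr.comm_mul, fr.comm_mul,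
    mul_assoc (fr.gen 1 ^ (v 1).val), fr.sq_mul, fr.comm_mul, fr.sq_mul, s0, s1, s2, s3, t01, t02, t03,
    t12, t13, t23]
  simp only [fr.zc_mul]
  congr 1
  unfold quad
  generalize v 0 = a
  generalize v 1 = b
  generalize v 2 = c
  generalize v 3 = d
  revert a b c d
  decide

include fr in
theorem pow_quot (x : T) (i j : ZMod 2) :
    ((x ^ (i + j).val : T) : T ⧸ center T) = ((x ^ i.val : T) : T ⧸ center T) * ((x ^ j.val : T) : T ⧸ center T) := by
  rw [← QuotientGroup.mk_mul, ← pow_add, QuotientGroup.mk_pow, QuotientGroup.mk_pow, ZMod.val_add,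
    ← pow_eq_pow_mod]
  rw [← QuotientGroup.mk_pow, pow_two]
  exact (QuotientGroup.eq_one_iff _).2 (fr.sq_mem x)

/-- The coordinate map. -/
def toQuot : Coord →* T ⧸ center T where
  toFun v := ((fr.rep v.toAdd : T) : T ⧸ center T)
  map_one' := by simp [rep]
  map_mul' v w := by
    have hcomm : ∀ a b : T ⧸ center T, a * b = b * a := by
      intro a b
      obtain ⟨a, rfl⟩ := QuotientGroup.mk'_surjective (center T) a
      obtain ⟨b, rfl⟩ := QuotientGroup.mk'_surjective (center T) b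
      rw [← commutatorElement_eq_one_iff_mul_comm, ← map_commutatorElement]
      exact (QuotientGroup.eq_one_iff _).2 (fr.comm_mem a b)
    letI : CommGroup (T ⧸ center T) := { (inferInstance : Group (T ⧸ center T)) with mul_comm := hcomm }
    simp only [rep, toAdd_mul, Pi.add_apply, QuotientGroup.mk_mul, fr.pow_quot]
    ac_rfl

include fr in
theorem card_quot : Nat.card (T ⧸ center T) = 16 := by
  have h := card_eq_card_quotient_mul_card_subgroup (center T)
  rw [fr.card, fr.card_center] at h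
  omega

theorem toQuot_bijective : Function.Bijective fr.toQuot := by
  have : Finite T := Nat.finite_of_card_ne_zero (by rw [fr.card]; norm_num)
  refine (Nat.bijective_iff_injective_and_card _).2 ⟨(injective_iff_map_eq_one _).2 fun v hv => ?_, ?_⟩
  · have h1 : fr.zc (quad v.toAdd) = 1 := by
      rw [← fr.rep_sq]
      exact fr.center_sq _ ((QuotientGroup.eq_one_iff _).1 hv)
    exact Multiplicative.toAdd.injective (quad_ne _ (fr.zc_eq_one h1))
  · rw [fr.card_quot, Nat.card_congr Multiplicative.toAdd]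
    simp

/-- The homomorphism onto coordinates. -/
noncomputable def proj : T →* Coord :=
  (MulEquiv.ofBijective fr.toQuot fr.toQuot_bijective).symm.toMonoidHom.comp (QuotientGroup.mk' (center T))

theorem ker_proj : fr.proj.ker = center T := by
  ext x
  simp [proj]

theorem sq_eq (p : T) : p * p = fr.zc (quad (fr.proj p).toAdd) := by
  set v := fr.proj p with hv
  have h1 : fr.toQuot v = (p : T ⧸ center T) :=
    (MulEquiv.ofBijective fr.toQuot fr.toQuot_bijective).apply_symm_apply _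
  obtain ⟨c, hc, hp⟩ : ∃ c ∈ center T, fr.rep v.toAdd * c = p :=
    ⟨_, QuotientGroup.eq.1 h1, mul_inv_cancel_left _ _⟩
  rw [← hp, fr.sq_mul, fr.center_sq c hc, mul_one, fr.rep_sq, show ⁅fr.rep v.toAdd, c⁆ = 1 from
    commutatorElement_eq_one_iff_commute.2 (fr.cen hc _).symm, mul_one]

include fr in
/-- Two groups with frames are isomorphic. -/
theorem nonempty_equiv {U : Type v} [Group U] (fu : Frame U) : Nonempty (T ≃* U) := by
  have : Finite T := Nat.finite_of_card_ne_zero (by rw [fr.card]; norm_num)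
  have : Finite U := Nat.finite_of_card_ne_zero (by rw [fu.card]; norm_num)
  let aT : Multiplicative (ZMod 2 × ZMod 2) →* center T :=
    { toFun := fun v => ⟨fr.zc v.toAdd, fr.zc_mem _⟩
      map_one' := Subtype.ext (by simp [zc])
      map_mul' := fun v v' => Subtype.ext (fr.zc_mul _ _).symm }
  let aU : Multiplicative (ZMod 2 × ZMod 2) →* center U :=
    { toFun := fun v => ⟨fu.zc v.toAdd, fu.zc_mem _⟩
      map_one' := Subtype.ext (by simp [zc])
      map_mul' := fun v v' => Subtype.ext (fu.zc_mul _ _).symm }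
  have bT : Function.Bijective aT := (Nat.bijective_iff_injective_and_card _).2
    ⟨(injective_iff_map_eq_one _).2 fun v hv => Multiplicative.toAdd.injective (fr.zc_eq_one (congrArg Subtype.val hv)),
      by rw [fr.card_center, Nat.card_congr Multiplicative.toAdd]; simp⟩
  have bU : Function.Bijective aU := (Nat.bijective_iff_injective_and_card _).2
    ⟨(injective_iff_map_eq_one _).2 fun v hv => Multiplicative.toAdd.injective (fu.zc_eq_one (congrArg Subtype.val hv)),
      by rw [fu.card_center, Nat.card_congr Multiplicative.toAdd]; simp⟩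
  let e : fr.proj.ker ≃* fu.proj.ker := ((MulEquiv.subgroupCongr fr.ker_proj).trans
    ((MulEquiv.ofBijective aT bT).symm.trans (MulEquiv.ofBijective aU bU))).trans
    (MulEquiv.subgroupCongr fu.ker_proj).symm
  refine SuzukiTwoGroup.mulEquiv_of_sq fr.proj fu.proj ?_ ?_ ?_ fr.ker_proj.le fu.ker_proj.le e
    (fun c hc => fr.center_sq c (fr.ker_proj.le hc)) fun p x hpx hp => ?_
  · exact (MulEquiv.ofBijective fr.toQuot fr.toQuot_bijective).symm.surjective.comp
      (QuotientGroup.mk'_surjective (center T))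
  · exact (MulEquiv.ofBijective fu.toQuot fu.toQuot_bijective).symm.surjective.comp
      (QuotientGroup.mk'_surjective (center U))
  · intro v
    refine Multiplicative.toAdd.injective (funext fun i => ?_)
    show v.toAdd i + v.toAdd i = 0
    exact CharTwo.add_self_eq_zero _
  · have h1 : (MulEquiv.ofBijective aT bT).symm (MulEquiv.subgroupCongr fr.ker_proj ⟨p * p, hp⟩) =
        Multiplicative.ofAdd (quad (fr.proj p).toAdd) := by
      rw [MulEquiv.symm_apply_eq]
      exact Subtype.ext (fr.sq_eq p)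
    show ((MulEquiv.subgroupCongr fu.ker_proj).symm (aU ((MulEquiv.ofBijective aT bT).symm
      (MulEquiv.subgroupCongr fr.ker_proj ⟨p * p, hp⟩))) : U) = _
    rw [h1, hpx, fu.sq_eq x]
    rfl

end Frame

theorem nonempty_frame (h : Tri ψ z) (hna : ¬ ∀ x y : T, x * y = y * x) : Nonempty (Frame T) := by
  classical
  have h3 := pow_three_eq_one _ h rfl
  have h3' : ∀ x : T, ψ (ψ (ψ x)) = x := fun x => by
    have := congrArg (fun f : MulAut T => f x) h3
    simpa [pow_succ, MulAut.mul_apply] using this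
  have hψ1 : ψ ≠ 1 := fun e => h.move (by rw [e]; rfl)
  have hord : orderOf ψ = 3 := orderOf_eq_prime h3 hψ1
  have hSuz : Cfsg.IsSuzukiTwoGroup T := by
    refine ⟨‹_›, h.two, ?_, ⟨z, ψ z, h.move.symm, h.ne, h.sq, fun e => h.ne (ψ.map_eq_one_iff.1 e),
      h.sq_map h.sq⟩, zpowers ψ, isCyclic_iff_exists_zpowers_eq_top.2 ⟨⟨ψ, mem_zpowers ψ⟩, ?_⟩, ?_⟩
    · push Not at hna; exact hna
    · rw [eq_top_iff]
      rintro ⟨_, i, rfl⟩ -
      exact ⟨i, Subtype.ext rfl⟩
    · intro x y hx1 hx hy1 hy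
      obtain ⟨k, hk⟩ := h.transitive x y hx1 hx hy1 hy
      refine ⟨k, hk, fun l hl => ?_⟩
      have hlk : (((k⁻¹ * l : zpowers ψ)) : MulAut T) x = x := by
        rw [Subgroup.coe_mul, MulAut.mul_apply, hl, ← hk, Subgroup.coe_inv]
        exact (k : MulAut T).symm_apply_apply x
      by_contra hne
      have hne' : (((k⁻¹ * l : zpowers ψ)) : MulAut T) ≠ 1 := fun e =>
        hne (inv_mul_eq_one.1 (Subtype.ext e)).symm
      obtain ⟨i, hi⟩ := (k⁻¹ * l : zpowers ψ).2
      replace hi : ψ ^ i = ((k⁻¹ * l : zpowers ψ) : MulAut T) := hi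
      rw [← hi] at hlk hne'
      rw [← zpow_mod_orderOf, hord] at hlk hne'
      rcases (by omega : i % 3 = 0 ∨ i % 3 = 1 ∨ i % 3 = 2) with e | e | e <;> simp only [Nat.cast_ofNat, e] at hlk hne'
      · exact hne' (zpow_zero _)
      · exact hx1 (h.eq_one_of_fix (by simpa using hlk))
      · refine hx1 (h.eq_one_of_fix ?_)
        have h2 : ψ (ψ x) = x := by simpa [zpow_ofNat, pow_two] using hlk
        exact (congrArg ψ h2).symm.trans (h3' x)
  obtain ⟨hsq, hcom', hcard, -⟩ := Cfsg.Agent.S1138.result hSuz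
  have hcc := h.card_center hna
  have hcard64 : Nat.card T = 64 := by
    rcases hcard with e | e
    · obtain ⟨F, _, _, φ, hF, hφ, hodd, -⟩ := Cfsg.Agent.S1139.result hSuz e
      exfalso
      rw [hcc] at hF
      have hφ2 : φ * φ = 1 := by
        refine RingEquiv.ext fun x => ?_
        show φ (φ x) = x
        have key : ∀ (σ : F ≃+* F) (y : F), σ y = y ∨ σ y = y * y := by
          intro σ y
          by_cases hy0 : y = 0
          · left; rw [hy0, map_zero]
          by_cases hy1 : y = 1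
          · left; rw [hy1, map_one]
          have hsurj : ∀ b : F, b ∈ ({0, 1, y, y * y} : Finset F) := by
            intro b
            have hy4 : y * y * y = 1 := by
              have := FiniteField.pow_card_sub_one_eq_one y hy0
              rw [hF] at this
              rw [← this]; ring
            have hyy : y * y ≠ 1 := fun e => hy1 (by rwa [e, one_mul] at hy4)
            have huniv : ({0, 1, y, y * y} : Finset F) = Finset.univ := by
              refine Finset.eq_univ_of_card _ ?_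
              rw [hF, Finset.card_insert_of_notMem, Finset.card_insert_of_notMem, Finset.card_insert_of_notMem,
                Finset.card_singleton]
              · rw [Finset.mem_singleton]; intro e; exact hy1 (mul_right_cancel₀ hy0 (by rw [one_mul, ← e]))
              · simp only [Finset.mem_insert, Finset.mem_singleton, not_or]
                exact ⟨fun e => hy1 e.symm, fun e => hyy e.symm⟩
              · simp [Ne.symm hy0, mul_eq_zero, hy0]
            rw [huniv]; exact Finset.mem_univ b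
          have := hsurj (σ y)
          simp only [Finset.mem_insert, Finset.mem_singleton] at this
          rcases this with e | e | e | e
          · exact absurd ((map_eq_zero σ).1 e) hy0
          · exact absurd (σ.injective (e.trans (map_one σ).symm)) hy1
          · exact Or.inl e
          · exact Or.inr e
        rcases key φ x with e | e
        · rw [e, e]
        · have h4 := FiniteField.pow_card x
          rw [hF] at h4
          rw [e, map_mul, e]
          calc x * x * (x * x) = x ^ 4 := by ring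
            _ = x := h4
      have h2 : orderOf φ ∣ 2 := orderOf_dvd_of_pow_eq_one (by rw [pow_two, hφ2])
      rcases (Nat.dvd_prime Nat.prime_two).1 h2 with e1 | e1
      · exact hφ (orderOf_eq_one_iff.1 e1)
      · rw [e1] at hodd; exact absurd hodd (by decide)
    · rw [e, hcc]; norm_num
  have hcomm : ∀ x y : T, ⁅x, y⁆ ∈ center T := fun x y => by
    have := hcom' x⁻¹ y⁻¹
    rwa [inv_inv, inv_inv] at this
  have hcen : ∀ {c : T}, c ∈ center T → ∀ g : T, c * g = g * c := fun hc g => (mem_center_iff.1 hc g).symm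
  have hcs : ∀ {c : T}, c ∈ center T → c * c = 1 := fun hc => h.center_sq hna hc
  have hmulr : ∀ x y y' : T, ⁅x, y * y'⁆ = ⁅x, y⁆ * ⁅x, y'⁆ := fun x y y' => by
    have h1 : ⁅x, y * y'⁆ = ⁅x, y⁆ * (y * ⁅x, y'⁆ * y⁻¹) := by simp only [commutatorElement_def]; group
    rw [h1, ← hcen (hcomm x y') y, mul_inv_cancel_right]
  have hsymm : ∀ x y : T, ⁅y, x⁆ = ⁅x, y⁆ := fun x y => by
    rw [← commutatorElement_inv x y]; exact inv_eq_of_mul_eq_one_right (hcs (hcomm x y))
  have hmull : ∀ x x' y : T, ⁅x * x', y⁆ = ⁅x, y⁆ * ⁅x', y⁆ := fun x x' y => by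
    rw [hsymm, hmulr, hsymm x y, hsymm x' y]
  have hsqm : ∀ x y : T, x * y * (x * y) = x * x * (y * y) * ⁅x, y⁆ := fun x y => by
    calc x * y * (x * y) = x * (⁅y, x⁆ * (x * y)) * y := by simp only [commutatorElement_def]; group
      _ = ⁅y, x⁆ * (x * (x * y) * y) := by
          rw [← mul_assoc x, ← hcen (hcomm y x) x]; group
      _ = _ := by rw [hcen (hcomm y x), hsymm x y]; group
  have hthree : ∀ x : T, x * ψ x * ψ (ψ x) ∈ center T := by
    intro x
    set P := x * ψ x * ψ (ψ x) with hP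
    set c := P⁻¹ * ψ P with hcdef
    have hc : c ∈ center T := by
      have e : ψ P = P * ⁅(ψ x * ψ (ψ x))⁻¹, x⁻¹⁆⁻¹ ∨ c ∈ center T := by
        right
        rw [hcdef, hP, map_mul, map_mul, h3' x]
        have : ψ x * ψ (ψ x) * x = ⁅ψ x * ψ (ψ x), x⁆ * (x * (ψ x * ψ (ψ x))) := by
          simp only [commutatorElement_def]; group
        rw [this, mul_assoc x, hcen (hcomm _ _) (x * (ψ x * ψ (ψ x))), inv_mul_cancel_left]
        exact hcomm _ _
      rcases e with e | e
      · rw [hcdef, e, inv_mul_cancel_left]; exact inv_mem (hcomm _ _)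
      · exact e
    have hψc : ∀ {a : T}, a ∈ center T → ψ a ∈ center T := fun ha => h.mem_center (h.sq_map (hcs ha))
    have hp := h.prod_three (hcs hc)
    have hfix : ψ (P * ψ c) = P * ψ c := by
      rw [map_mul, show ψ P = P * c by rw [hcdef, mul_inv_cancel_left], mul_assoc]
      congr 1
      calc c * ψ (ψ c) = c * (ψ c * ψ c) * ψ (ψ c) := by rw [hcs (hψc hc), mul_one]
        _ = c * ψ c * ψ (ψ c) * ψ c := by
          rw [mul_assoc (c * ψ c) (ψ (ψ c)) (ψ c), hcen (hψc (hψc hc)) (ψ c)]; group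
        _ = ψ c := by rw [hp, one_mul]
    have hPc : P * ψ c = 1 := h.eq_one_of_fix hfix
    rw [mul_eq_one_iff_eq_inv.1 hPc]
    exact inv_mem (hψc hc)
  have hψψ : ∀ x y : T, ⁅ψ (ψ x), y⁆ = ⁅x, y⁆ * ⁅ψ x, y⁆ := by
    intro x y
    have e : ⁅x * ψ x * ψ (ψ x), y⁆ = 1 :=
      commutatorElement_eq_one_iff_mul_comm.2 (hcen (hthree x) y)
    rw [hmull, hmull, mul_eq_one_iff_inv_eq] at e
    rw [← e]
    exact (inv_eq_of_mul_eq_one_right (hcs (mul_mem (hcomm _ _) (hcomm _ _))))
  have hψψr : ∀ x y : T, ⁅x, ψ (ψ y)⁆ = ⁅x, y⁆ * ⁅x, ψ y⁆ := fun x y => by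
    rw [hsymm, hψψ, hsymm y x, hsymm (ψ y) x]
  have hψcomm : ∀ x y : T, ψ ⁅x, y⁆ = ⁅ψ x, ψ y⁆ := fun x y => map_commutatorElement ψ.toMonoidHom x y
  have hP3 : ∀ x y : T, ⁅x, y⁆ * ψ ⁅x, y⁆ * ψ (ψ ⁅x, y⁆) = 1 := fun x y => h.prod_three (hcs (hcomm x y))
  have hswap : ∀ x y : T, ⁅ψ x, y⁆ = ⁅x, ψ y⁆ := by
    intro x y
    have e1 : ψ (ψ ⁅x, y⁆) = ⁅x, y⁆ * ⁅x, ψ y⁆ * (⁅ψ x, y⁆ * ⁅ψ x, ψ y⁆) := by
      rw [hψcomm, hψcomm, hψψ, hψψr, hψψr]
    have e2 : ψ (ψ ⁅x, y⁆) = ⁅x, y⁆ * ⁅ψ x, ψ y⁆ := by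
      have := hP3 x y
      rw [mul_eq_one_iff_inv_eq, inv_eq_of_mul_eq_one_right (hcs (mul_mem (hcomm x y) (hψcomm x y ▸ hcomm _ _)))] at this
      rw [← this, hψcomm x y]
    rw [e2] at e1
    have e3 : ⁅ψ x, y⁆ * ⁅x, ψ y⁆ = 1 := by
      have e4 : ⁅x, y⁆ * ⁅x, ψ y⁆ * (⁅ψ x, y⁆ * ⁅ψ x, ψ y⁆) =
          ⁅x, y⁆ * (⁅ψ x, y⁆ * ⁅x, ψ y⁆) * ⁅ψ x, ψ y⁆ := by
        rw [hcen (hcomm (ψ x) y) ⁅x, ψ y⁆]; group
      rw [e4] at e1
      have := mul_right_cancel e1
      exact (mul_eq_left.1 this.symm)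
    exact (mul_eq_one_iff_eq_inv.1 e3).trans (inv_eq_of_mul_eq_one_right (hcs (hcomm _ _)))
  have hshift : ∀ x y : T, ⁅x, ψ y⁆ = ψ (ψ ⁅x, y⁆) := by
    intro x y
    set Q := ⁅x, ψ y⁆ with hQ
    set c := ⁅x, y⁆ with hcdef
    have e1 : Q = ψ c * ψ Q := by
      rw [hQ, ← hswap x y, ← map_mul, hcdef, ← hψψ, hψcomm, h3', ← hswap x y]
    have hQc := hcs (hcomm x (ψ y))
    have e2 : Q * ψ Q = ψ c := by
      have hψQ : ψ Q * ψ Q = 1 := h.sq_map hQc
      calc Q * ψ Q = ψ c * ψ Q * ψ Q := by rw [← e1]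
        _ = ψ c := by rw [mul_assoc, hψQ, mul_one]
    have hp := h.prod_three hQc
    rw [e2, mul_eq_one_iff_eq_inv, inv_eq_of_mul_eq_one_right (h.sq_map (h.sq_map hQc))] at hp
    calc Q = ψ (ψ (ψ Q)) := (h3' Q).symm
      _ = ψ (ψ c) := by rw [hp]
  have hswap' : ∀ x y : T, ⁅ψ x, y⁆ = ψ (ψ ⁅x, y⁆) := fun x y => (hswap x y).trans (hshift x y)
  have hself : ∀ x : T, ⁅x, ψ x⁆ = 1 := fun x => by
    rw [hshift, commutatorElement_self, map_one, map_one]
  set w := ψ z with hwdef
  have hzc : z ∈ center T := h.mem_center h.sq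
  have hw2 : w * w = 1 := h.sq_map h.sq
  have hwc : w ∈ center T := h.mem_center hw2
  have hwne : w ≠ 1 := fun e => h.ne (ψ.map_eq_one_iff.1 e)
  have hψw : ψ w = z * w := by
    have := h.prod_three h.sq
    rw [mul_eq_one_iff_inv_eq, inv_eq_of_mul_eq_one_right (hcs (mul_mem hzc hwc))] at this
    exact this.symm
  -- choose the generators
  obtain ⟨a, b, hab⟩ : ∃ a b : T, ⁅a, b⁆ ≠ 1 := by
    push Not at hna
    obtain ⟨a, b, hab⟩ := hna
    exact ⟨a, b, fun e => hab (commutatorElement_eq_one_iff_mul_comm.1 e)⟩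
  obtain ⟨e, he⟩ : ∃ e : T, e * e = z ∧ ∃ f : T, ⁅e, f⁆ ≠ 1 := by
    have hne : a * a ≠ 1 := fun e => hab (commutatorElement_eq_one_iff_mul_comm.2 (hcen (h.mem_center e) b))
    rcases h.cases (hcs (hsq a)) with e | e | e | e
    · exact absurd e hne
    · exact ⟨a, e, b, hab⟩
    · exact ⟨ψ (ψ a), by rw [← map_mul, ← map_mul, e, h.cube], ψ (ψ b),
        fun e2 => hab (ψ.map_eq_one_iff.1 (ψ.map_eq_one_iff.1 (by rw [hψcomm, hψcomm]; exact e2)))⟩
    · exact ⟨ψ a, by rw [← map_mul, e, h.cube], ψ b,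
        fun e2 => hab (ψ.map_eq_one_iff.1 (by rw [hψcomm]; exact e2))⟩
  obtain ⟨hee, f₀, hf₀⟩ := he
  obtain ⟨f₁, hf₁⟩ : ∃ f : T, ⁅e, f⁆ = z := by
    rcases h.cases (hcs (hcomm e f₀)) with c | c | c | c
    · exact absurd c hf₀
    · exact ⟨f₀, c⟩
    · exact ⟨ψ f₀, by rw [hshift, c, h.cube]⟩
    · exact ⟨ψ (ψ f₀), by rw [hshift, hshift, c, h.cube, h.cube]⟩
  have hgg : ψ e * ψ e = w := by rw [← map_mul, hee]
  have hzne := h.ne
  obtain ⟨f, hef, hff⟩ : ∃ f : T, ⁅e, f⁆ = z ∧ f * f = w := by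
    have hef2 : ⁅f₁, ψ e⁆ = z * w := by rw [hsymm, hswap', hf₁, hψw]
    rcases h.cases (hcs (hsq f₁)) with c | c | c | c
    · exact absurd (hf₁.symm.trans (commutatorElement_eq_one_iff_mul_comm.2 (hcen (h.mem_center c) e).symm)) hzne
    · exfalso
      have hs : f₁ * ψ e * (f₁ * ψ e) = 1 := by
        rw [hsqm, c, hgg, hef2]
        exact hcs (mul_mem hzc hwc)
      have h1 : ⁅e, f₁ * ψ e⁆ = 1 :=
        commutatorElement_eq_one_iff_mul_comm.2 (hcen (h.mem_center hs) e).symm
      rw [hmulr, hf₁, hself, mul_one] at h1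
      exact hzne h1
    · exact ⟨f₁, hf₁, c⟩
    · refine ⟨f₁ * ψ e, by rw [hmulr, hf₁, hself, mul_one], ?_⟩
      rw [hsqm, c, hgg, hef2, ← hwdef, hψw, mul_assoc (z * w) w, ← mul_assoc, mul_assoc z w w, hw2, mul_one,
        ← mul_assoc, h.sq, one_mul]
  exact ⟨{
    card := hcard64
    card_center := hcc
    center_sq := fun c hc => hcs hc
    sq_mem := hsq
    comm_mem := hcomm
    gen := ![e, ψ e, f, ψ f]
    z := z
    w := w
    hz := hzc
    hw := hwc
    z_ne := hzne
    w_ne := hwne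
    zw_ne := h.move.symm
    sq0 := hee
    sq1 := hgg
    sq2 := hff
    sq3 := by show ψ f * ψ f = z * w; rw [← map_mul, hff, hψw]
    c01 := hself e
    c23 := hself f
    c02 := hef
    c03 := by show ⁅e, ψ f⁆ = z * w; rw [hshift, hef, hψw]
    c12 := by show ⁅ψ e, f⁆ = z * w; rw [hswap', hef, hψw]
    c13 := by show ⁅ψ e, ψ f⁆ = w; rw [← hψcomm, hef] }⟩

end CfsgLib.TwoGroups.RankTwoTransitive

namespace CfsgLib.TwoGroups.RankTwoTransitive

/-- A group with three involutions and an automorphism whose powers are transitive on them gives a `Tri`. -/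
theorem exists_tri {T : Type*} [Group T] [Finite T] (hT : IsPGroup 2 T) (φ : MulAut T)
    (htr : ∀ s t : T, s ≠ 1 → s * s = 1 → t ≠ 1 → t * t = 1 → ∃ k : ℕ, (φ ^ k) s = t)
    (h4 : Nat.card {x : T // x * x = 1} = 4) : ∃ (ψ : MulAut T) (z : T), Tri ψ z := by
  classical
  let : Fintype {x : T // x * x = 1} := Fintype.ofFinite _
  have h4' : Fintype.card {x : T // x * x = 1} = 4 := by rw [← Nat.card_eq_fintype_card, h4]
  have hsm : ∀ x : T, x * x = 1 → φ x * φ x = 1 := fun x hx => by rw [← map_mul, hx, map_one]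
  -- an involution outside a set with at most three elements
  have hout : ∀ s : Finset {x : T // x * x = 1}, s.card < 4 → ∃ x : T, ∃ hx : x * x = 1, (⟨x, hx⟩ : {x : T // x * x = 1}) ∉ s := by
    intro s hs
    obtain ⟨⟨x, hx⟩, -, hxs⟩ := Finset.exists_mem_notMem_of_card_lt_card (s := s) (t := Finset.univ)
      (by rwa [Finset.card_univ, h4'])
    exact ⟨x, hx, hxs⟩
  let o : {x : T // x * x = 1} := ⟨1, one_mul 1⟩
  obtain ⟨z, hz, hzo⟩ := hout {o} (by simp)
  have hz1 : z ≠ 1 := fun e => hzo (Finset.mem_singleton.2 (Subtype.ext e))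
  let a : {x : T // x * x = 1} := ⟨z, hz⟩
  let b : {x : T // x * x = 1} := ⟨φ z, hsm z hz⟩
  let c : {x : T // x * x = 1} := ⟨φ (φ z), hsm _ (hsm z hz)⟩
  have horb : ∀ t, t ≠ 1 → t * t = 1 → ∀ s : Set T, z ∈ s → (∀ x ∈ s, φ x ∈ s) → t ∈ s := by
    intro t ht1 ht s hs hcl
    obtain ⟨k, rfl⟩ := htr z t hz1 hz ht1 ht
    clear ht1 ht
    induction k with
    | zero => simpa using hs
    | succ k ih => rw [pow_succ', MulAut.mul_apply]; exact hcl _ ih
  have hne : φ z ≠ z := by
    intro e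
    obtain ⟨x, hx, hxs⟩ := hout {o, a} (lt_of_le_of_lt Finset.card_le_two (by norm_num))
    simp only [Finset.mem_insert, Finset.mem_singleton, not_or] at hxs
    have := horb x (fun e1 => hxs.1 (Subtype.ext e1)) hx {z} rfl fun y hy => by rw [Set.mem_singleton_iff] at hy ⊢; rw [hy, e]
    exact hxs.2 (Subtype.ext this)
  have hne2 : φ (φ z) ≠ z := by
    intro e
    obtain ⟨x, hx, hxs⟩ := hout {o, a, b} (lt_of_le_of_lt Finset.card_le_three (by norm_num))
    simp only [Finset.mem_insert, Finset.mem_singleton, not_or] at hxs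
    have := horb x (fun e1 => hxs.1 (Subtype.ext e1)) hx {z, φ z} (Or.inl rfl) fun y hy => by
      rcases hy with rfl | rfl
      · exact Or.inr rfl
      · exact Or.inl e
    rcases this with e1 | e1
    · exact hxs.2.1 (Subtype.ext e1)
    · exact hxs.2.2 (Subtype.ext e1)
  have h3 : φ (φ (φ z)) = z := by
    by_contra hne3
    let d : {x : T // x * x = 1} := ⟨φ (φ (φ z)), hsm _ (hsm _ (hsm z hz))⟩
    have hab : a ≠ b := fun e => hne (congrArg Subtype.val e).symm
    have hac : a ≠ c := fun e => hne2 (congrArg Subtype.val e).symm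
    have had : a ≠ d := fun e => hne3 (congrArg Subtype.val e).symm
    have hbc : b ≠ c := fun e => hne (φ.injective (congrArg Subtype.val e)).symm
    have hbd : b ≠ d := fun e => hne2 (φ.injective (congrArg Subtype.val e)).symm
    have hcd : c ≠ d := fun e => hne (φ.injective (φ.injective (congrArg Subtype.val e))).symm
    have ho : ∀ x : {x : T // x * x = 1}, x.1 ≠ 1 → o ≠ x := fun x hx e => hx (congrArg Subtype.val e).symm
    have hoa := ho a hz1
    have hob := ho b fun e => hz1 (φ.map_eq_one_iff.1 e)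
    have hoc := ho c fun e => hz1 (φ.map_eq_one_iff.1 (φ.map_eq_one_iff.1 e))
    have hod := ho d fun e => hz1 (φ.map_eq_one_iff.1 (φ.map_eq_one_iff.1 (φ.map_eq_one_iff.1 e)))
    have := Finset.card_le_univ ({o, a, b, c, d} : Finset {x : T // x * x = 1})
    rw [h4', Finset.card_insert_of_notMem (by simp [hoa, hob, hoc, hod]),
      Finset.card_insert_of_notMem (by simp [hab, hac, had]),
      Finset.card_insert_of_notMem (by simp [hbc, hbd]), Finset.card_insert_of_notMem (by simp [hcd]),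
      Finset.card_singleton] at this
    omega
  have hper : ∀ q : ℕ, (φ ^ (3 * q)) z = z := by
    intro q
    induction q with
    | zero => simp
    | succ q ih =>
      rw [show 3 * (q + 1) = 3 * q + 3 by ring, pow_add, MulAut.mul_apply, pow_succ, pow_two,
        MulAut.mul_apply, MulAut.mul_apply, h3, ih]
  obtain ⟨k, m, hm, hN⟩ := Nat.exists_eq_pow_mul_and_not_dvd
    (orderOf_pos φ).ne' 3 (by norm_num)
  refine ⟨φ ^ m, z, hT, hz, hz1, h4, ?_, k, by rw [← pow_mul, mul_comm, ← hN, pow_orderOf_eq_one]⟩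
  rw [← Nat.div_add_mod m 3, add_comm, pow_add, MulAut.mul_apply, hper]
  rcases (by omega : m % 3 = 1 ∨ m % 3 = 2) with e | e <;> rw [e]
  · rwa [pow_one]
  · rwa [pow_two, MulAut.mul_apply]

end CfsgLib.TwoGroups.RankTwoTransitive
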