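import Cfsg.Prelude.Def_CaseTheorems
import Cfsg.Agent.TwoGroups.Models

/-!
# The structure of wreathed 2-groups `Z_{2^n} ≀ Z_2`

`WRTriple n x y z`: the group has order `2^(2n+1)`, `x, y` commute, have order `2^n` and generate
disjoint cyclic groups, and the involution `z` exchanges them. `el a b = x^a y^b` with integer
exponents; `N n = 2^n`, `hw n = 2^(n-1)`.
-/

namespace CfsgLib.TwoGroups

open Subgroup

/-- Generators of a wreathed group. -/
structure WRTriple {S : Type*} [Group S] (n : ℕ) (x y z : S) : Prop where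
  le : 2 ≤ n
  card : Nat.card S = 2 ^ (2 * n + 1)
  ox : orderOf x = 2 ^ n
  comm : x * y = y * x
  disj : Subgroup.zpowers x ⊓ Subgroup.zpowers y = ⊥
  oz : orderOf z = 2
  rel : z * x * z⁻¹ = y

/-- `2^n`. -/
def nn (n : ℕ) : ℤ := 2 ^ n

/-- `2^(n-1)`. -/
def hw (n : ℕ) : ℤ := 2 ^ (n - 1)

/-- `x^a y^b`. -/
def el {S : Type*} [Group S] (x y : S) (a b : ℤ) : S := x ^ a * y ^ b

theorem exists_wrTriple {S : Type*} [Group S] (h : Cfsg.IsWreathed S) :
    ∃ (n : ℕ) (x y z : S), WRTriple n x y z := by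
  obtain ⟨n, hn, hc, x, y, z, hx, hxy, hd, hz, hr⟩ := h
  exact ⟨n, x, y, z, hn, hc, hx, hxy, hd, hz, hr⟩

variable {S : Type*} [Group S] {n : ℕ} {x y z : S} (d : WRTriple n x y z)
include d

theorem WRTriple.finite : Finite S :=
  Nat.finite_of_card_ne_zero (by rw [d.card]; positivity)

theorem WRTriple.nn_eq : nn n = 2 * hw n := by
  have := d.le
  rw [nn, hw, ← pow_succ']; congr 1; omega

theorem WRTriple.even_hw : (2 : ℤ) ∣ hw n := dvd_pow_self 2 (by have := d.le; omega)

theorem WRTriple.hw_pos : 0 < hw n := pow_pos two_pos _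

theorem WRTriple.oy : orderOf y = 2 ^ n := by
  rw [← d.rel, ← d.ox]
  exact orderOf_injective (MulAut.conj z).toMonoidHom (MulAut.conj z).injective x

theorem WRTriple.z_mul_z : z * z = 1 := by rw [← sq, ← d.oz, pow_orderOf_eq_one]

theorem WRTriple.z_inv : z⁻¹ = z := inv_eq_of_mul_eq_one_right d.z_mul_z

theorem WRTriple.rel' : z * y * z⁻¹ = x := by
  rw [← d.rel, d.z_inv, ← mul_assoc, ← mul_assoc, d.z_mul_z, one_mul, mul_assoc, d.z_mul_z,
    mul_one]

theorem WRTriple.commute_zpow (a b : ℤ) : Commute (x ^ a) (y ^ b) :=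
  (show Commute x y from d.comm).zpow_zpow a b

theorem WRTriple.el_mul (a b c e : ℤ) : el x y a b * el x y c e = el x y (a + c) (b + e) := by
  simp only [el, zpow_add]
  exact (d.commute_zpow c b).symm.mul_mul_mul_comm _ _

theorem WRTriple.el_zero : el x y 0 0 = 1 := by simp [el]

theorem WRTriple.el_inv (a b : ℤ) : (el x y a b)⁻¹ = el x y (-a) (-b) := by
  rw [inv_eq_iff_mul_eq_one, d.el_mul, add_neg_cancel, add_neg_cancel, d.el_zero]

theorem WRTriple.el_zpow (a b k : ℤ) : el x y a b ^ k = el x y (a * k) (b * k) := by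
  rw [el, el, (d.commute_zpow a b).mul_zpow, ← zpow_mul, ← zpow_mul]

theorem WRTriple.el_eq_one {a b : ℤ} : el x y a b = 1 ↔ nn n ∣ a ∧ nn n ∣ b := by
  have hxo : ∀ k : ℤ, x ^ k = 1 ↔ nn n ∣ k := fun k => by
    rw [← orderOf_dvd_iff_zpow_eq_one, d.ox]; simp [nn]
  have hyo : ∀ k : ℤ, y ^ k = 1 ↔ nn n ∣ k := fun k => by
    rw [← orderOf_dvd_iff_zpow_eq_one, d.oy]; simp [nn]
  constructor
  · intro h
    have hx : x ^ a ∈ zpowers x ⊓ zpowers y := by
      refine Subgroup.mem_inf.2 ⟨zpow_mem_zpowers x a, ?_⟩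
      rw [eq_inv_of_mul_eq_one_left (show x ^ a * y ^ b = 1 from h)]
      exact inv_mem (zpow_mem_zpowers y b)
    rw [d.disj, Subgroup.mem_bot] at hx
    refine ⟨(hxo a).1 hx, (hyo b).1 ?_⟩
    simpa [el, hx] using h
  · rintro ⟨ha, hb⟩
    rw [el, (hxo a).2 ha, (hyo b).2 hb, one_mul]

theorem WRTriple.el_inj {a b c e : ℤ} :
    el x y a b = el x y c e ↔ nn n ∣ c - a ∧ nn n ∣ e - b := by
  rw [eq_comm, ← mul_inv_eq_one, d.el_inv, d.el_mul, d.el_eq_one, sub_eq_add_neg, sub_eq_add_neg]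

theorem WRTriple.z_mul_el (a b : ℤ) : z * el x y a b = el x y b a * z := by
  have h1 : z * x ^ a * z⁻¹ = y ^ a := by rw [← conj_zpow, d.rel]
  have h2 : z * y ^ b * z⁻¹ = x ^ b := by rw [← conj_zpow, d.rel']
  rw [el, el, ← mul_assoc, mul_inv_eq_iff_eq_mul.1 h1, mul_assoc, mul_inv_eq_iff_eq_mul.1 h2,
    ← mul_assoc, (d.commute_zpow b a).eq]

theorem WRTriple.conj_z_el (a b : ℤ) : z * el x y a b * z⁻¹ = el x y b a := by
  rw [d.z_mul_el, mul_inv_cancel_right]

theorem WRTriple.elz_mul_elz (a b c e : ℤ) :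
    el x y a b * z * (el x y c e * z) = el x y (a + e) (b + c) := by
  rw [mul_assoc, ← mul_assoc z, d.z_mul_el, mul_assoc, d.z_mul_z, mul_one, d.el_mul]

theorem WRTriple.el_mul_elz (a b c e : ℤ) :
    el x y a b * (el x y c e * z) = el x y (a + c) (b + e) * z := by
  rw [← mul_assoc, d.el_mul]

theorem WRTriple.elz_mul_el (a b c e : ℤ) :
    el x y a b * z * el x y c e = el x y (a + e) (b + c) * z := by
  rw [mul_assoc, d.z_mul_el, ← mul_assoc, d.el_mul]

theorem WRTriple.z_ne_el (a b : ℤ) : z ≠ el x y a b := by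
  intro h
  have h1 := d.conj_z_el 1 0
  rw [h, d.el_mul, d.el_inv, d.el_mul, d.el_inj] at h1
  have h2 : nn n ∣ 1 := by
    obtain ⟨k, hk⟩ := h1.2
    exact ⟨k, by linarith⟩
  have h3 := Int.le_of_dvd one_pos h2
  have : (4 : ℤ) ≤ nn n := by
    rw [nn, show (4 : ℤ) = 2 ^ 2 by norm_num]
    exact pow_le_pow_right₀ (by norm_num) d.le
  omega

theorem WRTriple.elz_ne_el (a b c e : ℤ) : el x y a b * z ≠ el x y c e := fun h => by
  refine d.z_ne_el (-a + c) (-b + e) ?_
  rw [← d.el_mul, ← d.el_inv, ← h, inv_mul_cancel_left]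

theorem WRTriple.elz_inj {a b c e : ℤ} :
    el x y a b * z = el x y c e * z ↔ nn n ∣ c - a ∧ nn n ∣ e - b := by
  rw [mul_left_inj, d.el_inj]

/-- The homomorphism onto the homocyclic base group. -/
def WRTriple.baseHom : Multiplicative (ZMod (2 ^ n) × ZMod (2 ^ n)) →* S :=
  MonoidHom.mk' (fun p => el x y ((Multiplicative.toAdd p).1.cast) ((Multiplicative.toAdd p).2.cast))
    fun p q => by
      rw [d.el_mul, d.el_inj]
      have hn : ((2 ^ n : ℕ) : ℤ) = nn n := by simp [nn]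
      constructor <;>
      · rw [← hn, ← ZMod.intCast_eq_intCast_iff_dvd_sub]
        simp

/-- The homocyclic base group `⟨x, y⟩`. -/
def WRTriple.base : Subgroup S := d.baseHom.range

theorem WRTriple.mem_base {g : S} : g ∈ d.base ↔ ∃ a b : ℤ, g = el x y a b := by
  constructor
  · rintro ⟨p, rfl⟩; exact ⟨_, _, rfl⟩
  · rintro ⟨a, b, rfl⟩
    refine ⟨Multiplicative.ofAdd ((a : ZMod (2 ^ n)), (b : ZMod (2 ^ n))), ?_⟩
    show el x y _ _ = _
    rw [d.el_inj, ← show ((2 ^ n : ℕ) : ℤ) = nn n by simp [nn]]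
    constructor <;>
    · rw [← ZMod.intCast_eq_intCast_iff_dvd_sub]
      simp

theorem WRTriple.el_mem_base (a b : ℤ) : el x y a b ∈ d.base := d.mem_base.2 ⟨a, b, rfl⟩

theorem WRTriple.elz_notMem_base (a b : ℤ) : el x y a b * z ∉ d.base := fun h => by
  obtain ⟨c, e, he⟩ := d.mem_base.1 h
  exact d.elz_ne_el _ _ _ _ he

theorem WRTriple.baseHom_injective : Function.Injective d.baseHom := by
  rw [injective_iff_map_eq_one]
  intro p hp
  have h := d.el_eq_one.1 hp
  rw [← show ((2 ^ n : ℕ) : ℤ) = nn n by simp [nn],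
    ← ZMod.intCast_zmod_eq_zero_iff_dvd, ← ZMod.intCast_zmod_eq_zero_iff_dvd,
    ZMod.intCast_zmod_cast, ZMod.intCast_zmod_cast] at h
  exact Multiplicative.toAdd.injective (Prod.ext h.1 h.2)

/-- The base group is homocyclic. -/
noncomputable def WRTriple.baseEquiv :
    d.base ≃* Multiplicative (ZMod (2 ^ n) × ZMod (2 ^ n)) :=
  (MonoidHom.ofInjective d.baseHom_injective).symm

theorem WRTriple.card_base : Nat.card d.base = 2 ^ (2 * n) := by
  rw [Nat.card_congr d.baseEquiv.toEquiv]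
  show Nat.card (ZMod (2 ^ n) × ZMod (2 ^ n)) = _
  rw [Nat.card_prod, Nat.card_zmod, ← pow_add, two_mul]

theorem WRTriple.index_base : d.base.index = 2 := by
  have h := d.base.card_mul_index
  rw [d.card_base, d.card, pow_succ] at h
  exact mul_left_cancel₀ (pow_ne_zero _ two_ne_zero) h

theorem WRTriple.eq_cases (g : S) :
    ∃ a b : ℤ, g = el x y a b ∨ g = el x y a b * z := by
  by_cases hg : g ∈ d.base
  · obtain ⟨a, b, rfl⟩ := d.mem_base.1 hg; exact ⟨a, b, Or.inl rfl⟩
  · have hz : z ∉ d.base := fun h => by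
      obtain ⟨a, b, hab⟩ := d.mem_base.1 h; exact d.z_ne_el a b hab
    obtain ⟨a, b, hab⟩ := d.mem_base.1
      ((mul_mem_iff_of_index_two d.index_base (a := g) (b := z)).2 (by simp [hg, hz]))
    exact ⟨a, b, Or.inr (by rw [← hab, mul_assoc, d.z_mul_z, mul_one])⟩

theorem WRTriple.commute_el_el (a b c e : ℤ) : Commute (el x y a b) (el x y c e) := by
  show el x y a b * el x y c e = el x y c e * el x y a b
  rw [d.el_mul, d.el_mul, add_comm a, add_comm b]

theorem WRTriple.commute_el_elz {a b c e : ℤ} :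
    Commute (el x y a b) (el x y c e * z) ↔ nn n ∣ a - b := by
  show el x y a b * (el x y c e * z) = el x y c e * z * el x y a b ↔ _
  rw [d.el_mul_elz, d.elz_mul_el, d.elz_inj]
  rw [show c + b - (a + c) = -(a - b) by ring, show e + a - (b + e) = a - b by ring, dvd_neg,
    and_self_iff]

theorem WRTriple.commute_elz_elz {a b c e : ℤ} :
    Commute (el x y a b * z) (el x y c e * z) ↔ nn n ∣ (a - b) - (c - e) := by
  show el x y a b * z * (el x y c e * z) = el x y c e * z * (el x y a b * z) ↔ _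
  rw [d.elz_mul_elz, d.elz_mul_elz, d.el_inj]
  rw [show c + b - (a + e) = -((a - b) - (c - e)) by ring,
    show e + a - (b + c) = (a - b) - (c - e) by ring, dvd_neg, and_self_iff]

theorem WRTriple.conj_el_elz (a b c e : ℤ) :
    el x y a b * (el x y c e * z) * (el x y a b)⁻¹ = el x y (c + a - b) (e + b - a) * z := by
  rw [d.el_mul_elz, d.el_inv, d.elz_mul_el]
  congr 2 <;> ring

theorem WRTriple.conj_el_el (a b c e : ℤ) :
    el x y a b * el x y c e * (el x y a b)⁻¹ = el x y c e := by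
  rw [(d.commute_el_el a b c e).eq, mul_inv_cancel_right]

theorem WRTriple.conj_elz_el (a b c e : ℤ) :
    el x y a b * z * el x y c e * (el x y a b * z)⁻¹ = el x y e c := by
  rw [show el x y a b * z * el x y c e * (el x y a b * z)⁻¹ =
    el x y a b * (z * el x y c e * z⁻¹) * (el x y a b)⁻¹ by group, d.conj_z_el, d.conj_el_el]

theorem WRTriple.mem_center_iff {g : S} :
    g ∈ Subgroup.center S ↔ ∃ a b : ℤ, g = el x y a b ∧ nn n ∣ a - b := by
  rw [Subgroup.mem_center_iff]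
  constructor
  · intro hg
    obtain ⟨a, b, rfl | rfl⟩ := d.eq_cases g
    · exact ⟨a, b, rfl, (d.commute_el_elz (c := 0) (e := 0)).1 (hg _).symm⟩
    · exfalso
      have h := (d.commute_el_elz (a := 1) (b := 0) (c := a) (e := b)).1 (hg _)
      rw [sub_zero] at h
      have h3 := Int.le_of_dvd one_pos h
      have : (4 : ℤ) ≤ nn n := by
        rw [nn, show (4 : ℤ) = 2 ^ 2 by norm_num]
        exact pow_le_pow_right₀ (by norm_num) d.le
      omega
  · rintro ⟨a, b, rfl, hab⟩ g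
    obtain ⟨c, e, rfl | rfl⟩ := d.eq_cases g
    · exact (d.commute_el_el c e a b).eq
    · exact (d.commute_el_elz.2 hab).eq.symm

theorem WRTriple.el_eq_diag {a b : ℤ} (h : nn n ∣ a - b) : el x y a b = el x y a a := by
  rw [d.el_inj]; exact ⟨by simp, h⟩

theorem WRTriple.sq_el (a b : ℤ) : el x y a b * el x y a b = el x y (2 * a) (2 * b) := by
  rw [d.el_mul, two_mul, two_mul]

theorem WRTriple.el_sq_eq_one {a b : ℤ} :
    el x y a b * el x y a b = 1 ↔ hw n ∣ a ∧ hw n ∣ b := by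
  rw [d.sq_el, d.el_eq_one, d.nn_eq, mul_dvd_mul_iff_left two_ne_zero,
    mul_dvd_mul_iff_left two_ne_zero]

theorem WRTriple.elz_sq_eq_one {a b : ℤ} :
    el x y a b * z * (el x y a b * z) = 1 ↔ nn n ∣ a + b := by
  rw [d.elz_mul_elz, d.el_eq_one, add_comm b, and_self_iff]

end CfsgLib.TwoGroups
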