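import Cfsg.Agent.TwoGroups.DihedralSylow
import Cfsg.Agent.TwoGroups.Basic
import Cfsg.Agent.Inv53.TransferTwo
import Cfsg.Agent.Transfer.Frobenius
import Cfsg.Agent.ConjFunctor.Basic

/-!
# Involution classes for dihedral Sylow 2-subgroups (Gorenstein, 7.7.3)

* `classes_of_dihedral`: one class and no subgroup of index 2, two classes and `G/G'` of 2-part 2,
  or three classes and a normal 2-complement.
-/

set_option autoImplicit false
set_option linter.style.haveILetI false

namespace CfsgLib.DihedralClasses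

open Subgroup
open CfsgLib.TwoGroups
open DihedralGroup (r sr)

variable {G : Type*} [Group G] {m : ℕ} [NeZero m]

/-- The embedding of the dihedral model. -/
def emb (S : Sylow 2 G) (eS : (S : Subgroup G) ≃* DihedralGroup m) : DihedralGroup m →* G :=
  (S : Subgroup G).subtype.comp eS.symm.toMonoidHom

variable {S : Sylow 2 G} (eS : (S : Subgroup G) ≃* DihedralGroup m)

theorem emb_mem (x : DihedralGroup m) : emb S eS x ∈ (S : Subgroup G) := (eS.symm x).2

theorem emb_injective : Function.Injective (emb S eS) := fun _ _ h =>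
  eS.symm.injective (Subtype.ext h)

theorem exists_emb {x : G} (hx : x ∈ (S : Subgroup G)) : ∃ d, emb S eS d = x :=
  ⟨eS ⟨x, hx⟩, congrArg Subtype.val (eS.symm_apply_apply _)⟩

/-- The central involution. -/
def zz : DihedralGroup m := r ((m / 2 : ℕ) : ZMod m)

variable (hm4 : 4 ∣ m)
include hm4

omit eS in
theorem eq_half {k : ZMod m} (h : k + k = 0) : k = 0 ∨ k = ((m / 2 : ℕ) : ZMod m) := by
  have hlt := ZMod.val_lt k
  rw [← ZMod.natCast_zmod_val k, ← Nat.cast_add, ZMod.natCast_eq_zero_iff] at h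
  obtain ⟨c, hc⟩ := h
  have hc2 : c < 2 := by nlinarith
  interval_cases c
  · left
    rw [← ZMod.natCast_zmod_val k, show k.val = 0 by omega, Nat.cast_zero]
  · right
    rw [← ZMod.natCast_zmod_val k, show k.val = m / 2 by omega]

omit eS in
theorem zz_sq : (zz : DihedralGroup m) * zz = 1 ∧ (zz : DihedralGroup m) ≠ 1 := by
  obtain ⟨h1, h2⟩ := two_torsion_ne_zero (m := m) (dvd_trans (by norm_num) hm4)
  refine ⟨?_, fun h => h2 ?_⟩
  · rw [zz, DihedralGroup.r_mul_r, h1, DihedralGroup.r_zero]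
  · rw [zz, DihedralGroup.one_def] at h
    exact DihedralGroup.r.inj h

theorem orderOf_zz : orderOf (emb S eS zz) = 2 := by
  rw [orderOf_injective _ (emb_injective eS)]
  exact orderOf_eq_prime (by rw [sq]; exact (zz_sq hm4).1) (zz_sq hm4).2

omit hm4 in
theorem orderOf_sr (i : ZMod m) : orderOf (emb S eS (sr i)) = 2 := by
  rw [orderOf_injective _ (emb_injective eS), DihedralGroup.orderOf_sr]

/-- The involutions of the Sylow subgroup. -/
theorem invol_cases {t : G} (ht : t ∈ (S : Subgroup G)) (ho : orderOf t = 2) :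
    t = emb S eS zz ∨ ∃ i, t = emb S eS (sr i) := by
  obtain ⟨d, rfl⟩ := exists_emb eS ht
  rw [orderOf_injective _ (emb_injective eS)] at ho
  rcases d with k | k
  · left
    have h1 : r k * r k = (1 : DihedralGroup m) := by rw [← sq, ← ho, pow_orderOf_eq_one]
    rw [DihedralGroup.r_mul_r, DihedralGroup.one_def] at h1
    rcases eq_half hm4 (DihedralGroup.r.inj h1) with rfl | rfl
    · rw [DihedralGroup.r_zero, orderOf_one] at ho; omega
    · rfl
  · exact Or.inr ⟨k, rfl⟩

omit hm4 in
/-- Reflections of equal parity are conjugate. -/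
theorem isConj_of_par (hm : 2 ∣ m) {i j : ZMod m} (h : par hm i = par hm j) :
    IsConj (emb S eS (sr i)) (emb S eS (sr j)) := by
  obtain ⟨g, hg⟩ := exists_conj_sr h
  exact isConj_iff.2 ⟨emb S eS g, by rw [← map_inv, ← map_mul, ← map_mul, hg]⟩

omit hm4 in
theorem par_zero_one (hm : 2 ∣ m) : par hm (0 : ZMod m) = 0 ∧ par hm (1 : ZMod m) = 1 :=
  ⟨map_zero _, map_one _⟩

variable [Finite G]

/-- Every involution is conjugate to `z` or one of two reflections. -/
theorem invol_conj_cases {t : G} (ho : orderOf t = 2) :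
    IsConj t (emb S eS zz) ∨ IsConj t (emb S eS (sr 0)) ∨ IsConj t (emb S eS (sr 1)) := by
  haveI : Fact (Nat.Prime 2) := ⟨Nat.prime_two⟩
  have hp : IsPGroup 2 (zpowers t) :=
    IsPGroup.of_card (n := 1) (by rw [Nat.card_zpowers, ho, pow_one])
  obtain ⟨x, -, hx⟩ := (ConjFunctor.isSylowIn_top S).exists_cj_le le_top hp
  have hmem : x * t * x⁻¹ ∈ (S : Subgroup G) := hx (ConjFunctor.conj_mem_cj x (mem_zpowers t))
  have ho' : orderOf (x * t * x⁻¹) = 2 := by rw [← MulAut.conj_apply, MulEquiv.orderOf_eq, ho]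
  have hc : IsConj t (x * t * x⁻¹) := isConj_iff.2 ⟨x, rfl⟩
  rcases invol_cases eS hm4 hmem ho' with h | ⟨i, h⟩
  · exact Or.inl (h ▸ hc)
  · rcases par_eq_zero_or_one (hm := (dvd_trans (by norm_num) hm4 : 2 ∣ m)) i with hi | hi
    · exact Or.inr (Or.inl (hc.trans (h ▸ isConj_of_par eS _ (hi.trans (par_zero_one _).1.symm))))
    · exact Or.inr (Or.inr (hc.trans (h ▸ isConj_of_par eS _ (hi.trans (par_zero_one _).2.symm))))

/-- The centraliser in `S` of a reflection not fused to `z` is a Sylow subgroup of its centraliser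
in `G`. -/
theorem isSylowIn_centralizer {i : ZMod m} (h : ¬ IsConj (emb S eS (sr i)) (emb S eS zz)) :
    ConjFunctor.IsSylowIn 2 ((centralizer ({sr i} : Set (DihedralGroup m))).map (emb S eS))
      (centralizer ({emb S eS (sr i)} : Set G)) := by
  haveI : Fact (Nat.Prime 2) := ⟨Nat.prime_two⟩
  have hm : 2 ∣ m := dvd_trans (by norm_num) hm4
  set a := emb S eS (sr i) with ha
  set V := (centralizer ({sr i} : Set (DihedralGroup m))).map (emb S eS) with hV
  have hVS : V ≤ (S : Subgroup G) := by rintro _ ⟨d, -, rfl⟩; exact emb_mem eS d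
  have hVc : V ≤ centralizer ({a} : Set G) := by
    rintro _ ⟨d, hd, rfl⟩
    rw [mem_centralizer_singleton_iff, ha, ← map_mul, ← map_mul,
      mem_centralizer_singleton_iff.1 hd]
  have hcard : ∀ j : ZMod m,
      Nat.card ((centralizer ({sr j} : Set (DihedralGroup m))).map (emb S eS)) = 4 := fun j => by
    rw [card_map_of_injective (emb_injective eS)]
    exact (isKleinFour_centralizer_sr hm j).card_four
  obtain ⟨T, hVT, hT⟩ := ConjFunctor.exists_isSylowIn_ge (p := 2) hVc (S.isPGroup'.to_le hVS)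
  obtain ⟨x, -, hx⟩ := (ConjFunctor.isSylowIn_top S).exists_cj_le le_top hT.2.1
  have haV : a ∈ V := mem_map_of_mem _ (mem_centralizer_singleton_iff.2 rfl)
  have hb : x * a * x⁻¹ ∈ (S : Subgroup G) := hx (ConjFunctor.conj_mem_cj x (hVT haV))
  have hbo : orderOf (x * a * x⁻¹) = 2 := by
    rw [← MulAut.conj_apply, MulEquiv.orderOf_eq, ha, orderOf_sr]
  rcases invol_cases eS hm4 hb hbo with e | ⟨j, e⟩
  · exact absurd (isConj_iff.2 ⟨x, e⟩) h
  have hTV : Nat.card T ≤ 4 := by
    rw [← hcard j, ← ConjFunctor.card_cj x T]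
    refine Nat.le_of_dvd Nat.card_pos (card_dvd_of_le fun u hu => ?_)
    obtain ⟨d, rfl⟩ := exists_emb eS (hx hu)
    refine mem_map_of_mem _ (mem_centralizer_singleton_iff.2 (emb_injective eS ?_))
    rw [map_mul, map_mul, ← e]
    obtain ⟨t, ht, htu⟩ := hu
    rw [← htu]
    show x * t * x⁻¹ * (x * a * x⁻¹) = x * a * x⁻¹ * (x * t * x⁻¹)
    calc x * t * x⁻¹ * (x * a * x⁻¹) = x * (t * a) * x⁻¹ := by group
      _ = x * (a * t) * x⁻¹ := by rw [mem_centralizer_singleton_iff.1 (hT.1 ht)]
      _ = x * a * x⁻¹ * (x * t * x⁻¹) := by group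
  rw [eq_of_le_of_card_ge hVT (hTV.trans (hcard i).ge)]
  exact hT

/-- A reflection not fused to `z` is not fused to a reflection of the other parity. -/
theorem par_eq_of_isConj {i j : ZMod m} (h : ¬ IsConj (emb S eS (sr i)) (emb S eS zz))
    (hc : IsConj (emb S eS (sr i)) (emb S eS (sr j))) :
    par (dvd_trans (by norm_num) hm4 : 2 ∣ m) i = par (dvd_trans (by norm_num) hm4 : 2 ∣ m) j := by
  haveI : Fact (Nat.Prime 2) := ⟨Nat.prime_two⟩
  have hm : 2 ∣ m := dvd_trans (by norm_num) hm4
  obtain ⟨g, hg⟩ := isConj_iff.1 hc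
  have hj : ¬ IsConj (emb S eS (sr j)) (emb S eS zz) := fun h' => h (hc.trans h')
  have hVi := isSylowIn_centralizer eS hm4 h
  have hVj := isSylowIn_centralizer eS hm4 hj
  set Vi := (centralizer ({sr i} : Set (DihedralGroup m))).map (emb S eS) with hVidef
  set Vj := (centralizer ({sr j} : Set (DihedralGroup m))).map (emb S eS) with hVjdef
  have hcen : (centralizer ({emb S eS (sr i)} : Set G)).map (MulAut.conj g).toMonoidHom ≤
      centralizer ({emb S eS (sr j)} : Set G) := by
    rintro _ ⟨u, hu, rfl⟩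
    show MulAut.conj g u ∈ _
    rw [mem_centralizer_singleton_iff, MulAut.conj_apply, ← hg]
    calc g * u * g⁻¹ * (g * emb S eS (sr i) * g⁻¹) = g * (u * emb S eS (sr i)) * g⁻¹ := by group
      _ = g * (emb S eS (sr i) * u) * g⁻¹ := by rw [mem_centralizer_singleton_iff.1 hu]
      _ = g * emb S eS (sr i) * g⁻¹ * (g * u * g⁻¹) := by group
  obtain ⟨c, -, hle⟩ := hVj.exists_cj_le ((Subgroup.map_mono hVi.1).trans hcen) (hVi.2.1.map _)
  rw [ConjFunctor.cj_cj] at hle
  have heq : Vi.map (MulAut.conj (c * g)).toMonoidHom = Vj := by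
    refine eq_of_le_of_card_ge hle ?_
    rw [ConjFunctor.card_cj, card_map_of_injective (emb_injective eS),
      card_map_of_injective (emb_injective eS), (isKleinFour_centralizer_sr hm i).card_four,
      (isKleinFour_centralizer_sr hm j).card_four]
  have hp : ∀ k : ZMod m, HasPar eS hm
      ((centralizer ({sr k} : Set (DihedralGroup m))).map (emb S eS)) (par hm k) := fun k => by
    rw [emb, ← Subgroup.map_map]
    exact hasPar_centralizer k
  refine HasPar.eq_of_conj hm4 (hp i) (x := c * g) ?_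
  rw [← hVidef, heq]
  exact hp j

/-- If a reflection is not fused to `z`, it lies outside some normal subgroup of index 2. -/
theorem exists_index_two {i : ZMod m} (h : ¬ IsConj (emb S eS (sr i)) (emb S eS zz)) :
    ∃ N : Subgroup G, N.Normal ∧ N.index = 2 ∧ emb S eS (sr i) ∉ N := by
  set R := zpowers (emb S eS (r 1)) with hR
  have hRS : R ≤ (S : Subgroup G) := zpowers_le.2 (emb_mem eS _)
  refine Inv53.exists_index_two_notMem S R hRS ?_ (n := 1) le_rfl (fun y hy hyR => ?_)
    (orderOf_sr eS i) fun g hg => ?_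
  · have h1 := relIndex_mul_relIndex ⊥ R (S : Subgroup G) bot_le hRS
    rw [relIndex_bot_left, relIndex_bot_left, hR, Nat.card_zpowers,
      orderOf_injective _ (emb_injective eS), DihedralGroup.orderOf_r_one,
      Nat.card_congr eS.toEquiv, DihedralGroup.nat_card] at h1
    have hm0 := NeZero.pos m
    exact Nat.eq_of_mul_eq_mul_left hm0 (by rw [hR]; linarith)
  · obtain ⟨d, rfl⟩ := exists_emb eS hy
    rcases d with k | k
    · exact absurd ⟨(k.val : ℤ), by
        show emb S eS (r 1) ^ (k.val : ℤ) = _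
        rw [zpow_natCast, ← map_pow, DihedralGroup.r_one_pow, ZMod.natCast_zmod_val]⟩ hyR
    · rw [orderOf_sr]; norm_num
  · have ho : orderOf (g * emb S eS (sr i) * g⁻¹) = 2 := by
      rw [← MulAut.conj_apply, MulEquiv.orderOf_eq, orderOf_sr]
    rcases invol_cases eS hm4 (hRS hg) ho with e | ⟨j, e⟩
    · exact h (isConj_iff.2 ⟨g, e⟩)
    · obtain ⟨k, hk⟩ := hg
      rw [e] at hk
      have hk' : emb S eS (r 1) ^ k = emb S eS (sr j) := hk
      rw [← map_zpow, DihedralGroup.r_one_zpow] at hk'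
      exact nomatch (emb_injective eS hk')

/-- Without fusion to `z` there is a normal 2-complement. -/
theorem hasNormalPComplement (h : ∀ i, ¬ IsConj (emb S eS (sr i)) (emb S eS zz)) :
    Cfsg.HasNormalPComplement 2 G := by
  haveI : Fact (Nat.Prime 2) := ⟨Nat.prime_two⟩
  refine Transfer.hasNormalPComplement_of_local S fun Q hQ g hg hgp => ?_
  -- powers of `g` and the rotations of `Q`
  have hrot : ∀ (g' : G), g' ∈ normalizer (Q : Set G) → ∀ k : ZMod m, emb S eS (r k) ∈ Q →
      ∃ l, g' * emb S eS (r k) * g'⁻¹ = emb S eS (r l) := by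
    intro g' hg' k hk
    obtain ⟨d, hd⟩ := exists_emb eS (hQ ((mem_normalizer_iff.1 hg' _).1 hk))
    rcases d with l | l
    · exact ⟨l, hd.symm⟩
    exfalso
    have hk2 : orderOf (r k : DihedralGroup m) = 2 := by
      rw [← orderOf_injective _ (emb_injective eS), ← MulEquiv.orderOf_eq (MulAut.conj g'),
        MulAut.conj_apply, ← hd, orderOf_sr]
    rcases invol_cases eS hm4 (emb_mem eS (r k))
      (by rwa [orderOf_injective _ (emb_injective eS)]) with e | ⟨j, e⟩
    · refine h l (IsConj.symm (isConj_iff.2 ⟨g', ?_⟩))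
      rw [← e, hd]
    · exact nomatch (emb_injective eS e)
  have hodd : ¬ 2 ∣ orderOf g := Nat.prime_two.coprime_iff_not_dvd.1 hgp.symm
  -- `g` fixes the rotations
  have hfixR : ∀ k : ZMod m, emb S eS (r k) ∈ Q → Commute g (emb S eS (r k)) := by
    intro k hk
    set c := emb S eS (r k) with hc
    set C := Q ⊓ zpowers (emb S eS (r 1)) with hC
    have hmemR : ∀ l : ZMod m, emb S eS (r l) ∈ zpowers (emb S eS (r 1)) := fun l =>
      ⟨(l.val : ℤ), by
        show emb S eS (r 1) ^ (l.val : ℤ) = _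
        rw [zpow_natCast, ← map_pow, DihedralGroup.r_one_pow, ZMod.natCast_zmod_val]⟩
    haveI : IsCyclic C := isCyclic_of_injective (inclusion (inf_le_right : C ≤ _))
      (inclusion_injective _)
    have hgC : g ∈ normalizer (C : Set G) := by
      refine ConjFunctor.mem_normalizer_of_forall_conj_mem fun u hu => ?_
      obtain ⟨huQ, hu'⟩ := mem_inf.1 hu
      obtain ⟨n, hn⟩ := hu'
      have hn' : emb S eS (r 1) ^ n = u := hn
      rw [← map_zpow, DihedralGroup.r_one_zpow] at hn'
      subst hn'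
      obtain ⟨l, hl⟩ := hrot g hg _ huQ
      exact mem_inf.2 ⟨(mem_normalizer_iff.1 hg _).1 huQ, hl ▸ hmemR l⟩
    -- automorphisms of a cyclic 2-group have 2-power order
    let φ : normalizer (C : Set G) →* MulAut C := normalizerMonoidHom C
    obtain ⟨j, hj⟩ := IsPGroup.iff_card.1 (S.isPGroup'.to_le (inf_le_left.trans hQ) : IsPGroup 2 C)
    have hA : orderOf (φ ⟨g, hgC⟩) ∣ 2 ^ (j - 1) := by
      refine (_root_.orderOf_dvd_natCard _).trans ?_
      rw [IsCyclic.card_mulAut C, hj]
      rcases Nat.eq_zero_or_pos j with rfl | hj0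
      · simp
      · rw [Nat.totient_prime_pow Nat.prime_two hj0]; simp
    have hφ : φ ⟨g, hgC⟩ = 1 := by
      refine orderOf_eq_one_iff.1 (Nat.eq_one_of_dvd_coprimes
        ((Nat.prime_two.coprime_iff_not_dvd.2 hodd).symm.pow_right (j - 1))
        ((orderOf_map_dvd φ _).trans (by rw [Subgroup.orderOf_mk])) hA)
    have := congrArg (fun f : MulAut C => ((f ⟨c, hk, hmemR k⟩ : C) : G)) hφ
    simp only [MulAut.one_apply] at this
    exact mul_inv_eq_iff_eq_mul.1 this
  intro q hq
  obtain ⟨d, rfl⟩ := exists_emb eS (hQ hq)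
  rcases d with k | k
  · exact (hfixR k hq).eq.symm
  -- a reflection
  obtain ⟨d, hd⟩ := exists_emb eS (hQ ((mem_normalizer_iff.1 hg _).1 hq))
  set q := emb S eS (sr k) with hqdef
  set c := g * q * g⁻¹ * q⁻¹ with hcdef
  have hcQ : c ∈ Q := mul_mem ((mem_normalizer_iff.1 hg q).1 hq) (inv_mem hq)
  obtain ⟨l, hl⟩ : ∃ l, c = emb S eS (r l) := by
    rcases d with l | l
    · exfalso
      obtain ⟨l', hl'⟩ := hrot g⁻¹ (inv_mem hg) l (hd ▸ (mem_normalizer_iff.1 hg _).1 hq)
      rw [hd] at hl'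
      have e : g⁻¹ * (g * q * g⁻¹) * g⁻¹⁻¹ = q := by group
      exact nomatch (emb_injective eS (e.symm.trans hl'))
    · exact ⟨k - l, by rw [hcdef, ← hd, ← map_inv, ← map_mul, DihedralGroup.inv_sr,
        DihedralGroup.sr_mul_sr]⟩
  have hgc : Commute g c := hl ▸ hfixR l (hl ▸ hcQ)
  have hgq : g * q * g⁻¹ = c * q := by rw [hcdef]; group
  have hpow : ∀ n : ℕ, g ^ n * q * (g ^ n)⁻¹ = c ^ n * q := by
    intro n
    induction n with
    | zero => simp
    | succ n ih =>
      calc g ^ (n + 1) * q * (g ^ (n + 1))⁻¹ = g ^ n * (g * q * g⁻¹) * (g ^ n)⁻¹ := by group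
        _ = (g ^ n * c) * q * (g ^ n)⁻¹ := by rw [hgq]; group
        _ = c * (g ^ n * q * (g ^ n)⁻¹) := by rw [(hgc.pow_left n).eq]; group
        _ = c ^ (n + 1) * q := by rw [ih, pow_succ']; group
  have hc1 : c = 1 := by
    have h1 := hpow (orderOf g)
    rw [pow_orderOf_eq_one, one_mul, inv_one, mul_one, right_eq_mul] at h1
    obtain ⟨j, hj⟩ := IsPGroup.iff_orderOf.1 S.isPGroup' ⟨c, hQ hcQ⟩
    rw [Subgroup.orderOf_mk] at hj
    exact orderOf_eq_one_iff.1 (Nat.eq_one_of_dvd_coprimes
      ((Nat.prime_two.coprime_iff_not_dvd.2 hodd).symm.pow_right j)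
      (orderOf_dvd_of_pow_eq_one h1) hj.dvd)
  rw [hc1, one_mul, mul_inv_eq_iff_eq_mul] at hgq
  exact hgq.symm

/-- A hom to an abelian group killing the images of `z` and of the reflection `sr i` has the image
of `S` generated by that of a reflection of the other parity. -/
theorem map_mem_zpowers {H : Type*} [Group H] (f : G →* H) {i j : ZMod m}
    (hij : par (dvd_trans (by norm_num) hm4 : 2 ∣ m) i ≠ par (dvd_trans (by norm_num) hm4 : 2 ∣ m) j)
    (hi : f (emb S eS (sr i)) = 1) {x : G} (hx : x ∈ (S : Subgroup G)) :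
    f x ∈ zpowers (f (emb S eS (sr j))) := by
  haveI : Fact (Nat.Prime 2) := ⟨Nat.prime_two⟩
  obtain ⟨k, hk⟩ : ∃ k, m = 2 ^ k := by
    obtain ⟨k, hk⟩ := S.isPGroup'.exists_card_eq
    rw [Nat.card_congr eS.toEquiv, DihedralGroup.nat_card] at hk
    obtain ⟨j, -, hj⟩ := (Nat.dvd_prime_pow Nat.prime_two).1 (Dvd.intro_left 2 hk)
    exact ⟨j, hj⟩
  have htop := eq_top_of_par_ne hk (dvd_trans (by norm_num) hm4)
    (D := (zpowers (f (emb S eS (sr j)))).comap (f.comp (emb S eS))) (i := i) (j := j)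
    (by rw [mem_comap]; show f (emb S eS (sr i)) ∈ _; rw [hi]; exact one_mem _)
    (by rw [mem_comap]; exact mem_zpowers _) hij
  obtain ⟨d, rfl⟩ := exists_emb eS hx
  exact (htop.ge (mem_top d) :)

/-- With every reflection fused to `z` there is no normal subgroup of index 2. -/
theorem index_ne_two (h0 : IsConj (emb S eS (sr 0)) (emb S eS zz))
    (h1 : IsConj (emb S eS (sr 1)) (emb S eS zz)) (N : Subgroup G) (hN : N.Normal) :
    N.index ≠ 2 := by
  intro hidx
  haveI := hN
  haveI : Fact (Nat.Prime 2) := ⟨Nat.prime_two⟩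
  have hz : emb S eS zz ∈ N := by
    obtain ⟨c, hc⟩ := hm4
    have h2 : zz = (r (c : ZMod m) * r (c : ZMod m) : DihedralGroup m) := by
      rw [zz, DihedralGroup.r_mul_r, ← Nat.cast_add]
      congr 2
      omega
    rw [h2, map_mul]
    exact mul_self_mem_of_index_two hidx _
  have hmem : ∀ i : ZMod m, IsConj (emb S eS (sr i)) (emb S eS zz) → emb S eS (sr i) ∈ N := by
    intro i hi
    obtain ⟨g, hg⟩ := isConj_iff.1 hi.symm
    exact hg ▸ hN.conj_mem _ hz g
  have hle : (S : Subgroup G) ≤ N := fun x hx => by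
    have h := map_mem_zpowers eS hm4 (QuotientGroup.mk' N) (i := 0) (j := 1)
      (by rw [(par_zero_one _).1, (par_zero_one _).2]; exact zero_ne_one)
      ((QuotientGroup.eq_one_iff _).2 (hmem 0 h0)) hx
    rw [show QuotientGroup.mk' N (emb S eS (sr 1)) = 1 from
      (QuotientGroup.eq_one_iff _).2 (hmem 1 h1), zpowers_one_eq_bot, mem_bot] at h
    exact (QuotientGroup.eq_one_iff _).1 h
  exact S.not_dvd_index (hidx.symm.dvd.trans (index_dvd_of_le hle))

/-- With one reflection class fused to `z` there is no normal subgroup of index 4. -/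
theorem index_ne_four {i j : ZMod m}
    (hij : par (dvd_trans (by norm_num) hm4 : 2 ∣ m) i ≠ par (dvd_trans (by norm_num) hm4 : 2 ∣ m) j)
    (h : IsConj (emb S eS (sr i)) (emb S eS zz)) (N : Subgroup G) (hN : N.Normal) :
    N.index ≠ 4 := by
  intro hidx
  haveI := hN
  haveI : Fact (Nat.Prime 2) := ⟨Nat.prime_two⟩
  set f := QuotientGroup.mk' N with hf
  have hcard : Nat.card (G ⧸ N) = 2 ^ 2 := by rw [← index_eq_card, hidx]; norm_num
  haveI : IsMulCommutative (G ⧸ N) := IsPGroup.isMulCommutative_of_card_eq_prime_sq hcard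
  have hcomm : ∀ a b : G ⧸ N, a * b = b * a := fun a b => mul_comm' a b
  set a := f (emb S eS (sr i))
  set b := f (emb S eS (sr j))
  have haz : a = f (emb S eS zz) := by
    obtain ⟨g, hg⟩ := isConj_iff.1 h
    rw [← hg, map_mul, map_mul, map_inv, hcomm (f g), mul_assoc, mul_inv_cancel, mul_one]
  have hrsq : ∀ k : ZMod m, f (emb S eS (r k)) * f (emb S eS (r k)) = 1 := by
    intro k
    have hsr : ∀ l : ZMod m, f (emb S eS (sr l)) * f (emb S eS (sr l)) = 1 := fun l => by
      rw [← map_mul, ← map_mul, DihedralGroup.sr_mul_self, map_one, map_one]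
    have e : f (emb S eS (r k)) = f (emb S eS (sr 0)) * f (emb S eS (sr k)) := by
      rw [← map_mul, ← map_mul, DihedralGroup.sr_mul_sr, sub_zero]
    rw [e]
    calc f (emb S eS (sr 0)) * f (emb S eS (sr k)) * (f (emb S eS (sr 0)) * f (emb S eS (sr k)))
        = f (emb S eS (sr 0)) * (f (emb S eS (sr k)) * f (emb S eS (sr 0))) *
            f (emb S eS (sr k)) := by group
      _ = (f (emb S eS (sr 0)) * f (emb S eS (sr 0))) *
            (f (emb S eS (sr k)) * f (emb S eS (sr k))) := by rw [hcomm (f (emb S eS (sr k)))]; group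
      _ = 1 := by rw [hsr, hsr, one_mul]
  have ha1 : a = 1 := by
    rw [haz]
    obtain ⟨c, hc⟩ := hm4
    have h2 : zz = (r (c : ZMod m) * r (c : ZMod m) : DihedralGroup m) := by
      rw [zz, DihedralGroup.r_mul_r, ← Nat.cast_add]
      congr 2
      omega
    rw [h2, map_mul, map_mul]
    exact hrsq _
  have htop : (S : Subgroup G).map f = ⊤ := by
    refine index_eq_one.1 (Nat.eq_one_of_dvd_coprimes
      ((Nat.prime_two.coprime_iff_not_dvd.2 S.not_dvd_index).pow_left 2) ?_
      (index_map_dvd _ (QuotientGroup.mk'_surjective N)))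
    rw [← hcard]
    exact index_dvd_card _
  have hle : (⊤ : Subgroup (G ⧸ N)) ≤ zpowers b := by
    rw [← htop]
    rintro _ ⟨x, hx, rfl⟩
    exact map_mem_zpowers eS hm4 f hij ha1 hx
  have hb : orderOf b ∣ 2 := orderOf_dvd_of_pow_eq_one (by
    rw [sq, ← map_mul, ← map_mul, DihedralGroup.sr_mul_self, map_one, map_one])
  have := Nat.le_of_dvd Nat.card_pos (card_dvd_of_le hle)
  have h4 := card_dvd_of_le hle
  rw [card_top, hcard, Nat.card_zpowers] at h4
  have := Nat.le_of_dvd (by norm_num) hb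
  have := Nat.le_of_dvd (orderOf_pos b) h4
  omega

include eS in
/-- The three cases. -/
theorem classes_of_dihedral :
    (Nat.card {C : ConjClasses G // ∃ t, orderOf t = 2 ∧ ConjClasses.mk t = C} = 1 ∧
        ∀ N : Subgroup G, N.Normal → N.index ≠ 2) ∨
      (Nat.card {C : ConjClasses G // ∃ t, orderOf t = 2 ∧ ConjClasses.mk t = C} = 2 ∧
        (∃ N : Subgroup G, N.Normal ∧ N.index = 2) ∧ ∀ N : Subgroup G, N.Normal → N.index ≠ 4) ∨
      (Nat.card {C : ConjClasses G // ∃ t, orderOf t = 2 ∧ ConjClasses.mk t = C} = 3 ∧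
        Cfsg.HasNormalPComplement 2 G) := by
  have hcases := fun t ht => invol_conj_cases eS hm4 (t := t) ht
  have hz := orderOf_zz eS hm4
  have hne := par_zero_one (m := m) (dvd_trans (by norm_num) hm4 : 2 ∣ m)
  by_cases h0 : IsConj (emb S eS (sr 0)) (emb S eS zz)
  · by_cases h1 : IsConj (emb S eS (sr 1)) (emb S eS zz)
    · refine Or.inl ⟨card_classes_one (P := fun t => orderOf t = 2) hz fun t ht => ?_,
        index_ne_two eS hm4 h0 h1⟩
      rcases hcases t ht with h | h | h
      exacts [h, h.trans h0, h.trans h1]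
    · obtain ⟨N, hN, hidx, -⟩ := exists_index_two eS hm4 h1
      refine Or.inr (Or.inl ⟨card_classes_two (P := fun t => orderOf t = 2) hz (orderOf_sr eS 1)
        (fun h => h1 h.symm) fun t ht => ?_, ⟨N, hN, hidx⟩, index_ne_four eS hm4 (i := 0) (j := 1)
          (by rw [hne.1, hne.2]; exact zero_ne_one) h0⟩)
      rcases hcases t ht with h | h | h
      exacts [Or.inl h, Or.inl (h.trans h0), Or.inr h]
  · by_cases h1 : IsConj (emb S eS (sr 1)) (emb S eS zz)
    · obtain ⟨N, hN, hidx, -⟩ := exists_index_two eS hm4 h0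
      refine Or.inr (Or.inl ⟨card_classes_two (P := fun t => orderOf t = 2) hz (orderOf_sr eS 0)
        (fun h => h0 h.symm) fun t ht => ?_, ⟨N, hN, hidx⟩, index_ne_four eS hm4 (i := 1) (j := 0)
          (by rw [hne.1, hne.2]; exact one_ne_zero) h1⟩)
      rcases hcases t ht with h | h | h
      exacts [Or.inl h, Or.inr h, Or.inl (h.trans h1)]
    · refine Or.inr (Or.inr ⟨card_classes_three (P := fun t => orderOf t = 2) hz (orderOf_sr eS 0)
        (orderOf_sr eS 1) (fun h => h0 h.symm) (fun h => h1 h.symm) (fun h => ?_) hcases,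
        hasNormalPComplement eS hm4 fun i hi => ?_⟩)
      · have := par_eq_of_isConj eS hm4 h0 h
        rw [hne.1, hne.2] at this
        exact zero_ne_one this
      · rcases par_eq_zero_or_one (hm := (dvd_trans (by norm_num) hm4 : 2 ∣ m)) i with hp | hp
        · exact h0 ((isConj_of_par eS _ (hne.1.trans hp.symm)).trans hi)
        · exact h1 ((isConj_of_par eS _ (hne.2.trans hp.symm)).trans hi)

end CfsgLib.DihedralClasses
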