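import Cfsg.Agent.TwoGroups.NoIndexTwo
import Cfsg.Agent.CharSimple.Basic
import Cfsg.Agent.PLocal.Cores
import Cfsg.Agent.S0219

/-!
The simple normal subgroup of odd index of a group with quasi-dihedral or wreathed Sylow
2-subgroups, no subgroup of index 2 and trivial odd core.
-/

set_option autoImplicit false

namespace CfsgLib.TwoGroups

open Subgroup

/-- In a power `Fin m → T` with `T` of even order and `m ≥ 2`, some Sylow 2-subgroup has two
central involutions. -/
theorem exists_two_central_invol {T : Type*} [Group T] [Finite T] (hT : 2 ∣ Nat.card T) {m : ℕ}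
    (hm : 2 ≤ m) : ∃ (R : Sylow 2 (Fin m → T)) (a b : Fin m → T), a ∈ R ∧ b ∈ R ∧ a ≠ b ∧
      a * a = 1 ∧ b * b = 1 ∧ a ≠ 1 ∧ b ≠ 1 ∧ ∀ r ∈ R, a * r = r * a ∧ b * r = r * b := by
  classical
  haveI : Fact (Nat.Prime 2) := ⟨Nat.prime_two⟩
  let P : Sylow 2 T := default
  haveI hne : Nontrivial (P : Subgroup T) := by
    rw [Subgroup.nontrivial_iff_ne_bot]
    intro h
    have := P.dvd_card_of_dvd_card hT
    rw [h, card_bot] at this
    omega
  haveI := P.isPGroup'.center_nontrivial
  obtain ⟨j, hj⟩ := (P.isPGroup'.to_subgroup (center (P : Subgroup T))).exists_card_eq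
  have hj0 : j ≠ 0 := fun h0 => by
    rw [h0, pow_zero, Nat.card_eq_one_iff_unique] at hj
    exact not_subsingleton (center (P : Subgroup T)) hj.1
  obtain ⟨c, hc⟩ := exists_prime_orderOf_dvd_card' (G := center (P : Subgroup T)) 2
    (hj ▸ dvd_pow_self 2 hj0)
  set u : T := ((c : (P : Subgroup T)) : T) with hu
  have huP : u ∈ (P : Subgroup T) := (c : (P : Subgroup T)).2
  have huo : orderOf u = 2 := by rw [hu, orderOf_coe, orderOf_coe, hc]
  have hucomm : ∀ p ∈ (P : Subgroup T), u * p = p * u := fun p hp =>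
    (congrArg Subtype.val (Subgroup.mem_center_iff.1 c.2 ⟨p, hp⟩)).symm
  obtain ⟨e, he⟩ := P.isPGroup'.exists_card_eq
  have hW : IsPGroup 2 (Subgroup.pi Set.univ fun _ : Fin m => (P : Subgroup T)) := by
    intro f
    refine ⟨e, Subtype.ext (funext fun i => ?_)⟩
    show ((f : Fin m → T) i) ^ 2 ^ e = 1
    have h1 : (⟨_, (Subgroup.mem_pi _).1 f.2 i trivial⟩ : (P : Subgroup T)) ^ 2 ^ e = 1 := by
      rw [← he, pow_card_eq_one']
    exact congrArg Subtype.val h1
  obtain ⟨R, hR⟩ := hW.exists_le_sylow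
  have hRP : ∀ r ∈ R, ∀ i, r i ∈ (P : Subgroup T) := by
    intro r hr i
    have hle : (P : Subgroup T) ≤ (R : Subgroup (Fin m → T)).map (Pi.evalMonoidHom _ i) := by
      intro p hp
      exact ⟨fun _ => p, hR ((Subgroup.mem_pi _).2 fun _ _ => hp), rfl⟩
    rw [← P.3 (R.isPGroup'.map _) hle]
    exact ⟨r, hr, rfl⟩
  let i₀ : Fin m := ⟨0, by omega⟩
  let i₁ : Fin m := ⟨1, by omega⟩
  have hmem : ∀ i, Pi.mulSingle i u ∈ R := fun i => hR ((Subgroup.mem_pi _).2 fun k _ => by
    rcases eq_or_ne k i with rfl | hk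
    · rw [Pi.mulSingle_eq_same]; exact huP
    · rw [Pi.mulSingle_eq_of_ne hk]; exact one_mem _)
  have hu1 : u ≠ 1 := fun h => by rw [h, orderOf_one] at huo; omega
  have hu2 : u * u = 1 := by rw [← sq, ← huo, pow_orderOf_eq_one]
  have hcen : ∀ i, ∀ r ∈ R, Pi.mulSingle i u * r = r * Pi.mulSingle i u := by
    intro i r hr
    funext k
    simp only [Pi.mul_apply]
    rcases eq_or_ne k i with rfl | hk
    · rw [Pi.mulSingle_eq_same]; exact hucomm _ (hRP r hr k)
    · rw [Pi.mulSingle_eq_of_ne hk, one_mul, mul_one]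
  refine ⟨R, Pi.mulSingle i₀ u, Pi.mulSingle i₁ u, hmem _, hmem _, ?_, ?_, ?_, ?_, ?_,
    fun r hr => ⟨hcen _ r hr, hcen _ r hr⟩⟩
  · intro h
    have := congrFun h i₀
    rw [Pi.mulSingle_eq_same, Pi.mulSingle_eq_of_ne (by simp [i₀, i₁, Fin.ext_iff])] at this
    exact hu1 this
  · rw [← Pi.mulSingle_mul, hu2, Pi.mulSingle_one]
  · rw [← Pi.mulSingle_mul, hu2, Pi.mulSingle_one]
  · rwa [ne_eq, Pi.mulSingle_eq_one_iff]
  · rwa [ne_eq, Pi.mulSingle_eq_one_iff]

variable {X : Type*} [Group X] [Finite X] (S : Sylow 2 X)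

/-- A group with one class of involutions, trivial odd core and no subgroup of index two has a
simple normal subgroup of odd index, if its Sylow 2-subgroup is generated by its non-commuting
involutions and one element and at most one of its involutions centralizes all of them. -/
theorem exists_simple_of_one_class
    (hone : ∀ u v : X, orderOf u = 2 → orderOf v = 2 → IsConj u v)
    (hG : ∀ H : Subgroup X, H.index ≠ 2) (hO : Cfsg.oddCore X = ⊥)
    (hgen : ∃ a : (S : Subgroup X),
      Subgroup.closure {g : (S : Subgroup X) | orderOf g = 2} ⊔ zpowers a = ⊤)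
    (hnc : ∃ u v : (S : Subgroup X), orderOf u = 2 ∧ orderOf v = 2 ∧ u * v ≠ v * u)
    (huniq : ∀ v w : (S : Subgroup X), orderOf v = 2 → orderOf w = 2 →
      (∀ u : (S : Subgroup X), orderOf u = 2 → v * u = u * v ∧ w * u = u * w) → v = w) :
    ∃ L : Subgroup X, L.Normal ∧ Odd L.index ∧ IsSimpleGroup L ∧ ¬ IsMulCommutative L := by
  classical
  haveI : Fact (Nat.Prime 2) := ⟨Nat.prime_two⟩
  obtain ⟨u₀, v₀, hu₀, hv₀, huv⟩ := hnc
  haveI : Nontrivial X := ⟨⟨(u₀ : X), 1, fun h => by
    rw [← orderOf_coe, h, orderOf_one] at hu₀; omega⟩⟩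
  obtain ⟨N, -, ⟨hNn, hNne⟩, hmin⟩ := Finite.exists_le_minimal
    (p := fun L : Subgroup X => L.Normal ∧ L ≠ ⊥) (a := (⊤ : Subgroup X))
    ⟨inferInstance, top_ne_bot⟩
  have hmin' : ∀ L : Subgroup X, L.Normal → L ≤ N → L = ⊥ ∨ L = N := fun L hL hLN => by
    by_cases h : L = ⊥
    · exact Or.inl h
    · exact Or.inr (le_antisymm hLN (hmin ⟨hL, h⟩ hLN))
  have heven : 2 ∣ Nat.card N := by
    by_contra h
    refine hNne (le_bot_iff.1 (hO ▸ ?_))
    exact CfsgLib.PLocal.le_pPrimeCore
      (Nat.prime_two.coprime_iff_not_dvd.2 h).symm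
  obtain ⟨t, ht⟩ := exists_prime_orderOf_dvd_card' (G := N) 2 heven
  have hinv : ∀ u : X, orderOf u = 2 → u ∈ N := by
    intro u hu
    obtain ⟨g, hg⟩ := isConj_iff.1 (hone (t : X) u (by rw [orderOf_coe, ht]) hu)
    rw [← hg]
    exact hNn.conj_mem _ t.2 g
  have hu₀N : (u₀ : X) ∈ N := hinv _ (by rw [orderOf_coe, hu₀])
  have hv₀N : (v₀ : X) ∈ N := hinv _ (by rw [orderOf_coe, hv₀])
  have hncN : ¬ IsMulCommutative N := fun h => huv (Subtype.ext
    (show (u₀ : X) * (v₀ : X) = (v₀ : X) * (u₀ : X) from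
      congrArg Subtype.val (h.is_comm.comm (⟨_, hu₀N⟩ : N) ⟨_, hv₀N⟩)))
  have hsimple : IsSimpleGroup N := by
    obtain ⟨T, iT, iF, m, hm, hTs, -, ⟨e⟩⟩ :=
      CfsgLib.CharSimple.exists_equiv_pi hNn hNne hmin' hncN
    rcases eq_or_lt_of_le hm with rfl | hm2
    · haveI : Nontrivial N := (Subgroup.nontrivial_iff_ne_bot N).2 hNne
      exact IsSimpleGroup.isSimpleGroup_of_surjective
        ((e.trans (MulEquiv.funUnique (Fin 1) T)).symm.toMonoidHom)
        (e.trans (MulEquiv.funUnique (Fin 1) T)).symm.surjective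
    exfalso
    have hTeven : 2 ∣ Nat.card T := by
      have h1 : Nat.card N = Nat.card T ^ m := by
        rw [Nat.card_congr e.toEquiv, Nat.card_fun, Nat.card_fin]
      exact Nat.prime_two.dvd_of_dvd_pow (h1 ▸ heven)
    obtain ⟨R, a, b, haR, hbR, hab, ha2, hb2, ha1, hb1, hcen⟩ :=
      exists_two_central_invol hTeven hm2
    let Q : Sylow 2 N := R.mapSurjective (f := e.symm.toMonoidHom) e.symm.surjective
    let SN : Sylow 2 N := IsPGroup.toSylow (P := (S : Subgroup X).subgroupOf N)
      (S.isPGroup'.comap_subtype) (CfsgLib.Transfer.not_dvd_relIndex_of_normal S N)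
    obtain ⟨h, hh⟩ := MulAction.exists_smul_eq N SN Q
    have hpre : ∀ r ∈ R, (h : X)⁻¹ * (e.symm r : X) * (h : X) ∈ (S : Subgroup X) := by
      intro r hr
      have h1 : e.symm r ∈ (Q : Subgroup N) := ⟨r, hr, rfl⟩
      rw [← hh] at h1
      exact mem_subgroupOf.1 (CfsgLib.Transfer.mem_smul_iff.1 h1)
    have hsurj : ∀ s : (S : Subgroup X), (s : X) ∈ N →
        ∃ r, ∃ hr : r ∈ R, (⟨_, hpre r hr⟩ : (S : Subgroup X)) = s := by
      intro s hs
      have h1 : h * ⟨(s : X), hs⟩ * h⁻¹ ∈ (Q : Subgroup N) := by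
        rw [← hh, CfsgLib.Transfer.mem_smul_iff]
        rw [show h⁻¹ * (h * ⟨(s : X), hs⟩ * h⁻¹) * h = (⟨(s : X), hs⟩ : N) by group]
        exact s.2
      obtain ⟨r, hr, hre⟩ := h1
      refine ⟨r, hr, Subtype.ext ?_⟩
      show (h : X)⁻¹ * (e.symm r : X) * (h : X) = s
      rw [show (e.symm r : X) = (h : X) * s * (h : X)⁻¹ from congrArg Subtype.val hre]
      group
    have hord : ∀ r (hr : r ∈ R), r * r = 1 → r ≠ 1 →
        orderOf (⟨_, hpre r hr⟩ : (S : Subgroup X)) = 2 := by
      intro r hr h2 h1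
      rw [orderOf_mk]
      calc orderOf ((h : X)⁻¹ * (e.symm r : X) * (h : X))
          = orderOf (MulAut.conj (h : X)⁻¹ (e.symm r : X)) := by
            rw [MulAut.conj_apply, inv_inv]
        _ = orderOf (e.symm r : X) := MulEquiv.orderOf_eq _ _
        _ = orderOf r := by rw [orderOf_coe, MulEquiv.orderOf_eq]
        _ = 2 := orderOf_eq_prime (by rw [sq, h2]) h1
    have hmain := huniq _ _ (hord a haR ha2 ha1) (hord b hbR hb2 hb1) fun u hu => by
      obtain ⟨r, hr, rfl⟩ := hsurj u (hinv _ (by rw [orderOf_coe, hu]))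
      have hconj : ∀ p q : Fin m → T, p * q = q * p →
          (h : X)⁻¹ * (e.symm p : X) * h * ((h : X)⁻¹ * (e.symm q : X) * h) =
            (h : X)⁻¹ * (e.symm q : X) * h * ((h : X)⁻¹ * (e.symm p : X) * h) := by
        intro p q hpq
        rw [show (h : X)⁻¹ * (e.symm p : X) * h * ((h : X)⁻¹ * (e.symm q : X) * h) =
          (h : X)⁻¹ * ((e.symm p : X) * (e.symm q : X)) * h by group, ← Subgroup.coe_mul,
          ← map_mul, hpq, map_mul, Subgroup.coe_mul]
        group
      exact ⟨Subtype.ext (hconj a r (hcen r hr).1), Subtype.ext (hconj b r (hcen r hr).2)⟩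
    have h3 := congrArg Subtype.val hmain
    exact hab (e.symm.injective (Subtype.ext (mul_left_cancel (mul_right_cancel h3))))
  refine ⟨N, hNn, ?_, hsimple, hncN⟩
  haveI := hNn
  obtain ⟨a, ha⟩ := hgen
  let π := QuotientGroup.mk' N
  let S' : Sylow 2 (X ⧸ N) := S.mapSurjective (f := π) (QuotientGroup.mk'_surjective N)
  have hcyc : IsCyclic (S' : Subgroup (X ⧸ N)) := by
    have hle : (S' : Subgroup (X ⧸ N)) ≤ zpowers (π (a : X)) := by
      rintro _ ⟨s, hs, rfl⟩
      have hall : (⊤ : Subgroup (S : Subgroup X)) ≤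
          (zpowers (π (a : X))).comap (π.comp (S : Subgroup X).subtype) := by
        rw [← ha]
        refine sup_le ((closure_le _).2 fun g hg => ?_) (zpowers_le.2 (mem_zpowers _))
        show π (g : X) ∈ zpowers (π (a : X))
        rw [show π (g : X) = 1 from (QuotientGroup.eq_one_iff _).2
          (hinv _ (by rw [orderOf_coe]; exact hg))]
        exact one_mem _
      exact hall (mem_top ⟨s, hs⟩)
    exact isCyclic_of_injective (inclusion hle) (inclusion_injective hle)
  by_contra hodd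
  obtain ⟨H, hH⟩ := Cfsg.Agent.S0219.result (Nat.not_odd_iff_even.1 hodd) S' hcyc
  refine hG (H.comap π) ?_
  rw [index_comap_of_surjective _ (QuotientGroup.mk'_surjective N), hH]

theorem exists_simple_of_no_index_two
    (hS : Cfsg.IsQuasiDihedral (S : Subgroup X) ∨ Cfsg.IsWreathed (S : Subgroup X))
    (hG : ∀ H : Subgroup X, H.index ≠ 2) (hO : Cfsg.oddCore X = ⊥) :
    ∃ L : Subgroup X, L.Normal ∧ Odd L.index ∧ IsSimpleGroup L ∧ ¬ IsMulCommutative L := by
  haveI : Fact (Nat.Prime 2) := ⟨Nat.prime_two⟩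
  rcases hS with hS | hS
  · obtain ⟨n, x, y, d⟩ := exists_sdPair hS
    obtain ⟨T, Q, hT, hTS, hQS, ⟨eQ⟩, h₁, -⟩ := d.six_of_no_index_two S hS hG
    have hz : ∀ t : X, orderOf t = 2 → IsConj t (↑(x ^ hh n) : X) := fun t ht => by
      obtain ⟨a, ha, hta⟩ := exists_isConj_sylow S (k := 1) (by simpa using ht)
      exact hta.trans (d.isConj_z_of_six S hT hTS h₁ a (by simpa using ha))
    have hh4 : (4 : ℤ) ≤ hh n := by
      rw [hh, show (4 : ℤ) = 2 ^ 2 by norm_num]
      exact pow_le_pow_right₀ (by norm_num) (by have := d.le; omega)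
    refine exists_simple_of_one_class S (fun u v hu hv => (hz u hu).trans (hz v hv).symm) hG hO
      ⟨x, ?_⟩ ⟨x ^ (0 : ℤ) * y, x ^ (2 : ℤ) * y, d.orderOf_zpow_y_even (dvd_zero 2),
        d.orderOf_zpow_y_even dvd_rfl, fun h => ?_⟩ fun v w hv hw h => ?_
    · rw [d.closure_invol]
      refine eq_top_iff.2 fun g _ => ?_
      have hy : y ∈ d.maxSub 0 := ⟨0, Or.inr (by simp)⟩
      obtain ⟨i, rfl | rfl⟩ := d.eq_cases g
      · exact mem_sup_right (zpow_mem_zpowers x i)
      · exact mul_mem (mem_sup_right (zpow_mem_zpowers x i)) (mem_sup_left hy)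
    · have h5 : hh n ∣ 2 := by
        have := d.commute_zpow_y.1 h
        rwa [zero_sub, dvd_neg] at this
      have := Int.le_of_dvd two_pos h5
      omega
    · have key : ∀ v : (S : Subgroup X), orderOf v = 2 →
          (∀ u : (S : Subgroup X), orderOf u = 2 → v * u = u * v) → v = x ^ hh n := by
        intro v hv hc
        rcases d.orderOf_eq_two_iff.1 hv with rfl | ⟨i, hi, rfl⟩
        · rfl
        · exfalso
          have h0 := d.commute_zpow_y.1 (hc _ (d.orderOf_zpow_y_even (dvd_zero 2)))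
          have h2 := d.commute_zpow_y.1 (hc _ (d.orderOf_zpow_y_even (i := 2) dvd_rfl))
          rw [sub_zero] at h0
          have h5 : hh n ∣ 2 := by
            have := dvd_sub h0 h2
            rwa [show i - (i - 2) = (2 : ℤ) by ring] at this
          have := Int.le_of_dvd two_pos h5
          omega
      rw [key v hv fun u hu => (h u hu).1, key w hw fun u hu => (h u hu).2]
  · obtain ⟨n, x, y, z, d⟩ := exists_wrTriple hS
    obtain ⟨h₁, g₀, hg₀N, hg₀, hg₀C⟩ := d.six_of_no_index_two S hS hG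
    have hz : ∀ t : X, orderOf t = 2 → IsConj t (z : X) := fun t ht => by
      obtain ⟨a, ha, hta⟩ := exists_isConj_sylow S (k := 1) (by simpa using ht)
      have haz := d.isConj_a_z S hg₀N hg₀ hg₀C
      rcases d.invol_cases S a (by simpa using ha) with rfl | h | h
      exacts [hta.trans ((d.isConj_c_a S h₁).trans haz), hta.trans (h.trans haz), hta.trans h]
    have hnn : ¬ nn n ∣ TwoGroups.hw n := d.not_nn_dvd_hw
    refine exists_simple_of_one_class S (fun u v hu hv => (hz u hu).trans (hz v hv).symm) hG hO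
      ⟨el x y 1 0, by rw [d.closure_invol]; exact d.involSub_sup⟩
      ⟨el x y (TwoGroups.hw n) 0, z, d.orderOf_a S, d.oz, fun h => ?_⟩ fun v w hv hw h => ?_
    · have h' : Commute (el x y (TwoGroups.hw n) 0) (el x y 0 0 * z) := by rw [d.elz_zero]; exact h
      have := d.commute_el_elz.1 h'
      rw [sub_zero] at this
      exact hnn this
    · have key : ∀ v : (S : Subgroup X), orderOf v = 2 →
          (∀ u : (S : Subgroup X), orderOf u = 2 → v * u = u * v) →
            v = el x y (TwoGroups.hw n) (TwoGroups.hw n) := by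
        intro v hv hc
        have hv2 : v * v = 1 := by
          have h := pow_orderOf_eq_one v
          rwa [hv, sq] at h
        have ha := hc _ (d.orderOf_a S)
        have hcz := hc _ d.oz
        obtain ⟨p, q, rfl | rfl⟩ := d.eq_cases v
        · have hd : nn n ∣ p - q :=
            (d.commute_el_elz (c := 0) (e := 0)).1 (by rw [d.elz_zero]; exact hcz)
          rcases d.el_invol hv2 with h1 | h1 | h1 | h1
          · rw [h1, orderOf_one] at hv; omega
          · exfalso
            obtain ⟨i, j⟩ := d.el_inj.1 h1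
            apply hnn
            have := dvd_add (dvd_sub i j) hd
            rwa [show TwoGroups.hw n - p - (0 - q) + (p - q) = TwoGroups.hw n by ring] at this
          · exfalso
            obtain ⟨i, j⟩ := d.el_inj.1 h1
            apply hnn
            have := dvd_sub (dvd_sub j i) hd
            rwa [show TwoGroups.hw n - q - (0 - p) - (p - q) = TwoGroups.hw n by ring] at this
          · exact h1
        · exfalso
          have := d.commute_el_elz.1 (ha.symm : Commute (el x y (TwoGroups.hw n) 0) (el x y p q * z))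
          rw [sub_zero] at this
          exact hnn this
      rw [key v hv fun u hu => (h u hu).1, key w hw fun u hu => (h u hu).2]

/-- The same for `G/O(G)`. -/
theorem exists_simple_quotient_oddCore {G : Type*} [Group G] [Finite G] (S : Sylow 2 G)
    (hS : Cfsg.IsQuasiDihedral (S : Subgroup G) ∨ Cfsg.IsWreathed (S : Subgroup G))
    (hG : ∀ H : Subgroup G, H.index ≠ 2) :
    ∃ L : Subgroup (G ⧸ Cfsg.oddCore G),
      L.Normal ∧ Odd L.index ∧ IsSimpleGroup L ∧ ¬ IsMulCommutative L := by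
  haveI : Fact (Nat.Prime 2) := ⟨Nat.prime_two⟩
  let π := QuotientGroup.mk' (Cfsg.oddCore G)
  let S' : Sylow 2 (G ⧸ Cfsg.oddCore G) :=
    S.mapSurjective (f := π) (QuotientGroup.mk'_surjective _)
  have hinj : Function.Injective (π.subgroupMap (S : Subgroup G)) := by
    rw [injective_iff_map_eq_one]
    intro s hs
    have h1 : (s : G) ∈ Cfsg.oddCore G :=
      (QuotientGroup.eq_one_iff (N := Cfsg.oddCore G) (s : G)).1 (congrArg Subtype.val hs)
    have h4 := CfsgLib.PLocal.disjoint_of_isPGroup_of_coprime (p := 2) S.isPGroup'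
      (B := Cfsg.oddCore G) (CfsgLib.PLocal.coprime_card_pPrimeCore 2 G)
    exact Subtype.ext (mem_bot.1 (h4.le (mem_inf.2 ⟨s.2, h1⟩)))
  let e : (S : Subgroup G) ≃* (S' : Subgroup (G ⧸ Cfsg.oddCore G)) :=
    MulEquiv.ofBijective (π.subgroupMap (S : Subgroup G)) ⟨hinj, π.subgroupMap_surjective _⟩
  refine exists_simple_of_no_index_two S' ?_ (fun H hH => hG (H.comap π) ?_)
    (CfsgLib.PLocal.pPrimeCore_quotient_pPrimeCore_eq_bot 2 G)
  · rcases hS with hS | hS
    · obtain ⟨n, x, y, d⟩ := exists_sdPair hS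
      have d' := d.map e
      exact Or.inl ⟨n, d'.le, d'.card, e x, e y, d'.ox, d'.oy, d'.rel⟩
    · obtain ⟨n, x, y, z, d⟩ := exists_wrTriple hS
      have d' := d.map e
      exact Or.inr ⟨n, d'.le, d'.card, e x, e y, e z, d'.ox, d'.comm, d'.disj, d'.oz, d'.rel⟩
  · rw [index_comap_of_surjective _ (QuotientGroup.mk'_surjective _), hH]

end CfsgLib.TwoGroups
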