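import Cfsg.Agent.TwoGroups.DihedralFour
import Cfsg.Agent.Transfer.Alperin

/-!
Four-groups in a group with dihedral Sylow 2-subgroup.
-/

namespace CfsgLib.TwoGroups

open Subgroup
open DihedralGroup (r sr)

section Model

variable {m : ℕ} [NeZero m]

/-- The parity of an exponent. -/
def par (hm : 2 ∣ m) (i : ZMod m) : ZMod 2 := ZMod.castHom hm (ZMod 2) i

theorem exists_double_of_par {hm : 2 ∣ m} {i : ZMod m} (h : par hm i = 0) : ∃ j, i = j + j := by
  have h' : ((i.val : ℕ) : ZMod 2) = 0 := by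
    rw [← h, par]
    conv_rhs => rw [← ZMod.natCast_zmod_val i]
    rw [map_natCast]
  obtain ⟨j, hj⟩ := (ZMod.natCast_eq_zero_iff i.val 2).1 h'
  exact ⟨j, by rw [← ZMod.natCast_zmod_val i, hj, two_mul, Nat.cast_add]⟩

theorem par_eq_zero_or_one {hm : 2 ∣ m} (i : ZMod m) : par hm i = 0 ∨ par hm i = 1 := by
  generalize par hm i = e
  revert e; decide

theorem par_sub (hm : 2 ∣ m) (i j : ZMod m) : par hm (i - j) = par hm i - par hm j :=
  map_sub (ZMod.castHom hm (ZMod 2)) i j

theorem two_torsion_ne_zero (hm : 2 ∣ m) :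
    ((m / 2 : ℕ) : ZMod m) + ((m / 2 : ℕ) : ZMod m) = 0 ∧ ((m / 2 : ℕ) : ZMod m) ≠ 0 := by
  obtain ⟨k, hk⟩ := hm
  have hm0 := NeZero.ne m
  refine ⟨?_, fun h => ?_⟩
  · rw [← Nat.cast_add, ZMod.natCast_eq_zero_iff]; exact ⟨1, by omega⟩
  · have := Nat.le_of_dvd (by omega) ((ZMod.natCast_eq_zero_iff _ _).1 h); omega

theorem isKleinFour_centralizer_sr (hm : 2 ∣ m) (i : ZMod m) :
    IsKleinFour (centralizer ({sr i} : Set (DihedralGroup m))) := by
  obtain ⟨h2, h0⟩ := two_torsion_ne_zero (m := m) hm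
  obtain ⟨T, hT, ha, hb⟩ := exists_kleinFour (a := r ((m / 2 : ℕ) : ZMod m)) (b := sr i)
    (by rw [DihedralGroup.r_mul_r, h2, DihedralGroup.r_zero]) (DihedralGroup.sr_mul_self i)
    (by rw [DihedralGroup.r_mul_sr, DihedralGroup.sr_mul_r]; congr 1; linear_combination -h2)
    (fun h => h0 (by rw [DihedralGroup.one_def] at h; exact DihedralGroup.r.inj h))
    (fun h => nomatch (show sr i = r 0 from h)) (by simp)
  have hle : T ≤ centralizer ({sr i} : Set (DihedralGroup m)) := fun g hg =>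
    mem_centralizer_singleton_iff.2 (klein_mul_comm hT hg hb)
  suffices T = centralizer ({sr i} : Set (DihedralGroup m)) from this ▸ hT
  refine eq_of_le_of_card_ge hle ?_
  rw [hT.card_four]
  refine le_trans ?_ (ncard_centralizer_sr_le i)
  rw [← SetLike.coe_sort_coe, Nat.card_coe_set_eq]
  exact Set.ncard_le_ncard (fun g hg => mem_centralizer_singleton_iff.1 hg) (Set.toFinite _)

theorem kleinFour_eq_centralizer_sr (hm : 2 ∣ m) {T : Subgroup (DihedralGroup m)}
    (hT : IsKleinFour T) {i : ZMod m} (hi : sr i ∈ T) :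
    T = centralizer ({sr i} : Set (DihedralGroup m)) := by
  refine eq_of_le_of_card_ge
    (fun g hg => mem_centralizer_singleton_iff.2 (klein_mul_comm hT hg hi)) ?_
  rw [hT.card_four, (isKleinFour_centralizer_sr hm i).card_four]

theorem conj_r_sr (j i : ZMod m) : r j * sr i * (r j)⁻¹ = sr (i - (j + j)) := by
  rw [DihedralGroup.inv_r, DihedralGroup.r_mul_sr, DihedralGroup.sr_mul_r]
  congr 1; ring

theorem exists_conj_sr {hm : 2 ∣ m} {i i' : ZMod m} (h : par hm i = par hm i') :
    ∃ g : DihedralGroup m, g * sr i * g⁻¹ = sr i' := by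
  obtain ⟨j, hj⟩ := exists_double_of_par (hm := hm) (i := i - i') (by rw [par_sub, h, sub_self])
  exact ⟨r j, by rw [conj_r_sr]; congr 1; linear_combination hj⟩

theorem par_eq_of_commute (hm : 4 ∣ m) {i j : ZMod m} (h : Commute (sr i) (sr j)) :
    par (dvd_trans (by norm_num) hm) i = par (dvd_trans (by norm_num) hm) j := by
  rw [commute_iff_eq, DihedralGroup.sr_mul_sr, DihedralGroup.sr_mul_sr] at h
  have h2 : (i - j) + (i - j) = 0 := by linear_combination -(DihedralGroup.r.inj h)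
  rw [← ZMod.natCast_zmod_val (i - j), ← Nat.cast_add, ZMod.natCast_eq_zero_iff] at h2
  rw [← sub_eq_zero, ← par_sub, par, ← ZMod.natCast_zmod_val (i - j), map_natCast,
    ZMod.natCast_eq_zero_iff]
  obtain ⟨c, hc⟩ := h2
  obtain ⟨d, hd⟩ := hm
  exact ⟨c * d, mul_left_cancel₀ (two_ne_zero (α := ℕ))
    (by linear_combination hc + c * hd)⟩

theorem par_conj (hm : 2 ∣ m) (g : DihedralGroup m) (i k : ZMod m)
    (h : g * sr i * g⁻¹ = sr k) : par hm k = par hm i := by
  have hd : ∀ e : ZMod 2, e + e = 0 := by decide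
  have key : ∀ j : ZMod m, par hm (i - (j + j)) = par hm i := fun j => by
    rw [par_sub, show par hm (j + j) = par hm j + par hm j from map_add _ j j, hd, sub_zero]
  rcases g with j | j
  · rw [conj_r_sr] at h
    rw [← DihedralGroup.sr.inj h, key]
  · rw [DihedralGroup.inv_sr, DihedralGroup.sr_mul_sr, DihedralGroup.r_mul_sr] at h
    rw [← DihedralGroup.sr.inj h, show j - (i - j) = -(i - (j + j)) by ring,
      show par hm (-(i - (j + j))) = -par hm (i - (j + j)) from map_neg _ _, key]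
    exact ZMod.neg_eq_self_mod_two _

/-- Reflections of both parities generate. -/
theorem eq_top_of_par_ne {k : ℕ} (hk : m = 2 ^ k) (hm : 2 ∣ m) {D : Subgroup (DihedralGroup m)}
    {i j : ZMod m} (hi : sr i ∈ D) (hj : sr j ∈ D) (hne : par hm i ≠ par hm j) : D = ⊤ := by
  have hr : r (j - i) ∈ D := by rw [← DihedralGroup.sr_mul_sr]; exact mul_mem hi hj
  have hodd : ¬ 2 ∣ (j - i).val := fun h => hne (by
    have h' : par hm (j - i) = 0 := by
      rw [par, ← ZMod.natCast_zmod_val (j - i), map_natCast, ZMod.natCast_eq_zero_iff]; exact h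
    rw [par_sub, sub_eq_zero] at h'
    exact h'.symm)
  have hcop : (j - i).val.Coprime m := by
    have h2 := Nat.Coprime.pow_right k (Nat.prime_two.coprime_iff_not_dvd.2 hodd).symm
    rwa [← hk] at h2
  obtain ⟨u, hu⟩ : ∃ u : (ZMod m)ˣ, (u : ZMod m) = j - i :=
    ⟨ZMod.unitOfCoprime _ hcop, by rw [ZMod.coe_unitOfCoprime, ZMod.natCast_zmod_val]⟩
  have hall : ∀ a : ZMod m, r a ∈ D := fun a => by
    have := pow_mem hr (a * ((u⁻¹ : (ZMod m)ˣ) : ZMod m)).val
    rwa [DihedralGroup.r_pow, ← hu, ZMod.natCast_zmod_val, mul_left_comm, Units.mul_inv,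
      mul_one] at this
  refine eq_top_iff.2 fun g _ => ?_
  rcases g with a | a
  · exact hall a
  · have := mul_mem hi (hall (a - i))
    rwa [DihedralGroup.sr_mul_r, add_sub_cancel] at this

end Model

variable {X : Type*} [Group X]

/-- A four-group of the Sylow subgroup has parity `ε`. -/
def HasPar {S : Subgroup X} {m : ℕ} (eS : S ≃* DihedralGroup m) (hm : 2 ∣ m) (V : Subgroup X)
    (ε : ZMod 2) : Prop :=
  IsKleinFour V ∧ V ≤ S ∧ ∃ i : ZMod m, par hm i = ε ∧ ((eS.symm (sr i) : S) : X) ∈ V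

variable {S : Sylow 2 X} {m : ℕ} [NeZero m] {eS : (S : Subgroup X) ≃* DihedralGroup m} {hm : 2 ∣ m}

theorem exists_hasPar {V : Subgroup X} (hV : IsKleinFour V) (hVS : V ≤ (S : Subgroup X)) :
    ∃ ε, HasPar eS hm V ε := by
  have hT : IsKleinFour ((V.subgroupOf (S : Subgroup X)).map eS.toMonoidHom) := by
    refine isKleinFour_iff.2 ⟨?_, ?_⟩
    · rw [card_map_of_injective eS.injective,
        Nat.card_congr (subgroupOfEquivOfLe hVS).toEquiv]
      exact hV.card_four
    · rintro _ ⟨v, hv, rfl⟩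
      rw [← map_mul, ← map_one eS.toMonoidHom]
      exact congrArg _ (Subtype.ext ((isKleinFour_iff.1 hV).2 _ (mem_subgroupOf.1 hv)))
  obtain ⟨i, v, hv, hvi⟩ := exists_sr_mem_kleinFour hT
  refine ⟨par hm i, hV, hVS, i, rfl, ?_⟩
  rw [← show eS v = sr i from hvi, eS.symm_apply_apply]
  exact mem_subgroupOf.1 hv

theorem hasPar_centralizer (i : ZMod m) :
    HasPar eS hm (((centralizer ({sr i} : Set (DihedralGroup m))).map eS.symm.toMonoidHom).map
      (S : Subgroup X).subtype) (par hm i) := by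
  refine ⟨isKleinFour_iff.2 ⟨?_, ?_⟩, map_subtype_le _, i, rfl, ?_⟩
  · rw [card_map_of_injective (Subgroup.subtype_injective _), card_map_of_injective
      eS.symm.injective]
    exact (isKleinFour_centralizer_sr hm i).card_four
  · rintro _ ⟨_, ⟨v, hv, rfl⟩, rfl⟩
    rw [← map_mul, ← map_mul, (isKleinFour_iff.1 (isKleinFour_centralizer_sr hm i)).2 v hv,
      map_one, map_one]
  · exact mem_map.2 ⟨_, mem_map.2 ⟨sr i, mem_centralizer_singleton_iff.2 rfl, rfl⟩, rfl⟩

/-- Four-groups of the same parity are conjugate in the Sylow subgroup. -/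
theorem HasPar.exists_conj {U V : Subgroup X} {ε : ZMod 2} (hU : HasPar eS hm U ε)
    (hV : HasPar eS hm V ε) :
    ∃ s ∈ (S : Subgroup X), U.map (MulAut.conj s).toMonoidHom = V := by
  haveI : Finite (DihedralGroup m) := inferInstance
  obtain ⟨hU, hUS, i, hi, hiU⟩ := hU
  obtain ⟨hV, hVS, j, hj, hjV⟩ := hV
  obtain ⟨g, hg⟩ := exists_conj_sr (hm := hm) (hi.trans hj.symm)
  refine ⟨_, (eS.symm g).2, ?_⟩
  haveI : Finite V := Nat.finite_of_card_ne_zero (by rw [hV.card_four]; norm_num)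
  refine eq_of_le_of_card_ge ?_ (by
    rw [card_map_of_injective (MulAut.conj _).injective, hU.card_four, hV.card_four])
  rintro _ ⟨u, hu, rfl⟩
  have hc : Commute (eS ⟨u, hUS hu⟩) (sr i) := by
    rw [← eS.apply_symm_apply (sr i)]
    exact (show Commute (⟨u, hUS hu⟩ : (S : Subgroup X)) (eS.symm (sr i)) from
      Subtype.ext (klein_mul_comm hU hu hiU)).map eS
  have hc' : g * eS ⟨u, hUS hu⟩ * g⁻¹ ∈ centralizer ({sr j} : Set (DihedralGroup m)) := by
    rw [mem_centralizer_singleton_iff, ← hg]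
    calc g * eS ⟨u, hUS hu⟩ * g⁻¹ * (g * sr i * g⁻¹) = g * (eS ⟨u, hUS hu⟩ * sr i) * g⁻¹ := by group
      _ = g * sr i * g⁻¹ * (g * eS ⟨u, hUS hu⟩ * g⁻¹) := by rw [hc.eq]; group
  have hT : IsKleinFour ((V.subgroupOf (S : Subgroup X)).map eS.toMonoidHom) := by
    refine isKleinFour_iff.2 ⟨?_, ?_⟩
    · rw [card_map_of_injective eS.injective,
        Nat.card_congr (subgroupOfEquivOfLe hVS).toEquiv]
      exact hV.card_four
    · rintro _ ⟨v, hv, rfl⟩
      rw [← map_mul, ← map_one eS.toMonoidHom]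
      exact congrArg _ (Subtype.ext ((isKleinFour_iff.1 hV).2 _ (mem_subgroupOf.1 hv)))
  rw [← kleinFour_eq_centralizer_sr hm hT
    ⟨eS.symm (sr j), mem_subgroupOf.2 hjV, eS.apply_symm_apply _⟩] at hc'
  obtain ⟨v, hv, hve⟩ := hc'
  have hve' : v = eS.symm g * ⟨u, hUS hu⟩ * (eS.symm g)⁻¹ := eS.injective (by
    rw [map_mul, map_mul, map_inv, eS.apply_symm_apply]; exact hve)
  subst hve'
  exact mem_subgroupOf.1 hv

/-- For `|S| ≥ 8` the parity is unique. -/
theorem HasPar.unique (h4 : 4 ∣ m) {V : Subgroup X} {ε ε' : ZMod 2} (h : HasPar eS hm V ε)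
    (h' : HasPar eS hm V ε') : ε = ε' := by
  obtain ⟨hV, -, i, hi, hiV⟩ := h
  obtain ⟨-, -, j, hj, hjV⟩ := h'
  rw [← hi, ← hj]
  refine par_eq_of_commute h4 ?_
  have := (show Commute (eS.symm (sr i)) (eS.symm (sr j)) from
    Subtype.ext (klein_mul_comm hV hiV hjV)).map eS
  rwa [eS.apply_symm_apply, eS.apply_symm_apply] at this

theorem HasPar.conj_mem {V : Subgroup X} {ε : ZMod 2} (h : HasPar eS hm V ε) {s : X}
    (hs : s ∈ (S : Subgroup X)) : HasPar eS hm (V.map (MulAut.conj s).toMonoidHom) ε := by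
  obtain ⟨hV, hVS, i, hi, hiV⟩ := h
  refine ⟨isKleinFour_iff.2 ⟨?_, ?_⟩, ?_, ?_⟩
  · rw [card_map_of_injective (MulAut.conj s).injective]; exact hV.card_four
  · rintro _ ⟨v, hv, rfl⟩
    rw [← map_mul, (isKleinFour_iff.1 hV).2 v hv, map_one]
  · rintro _ ⟨v, hv, rfl⟩
    exact mul_mem (mul_mem hs (hVS hv)) (inv_mem hs)
  have key : ∃ k, eS ⟨s, hs⟩ * sr i * (eS ⟨s, hs⟩)⁻¹ = sr k := by
    generalize eS ⟨s, hs⟩ = g
    rcases g with a | a
    · exact ⟨_, conj_r_sr a i⟩
    · exact ⟨a - (i - a), by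
        rw [DihedralGroup.inv_sr, DihedralGroup.sr_mul_sr, DihedralGroup.r_mul_sr]⟩
  obtain ⟨k, hk⟩ := key
  refine ⟨k, (par_conj hm _ _ _ hk).trans hi, ⟨_, hiV, ?_⟩⟩
  have : eS.symm (sr k) = ⟨s, hs⟩ * eS.symm (sr i) * ⟨s, hs⟩⁻¹ := eS.injective (by
    rw [eS.apply_symm_apply, map_mul, map_mul, map_inv, eS.apply_symm_apply, hk])
  rw [this]
  rfl

theorem map_conj_map_conj' (V : Subgroup X) (a b : X) :
    (V.map (MulAut.conj b).toMonoidHom).map (MulAut.conj a).toMonoidHom =
      V.map (MulAut.conj (a * b)).toMonoidHom := by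
  rw [Subgroup.map_map]
  congr 1
  ext v
  simp [mul_assoc]

theorem map_conj_one (V : Subgroup X) : V.map (MulAut.conj (1 : X)).toMonoidHom = V := by
  ext v; simp

theorem eq_of_hasPar_normalizer [Finite X] (h4 : 4 ∣ m) {x : X}
    (hx : x ∈ normalizer ((S : Subgroup X) : Set X)) {V : Subgroup X} {ε ε' : ZMod 2}
    (h : HasPar eS hm V ε) (h' : HasPar eS hm (V.map (MulAut.conj x).toMonoidHom) ε') :
    ε = ε' := by
  haveI : Fact (Nat.Prime 2) := ⟨Nat.prime_two⟩
  obtain ⟨k, l, hl, hord⟩ := Nat.exists_eq_two_pow_mul_odd (orderOf_pos x).ne'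
  -- the 2-part lies in `S`
  have h2 : x ^ l ∈ (S : Subgroup X) := by
    have hP : IsPGroup 2 (zpowers (x ^ l)) := by
      obtain ⟨j, -, hj⟩ := (Nat.dvd_prime_pow Nat.prime_two).1
        (orderOf_dvd_of_pow_eq_one (show (x ^ l) ^ 2 ^ k = 1 by
          rw [← pow_mul, mul_comm, ← hord, pow_orderOf_eq_one]))
      exact IsPGroup.of_card (by rw [Nat.card_zpowers, hj])
    have := S.3 (hP.to_sup_of_normal_right' S.2 (zpowers_le.2 (pow_mem hx l))) le_sup_right
    rw [← this]
    exact mem_sup_left (mem_zpowers _)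
  -- an element of odd order in the normalizer preserves the parities
  have hflip : ∀ u ∈ normalizer ((S : Subgroup X) : Set X), Odd (orderOf u) →
      ∀ {W : Subgroup X} {a b : ZMod 2}, HasPar eS hm W a →
        HasPar eS hm (W.map (MulAut.conj u).toMonoidHom) b → a = b := by
    intro u hu hodd W a b hW hW'
    by_contra hne
    have himage : ∀ {W : Subgroup X} {c : ZMod 2}, HasPar eS hm W c →
        ∃ d, HasPar eS hm (W.map (MulAut.conj u).toMonoidHom) d := by
      intro W c hW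
      refine exists_hasPar ?_ ?_
      · refine isKleinFour_iff.2 ⟨?_, ?_⟩
        · rw [card_map_of_injective (MulAut.conj u).injective]; exact hW.1.card_four
        · rintro _ ⟨v, hv, rfl⟩
          rw [← map_mul, (isKleinFour_iff.1 hW.1).2 v hv, map_one]
      · rintro _ ⟨v, hv, rfl⟩
        exact (mem_normalizer_iff.1 hu v).1 (hW.2.1 hv)
    have hsame : ∀ {W W' : Subgroup X} {c d : ZMod 2}, HasPar eS hm W c → HasPar eS hm W' c →
        HasPar eS hm (W.map (MulAut.conj u).toMonoidHom) d →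
        HasPar eS hm (W'.map (MulAut.conj u).toMonoidHom) d := by
      intro W W' c d hW hW' hd
      obtain ⟨s, hs, rfl⟩ := hW.exists_conj hW'
      have := hd.conj_mem (s := u * s * u⁻¹) ((mem_normalizer_iff.1 hu s).1 hs)
      rwa [map_conj_map_conj', inv_mul_cancel_right, ← map_conj_map_conj'] at this
    have htwo : ∀ c d e : ZMod 2, c ≠ d → e ≠ d → e = c := by decide
    have hinj : ∀ {W : Subgroup X} {d : ZMod 2}, HasPar eS hm W b →
        HasPar eS hm (W.map (MulAut.conj u).toMonoidHom) d → d = a := by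
      intro V' d hV' hd
      refine htwo a b d hne fun hdb => ?_
      subst hdb
      obtain ⟨s, hs, he⟩ := hd.exists_conj hW'
      -- pull the conjugation back through `u`
      have hs' : u⁻¹ * s * u ∈ (S : Subgroup X) := (mem_normalizer_iff''.1 hu s).1 hs
      have h1 := hV'.conj_mem hs'
      rw [map_conj_map_conj'] at he
      have h2' : V'.map (MulAut.conj (u⁻¹ * s * u)).toMonoidHom = W := by
        rw [show u⁻¹ * s * u = u⁻¹ * (s * u) by group, ← map_conj_map_conj' V' u⁻¹, he,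
          map_conj_map_conj', inv_mul_cancel]
        ext v; simp
      rw [h2'] at h1
      exact hne (hW.unique h4 h1)
    have hiter : ∀ j : ℕ, HasPar eS hm (W.map (MulAut.conj (u ^ j)).toMonoidHom)
        (if Even j then a else b) := by
      intro j
      induction j with
      | zero => rw [pow_zero, map_conj_one, if_pos Even.zero]; exact hW
      | succ j ih =>
        obtain ⟨d, hd⟩ := himage ih
        rw [map_conj_map_conj', ← pow_succ'] at hd
        convert hd using 1
        by_cases hj : Even j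
        · rw [if_pos hj] at ih
          rw [if_neg (by simp [Nat.even_add_one, hj])]
          have := hsame hW ih hW'
          rw [map_conj_map_conj', ← pow_succ'] at this
          exact this.unique h4 hd
        · rw [if_neg hj] at ih
          rw [if_pos (by simp [Nat.even_add_one, hj])]
          rw [pow_succ', ← map_conj_map_conj'] at hd
          exact (hinj ih hd).symm
    have := hiter (orderOf u)
    rw [pow_orderOf_eq_one, if_neg (Nat.not_even_iff_odd.2 hodd)] at this
    rw [map_conj_one] at this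
    exact hne (hW.unique h4 this)
  have hcop : Nat.Coprime l (2 ^ k) := Nat.Coprime.pow_right _ (Nat.coprime_two_right.2 hl)
  have hx' : x = (x ^ l) ^ (Nat.gcdA l (2 ^ k)) * (x ^ 2 ^ k) ^ (Nat.gcdB l (2 ^ k)) := by
    rw [← zpow_natCast x l, ← zpow_natCast x (2 ^ k), ← zpow_mul, ← zpow_mul, ← zpow_add,
      ← Nat.gcd_eq_gcd_ab, hcop.gcd_eq_one, Nat.cast_one, zpow_one]
  set s := (x ^ l) ^ (Nat.gcdA l (2 ^ k)) with hs
  set u := (x ^ 2 ^ k) ^ (Nat.gcdB l (2 ^ k)) with hu
  have hsS : s ∈ (S : Subgroup X) := zpow_mem h2 _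
  have huo : Odd (orderOf u) := by
    refine Odd.of_dvd_nat hl (orderOf_dvd_of_pow_eq_one ?_)
    rw [hu, ← zpow_natCast, ← zpow_mul, mul_comm, zpow_mul, zpow_natCast, ← pow_mul, ← hord,
      pow_orderOf_eq_one, one_zpow]
  have hus : V.map (MulAut.conj u).toMonoidHom =
      (V.map (MulAut.conj x).toMonoidHom).map (MulAut.conj s⁻¹).toMonoidHom := by
    rw [map_conj_map_conj', hx', inv_mul_cancel_left]
  exact hflip u (zpow_mem (pow_mem hx _) _) huo h (hus ▸ h'.conj_mem (inv_mem hsS))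

/-- Conjugate four-groups of the Sylow subgroup have the same parity. -/
theorem HasPar.eq_of_conj [Finite X] (h4 : 4 ∣ m) {x : X} {V : Subgroup X} {ε ε' : ZMod 2}
    (h : HasPar eS hm V ε) (h' : HasPar eS hm (V.map (MulAut.conj x).toMonoidHom) ε') :
    ε = ε' := by
  haveI : Fact (Nat.Prime 2) := ⟨Nat.prime_two⟩
  obtain ⟨k, hk⟩ : ∃ k, m = 2 ^ k := by
    obtain ⟨k, hk⟩ := S.isPGroup'.exists_card_eq
    rw [Nat.card_congr eS.toEquiv, DihedralGroup.nat_card] at hk
    obtain ⟨j, -, hj⟩ := (Nat.dvd_prime_pow Nat.prime_two).1 (Dvd.intro_left 2 hk)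
    exact ⟨j, hj⟩
  have hchain : ∀ {A : Set X} {g : X}, CfsgLib.Transfer.FusionChain S A g →
      ∀ {W : Subgroup X} {c : ZMod 2}, (W : Set X) ⊆ A → HasPar eS hm W c →
        HasPar eS hm (W.map (MulAut.conj g⁻¹).toMonoidHom) c := by
    intro A g hg
    induction hg with
    | nil A =>
      intro W c _ hW
      rw [inv_one, map_conj_one]; exact hW
    | cons A Q y g hA ht hy _ ih =>
      intro W c hWA hW
      set W' := W.map (MulAut.conj y⁻¹).toMonoidHom with hW'def
      have hWD : ∀ v ∈ W, v ∈ (S : Subgroup X) ⊓ (Q : Subgroup X) := fun v hv => hA (hWA hv)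
      have hW'D : W' ≤ (S : Subgroup X) ⊓ (Q : Subgroup X) := by
        rintro _ ⟨v, hv, rfl⟩
        exact (mem_normalizer_iff.1 (inv_mem hy) v).1 (hWD v hv)
      obtain ⟨d, hd⟩ := exists_hasPar (eS := eS) (hm := hm) (V := W') (isKleinFour_iff.2 ⟨by
          rw [hW'def, card_map_of_injective (MulAut.conj y⁻¹).injective]; exact hW.1.card_four, by
          rintro _ ⟨v, hv, rfl⟩
          rw [← map_mul, (isKleinFour_iff.1 hW.1).2 v hv, map_one]⟩) (hW'D.trans inf_le_left)
      have hcd : c = d := by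
        by_cases hDS : (S : Subgroup X) ⊓ (Q : Subgroup X) = (S : Subgroup X)
        · rw [hDS] at hy
          exact eq_of_hasPar_normalizer h4 (inv_mem hy) hW hd
        · by_contra hne
          obtain ⟨-, -, i, hi, hiW⟩ := hW
          obtain ⟨-, -, j, hj, hjW⟩ := hd
          apply hDS
          have htop := eq_top_of_par_ne hk hm
            (D := (((S : Subgroup X) ⊓ (Q : Subgroup X)).subgroupOf (S : Subgroup X)).map
              eS.toMonoidHom) (i := i) (j := j)
            ⟨eS.symm (sr i), mem_subgroupOf.2 (hWD _ hiW), eS.apply_symm_apply _⟩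
            ⟨eS.symm (sr j), mem_subgroupOf.2 (hW'D hjW), eS.apply_symm_apply _⟩
            (by rw [hi, hj]; exact hne)
          refine le_antisymm inf_le_left fun v hv => ?_
          obtain ⟨w, hw, hwe⟩ := (htop.symm ▸ mem_top (eS ⟨v, hv⟩) :
            eS ⟨v, hv⟩ ∈ (((S : Subgroup X) ⊓ (Q : Subgroup X)).subgroupOf (S : Subgroup X)).map
              eS.toMonoidHom)
          rw [eS.injective hwe] at hw
          exact mem_subgroupOf.1 hw
      subst hcd
      have := ih (W := W') (c := c) (by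
        rintro _ ⟨v, hv, rfl⟩
        exact ⟨v, hWA hv, by simp⟩) hd
      rwa [hW'def, map_conj_map_conj', ← mul_inv_rev] at this
  obtain ⟨g, hg, hgS⟩ := CfsgLib.Transfer.exists_fusionChain_smul S (x⁻¹ • S)
  have h1 := hchain hg (W := V) (c := ε) (fun v hv => mem_inf.2 ⟨h.2.1 hv, by
    rw [CfsgLib.Transfer.mem_smul_iff, inv_inv]
    exact h'.2.1 ⟨v, hv, rfl⟩⟩) h
  have hy : x * g ∈ normalizer ((S : Subgroup X) : Set X) := by
    refine Sylow.smul_eq_iff_mem_normalizer.1 ?_
    have : g⁻¹ • x⁻¹ • S = S := hgS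
    rw [smul_smul, ← mul_inv_rev, inv_smul_eq_iff] at this
    exact this.symm
  refine eq_of_hasPar_normalizer h4 hy h1 ?_
  rw [map_conj_map_conj', mul_inv_cancel_right]
  exact h'

end CfsgLib.TwoGroups
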