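import Cfsg.Agent.TwoGroups.FourGroupMain

/-!
MacWilliams' four-group theorem: the index bound.
-/

set_option autoImplicit false
set_option linter.unusedSectionVars false

namespace CfsgLib.TwoGroups.FourGroup

open Subgroup SqIndex Omega2Central

universe u

variable {G : Type u} [Group G] [Finite G]

theorem conjU_add : ∀ X Y : Mat, conjU (X + Y) = conjU X + conjU Y := by decide

theorem card_mat : Fintype.card Mat = 16 := rfl

namespace Base

variable (bd : Base G)

theorem relIndex_eq_four {D K : Subgroup G} (hD : D ≤ bd.C) (hK : ∀ x ∈ D, x * x ∈ K)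
    (h3 : 3 ≤ K.relIndex D) : K.relIndex D = 4 := by
  have : Fact (Nat.Prime 2) := ⟨Nat.prime_two⟩
  obtain ⟨j, hj⟩ := (bd.two.to_subgroup D).exists_card_eq
  have hd : K.relIndex D ∣ 2 ^ j := by
    rw [← hj, Subgroup.relIndex]; exact index_dvd_card _
  obtain ⟨i, -, hi⟩ := (Nat.dvd_prime_pow Nat.prime_two).1 hd
  have := bd.relIndex_le hD hK
  rw [hi] at this h3 ⊢
  have : i ≤ 2 := (Nat.pow_le_pow_iff_right (by norm_num : 1 < 2)).1 this
  interval_cases i <;> simp_all

theorem split (H : Subgroup G) :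
    (sqSub H).relIndex H ≤ ((sqSub H).map (QuotientGroup.mk' bd.C)).relIndex (H.map (QuotientGroup.mk' bd.C)) * 4 := by
  rw [relIndex_eq_mul (QuotientGroup.mk' bd.C) (sqSub_le H), QuotientGroup.ker_mk']
  exact Nat.mul_le_mul_left _ (bd.relIndex_le inf_le_right fun x hx => ⟨sq_mem hx.1, mul_mem hx.2 hx.2⟩)

theorem relIndex_map_dvd (H : Subgroup G) :
    ((sqSub H).map (QuotientGroup.mk' bd.C)).relIndex (H.map (QuotientGroup.mk' bd.C)) ∣ bd.C.index :=
  (Dvd.intro_left _ (card_mul_relIndex (map_mono (sqSub_le H)))).trans (card_subgroup_dvd_card _)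

theorem bound_small (hSq : Nat.card bd.Sq ≤ 2) (H : Subgroup G) : (sqSub H).relIndex H ≤ 16 := by
  classical
  refine (bd.split H).trans ?_
  set a := ((sqSub H).map (QuotientGroup.mk' bd.C)).relIndex (H.map (QuotientGroup.mk' bd.C)) with ha
  suffices a ≤ 4 by omega
  have hdvd : a ∣ bd.C.index := bd.relIndex_map_dvd H
  have hidx := bd.C_index
  have hrel := bd.C_relIndex_N
  have hpos : 0 < bd.C.index := Nat.pos_of_ne_zero index_ne_zero_of_finite
  have hale := Nat.le_of_dvd hpos hdvd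
  have hWle := bd.card_W
  have hpow : Nat.card bd.W ^ (Nat.card bd.Sq - 1) ≤ Nat.card bd.W :=
    (Nat.pow_le_pow_right Nat.card_pos (by omega : Nat.card bd.Sq - 1 ≤ 1)).trans_eq (pow_one _)
  rcases bd.N_index with hN | hN
  · rw [hN, mul_one] at hidx; omega
  rw [hN] at hidx
  by_contra hlt
  push Not at hlt
  have hrel3 : 3 ≤ bd.C.relIndex bd.N := by omega
  have hSq2 : Nat.card bd.Sq = 2 := by
    rcases Nat.lt_or_ge (Nat.card bd.Sq) 2 with h | h
    · rw [show Nat.card bd.Sq - 1 = 0 by omega, pow_zero] at hrel; omega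
    · omega
  -- the quotient by `C` is elementary abelian
  have hmul := card_mul_relIndex (map_mono (f := QuotientGroup.mk' bd.C) (sqSub_le H))
  have hHle := Nat.le_of_dvd Nat.card_pos (card_subgroup_dvd_card (H.map (QuotientGroup.mk' bd.C)))
  change _ ≤ bd.C.index at hHle
  rw [← ha] at hmul
  have hKbot : (sqSub H).map (QuotientGroup.mk' bd.C) = ⊥ := by
    refine eq_bot_of_card_le _ ?_
    by_contra hK
    nlinarith
  rw [hKbot, card_bot, one_mul] at hmul
  have hHtop : H.map (QuotientGroup.mk' bd.C) = ⊤ := by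
    refine eq_top_of_card_eq _ (le_antisymm hHle ?_)
    obtain ⟨c, hc⟩ := card_subgroup_dvd_card (H.map (QuotientGroup.mk' bd.C))
    change bd.C.index ≤ _
    change bd.C.index = _ at hc
    rw [← hmul] at hc ⊢
    rcases Nat.lt_or_ge c 2 with h | h
    · interval_cases c <;> simp_all
    · nlinarith
  have hsq : ∀ x : G, x * x ∈ bd.C := by
    intro x
    obtain ⟨h, hh, he⟩ : (x : G ⧸ bd.C) ∈ H.map (QuotientGroup.mk' bd.C) := hHtop ▸ mem_top _
    have h1 : ((h * h : G) : G ⧸ bd.C) ∈ (sqSub H).map (QuotientGroup.mk' bd.C) := ⟨_, sq_mem hh, rfl⟩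
    rw [hKbot, mem_bot, QuotientGroup.mk_mul] at h1
    rw [← QuotientGroup.eq_one_iff, QuotientGroup.mk_mul, ← he]
    exact h1
  obtain ⟨t, ht⟩ : ∃ t, t ∉ bd.N := by
    by_contra hno
    push Not at hno
    rw [show bd.N = ⊤ from eq_top_iff.2 fun x _ => hno x, index_top] at hN
    omega
  have hW1 : Nat.card bd.W ≠ 1 := fun e => by rw [e, one_pow] at hrel; omega
  obtain ⟨z, hz, hz1, hzc⟩ := exists_central (S := bd.W) hW1 bd.two
  obtain ⟨q, hq1⟩ : ∃ q : bd.Sq, q ≠ 1 := by
    have : Nontrivial bd.Sq := Finite.one_lt_card_iff_nontrivial.1 (by omega)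
    exact exists_ne 1
  have hquniq : ∀ q' : bd.Sq, q' ≠ 1 → q' = q := by
    intro q' hq'
    by_contra hne
    let : Fintype bd.Sq := Fintype.ofFinite _
    have := Finset.card_le_univ ({1, q, q'} : Finset bd.Sq)
    rw [Finset.card_insert_of_notMem (by simp [hq1.symm, Ne.symm hq']),
      Finset.card_insert_of_notMem (by simp [Ne.symm hne]), Finset.card_singleton,
      ← Nat.card_eq_fintype_card] at this
    omega
  set a₀ := bd.root q with ha₀
  have ha₀A := bd.root_mem q
  -- some element of `N` moves the root outside `⟨z⟩`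
  obtain ⟨g, hg, hgv1, hgvz⟩ : ∃ g ∈ bd.N, a₀⁻¹ * (g * a₀ * g⁻¹) ≠ 1 ∧ a₀⁻¹ * (g * a₀ * g⁻¹) ≠ z := by
    by_contra hno
    push Not at hno
    have h2 : bd.C.relIndex bd.N ≤ 2 := by
      refine le_trans (Nat.card_le_card_of_injective
        (fun x : bd.N ⧸ bd.C.subgroupOf bd.N => decide (a₀⁻¹ * ((x.out : G) * a₀ * (x.out : G)⁻¹) = 1))
        fun x y e => ?_) (by simp)
      rw [← QuotientGroup.out_eq' x, ← QuotientGroup.out_eq' y]
      refine QuotientGroup.eq.2 (bd.mem_C_of_shift (funext fun r => Subtype.ext ?_))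
      obtain ⟨r, hr⟩ := r
      have hrq := hquniq r hr
      subst hrq
      show a₀⁻¹ * ((x.out : G) * a₀ * (x.out : G)⁻¹) = a₀⁻¹ * ((y.out : G) * a₀ * (y.out : G)⁻¹)
      by_cases hx : a₀⁻¹ * ((x.out : G) * a₀ * (x.out : G)⁻¹) = 1
      · rw [hx, (decide_eq_decide.1 e).1 hx]
      · rw [hno _ x.out.2 hx, hno _ y.out.2 fun hy => hx ((decide_eq_decide.1 e).2 hy)]
    omega
  set w₀ := a₀⁻¹ * (g * a₀ * g⁻¹) with hw₀
  have hw₀W : w₀ ∈ bd.W := bd.comm_mem_W hg ha₀A
  have hqc : t * (q : G) * t⁻¹ = q := by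
    refine congrArg Subtype.val (hquniq ⟨_, (inferInstance : bd.Sq.Normal).conj_mem _ q.2 t⟩ ?_)
    intro e
    exact hq1 (Subtype.ext (conj_eq_one_iff.1 (congrArg Subtype.val e)))
  set w₁ := a₀⁻¹ * (t * a₀ * t⁻¹) with hw₁
  have hw₁W : w₁ ∈ bd.W := by
    refine bd.sq_inj' (bd.A_le_C ha₀A) (bd.A_le_C (bd.hn.conj_mem _ ha₀A t)) ?_
    rw [conj_mul, bd.root_sq q, hqc]
  set y := t * g * t⁻¹ with hy
  have hyg : y * g⁻¹ ∈ bd.C :=
    (sqSub_le_of fun x _ => hsq x : sqSub (⊤ : Subgroup G) ≤ bd.C) (commutator_mem (mem_top t) (mem_top g))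
  have e1 : y * (a₀ * w₁) * y⁻¹ = a₀ * w₁ * (t * w₀ * t⁻¹) := by
    have hga : g * a₀ * g⁻¹ = a₀ * w₀ := by rw [hw₀, mul_inv_cancel_left]
    rw [hw₁, mul_inv_cancel_left, show t * a₀ * t⁻¹ * (t * w₀ * t⁻¹) = t * (a₀ * w₀) * t⁻¹ by group,
      ← hga, hy]
    group
  have e2 : y * (a₀ * w₁) * y⁻¹ = a₀ * w₁ * w₀ := by
    have hA : a₀ * w₁ * w₀ ∈ bd.A := mul_mem (mul_mem ha₀A hw₁W.1) hw₀W.1
    have hgg : g * (a₀ * w₁) * g⁻¹ = a₀ * w₁ * w₀ := by
      rw [← conj_mul, bd.mem_N hg hw₁W, mul_inv_cancel_right, ← mul_inv_cancel_left a₀ (g * a₀ * g⁻¹),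
        ← hw₀, mul_assoc, bd.W_comm hw₀W hw₁W.1, ← mul_assoc]
    calc y * (a₀ * w₁) * y⁻¹ = (y * g⁻¹) * (g * (a₀ * w₁) * g⁻¹) * (y * g⁻¹)⁻¹ := by group
      _ = a₀ * w₁ * w₀ := by rw [hgg, ← bd.comm_C hyg hA, mul_inv_cancel_right]
  have hfix : t * w₀ * t⁻¹ = w₀ := mul_left_cancel (e1.symm.trans e2)
  refine ht (mem_centralizer_iff.2 fun w hw => ?_)
  have hgw : t * w * t⁻¹ = w := by
    rcases bd.card_le_two_cases hz hz1 hw₀W hgv1 hgvz hw with rfl | rfl | rfl | rfl
    · group
    · exact hzc t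
    · exact hfix
    · rw [← conj_mul, hzc, hfix]
  calc w * t = t * w * t⁻¹ * t := by rw [hgw]
    _ = t * w := by group

namespace Coord

variable {bd} (co : Coord bd)

open scoped Classical in
/-- The matrices occurring in a subgroup of `N`. -/
noncomputable def mats (H : Subgroup G) : Finset Mat := Finset.univ.filter fun X => ∃ h ∈ H, co.Img h X

theorem mem_mats {H : Subgroup G} {X : Mat} : X ∈ co.mats H ↔ ∃ h ∈ H, co.Img h X := by
  classical
  simp [mats]

theorem mats_add {H : Subgroup G} (hH : H ≤ bd.N) {X Y : Mat} (hX : X ∈ co.mats H) (hY : Y ∈ co.mats H) :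
    X + Y ∈ co.mats H := by
  obtain ⟨h, hh, hX⟩ := co.mem_mats.1 hX
  obtain ⟨h', hh', hY⟩ := co.mem_mats.1 hY
  exact co.mem_mats.2 ⟨h * h', mul_mem hh hh', co.img_mul (hH hh) hX hY⟩

include co in
theorem sqSub_le_C {H : Subgroup G} (hH : H ≤ bd.N) : sqSub H ≤ bd.C := by
  refine sqSub_le_of fun x hx => ?_
  obtain ⟨X, hX⟩ := co.img_exists (hH hx)
  refine (co.img_zero_iff (mul_mem (hH hx) (hH hx))).1 ?_
  have := co.img_mul (hH hx) hX hX
  rwa [add_self'] at this

theorem split_N {H : Subgroup G} (hH : H ≤ bd.N) :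
    (sqSub H).relIndex H ≤ (co.mats H).card * (sqSub H).relIndex (H ⊓ bd.C) ∧
      (sqSub H).relIndex (H ⊓ bd.C) ≤ 4 ∧
        (3 ≤ (sqSub H).relIndex (H ⊓ bd.C) → ∀ h ∈ H, h * h ∈ sqSub bd.C) := by
  classical
  have hsq : ∀ x ∈ H ⊓ bd.C, x * x ∈ sqSub H := fun x hx => sq_mem hx.1
  refine ⟨?_, bd.relIndex_le inf_le_right hsq, fun h3 h hh => ?_⟩
  · rw [relIndex_eq_mul (QuotientGroup.mk' bd.C) (sqSub_le H), QuotientGroup.ker_mk',
      inf_eq_left.2 (co.sqSub_le_C hH)]
    refine Nat.mul_le_mul_right _ ?_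
    refine le_trans (Nat.le_of_dvd Nat.card_pos
      (Dvd.intro_left _ (card_mul_relIndex (map_mono (sqSub_le H))))) ?_
    have key : ∀ x : H.map (QuotientGroup.mk' bd.C), ∃ h ∈ H, ((h : G) : G ⧸ bd.C) = x := fun x => x.2
    choose r hr hr' using key
    choose X hX using fun x => co.img_exists (hH (hr x))
    refine le_trans (Nat.card_le_card_of_injective
      (fun x => (⟨X x, co.mem_mats.2 ⟨r x, hr x, hX x⟩⟩ : co.mats H)) fun x y e => ?_) (by simp)
    have e' : X x = X y := congrArg Subtype.val e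
    refine Subtype.ext ((hr' x).symm.trans ((QuotientGroup.eq.2 ?_).trans (hr' y)))
    refine (co.img_zero_iff (mul_mem (inv_mem (hH (hr x))) (hH (hr y)))).1 ?_
    have := co.img_mul (inv_mem (hH (hr x))) (co.img_inv (hH (hr x)) (hX x)) (hX y)
    rwa [e', add_self'] at this
  · have h4 := bd.relIndex_eq_four inf_le_right hsq h3
    have e := bd.eq_sqSub (K := sqSub H) inf_le_right (le_inf (sqSub_le H) (co.sqSub_le_C hH)) hsq h4.ge
    exact (sqSub_mono inf_le_right) (e ▸ sq_mem hh)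

theorem mats_omega {H : Subgroup G} (hH : H ≤ bd.N) (h5 : 5 ≤ (co.mats H).card) {g : G} {X : Mat}
    (hg : g ∈ bd.N) (hX : co.Img g X) (hG : Good X) (hI : Inv X) : False := by
  classical
  obtain ⟨Y, hY, hY'⟩ := Finset.exists_mem_notMem_of_card_lt_card
    (s := ({0, one', X, X + one'} : Finset Mat)) (t := co.mats H) (lt_of_le_of_lt Finset.card_le_four h5)
  simp only [Finset.mem_insert, Finset.mem_singleton, not_or] at hY'
  obtain ⟨h, hh, hhY⟩ := co.mem_mats.1 hY
  exact co.not_omega hg hX hG hI (hH hh) hhY ⟨hY'.1, hY'.2.1, hY'.2.2.1, hY'.2.2.2⟩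

theorem half {S : Finset Mat} (hadd : ∀ X ∈ S, ∀ Y ∈ S, X + Y ∈ S) {w : Mat} (hw : w ∉ S) :
    S.card ≤ 8 ∧ (8 ≤ S.card → ∀ X, X ∈ S ∨ X + w ∈ S) := by
  classical
  have hcancel : ∀ x y : Mat, x + (x + y) = y := fun x y => by rw [← add_assoc, add_self', zero_add]
  have hdisj : Disjoint S (S.image (· + w)) := by
    rw [Finset.disjoint_left]
    rintro x hx hx'
    obtain ⟨y, hy, rfl⟩ := Finset.mem_image.1 hx'
    exact hw (hcancel y w ▸ hadd y hy _ hx)
  have hinj : Function.Injective (· + w) := fun a b e => add_right_cancel e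
  have hcard : (S ∪ S.image (· + w)).card = 2 * S.card := by
    rw [Finset.card_union_of_disjoint hdisj, Finset.card_image_of_injective _ hinj]; omega
  have hle := Finset.card_le_univ (S ∪ S.image (· + w))
  rw [hcard, card_mat] at hle
  refine ⟨by omega, fun h8 X => ?_⟩
  have hu : S ∪ S.image (· + w) = Finset.univ := Finset.eq_univ_of_card _ (by rw [hcard, card_mat]; omega)
  have hX : X ∈ S ∪ S.image (· + w) := hu ▸ Finset.mem_univ X
  rcases Finset.mem_union.1 hX with h | h
  · exact Or.inl h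
  · obtain ⟨y, hy, rfl⟩ := Finset.mem_image.1 h
    exact Or.inr (by rwa [add_assoc, add_self', add_zero])

include co in
theorem bound_N {H : Subgroup G} (hH : H ≤ bd.N) : (sqSub H).relIndex H ≤ 16 := by
  classical
  obtain ⟨h1, h2, h3⟩ := co.split_N hH
  by_contra hlt
  push Not at hlt
  have h5 : 5 ≤ (co.mats H).card := by nlinarith
  obtain ⟨w, hwG, hwI⟩ := omega_exists
  have hnot : ∀ (K : Subgroup G), K ≤ bd.N → ∀ X, Good X → Inv X → X ∉ co.mats K := fun K hK X hG hI hX => by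
    obtain ⟨g, hg, hgX⟩ := co.mem_mats.1 hX
    exact co.mats_omega hH h5 (hK hg) hgX hG hI
  have hadd : ∀ K : Subgroup G, K ≤ bd.N → ∀ X ∈ co.mats K, ∀ Y ∈ co.mats K, X + Y ∈ co.mats K :=
    fun K hK X hX Y hY => co.mats_add hK hX hY
  obtain ⟨hle8, hcov⟩ := half (hadd H hH) (hnot H hH w hwG hwI)
  have hb : 3 ≤ (sqSub H).relIndex (H ⊓ bd.C) := by nlinarith
  have hsqC := h3 hb
  have h8 : 8 ≤ (co.mats H).card := by
    by_contra h7
    push Not at h7
    -- a subgroup of `Mat` has order a power of 2, here at most 4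
    have h0 : (0 : Mat) ∈ co.mats H :=
      co.mem_mats.2 ⟨1, one_mem _, (co.img_zero_iff (one_mem _)).2 (one_mem _)⟩
    let K : AddSubgroup Mat :=
      { carrier := co.mats H
        add_mem' := fun {a b} ha hb => hadd H hH a ha b hb
        zero_mem' := h0
        neg_mem' := fun {a} ha => by
          have : -a = a := neg_eq_of_add_eq_zero_left (add_self' a)
          rw [this]; exact ha }
    have hdvd := AddSubgroup.card_addSubgroup_dvd_card K
    rw [Nat.card_eq_fintype_card (α := Mat), card_mat,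
      show Nat.card K = (co.mats H).card by rw [← Nat.card_eq_finsetCard]; rfl] at hdvd
    interval_cases hk : (co.mats H).card <;> omega
  have hcov := hcov h8
  have hone : one' ∈ co.mats H := by
    rcases hcov one' with h | h
    · exact h
    · refine absurd h ?_
      rw [add_comm]
      exact hnot H hH _ (good_of_omega w hwG hwI).1 (good_of_omega w hwG hwI).2
  obtain ⟨X, hX, hne, hG, hfix⟩ : ∃ X ∈ co.mats H, X ≠ 0 ∧ Good X ∧ (bd.N = ⊤ ∨ conjU X = X) := by
    by_cases htop : bd.N = ⊤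
    · rcases hcov nil1 with h | k1
      · exact ⟨_, h, nil1_ne, good_nil1, Or.inl htop⟩
      rcases hcov nil2 with h | k2
      · exact ⟨_, h, by decide, good_nil2, Or.inl htop⟩
      rcases hcov nil3 with h | k3
      · exact ⟨_, h, by decide, good_nil3, Or.inl htop⟩
      exfalso
      have hs := hadd H hH _ (hadd H hH _ k1 _ k2) _ k3
      rw [show nil1 + w + (nil2 + w) + (nil3 + w) = (nil1 + nil2 + nil3) + w by
        rw [show nil1 + w + (nil2 + w) = nil1 + nil2 + (w + w) by abel, add_self', add_zero]; abel,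
        nil_sum, add_comm] at hs
      exact hnot H hH _ (good_of_omega w hwG hwI).1 (good_of_omega w hwG hwI).2 hs
    · obtain ⟨t, -, ht⟩ := SetLike.exists_of_lt (lt_top_iff_ne_top.2 htop)
      have hsub : co.mats H ⊆ co.mats bd.N := fun Y hY => by
        obtain ⟨g, hg, hgY⟩ := co.mem_mats.1 hY
        exact co.mem_mats.2 ⟨g, hH hg, hgY⟩
      have heq : co.mats H = co.mats bd.N := Finset.eq_of_subset_of_card_le hsub
        (le_trans (half (hadd bd.N le_rfl) (hnot bd.N le_rfl w hwG hwI)).1 h8)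
      have hconj : ∀ Y ∈ co.mats H, conjU Y ∈ co.mats H := fun Y hY => by
        rw [heq] at hY ⊢
        obtain ⟨g, hg, hgY⟩ := co.mem_mats.1 hY
        exact co.mem_mats.2 ⟨_, (inferInstance : bd.N.Normal).conj_mem g hg t, co.img_conjT ht hg hgY⟩
      refine ⟨nil1, ?_, nil1_ne, good_nil1, Or.inr conjU_nil1⟩
      rcases hcov nil2 with h | h
      · rw [← nil23]
        exact hadd H hH _ (hadd H hH _ h _ (nil2_conj ▸ hconj _ h)) _ hone
      · have h' := hconj _ h
        rw [conjU_add, nil2_conj, conjU_omega w hwG hwI] at h'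
        have hs := hadd H hH _ h _ h'
        rwa [show nil2 + w + (nil3 + (w + one')) = nil2 + nil3 + one' + (w + w) by abel, add_self', add_zero,
          nil23] at hs
  obtain ⟨g, hg, hgX⟩ := co.mem_mats.1 hX
  exact co.not_sq_fixed (hH hg) hgX hne hG (hsqC g hg) (co.img_fixed hfix)

include co in
theorem bound (H : Subgroup G) : (sqSub H).relIndex H ≤ 16 := by
  classical
  by_cases hHN : H ≤ bd.N
  · exact co.bound_N hHN
  obtain ⟨t, htH, ht⟩ := SetLike.not_le_iff_exists.1 hHN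
  by_contra hlt
  push Not at hlt
  set H0 := H ⊓ bd.N with hH0
  have hsplit := relIndex_eq_mul (QuotientGroup.mk' bd.N) (sqSub_le H)
  rw [QuotientGroup.ker_mk', ← hH0] at hsplit
  have hquot : ((sqSub H).map (QuotientGroup.mk' bd.N)).relIndex (H.map (QuotientGroup.mk' bd.N)) ≤ 2 := by
    have h1 : ((sqSub H).map (QuotientGroup.mk' bd.N)).relIndex (H.map (QuotientGroup.mk' bd.N)) ∣ bd.N.index :=
      (Dvd.intro_left _ (card_mul_relIndex (map_mono (sqSub_le H)))).trans (card_subgroup_dvd_card _)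
    have := bd.N_index
    have := Nat.le_of_dvd (by omega) h1
    omega
  have hsq0 : sqSub H0 ≤ sqSub H ⊓ bd.N :=
    le_inf (sqSub_mono inf_le_left) ((sqSub_le H0).trans inf_le_right)
  have hle0 := co.bound_N (inf_le_right : H0 ≤ bd.N)
  have hmul := relIndex_mul_relIndex (sqSub H0) (sqSub H ⊓ bd.N) H0 hsq0
    (le_inf (inf_le_left.trans (sqSub_le H)) inf_le_right)
  have hpos : (sqSub H0).relIndex (sqSub H ⊓ bd.N) ≠ 0 := relIndex_ne_zero _ _
  have hbig : 9 ≤ (sqSub H ⊓ bd.N).relIndex H0 := by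
    have := Nat.mul_le_mul_right ((sqSub H ⊓ bd.N).relIndex H0) hquot
    omega
  have hone : (sqSub H0).relIndex (sqSub H ⊓ bd.N) = 1 := by
    by_contra hne
    have h2' : 2 ≤ (sqSub H0).relIndex (sqSub H ⊓ bd.N) := by omega
    have := Nat.mul_le_mul h2' hbig
    rw [hH0] at *
    omega
  have hKC : sqSub H ⊓ bd.N ≤ bd.C := (relIndex_eq_one.1 hone).trans (co.sqSub_le_C inf_le_right)
  have hfixed : ∀ X ∈ co.mats H0, conjU X = X := by
    intro X hX
    obtain ⟨h, hh, hhX⟩ := co.mem_mats.1 hX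
    have hc : t * h * t⁻¹ * h⁻¹ ∈ bd.C := hKC (mem_inf.2 ⟨commutator_mem htH (mem_inf.1 hh).1,
      mul_mem ((inferInstance : bd.N.Normal).conj_mem h (mem_inf.1 hh).2 t) (inv_mem (mem_inf.1 hh).2)⟩)
    have h1 := co.img_mul (bd.C_le_N hc) ((co.img_zero_iff (bd.C_le_N hc)).2 hc) hhX
    rw [zero_add, inv_mul_cancel_right] at h1
    exact co.img_unique (co.img_conjT ht hh.2 hhX) h1
  obtain ⟨h1, h2, h3⟩ := co.split_N (inf_le_right : H0 ≤ bd.N)
  have hsub : co.mats H0 ⊆ {0, one', nil1, nil1 + one'} := fun X hX => by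
    rcases fixed_cases X (hfixed X hX) with e | e | e | e <;> simp [e]
  have hcard : (co.mats H0).card ≤ 4 := (Finset.card_le_card hsub).trans Finset.card_le_four
  rw [hone, one_mul] at hmul
  rw [← hmul] at h1
  have hb : 3 ≤ (sqSub H0).relIndex (H0 ⊓ bd.C) := by nlinarith
  have hnil : nil1 ∈ co.mats H0 := by
    by_contra hno
    have hsub' : co.mats H0 ⊆ {0, one', nil1 + one'} := fun X hX => by
      have := hsub hX
      simp only [Finset.mem_insert, Finset.mem_singleton] at this ⊢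
      rcases this with e | e | e | e
      · exact Or.inl e
      · exact Or.inr (Or.inl e)
      · exact absurd (e ▸ hX) hno
      · exact Or.inr (Or.inr e)
    have hcard3 := (Finset.card_le_card hsub').trans Finset.card_le_three
    by_cases hall : co.mats H0 = {0, one', nil1 + one'}
    · refine hno ?_
      have := co.mats_add (inf_le_right : H0 ≤ bd.N) (X := one') (Y := nil1 + one')
        (by rw [hall]; simp) (by rw [hall]; simp)
      rwa [show one' + (nil1 + one') = nil1 by decide] at this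
    · have : (co.mats H0).card < 3 := lt_of_lt_of_le
        (Finset.card_lt_card (ssubset_of_subset_of_ne hsub' hall)) Finset.card_le_three
      nlinarith
  obtain ⟨g, hg, hgX⟩ := co.mem_mats.1 hnil
  exact co.not_sq_fixed hg.2 hgX nil1_ne good_nil1 (h3 hb g hg) (co.img_fixed (Or.inr conjU_nil1))

end Coord

include bd in
/-- MacWilliams: every subgroup has square-generated subgroup of index at most 16. -/
theorem relIndex_sqSub_le (H : Subgroup G) : (sqSub H).relIndex H ≤ 16 := by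
  rcases card_cases bd.two bd.Sq ((card_le_of_le bd.Sq_le).trans bd.card_W) with h | h | h
  · exact bd.bound_small (by omega) H
  · exact bd.bound_small (by omega) H
  · obtain ⟨co⟩ := bd.exists_coord h
    exact co.bound H

end Base

/-- MacWilliams' four-group theorem. -/
theorem sectionalPRankLE_four (hG : IsPGroup 2 G)
    (h : ∀ E : Subgroup G, E.Normal → IsMulCommutative E → (∀ a ∈ E, a ^ 2 = 1) → Nat.card E ≤ 4) :
    Cfsg.SectionalPRankLE 2 4 G := by
  obtain ⟨bd⟩ := exists_base hG h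
  exact sectionalPRankLE fun H => bd.relIndex_sqSub_le H

end CfsgLib.TwoGroups.FourGroup
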