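import Cfsg.Agent.TwoGroups.Automizer
import Cfsg.Agent.Transfer.Frobenius
import Cfsg.Agent.Transfer.Residual
import Cfsg.Agent.Isolated.Basic
import Mathlib.GroupTheory.IndexNormal

/-!
Elements of odd order acting on four-groups and quaternion groups, and fusion along chains.
-/

set_option autoImplicit false

namespace CfsgLib.TwoGroups

open Subgroup

variable {G : Type*} [Group G]

/-- An element of odd order fixes what its square fixes. -/
theorem conj_eq_of_sq_conj_eq [Finite G] {g t : G} (hg : Odd (orderOf g))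
    (h : g * (g * t * g⁻¹) * g⁻¹ = t) : g * t * g⁻¹ = t := by
  have hc : Commute (g ^ 2) t := by
    refine mul_inv_eq_iff_eq_mul.1 ?_
    calc g ^ 2 * t * (g ^ 2)⁻¹ = g * (g * t * g⁻¹) * g⁻¹ := by rw [sq]; group
      _ = t := h
  obtain ⟨i, hi⟩ := CfsgLib.Isolated.mem_zpowers_sq hg
  have := hc.zpow_left i
  rw [show (g ^ 2) ^ i = g from hi] at this
  rw [this.eq, mul_inv_cancel_right]

/-- An element of odd order moving `b` by a fixed 2-element fixes `b`. -/
theorem eq_one_of_conj_eq_mul {g b c : G} (hg : Odd (orderOf g)) (hb : g * b * g⁻¹ = b * c)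
    (hc : g * c * g⁻¹ = c) {k : ℕ} (hk : c ^ 2 ^ k = 1) : c = 1 := by
  have hj : ∀ j : ℕ, g ^ j * b * (g ^ j)⁻¹ = b * c ^ j := by
    intro j
    induction j with
    | zero => simp
    | succ j ih =>
      calc g ^ (j + 1) * b * (g ^ (j + 1))⁻¹ = g * (g ^ j * b * (g ^ j)⁻¹) * g⁻¹ := by
            rw [pow_succ']; group
        _ = (g * b * g⁻¹) * (g * c * g⁻¹) ^ j := by rw [ih, conj_pow]; group
        _ = b * c ^ (j + 1) := by rw [hb, hc, pow_succ' c, mul_assoc]
  have h1 := hj (orderOf g)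
  rw [pow_orderOf_eq_one, one_mul, inv_one, mul_one, left_eq_mul] at h1
  exact orderOf_eq_one_iff.1 (Nat.eq_one_of_dvd_coprimes
    (Nat.Coprime.pow_left k (Nat.coprime_two_left.2 hg))
    (orderOf_dvd_of_pow_eq_one hk) (orderOf_dvd_of_pow_eq_one h1))

/-- An element of odd order normalizing a four-group and fixing one of its involutions centralizes
it. -/
theorem mem_centralizer_of_fix_kleinFour [Finite G] {T : Subgroup G} (hT : IsKleinFour T) {g : G}
    (hgN : g ∈ normalizer (T : Set G)) (hg : Odd (orderOf g)) {u : G} (hu : u ∈ T) (hu1 : u ≠ 1)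
    (hfix : g * u * g⁻¹ = u) : g ∈ centralizer (T : Set G) := by
  intro b hb
  suffices h : g * b * g⁻¹ = b from (mul_inv_eq_iff_eq_mul.1 h).symm
  by_cases h1 : b = 1
  · rw [h1, mul_one, mul_inv_cancel]
  by_cases h2 : b = u
  · rw [h2, hfix]
  rcases (klein_mem_iff hT hu hb hu1 h1 (Ne.symm h2) (g * b * g⁻¹)).1
    ((mem_normalizer_iff.1 hgN b).1 hb) with h | h | h | h
  · exact absurd (conj_eq_one_iff.1 h) h1
  · exact absurd (mul_left_cancel (mul_right_cancel (h.trans hfix.symm))) h2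
  · exact h
  · exfalso
    have hu2 : u * u = 1 := (isKleinFour_iff.1 hT).2 u hu
    refine hu1 (eq_one_of_conj_eq_mul hg (b := b) ?_ hfix (k := 1) (by rw [pow_one, sq, hu2]))
    rw [h, klein_mul_comm hT hu hb]

/-- An element of odd order normalizing a quaternion group and one of its cyclic subgroups of
order four centralizes it. -/
theorem mem_centralizer_of_fix_quaternion [Finite G] {Q : Subgroup G} (e : Q ≃* QuaternionGroup 2)
    {g : G} (hgN : g ∈ normalizer (Q : Set G)) (hg : Odd (orderOf g)) {u : G} (hu : u ∈ Q)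
    (hu2 : u * u ≠ 1) (hfix : Commute (g * u * g⁻¹) u) : g ∈ centralizer (Q : Set G) := by
  have hform : ∀ c ∈ Q, c * u = u * c → c = 1 ∨ c = u ∨ c = u * u ∨ c = u * u * u := by
    have hd : ∀ p r : QuaternionGroup 2, p * p ≠ 1 → r * p = p * r →
        r = 1 ∨ r = p ∨ r = p * p ∨ r = p * p * p := by decide
    intro c hc hcu
    have h := hd (e ⟨u, hu⟩) (e ⟨c, hc⟩)
      (by rw [← map_mul, ne_eq, EmbeddingLike.map_eq_one_iff]
          exact fun h => hu2 (congrArg Subtype.val h))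
      (by rw [← map_mul, ← map_mul, EmbeddingLike.apply_eq_iff_eq]; exact Subtype.ext hcu)
    simp only [← map_one e, ← map_mul, EmbeddingLike.apply_eq_iff_eq, Subtype.ext_iff, coe_mul,
      coe_one] at h
    exact h
  have hconj : ∀ b ∈ Q, b * u * b⁻¹ * u = u * (b * u * b⁻¹) := by
    have hd : ∀ p r : QuaternionGroup 2, r * p * r⁻¹ * p = p * (r * p * r⁻¹) := by decide
    intro b hb
    have h := hd (e ⟨u, hu⟩) (e ⟨b, hb⟩)
    simp only [← map_mul, ← map_inv, EmbeddingLike.apply_eq_iff_eq, Subtype.ext_iff, coe_mul,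
      coe_inv] at h
    exact h
  have hu4 : u * u * (u * u) = 1 := quaternion8_pow_four e hu
  have hfix' : g * u * g⁻¹ = u := by
    rcases hform _ ((mem_normalizer_iff.1 hgN u).1 hu) hfix.eq with h | h | h | h
    · exact absurd (by rw [conj_eq_one_iff.1 h, one_mul]) hu2
    · exact h
    · exfalso
      apply hu2
      have h' : g * (u * u) * g⁻¹ = 1 := by
        rw [show g * (u * u) * g⁻¹ = (g * u * g⁻¹) * (g * u * g⁻¹) by group, h, hu4]
      exact conj_eq_one_iff.1 h'
    · refine conj_eq_of_sq_conj_eq hg ?_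
      rw [h, show g * (u * u * u) * g⁻¹ = (g * u * g⁻¹) * (g * u * g⁻¹) * (g * u * g⁻¹) by group, h]
      calc u * u * u * (u * u * u) * (u * u * u) = (u * u * (u * u)) * (u * u * (u * u)) * u := by
            group
        _ = u := by rw [hu4, one_mul, one_mul]
  have hfixC : ∀ c ∈ Q, c * u = u * c → g * c * g⁻¹ = c := by
    intro c hc hcu
    have hgu : Commute g u := mul_inv_eq_iff_eq_mul.1 hfix'
    have hgc : Commute g c := by
      rcases hform c hc hcu with rfl | rfl | rfl | rfl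
      exacts [Commute.one_right g, hgu, hgu.mul_right hgu, (hgu.mul_right hgu).mul_right hgu]
    rw [hgc.eq, mul_inv_cancel_right]
  intro b hb
  suffices h : g * b * g⁻¹ = b from (mul_inv_eq_iff_eq_mul.1 h).symm
  set b' := g * b * g⁻¹ with hb'
  have hb'Q : b' ∈ Q := (mem_normalizer_iff.1 hgN b).1 hb
  have hbu : b * u * b⁻¹ ∈ Q := mul_mem (mul_mem hb hu) (inv_mem hb)
  have hbb : b' * u * b'⁻¹ = b * u * b⁻¹ := by
    calc b' * u * b'⁻¹ = b' * (g * u * g⁻¹) * b'⁻¹ := by rw [hfix']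
      _ = g * (b * u * b⁻¹) * g⁻¹ := by rw [hb']; group
      _ = b * u * b⁻¹ := hfixC _ hbu (hconj b hb)
  have hcu : b⁻¹ * b' * u = u * (b⁻¹ * b') := by
    calc b⁻¹ * b' * u = b⁻¹ * (b' * u * b'⁻¹) * b' := by group
      _ = u * (b⁻¹ * b') := by rw [hbb]; group
  have hcQ : b⁻¹ * b' ∈ Q := mul_mem (inv_mem hb) hb'Q
  have hc1 : b⁻¹ * b' = 1 := by
    refine eq_one_of_conj_eq_mul hg (b := b) (by rw [← hb', mul_inv_cancel_left])
      (hfixC _ hcQ hcu) (k := 2) ?_
    rw [show (2 : ℕ) ^ 2 = 2 * 2 by norm_num, pow_mul, sq, sq]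
    exact quaternion8_pow_four e hcQ
  exact (inv_mul_eq_one.1 hc1).symm

/-- A set stable under a nontrivial odd automorphism of a four-group and meeting every maximal
subgroup contains all of it. -/
theorem kleinFour_forall_mem [Finite G] {T : Subgroup G} (hT : IsKleinFour T) {g : G}
    (hgN : g ∈ normalizer (T : Set G)) (hg : Odd (orderOf g))
    (hgC : g ∉ centralizer (T : Set G)) {M : Subgroup G}
    (h3 : ∀ a ∈ T, ∀ b ∈ T, a ∈ M ∨ b ∈ M ∨ a * b ∈ M)
    (hinv : ∀ a ∈ T, a ∈ M → g * a * g⁻¹ ∈ M) : T ≤ M := by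
  obtain ⟨u, hu, huM, hu1⟩ : ∃ u ∈ T, u ∈ M ∧ u ≠ 1 := by
    obtain ⟨hc, h2⟩ := isKleinFour_iff.1 hT
    by_contra hne
    push Not at hne
    have hinj : ∀ a ∈ T, ∀ b ∈ T, a ≠ 1 → b ≠ 1 → a = b := by
      intro a ha b hb ha1 hb1
      rcases h3 a ha b hb with h | h | h
      · exact absurd (hne a ha h) ha1
      · exact absurd (hne b hb h) hb1
      · have := hne _ (mul_mem ha hb) h
        calc a = a * (b * b) := by rw [h2 b hb, mul_one]
          _ = b := by rw [← mul_assoc, this, one_mul]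
    obtain ⟨a, ha, ha1⟩ : ∃ a ∈ T, a ≠ 1 := by
      by_contra hne'
      push Not at hne'
      have : T = ⊥ := (eq_bot_iff_forall T).2 hne'
      rw [this, card_bot] at hc
      omega
    have hsub : (T : Set G) ⊆ {1, a} := fun t ht => by
      by_cases ht1 : t = 1
      · exact Or.inl ht1
      · exact Or.inr (hinj t ht a ha ht1 ha1)
    have := Set.ncard_le_ncard hsub (Set.toFinite _)
    rw [← Nat.card_coe_set_eq] at this
    change Nat.card T ≤ _ at this
    rw [hc, Set.ncard_pair (Ne.symm ha1)] at this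
    omega
  set u' := g * u * g⁻¹ with hu'
  have hu'T : u' ∈ T := (mem_normalizer_iff.1 hgN u).1 hu
  have hu'1 : u' ≠ 1 := fun h => hu1 (conj_eq_one_iff.1 h)
  have hne : u' ≠ u := fun h => hgC (mem_centralizer_of_fix_kleinFour hT hgN hg hu hu1 h)
  intro t ht
  rcases (klein_mem_iff hT hu hu'T hu1 hu'1 hne.symm t).1 ht with rfl | rfl | rfl | rfl
  exacts [one_mem M, huM, hinv u hu huM, mul_mem huM (hinv u hu huM)]

/-- The same for a quaternion group. -/
theorem quaternion8_forall_mem [Finite G] {Q : Subgroup G} (e : Q ≃* QuaternionGroup 2) {g : G}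
    (hgN : g ∈ normalizer (Q : Set G)) (hg : Odd (orderOf g))
    (hgC : g ∉ centralizer (Q : Set G)) {M : Subgroup G}
    (h3 : ∀ a ∈ Q, ∀ b ∈ Q, a ∈ M ∨ b ∈ M ∨ a * b ∈ M)
    (hinv : ∀ a ∈ Q, a ∈ M → g * a * g⁻¹ ∈ M) : Q ≤ M := by
  obtain ⟨a, ha, b, hb, hab⟩ := quaternion8_not_comm e
  have hsq : ∀ c ∈ Q, ∀ d ∈ Q, c * d ≠ d * c → c * c ≠ 1 := fun c hc d hd hne h =>
    hne (quaternion8_sq_eq_one e hc hd h)
  obtain ⟨u, hu, huM, hu2⟩ : ∃ u ∈ Q, u ∈ M ∧ u * u ≠ 1 := by
    rcases h3 a ha b hb with h | h | h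
    · exact ⟨a, ha, h, hsq a ha b hb hab⟩
    · exact ⟨b, hb, h, hsq b hb a ha (Ne.symm hab)⟩
    · refine ⟨a * b, mul_mem ha hb, h, hsq _ (mul_mem ha hb) a ha fun h' => hab ?_⟩
      exact mul_left_cancel (a := a) (h'.symm.trans (mul_assoc a b a))
  have hne : ¬ Commute u (g * u * g⁻¹) := fun h =>
    hgC (mem_centralizer_of_fix_quaternion e hgN hg hu hu2 h.symm)
  intro t ht
  have hu'M := hinv u hu huM
  obtain ⟨c, hc, h⟩ := quaternion8_form e hu ((mem_normalizer_iff.1 hgN u).1 hu) hne ht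
  have hcM : c ∈ M := by
    rcases hc with rfl | rfl
    exacts [one_mem M, mul_mem huM huM]
  rcases h with rfl | rfl | rfl | rfl
  exacts [hcM, mul_mem huM hcM, mul_mem hu'M hcM, mul_mem (mul_mem huM hu'M) hcM]

/-- Elements of odd order lie in every subgroup of index two. -/
theorem mem_of_index_two_of_odd [Finite G] {H : Subgroup G} (h : H.index = 2) {g : G}
    (hg : Odd (orderOf g)) : g ∈ H := by
  obtain ⟨i, hi⟩ := CfsgLib.Isolated.mem_zpowers_sq hg
  rw [← show (g ^ 2) ^ i = g from hi]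
  exact zpow_mem (sq_mem_of_index_two h g) i

/-- A relative index two puts the larger subgroup into every subgroup containing the smaller one
and one element outside it. -/
theorem le_of_relIndex_two {H N K : Subgroup G} (h : H.relIndex N = 2) (hHK : H ≤ K) {a : G}
    (haN : a ∈ N) (haH : a ∉ H) (haK : a ∈ K) : N ≤ K := by
  intro b hb
  by_cases hbH : b ∈ H
  · exact hHK hbH
  · have h' : b * a ∈ H :=
      mem_subgroupOf.1 ((mul_mem_iff_of_index_two (H := H.subgroupOf N) h
        (a := ⟨b, hb⟩) (b := ⟨a, haN⟩)).2 (by simp [mem_subgroupOf, hbH, haH]))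
    simpa using mul_mem (hHK h') (inv_mem haK)

/-- A relative index divisible by three is seen by an element of odd order. -/
theorem exists_odd_mem_notMem [Finite G] {H N : Subgroup G} (h : 3 ∣ H.relIndex N) :
    ∃ g ∈ N, g ∉ H ∧ Odd (orderOf g) := by
  haveI : Fact (Nat.Prime 3) := ⟨Nat.prime_three⟩
  let P : Sylow 3 N := default
  obtain ⟨g, hgP, hgH⟩ := SetLike.not_le_iff_exists.1 fun hle : (P : Subgroup N) ≤ H.subgroupOf N =>
    P.not_dvd_index (h.trans (index_dvd_of_le hle))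
  refine ⟨g, g.2, fun hg => hgH (mem_subgroupOf.2 hg), ?_⟩
  obtain ⟨j, hj⟩ := IsPGroup.iff_orderOf.1 P.isPGroup' ⟨g, hgP⟩
  rw [orderOf_mk] at hj
  rw [orderOf_coe, hj]
  exact (show Odd 3 by decide).pow

/-- Induction along fusion in a Sylow subgroup: a property preserved inside the normalizers of
`p`-subgroups of `S` is preserved by every conjugation within `S`. -/
theorem fusion_induction [Finite G] {p : ℕ} [Fact p.Prime] (S : Sylow p G) (P : G → Prop)
    (step : ∀ D : Subgroup G, D ≤ (S : Subgroup G) → ∀ u ∈ normalizer (D : Set G),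
      ∀ v ∈ D, P v → P (u * v * u⁻¹))
    {v : G} (hv : v ∈ (S : Subgroup G)) (hP : P v) (g : G)
    (hg : g * v * g⁻¹ ∈ (S : Subgroup G)) : P (g * v * g⁻¹) := by
  have key : ∀ {A : Set G} {x : G}, CfsgLib.Transfer.FusionChain S A x →
      ∀ a ∈ A, P a → P (x⁻¹ * a * x) := by
    intro A x hx
    induction hx with
    | nil A => intro a _ ha; simpa using ha
    | cons A Q x y hA ht hx _ ih =>
      intro a ha hPa
      have h1 := step _ inf_le_left x⁻¹ (inv_mem hx) a (hA ha) hPa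
      rw [inv_inv] at h1
      have h2 := ih _ ⟨a, ha, rfl⟩ h1
      rwa [show (x * y)⁻¹ * a * (x * y) = y⁻¹ * (x⁻¹ * a * x) * y by group]
  have hc := CfsgLib.Transfer.exists_fusionChain S (A := {v}) (g := g⁻¹)
    (Set.singleton_subset_iff.2 hv)
    (by rw [Set.image_singleton, inv_inv]; exact Set.singleton_subset_iff.2 hg)
  simpa using key hc v rfl hP

/-- An element of 2-power order is conjugate into a Sylow 2-subgroup. -/
theorem exists_isConj_sylow [Finite G] (S : Sylow 2 G) {t : G} {k : ℕ} (ht : orderOf t = 2 ^ k) :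
    ∃ s : (S : Subgroup G), orderOf s = 2 ^ k ∧ IsConj t (s : G) := by
  haveI : Fact (Nat.Prime 2) := ⟨Nat.prime_two⟩
  obtain ⟨h, -, hh⟩ := exists_conj_mem_sylow S (N := ⊤) le_top le_top
    (IsPGroup.of_card (n := k) (by rw [Nat.card_zpowers, ht]) : IsPGroup 2 (zpowers t))
  refine ⟨⟨h * t * h⁻¹, hh t (mem_zpowers t)⟩, ?_, isConj_iff.2 ⟨h, rfl⟩⟩
  rw [orderOf_mk, ← ht]
  exact (MulAut.conj h).orderOf_eq t

/-- Sylow 2-subgroups of a normal subgroup are isomorphic to its intersection with `S`. -/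
theorem nonempty_sylow_equiv_of_normal [Finite G] (S : Sylow 2 G) (K : Subgroup G) [K.Normal]
    {M : Subgroup (S : Subgroup G)} (hM : K.subgroupOf (S : Subgroup G) = M) (P : Sylow 2 K) :
    Nonempty ((P : Subgroup K) ≃* M) := by
  haveI : Fact (Nat.Prime 2) := ⟨Nat.prime_two⟩
  let PK : Sylow 2 K := IsPGroup.toSylow (P := (S : Subgroup G).subgroupOf K)
    (S.isPGroup'.comap_subtype) (CfsgLib.Transfer.not_dvd_relIndex_of_normal S K)
  have e1 : (S : Subgroup G).subgroupOf K ≃* M :=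
    { toFun := fun a => ⟨⟨((a : K) : G), a.2⟩, hM.le (mem_subgroupOf.2 (a : K).2)⟩
      invFun := fun b => ⟨⟨((b : (S : Subgroup G)) : G), by
        exact mem_subgroupOf.1 (hM.ge b.2)⟩, (b : (S : Subgroup G)).2⟩
      left_inv := fun a => rfl
      right_inv := fun b => rfl
      map_mul' := fun a b => rfl }
  exact ⟨(P.equiv PK).trans e1⟩

/-- A subgroup of index two of a subgroup `K` of `G`, seen in `G`. -/
theorem index_two_map_subtype {K : Subgroup G} {H : Subgroup K} (hH : H.index = 2) :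
    (∀ a ∈ K, ∀ b ∈ K, a ∈ H.map K.subtype ∨ b ∈ H.map K.subtype ∨ a * b ∈ H.map K.subtype) ∧
      (∀ a ∈ K, ∀ b ∈ H.map K.subtype, a * b * a⁻¹ ∈ H.map K.subtype) := by
  refine ⟨fun a ha b hb => ?_, fun a ha b hb => ?_⟩
  · by_cases h1 : (⟨a, ha⟩ : K) ∈ H
    · exact Or.inl ⟨_, h1, rfl⟩
    by_cases h2 : (⟨b, hb⟩ : K) ∈ H
    · exact Or.inr (Or.inl ⟨_, h2, rfl⟩)
    exact Or.inr (Or.inr ⟨_, (mul_mem_iff_of_index_two hH (a := ⟨a, ha⟩) (b := ⟨b, hb⟩)).2
      (iff_of_false h1 h2), rfl⟩)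
  · obtain ⟨b', hb', rfl⟩ := hb
    haveI := normal_of_index_eq_two hH
    exact ⟨_, (inferInstance : H.Normal).conj_mem b' hb' ⟨a, ha⟩, rfl⟩

/-- A subgroup of index two of a normal subgroup does not contain its Sylow 2-subgroup. -/
theorem not_inf_le_of_index_two [Finite G] (S : Sylow 2 G) (K : Subgroup G) [K.Normal]
    {H : Subgroup K} (hH : H.index = 2) : ¬ (S : Subgroup G) ⊓ K ≤ H.map K.subtype := by
  haveI : Fact (Nat.Prime 2) := ⟨Nat.prime_two⟩
  intro hle
  refine CfsgLib.Transfer.not_dvd_relIndex_of_normal S K ?_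
  have h : (S : Subgroup G).subgroupOf K ≤ H := fun a ha => by
    obtain ⟨b, hb, he⟩ := hle (mem_inf.2 ⟨mem_subgroupOf.1 ha, a.2⟩)
    rwa [← Subtype.ext (he : (b : G) = a)]
  exact hH.symm.dvd.trans (index_dvd_of_le h)

end CfsgLib.TwoGroups
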