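import Cfsg.Agent.TwoGroups.SemidihedralSubgroups
import Cfsg.Agent.TwoGroups.OddFusion
import Cfsg.Agent.Inv53.TransferTwo

/-!
Fusion in groups with quasi-dihedral Sylow 2-subgroups.
-/

set_option autoImplicit false

namespace CfsgLib.TwoGroups

open Subgroup

/-- `S` acts on `⟨x^(2^(n-2))⟩` by inversion. -/
theorem SDPair.conj_qq_cases {S : Type*} [Group S] {n : ℕ} {x y : S} (d : SDPair n x y) (s : S) :
    s * x ^ qq n * s⁻¹ = x ^ qq n ∨ s * x ^ qq n * s⁻¹ = (x ^ qq n)⁻¹ := by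
  by_cases hs : s ∈ zpowers x
  · obtain ⟨a, rfl⟩ := hs
    exact Or.inl (mul_inv_eq_iff_eq_mul.2 ((Commute.refl x).zpow_zpow a _).eq)
  · exact Or.inr (by rw [d.conj_zpow_qq s hs, zpow_neg])

theorem SDPair.pow_four_zpow_y {S : Type*} [Group S] {n : ℕ} {x y : S} (d : SDPair n x y) (i : ℤ) :
    (x ^ i * y) ^ 4 = 1 := by
  rw [show 4 = 2 * 2 from rfl, pow_mul, sq (x ^ i * y), d.sq_zpow_y, sq, d.sq_eq_one_iff]
  exact dvd_mul_right _ _

theorem SDPair.qq_dvd_of_pow_four {S : Type*} [Group S] {n : ℕ} {x y : S} (d : SDPair n x y)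
    {l : ℤ} (h : (x ^ l) ^ 4 = 1) : qq n ∣ l := by
  rw [← zpow_natCast, ← zpow_mul, d.zpow_eq_one, d.hh_eq] at h
  obtain ⟨c, hc⟩ := h
  push_cast at hc
  exact ⟨c, by linarith⟩

variable {G : Type*} [Group G] [Finite G] (S : Sylow 2 G) {n : ℕ} {x y : (S : Subgroup G)}
  (d : SDPair n x y)
include d

theorem SDPair.sylow_invol {v : G} (hv : v ∈ (S : Subgroup G)) (ho : orderOf v = 2) :
    v = (↑(x ^ hh n) : G) ∨ ∃ i : ℤ, 2 ∣ i ∧ v = (↑(x ^ i * y) : G) := by
  rcases d.orderOf_eq_two_iff.1 (show orderOf (⟨v, hv⟩ : (S : Subgroup G)) = 2 by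
    rw [orderOf_mk, ho]) with h | ⟨i, hi, h⟩
  · exact Or.inl (congrArg Subtype.val h)
  · exact Or.inr ⟨i, hi, congrArg Subtype.val h⟩

theorem SDPair.sylow_four {v : G} (hv : v ∈ (S : Subgroup G)) (ho : orderOf v = 4) :
    v = (↑(x ^ qq n) : G) ∨ v = (↑(x ^ qq n) : G)⁻¹ ∨
      ∃ i : ℤ, ¬ 2 ∣ i ∧ v = (↑(x ^ i * y) : G) := by
  rcases d.orderOf_eq_four_iff.1 (show orderOf (⟨v, hv⟩ : (S : Subgroup G)) = 4 by
    rw [orderOf_mk, ho]) with h | h | ⟨i, hi, h⟩
  · exact Or.inl (congrArg Subtype.val h)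
  · exact Or.inr (Or.inl ((congrArg Subtype.val h).trans (by rw [zpow_neg]; rfl)))
  · exact Or.inr (Or.inr ⟨i, hi, congrArg Subtype.val h⟩)

theorem SDPair.four_sylow {T : Subgroup G} (hT : IsKleinFour T) (hTS : T ≤ (S : Subgroup G)) :
    (↑(x ^ hh n) : G) ∈ T ∧ ∃ i : ℤ, 2 ∣ i ∧ (↑(x ^ i * y) : G) ∈ T ∧
      ∀ s : (S : Subgroup G), (s : G) ∈ T ↔
        s = 1 ∨ s = x ^ hh n ∨ s = x ^ i * y ∨ s = x ^ hh n * (x ^ i * y) := by
  obtain ⟨hz, i, hi, hiT, m⟩ := d.kleinFour_structure (isKleinFour_subgroupOf hT hTS)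
  exact ⟨mem_subgroupOf.1 hz, i, hi, mem_subgroupOf.1 hiT, fun s => mem_subgroupOf.symm.trans (m s)⟩

theorem SDPair.quaternion_sylow {Q : Subgroup G} (hQS : Q ≤ (S : Subgroup G))
    (eQ : Q ≃* QuaternionGroup 2) :
    (↑(x ^ qq n) : G) ∈ Q ∧ ∃ i : ℤ, ¬ 2 ∣ i ∧ (↑(x ^ i * y) : G) ∈ Q ∧
      ∀ s : (S : Subgroup G), (s : G) ∈ Q ↔
        ∃ k : ℤ, s = x ^ (qq n * k) ∨ s = x ^ (qq n * k + i) * y := by
  obtain ⟨hw, i, hi, hiQ, m⟩ := d.quaternion_structure ((subgroupOfEquivOfLe hQS).trans eQ)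
  exact ⟨mem_subgroupOf.1 hw, i, hi, mem_subgroupOf.1 hiQ, fun s => mem_subgroupOf.symm.trans (m s)⟩

/-- If the automizer of a four-group has order two, its normalizer centralizes `Z(S)`. -/
theorem SDPair.normalizer_four_le {T : Subgroup G} (hT : IsKleinFour T)
    (hTS : T ≤ (S : Subgroup G))
    (h₁ : (centralizer (T : Set G)).relIndex (normalizer (T : Set G)) = 2) :
    normalizer (T : Set G) ≤ centralizer {(↑(x ^ hh n) : G)} := by
  have hT' := isKleinFour_subgroupOf hT hTS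
  obtain ⟨a, haN, hxor⟩ := relIndex_eq_two_iff.1 (d.relIndex_kleinFour hT')
  have haT : a ∉ T.subgroupOf (S : Subgroup G) := fun h => by
    rcases hxor 1 (one_mem _) with ⟨-, h1⟩ | ⟨-, h1⟩
    · exact h1 (one_mem _)
    · exact h1 (by rwa [one_mul])
  refine le_of_relIndex_two h₁ (centralizer_le
    (Set.singleton_subset_iff.2 (d.four_sylow S hT hTS).1)) (a := (a : G)) ?_ ?_ ?_
  · have : a ∈ (normalizer (T : Set G)).subgroupOf (S : Subgroup G) := by
      rw [subgroupOf_normalizer_eq hTS]; exact haN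
    exact this
  · intro h
    apply haT
    rw [← d.centralizer_kleinFour hT']
    exact fun t ht => Subtype.ext (h t ht)
  · exact mem_centralizer_singleton_iff.2
      (congrArg Subtype.val (mem_center_iff.1 d.z_mem_center a))

/-- If the normalizers of four-groups centralize `Z(S)`, the centre is weakly closed. -/
theorem SDPair.conj_z_eq {T : Subgroup G} (hT : IsKleinFour T) (hTS : T ≤ (S : Subgroup G))
    (hN : normalizer (T : Set G) ≤ centralizer {(↑(x ^ hh n) : G)}) (g : G)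
    (hg : g * (↑(x ^ hh n) : G) * g⁻¹ ∈ (S : Subgroup G)) :
    g * (↑(x ^ hh n) : G) * g⁻¹ = (↑(x ^ hh n) : G) := by
  haveI : Fact (Nat.Prime 2) := ⟨Nat.prime_two⟩
  refine fusion_induction S (fun v => v = (↑(x ^ hh n) : G)) ?_ (SetLike.coe_mem _) rfl g hg
  intro D hD u hu v hvD hv
  change v = _ at hv
  subst hv
  set z : G := (↑(x ^ hh n) : G) with hz
  set v' := u * z * u⁻¹ with hv'
  show v' = z
  by_contra hne
  have hv'D : v' ∈ D := (mem_normalizer_iff.1 hu z).1 hvD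
  have hv'o : orderOf v' = 2 := by
    rw [hv', hz]
    exact ((MulAut.conj u).orderOf_eq _).trans (by rw [orderOf_coe]; exact d.orderOf_z)
  rcases d.sylow_invol S (hD hv'D) hv'o with h | ⟨k, hk, h⟩
  · exact hne h
  obtain ⟨hzT, i, hi, hiT, m⟩ := d.four_sylow S hT hTS
  obtain ⟨j, hj⟩ := d.exists_conj (i := i) (i' := k) (dvd_sub hk hi)
  set s : G := (↑(x ^ j) : G) with hs
  have hsS : s ∈ (S : Subgroup G) := SetLike.coe_mem _
  have hsz : s * z * s⁻¹ = z := congrArg Subtype.val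
    (mul_inv_eq_iff_eq_mul.2 ((Commute.refl x).zpow_zpow j (hh n)).eq)
  have hsv : s * (↑(x ^ i * y) : G) * s⁻¹ = v' := (congrArg Subtype.val hj).trans h.symm
  have hcv : ∀ e ∈ D, Commute e v' := by
    intro e he
    have he' : u⁻¹ * e * u ∈ D := (mem_normalizer_iff''.1 hu e).1 he
    have hc : u⁻¹ * e * u * z = z * (u⁻¹ * e * u) :=
      congrArg Subtype.val (mem_center_iff.1 d.z_mem_center ⟨_, hD he'⟩)
    show e * v' = v' * e
    calc e * v' = u * (u⁻¹ * e * u * z) * u⁻¹ := by rw [hv']; group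
      _ = v' * e := by rw [hc, hv']; group
  have hiff : ∀ t : G, t ∈ T ↔ s * t * s⁻¹ ∈ D := by
    intro t
    constructor
    · intro ht
      obtain ⟨t', rfl⟩ : ∃ t' : (S : Subgroup G), (t' : G) = t := ⟨⟨t, hTS ht⟩, rfl⟩
      rcases (m t').1 ht with rfl | rfl | rfl | rfl
      · simp
      · rw [← hz, hsz]; exact hvD
      · rw [hsv]; exact hv'D
      · rw [Subgroup.coe_mul, ← hz, show s * (z * (↑(x ^ i * y) : G)) * s⁻¹ =
          (s * z * s⁻¹) * (s * (↑(x ^ i * y) : G) * s⁻¹) by group, hsz, hsv]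
        exact mul_mem hvD hv'D
    · intro ht
      obtain ⟨t', rfl⟩ : ∃ t' : (S : Subgroup G), (t' : G) = t := by
        refine ⟨⟨t, ?_⟩, rfl⟩
        have := mul_mem (mul_mem (inv_mem hsS) (hD ht)) hsS
        rwa [show s⁻¹ * (s * t * s⁻¹) * s = t by group] at this
      have hc : Commute (t' : G) (↑(x ^ i * y) : G) := by
        have := hcv _ ht
        rw [← hsv] at this
        exact (Commute.conj_iff s).1 this
      suffices t' ∈ T.subgroupOf (S : Subgroup G) from this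
      rw [← d.centralizer_kleinFour (isKleinFour_subgroupOf hT hTS)]
      intro a ha
      have hcz : Commute (x ^ hh n) t' := (mem_center_iff.1 d.z_mem_center t').symm
      have hci : Commute (x ^ i * y) t' := (Subtype.ext hc.eq : t' * (x ^ i * y) = _).symm
      rcases (m a).1 ha with rfl | rfl | rfl | rfl
      exacts [(Commute.one_left t').eq, hcz.eq, hci.eq, (hcz.mul_left hci).eq]
  have hu' : s⁻¹ * u * s ∈ normalizer (T : Set G) := by
    rw [mem_normalizer_iff]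
    intro t
    rw [hiff, hiff, show s * (s⁻¹ * u * s * t * (s⁻¹ * u * s)⁻¹) * s⁻¹ =
      u * (s * t * s⁻¹) * u⁻¹ by group]
    exact mem_normalizer_iff.1 hu _
  have hc : Commute (s⁻¹ * u * s) z := mem_centralizer_singleton_iff.1 (hN hu')
  have hcs : Commute s z := mul_inv_eq_iff_eq_mul.1 hsz
  have hcu : Commute u z := by
    have := (hcs.mul_left hc).mul_left hcs.inv_left
    rwa [show s * (s⁻¹ * u * s) * s⁻¹ = u by group] at this
  exact hne (mul_inv_eq_iff_eq_mul.2 hcu.eq)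

/-- If the automizer of a four-group has order six, all involutions are conjugate. -/
theorem SDPair.isConj_z_of_six {T : Subgroup G} (hT : IsKleinFour T) (hTS : T ≤ (S : Subgroup G))
    (h₁ : (centralizer (T : Set G)).relIndex (normalizer (T : Set G)) = 6)
    (a : (S : Subgroup G)) (ha : orderOf a = 2) : IsConj (a : G) (↑(x ^ hh n) : G) := by
  obtain ⟨g, hgN, hgC, hg⟩ := exists_odd_mem_notMem (H := centralizer (T : Set G))
    (N := normalizer (T : Set G)) (by rw [h₁]; norm_num)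
  obtain ⟨hzT, i, hi, hiT, m⟩ := d.four_sylow S hT hTS
  set z : G := (↑(x ^ hh n) : G) with hz
  have hz1 : z ≠ 1 := fun h => d.z_ne_one (Subtype.ext h)
  have hv : g * z * g⁻¹ ∈ T := (mem_normalizer_iff.1 hgN z).1 hzT
  obtain ⟨v, hv'⟩ : ∃ v : (S : Subgroup G), (v : G) = g * z * g⁻¹ := ⟨⟨_, hTS hv⟩, rfl⟩
  have hvz : IsConj z (v : G) := isConj_iff.2 ⟨g, hv'.symm⟩
  have hall : ∀ l k : ℤ, 2 ∣ k - l → IsConj (↑(x ^ l * y) : G) (↑(x ^ k * y) : G) := by
    intro l k hlk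
    obtain ⟨j, hj⟩ := d.exists_conj hlk
    exact isConj_iff.2 ⟨(↑(x ^ j) : G), congrArg Subtype.val hj⟩
  obtain ⟨l, hl, hzl⟩ : ∃ l : ℤ, 2 ∣ l ∧ IsConj z (↑(x ^ l * y) : G) := by
    rcases (m v).1 (hv'.symm ▸ hv) with h | h | h | h
    · exfalso
      rw [h, Subgroup.coe_one] at hv'
      exact hz1 (conj_eq_one_iff.1 hv'.symm)
    · exfalso
      refine hgC (mem_centralizer_of_fix_kleinFour hT hgN hg hzT hz1 ?_)
      rw [← hv', h]
    · exact ⟨i, hi, h ▸ hvz⟩
    · refine ⟨hh n + i, dvd_add ⟨qq n, d.hh_eq⟩ hi, ?_⟩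
      rw [zpow_add, mul_assoc, ← h]
      exact hvz
  rcases d.orderOf_eq_two_iff.1 ha with rfl | ⟨k, hk, rfl⟩
  · exact IsConj.refl _
  · exact (hzl.trans (hall l k (dvd_sub hk hl))).symm

theorem SDPair.conj_qq_mem_normalizer (a : (S : Subgroup G)) :
    (a : G) ∈ normalizer (zpowers (↑(x ^ qq n) : G) : Set G) := by
  refine mem_normalizer_iff_map_conj_eq.2 ?_
  rw [MonoidHom.map_zpowers]
  show zpowers ((↑(a * x ^ qq n * a⁻¹) : G)) = _
  rcases d.conj_qq_cases a with h | h <;> rw [h]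
  rw [Subgroup.coe_inv, zpowers_inv]

/-- If the automizer of a quaternion group has order two, its normalizer normalizes
`⟨x^(2^(n-2))⟩`. -/
theorem SDPair.normalizer_quaternion_le {Q : Subgroup G} (hQS : Q ≤ (S : Subgroup G))
    (eQ : Q ≃* QuaternionGroup 2)
    (h₂ : (Q ⊔ centralizer (Q : Set G)).relIndex (normalizer (Q : Set G)) = 2) :
    normalizer (Q : Set G) ≤ normalizer (zpowers (↑(x ^ qq n) : G) : Set G) := by
  have eQ' := (subgroupOfEquivOfLe hQS).trans eQ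
  obtain ⟨a, haN, hxor⟩ := relIndex_eq_two_iff.1 (d.relIndex_quaternion eQ')
  have haQ : a ∉ Q.subgroupOf (S : Subgroup G) := fun h => by
    rcases hxor 1 (one_mem _) with ⟨-, h1⟩ | ⟨-, h1⟩
    · exact h1 (one_mem _)
    · exact h1 (by rwa [one_mul])
  refine le_of_relIndex_two h₂ (sup_le (fun q hq => d.conj_qq_mem_normalizer S ⟨q, hQS hq⟩) ?_)
    (a := (a : G)) ?_ ?_ (d.conj_qq_mem_normalizer S a)
  · exact (centralizer_le (zpowers_le.2 (d.quaternion_sylow S hQS eQ).1)).trans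
      (centralizer_le_normalizer _)
  · have : a ∈ (normalizer (Q : Set G)).subgroupOf (S : Subgroup G) := by
      rw [subgroupOf_normalizer_eq hQS]; exact haN
    exact this
  · intro h
    rw [← SetLike.mem_coe, coe_mul_of_right_le_normalizer_left _ _
      (centralizer_le_normalizer _)] at h
    obtain ⟨q, hq, c, hc, hqc⟩ := h
    apply haQ
    set c' : (S : Subgroup G) := (⟨q, hQS hq⟩ : (S : Subgroup G))⁻¹ * a with hc'
    have hcc : (c' : G) = c := by
      show q⁻¹ * (a : G) = c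
      rw [← hqc]; group
    have h1 : c' ∈ centralizer (Q.subgroupOf (S : Subgroup G) : Set (S : Subgroup G)) :=
      fun t ht => Subtype.ext (by
        show (t : G) * (c' : G) = (c' : G) * (t : G)
        rw [hcc]; exact hc t ht)
    rw [d.centralizer_quaternion eQ'] at h1
    have h2 := map_subtype_le _ h1
    have := mul_mem (show (⟨q, hQS hq⟩ : (S : Subgroup G)) ∈ Q.subgroupOf _ from hq) h2
    rwa [hc', mul_inv_cancel_left] at this

/-- If the normalizers of quaternion groups normalize `⟨x^(2^(n-2))⟩`, this generator has no other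
conjugates in `S` but its inverse. -/
theorem SDPair.conj_w_mem {Q : Subgroup G} (hQS : Q ≤ (S : Subgroup G))
    (eQ : Q ≃* QuaternionGroup 2)
    (hN : normalizer (Q : Set G) ≤ normalizer (zpowers (↑(x ^ qq n) : G) : Set G)) (g : G)
    (hg : g * (↑(x ^ qq n) : G) * g⁻¹ ∈ (S : Subgroup G)) :
    g * (↑(x ^ qq n) : G) * g⁻¹ = (↑(x ^ qq n) : G) ∨
      g * (↑(x ^ qq n) : G) * g⁻¹ = (↑(x ^ qq n) : G)⁻¹ := by
  haveI : Fact (Nat.Prime 2) := ⟨Nat.prime_two⟩
  set w : G := (↑(x ^ qq n) : G) with hw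
  refine fusion_induction S (fun v => v = w ∨ v = w⁻¹) ?_ (SetLike.coe_mem _) (Or.inl rfl) g hg
  intro D hD u hu v hvD hv
  show u * v * u⁻¹ = w ∨ u * v * u⁻¹ = w⁻¹
  change v = w ∨ v = w⁻¹ at hv
  have hwD : w ∈ D := by
    rcases hv with rfl | rfl
    exacts [hvD, inv_mem_iff.1 hvD]
  suffices main : u * w * u⁻¹ = w ∨ u * w * u⁻¹ = w⁻¹ by
    rcases hv with rfl | rfl
    · exact main
    · rw [← conj_inv]
      rcases main with h | h <;> rw [h]
      · exact Or.inr rfl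
      · exact Or.inl (inv_inv w)
  set v' := u * w * u⁻¹ with hv'
  by_contra hne
  push Not at hne
  have hv'D : v' ∈ D := (mem_normalizer_iff.1 hu w).1 hwD
  have hv'o : orderOf v' = 4 := by
    rw [hv', hw]
    exact ((MulAut.conj u).orderOf_eq _).trans
      (by rw [orderOf_coe]; exact d.orderOf_eq_four_iff.2 (Or.inl rfl))
  rcases d.sylow_four S (hD hv'D) hv'o with h | h | ⟨k, hk, h⟩
  · exact hne.1 h
  · exact hne.2 h
  have hfin : ∀ l : ℤ, (↑(x ^ l) : G) ∈ D → qq n ∣ l := by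
    intro l hl
    obtain ⟨e, he⟩ : ∃ e : (S : Subgroup G), (e : G) = u * (↑(x ^ l) : G) * u⁻¹ :=
      ⟨⟨_, hD ((mem_normalizer_iff.1 hu _).1 hl)⟩, rfl⟩
    have h4 : e ^ 4 = 1 := by
      obtain ⟨b, rfl | rfl⟩ := d.eq_cases e
      · have hc : Commute (x ^ b) (x ^ k * y) := by
          refine Subtype.ext ?_
          show (↑(x ^ b) : G) * (↑(x ^ k * y) : G) = (↑(x ^ k * y) : G) * (↑(x ^ b) : G)
          rw [← h, he, hv', hw]
          have h0 : (↑(x ^ l) : G) * (↑(x ^ qq n) : G) = (↑(x ^ qq n) : G) * (↑(x ^ l) : G) :=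
            congrArg Subtype.val ((Commute.refl x).zpow_zpow l (qq n)).eq
          exact ((Commute.conj_iff u).2 h0).eq
        rcases d.zpow_of_hh_dvd (d.commute_zpow_zpow_y.1 hc) with e0 | e0 <;> rw [e0]
        · exact one_pow 4
        · rw [show 4 = 2 * 2 from rfl, pow_mul, sq (x ^ hh n), d.z_sq, one_pow]
      · exact d.pow_four_zpow_y b
    refine d.qq_dvd_of_pow_four (Subtype.ext ?_)
    rw [Subgroup.coe_pow, Subgroup.coe_one, ← conj_eq_one_iff (a := u), ← conj_pow, ← he,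
      ← Subgroup.coe_pow, h4, Subgroup.coe_one]
  obtain ⟨hwQ, i, hi, hiQ, m⟩ := d.quaternion_sylow S hQS eQ
  obtain ⟨j, hj⟩ := d.exists_conj (i := i) (i' := k) (by omega)
  set s : G := (↑(x ^ j) : G) with hs
  have hsS : s ∈ (S : Subgroup G) := SetLike.coe_mem _
  have hcs : ∀ a : ℤ, s * (↑(x ^ a) : G) * s⁻¹ = (↑(x ^ a) : G) := fun a => congrArg Subtype.val
    (mul_inv_eq_iff_eq_mul.2 ((Commute.refl x).zpow_zpow j a).eq)
  have hsv : s * (↑(x ^ i * y) : G) * s⁻¹ = v' := (congrArg Subtype.val hj).trans h.symm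
  have hiff : ∀ t : G, t ∈ Q ↔ s * t * s⁻¹ ∈ D := by
    intro t
    constructor
    · intro ht
      obtain ⟨t', rfl⟩ : ∃ t' : (S : Subgroup G), (t' : G) = t := ⟨⟨t, hQS ht⟩, rfl⟩
      obtain ⟨a, rfl | rfl⟩ := (m t').1 ht
      · rw [hcs, zpow_mul, Subgroup.coe_zpow, ← hw]
        exact zpow_mem hwD a
      · rw [show x ^ (qq n * a + i) * y = x ^ (qq n * a) * (x ^ i * y) by rw [zpow_add, mul_assoc],
          Subgroup.coe_mul, show s * ((↑(x ^ (qq n * a)) : G) * (↑(x ^ i * y) : G)) * s⁻¹ =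
            (s * (↑(x ^ (qq n * a)) : G) * s⁻¹) * (s * (↑(x ^ i * y) : G) * s⁻¹) by group,
          hcs, hsv, zpow_mul, Subgroup.coe_zpow, ← hw]
        exact mul_mem (zpow_mem hwD a) hv'D
    · intro ht
      obtain ⟨t', rfl⟩ : ∃ t' : (S : Subgroup G), (t' : G) = t := by
        refine ⟨⟨t, ?_⟩, rfl⟩
        have := mul_mem (mul_mem (inv_mem hsS) (hD ht)) hsS
        rwa [show s⁻¹ * (s * t * s⁻¹) * s = t by group] at this
      obtain ⟨a, rfl | rfl⟩ := d.eq_cases t'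
      · rw [hcs] at ht
        obtain ⟨c, rfl⟩ := hfin a ht
        exact (m _).2 ⟨c, Or.inl rfl⟩
      · have e1 : x ^ a * y = x ^ (a - i) * (x ^ i * y) := by
          rw [← mul_assoc, ← zpow_add, sub_add_cancel]
        rw [e1, Subgroup.coe_mul,
          show s * ((↑(x ^ (a - i)) : G) * (↑(x ^ i * y) : G)) * s⁻¹ =
            (s * (↑(x ^ (a - i)) : G) * s⁻¹) * (s * (↑(x ^ i * y) : G) * s⁻¹) by group,
          hcs, hsv] at ht
        obtain ⟨c, hc⟩ := hfin (a - i) (by simpa using mul_mem ht (inv_mem hv'D))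
        exact (m _).2 ⟨c, Or.inr (by rw [show a = qq n * c + i by linarith])⟩
  have hu' : s⁻¹ * u * s ∈ normalizer (Q : Set G) := by
    rw [mem_normalizer_iff]
    intro t
    rw [hiff, hiff, show s * (s⁻¹ * u * s * t * (s⁻¹ * u * s)⁻¹) * s⁻¹ =
      u * (s * t * s⁻¹) * u⁻¹ by group]
    exact mem_normalizer_iff.1 hu _
  obtain ⟨c, hc⟩ := (mem_normalizer_iff.1 (hN hu') w).1 (mem_zpowers w)
  have hc' : w ^ c = s⁻¹ * u * s * w * (s⁻¹ * u * s)⁻¹ := hc
  have h1 : s * w ^ c * s⁻¹ = v' := by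
    rw [hc', hv']
    calc s * (s⁻¹ * u * s * w * (s⁻¹ * u * s)⁻¹) * s⁻¹ = u * (s * w * s⁻¹) * u⁻¹ := by group
      _ = u * w * u⁻¹ := by rw [hw, hcs]
  rw [hw, ← Subgroup.coe_zpow, ← zpow_mul, hcs, h] at h1
  exact d.zpow_y_ne_zpow k _ (Subtype.ext h1.symm)

/-- If the automizer of a quaternion group has order six, all elements of order four are
conjugate. -/
theorem SDPair.isConj_w_of_six {Q : Subgroup G} (hQS : Q ≤ (S : Subgroup G))
    (eQ : Q ≃* QuaternionGroup 2)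
    (h₂ : (Q ⊔ centralizer (Q : Set G)).relIndex (normalizer (Q : Set G)) = 6)
    (a : (S : Subgroup G)) (ha : orderOf a = 4) : IsConj (a : G) (↑(x ^ qq n) : G) := by
  obtain ⟨g, hgN, hgC, hg⟩ := exists_odd_mem_notMem (H := Q ⊔ centralizer (Q : Set G))
    (N := normalizer (Q : Set G)) (by rw [h₂]; norm_num)
  obtain ⟨hwQ, i, hi, hiQ, m⟩ := d.quaternion_sylow S hQS eQ
  set w : G := (↑(x ^ qq n) : G) with hw
  have hv : g * w * g⁻¹ ∈ Q := (mem_normalizer_iff.1 hgN w).1 hwQ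
  obtain ⟨v, hv'⟩ : ∃ v : (S : Subgroup G), (v : G) = g * w * g⁻¹ := ⟨⟨_, hQS hv⟩, rfl⟩
  have hall : ∀ l k : ℤ, 2 ∣ k - l → IsConj (↑(x ^ l * y) : G) (↑(x ^ k * y) : G) := by
    intro l k hlk
    obtain ⟨j, hj⟩ := d.exists_conj hlk
    exact isConj_iff.2 ⟨(↑(x ^ j) : G), congrArg Subtype.val hj⟩
  obtain ⟨l, hl, hwl⟩ : ∃ l : ℤ, ¬ 2 ∣ l ∧ IsConj w (↑(x ^ l * y) : G) := by
    obtain ⟨k, rfl | rfl⟩ := (m v).1 (hv'.symm ▸ hv)
    · exfalso
      refine hgC (mem_sup_right (mem_centralizer_of_fix_quaternion eQ hgN hg hwQ ?_ ?_))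
      · intro h
        rw [hw, ← Subgroup.coe_mul, OneMemClass.coe_eq_one, d.sq_eq_one_iff, d.hh_eq] at h
        have hq : (0 : ℤ) < qq n := pow_pos two_pos _
        have := Int.le_of_dvd hq h
        omega
      · rw [← hv', zpow_mul, Subgroup.coe_zpow]
        exact (Commute.refl w).zpow_left k
    · obtain ⟨q', hq'⟩ := d.even_qq
      exact ⟨qq n * k + i, fun h => hi ((dvd_add_right (dvd_mul_of_dvd_left ⟨q', hq'⟩ k)).1 h),
        isConj_iff.2 ⟨g, hv'.symm⟩⟩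
  rcases d.orderOf_eq_four_iff.1 ha with rfl | rfl | ⟨k, hk, rfl⟩
  · exact IsConj.refl _
  · exact IsConj.symm (isConj_iff.2 ⟨(y : G),
      congrArg Subtype.val (d.conj_zpow_qq y d.y_notMem)⟩)
  · exact (hwl.trans (hall l k (by omega))).symm

/-! ### Classes -/

theorem SDPair.invol_classes_one
    (h : ∀ a : (S : Subgroup G), orderOf a = 2 → IsConj (a : G) (↑(x ^ hh n) : G)) :
    Nat.card {C : ConjClasses G // ∃ t : G, orderOf t = 2 ∧ ConjClasses.mk t = C} = 1 := by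
  refine card_classes_one (a := (↑(x ^ hh n) : G)) (by rw [orderOf_coe]; exact d.orderOf_z)
    fun t ht => ?_
  obtain ⟨a, ha, hta⟩ := exists_isConj_sylow S (k := 1) (by simpa using ht)
  exact hta.trans (h a (by simpa using ha))

theorem SDPair.invol_classes_two
    (h : ∀ g : G, g * (↑(x ^ hh n) : G) * g⁻¹ ∈ (S : Subgroup G) →
      g * (↑(x ^ hh n) : G) * g⁻¹ = (↑(x ^ hh n) : G)) :
    Nat.card {C : ConjClasses G // ∃ t : G, orderOf t = 2 ∧ ConjClasses.mk t = C} = 2 := by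
  refine card_classes_two (a := (↑(x ^ hh n) : G)) (b := (↑(x ^ (0 : ℤ) * y) : G))
    (by rw [orderOf_coe]; exact d.orderOf_z)
    (by rw [orderOf_coe]; exact d.orderOf_zpow_y_even (dvd_zero 2)) ?_ fun t ht => ?_
  · intro hc
    obtain ⟨g, hg⟩ := isConj_iff.1 hc
    have := h g (hg ▸ SetLike.coe_mem _)
    rw [hg] at this
    exact d.zpow_y_ne_zpow 0 _ (Subtype.ext this)
  · obtain ⟨a, ha, hta⟩ := exists_isConj_sylow S (k := 1) (by simpa using ht)
    rcases d.orderOf_eq_two_iff.1 (by simpa using ha) with rfl | ⟨k, hk, rfl⟩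
    · exact Or.inl hta
    · obtain ⟨j, hj⟩ := d.exists_conj (i := k) (i' := 0) (by simpa using hk)
      exact Or.inr (hta.trans (isConj_iff.2 ⟨(↑(x ^ j) : G), congrArg Subtype.val hj⟩))

theorem SDPair.four_classes_one
    (h : ∀ a : (S : Subgroup G), orderOf a = 4 → IsConj (a : G) (↑(x ^ qq n) : G)) :
    Nat.card {C : ConjClasses G // ∃ t : G, orderOf t = 4 ∧ ConjClasses.mk t = C} = 1 := by
  refine card_classes_one (a := (↑(x ^ qq n) : G))
    (by rw [orderOf_coe]; exact d.orderOf_eq_four_iff.2 (Or.inl rfl)) fun t ht => ?_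
  obtain ⟨a, ha, hta⟩ := exists_isConj_sylow S (k := 2) (by simpa using ht)
  exact hta.trans (h a (by simpa using ha))

theorem SDPair.four_classes_two
    (h : ∀ g : G, g * (↑(x ^ qq n) : G) * g⁻¹ ∈ (S : Subgroup G) →
      g * (↑(x ^ qq n) : G) * g⁻¹ = (↑(x ^ qq n) : G) ∨
        g * (↑(x ^ qq n) : G) * g⁻¹ = (↑(x ^ qq n) : G)⁻¹) :
    Nat.card {C : ConjClasses G // ∃ t : G, orderOf t = 4 ∧ ConjClasses.mk t = C} = 2 := by
  refine card_classes_two (a := (↑(x ^ qq n) : G)) (b := (↑(x ^ (1 : ℤ) * y) : G))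
    (by rw [orderOf_coe]; exact d.orderOf_eq_four_iff.2 (Or.inl rfl))
    (by rw [orderOf_coe]; exact d.orderOf_zpow_y_odd (by omega)) ?_ fun t ht => ?_
  · intro hc
    obtain ⟨g, hg⟩ := isConj_iff.1 hc
    have := h g (hg ▸ SetLike.coe_mem _)
    rw [hg] at this
    rcases this with h' | h'
    · exact d.zpow_y_ne_zpow 1 _ (Subtype.ext h')
    · rw [← Subgroup.coe_inv, ← zpow_neg] at h'
      exact d.zpow_y_ne_zpow 1 _ (Subtype.ext h')
  · obtain ⟨a, ha, hta⟩ := exists_isConj_sylow S (k := 2) (by simpa using ht)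
    rcases d.orderOf_eq_four_iff.1 (by simpa using ha) with rfl | rfl | ⟨k, hk, rfl⟩
    · exact Or.inl hta
    · exact Or.inl (hta.trans (IsConj.symm (isConj_iff.2 ⟨(y : G),
        congrArg Subtype.val (d.conj_zpow_qq y d.y_notMem)⟩)))
    · obtain ⟨j, hj⟩ := d.exists_conj (i := k) (i' := 1) (by omega)
      exact Or.inr (hta.trans (isConj_iff.2 ⟨(↑(x ^ j) : G), congrArg Subtype.val hj⟩))

/-! ### The four cases -/

theorem SDPair.index_ne_two
    (hz : ∀ a : (S : Subgroup G), orderOf a = 2 → IsConj (a : G) (↑(x ^ hh n) : G))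
    (hw : ∀ a : (S : Subgroup G), orderOf a = 4 → IsConj (a : G) (↑(x ^ qq n) : G))
    (H : Subgroup G) : H.index ≠ 2 := by
  intro hH
  haveI : Fact (Nat.Prime 2) := ⟨Nat.prime_two⟩
  haveI := normal_of_index_eq_two hH
  have hsq : ∀ a : ℤ, 2 ∣ a → (↑(x ^ a) : G) ∈ H := by
    rintro a ⟨k, rfl⟩
    rw [mul_comm, zpow_mul, zpow_two, Subgroup.coe_mul, ← sq]
    exact sq_mem_of_index_two hH _
  have hconj : ∀ a b : G, b ∈ H → IsConj a b → a ∈ H := by
    intro a b hb hab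
    obtain ⟨g, rfl⟩ := isConj_iff.1 hab.symm
    exact (inferInstance : H.Normal).conj_mem b hb g
  have hy := hconj _ _ (hsq _ ⟨qq n, d.hh_eq⟩) (hz _ (d.orderOf_zpow_y_even (dvd_zero 2)))
  have hxy := hconj _ _ (hsq _ d.even_qq)
    (hw _ (d.orderOf_zpow_y_odd (i := 1) (by omega)))
  have hx : (x : G) ∈ H := by
    have := mul_mem hxy (inv_mem hy)
    simpa using this
  have hle : (S : Subgroup G) ≤ H := by
    intro g hg
    obtain ⟨i, e | e⟩ := d.eq_cases ⟨g, hg⟩ <;> rw [show g = _ from congrArg Subtype.val e]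
    · rw [Subgroup.coe_zpow]; exact zpow_mem hx i
    · rw [Subgroup.coe_mul, Subgroup.coe_zpow]
      exact mul_mem (zpow_mem hx i) (by simpa using hy)
  exact S.not_dvd_index (hH.symm.dvd.trans (index_dvd_of_le hle))

theorem SDPair.isWeaklyClosed_center
    (hz : ∀ g : G, g * (↑(x ^ hh n) : G) * g⁻¹ ∈ (S : Subgroup G) →
      g * (↑(x ^ hh n) : G) * g⁻¹ = (↑(x ^ hh n) : G)) :
    Cfsg.IsWeaklyClosed ((center (S : Subgroup G)).map (S : Subgroup G).subtype)
      (S : Subgroup G) := by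
  rw [d.center_eq, MonoidHom.map_zpowers]
  refine ⟨zpowers_le.2 (x ^ hh n).2, fun g hg => ?_⟩
  rw [MonoidHom.map_zpowers] at hg ⊢
  have hg' : g * (↑(x ^ hh n) : G) * g⁻¹ ∈ (S : Subgroup G) := hg (mem_zpowers _)
  show zpowers (g * (↑(x ^ hh n) : G) * g⁻¹) = _
  rw [hz g hg']
  rfl

theorem SDPair.exists_index_two_quaternion {Q : Subgroup G} (hQS : Q ≤ (S : Subgroup G))
    (eQ : Q ≃* QuaternionGroup 2)
    (h₂ : (Q ⊔ centralizer (Q : Set G)).relIndex (normalizer (Q : Set G)) = 6)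
    (hz : ∀ g : G, g * (↑(x ^ hh n) : G) * g⁻¹ ∈ (S : Subgroup G) →
      g * (↑(x ^ hh n) : G) * g⁻¹ = (↑(x ^ hh n) : G)) :
    ∃ K : Subgroup G, K.Normal ∧ K.index = 2 ∧
      (∀ P : Sylow 2 K, ∃ m : ℕ, 1 ≤ m ∧
        Nonempty ((P : Subgroup K) ≃* QuaternionGroup (2 ^ m))) ∧
      ∀ H : Subgroup K, H.index ≠ 2 := by
  obtain ⟨K, hKn, hK, hyK⟩ :=
    CfsgLib.Inv53.exists_index_two_notMem S ((d.maxSub 1).map (S : Subgroup G).subtype)
      (map_subtype_le _)
      (by rw [relIndex, subgroupOf, comap_map_eq_self_of_injective (subtype_injective _)]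
          exact d.index_maxSub 1)
      le_rfl
      (fun t _ ht => by
        rw [show 2 ^ (1 - 1) = 1 from rfl]
        exact lt_of_le_of_ne (orderOf_pos t) fun h => ht (orderOf_eq_one_iff.1 h.symm ▸ one_mem _))
      (x := (↑(x ^ (0 : ℤ) * y) : G))
      (by rw [orderOf_coe, d.orderOf_zpow_y_even (dvd_zero 2), pow_one])
      (fun g hg => by
        obtain ⟨a, ha, he⟩ := mem_map.1 hg
        have hao : orderOf a = 2 := by
          rw [← orderOf_coe, show (a : G) = _ from he]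
          exact ((MulAut.conj g).orderOf_eq _).trans
            (by rw [orderOf_coe]; exact d.orderOf_zpow_y_even (dvd_zero 2))
        rcases d.orderOf_eq_two_iff.1 hao with rfl | ⟨i, hi, rfl⟩
        · have he' : (↑(x ^ (0 : ℤ) * y) : G) = g⁻¹ * (↑(x ^ hh n) : G) * g⁻¹⁻¹ := by
            rw [show (↑(x ^ hh n) : G) = _ from he]; group
          have := hz g⁻¹ (he' ▸ SetLike.coe_mem _)
          rw [← he'] at this
          exact d.zpow_y_ne_zpow 0 _ (Subtype.ext this)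
        · have := d.zpow_y_mem_maxSub.1 ha
          omega)
  refine ⟨K, hKn, hK, ?_⟩
  have hsq : ∀ a : ℤ, 2 ∣ a → (↑(x ^ a) : G) ∈ K := by
    rintro a ⟨k, rfl⟩
    rw [mul_comm, zpow_mul, zpow_two, Subgroup.coe_mul, ← sq]
    exact sq_mem_of_index_two hK _
  have hodd : ∀ a : ℤ, ¬ 2 ∣ a → (↑(x ^ a * y) : G) ∈ K := by
    intro a ha
    obtain ⟨g, hg⟩ := isConj_iff.1
      (d.isConj_w_of_six S hQS eQ h₂ _ (d.orderOf_zpow_y_odd ha)).symm
    rw [← hg]
    exact hKn.conj_mem _ (hsq _ d.even_qq) g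
  have hKS : K.subgroupOf (S : Subgroup G) = d.maxSub 1 := by
    ext a
    rw [mem_subgroupOf]
    obtain ⟨i, rfl | rfl⟩ := d.eq_cases a
    · rw [d.zpow_mem_maxSub]
      refine ⟨fun h => by_contra fun hi => hyK ?_, hsq i⟩
      have h1 := mul_mem (inv_mem h) (hodd i hi)
      simpa using h1
    · rw [d.zpow_y_mem_maxSub]
      refine ⟨fun h => by_contra fun hi => hyK ?_, fun h => hodd i (by omega)⟩
      have h1 := mul_mem (inv_mem (hsq i (by omega))) h
      simpa using h1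
  refine ⟨fun P => ?_, fun H hH => ?_⟩
  · obtain ⟨e⟩ := nonempty_sylow_equiv_of_normal S K hKS P
    obtain ⟨e'⟩ := d.nonempty_equiv_maxSub_one
    exact ⟨n - 2, by have := d.le; omega, ⟨e.trans e'⟩⟩
  · obtain ⟨h3, hnorm⟩ := index_two_map_subtype hH
    obtain ⟨g, hgN, hgC, hg⟩ := exists_odd_mem_notMem (H := Q ⊔ centralizer (Q : Set G))
      (N := normalizer (Q : Set G)) (by rw [h₂]; norm_num)
    obtain ⟨hwQ, i, hi, hiQ, m⟩ := d.quaternion_sylow S hQS eQ
    have hQK : Q ≤ K := fun q hq => by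
      obtain ⟨k, e | e⟩ := (m ⟨q, hQS hq⟩).1 hq <;> rw [show q = _ from congrArg Subtype.val e]
      · exact hsq _ (d.even_qq.mul_right k)
      · exact hodd _ fun h => hi ((dvd_add_right (d.even_qq.mul_right k)).1 h)
    have hall : ∀ s : G, ∀ q ∈ Q, s * q * s⁻¹ ∈ H.map K.subtype := by
      intro s
      refine quaternion8_forall_mem eQ hgN hg (fun h => hgC (mem_sup_right h))
        (M := (H.map K.subtype).comap (MulAut.conj s).toMonoidHom) (fun a ha b hb => ?_)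
        fun a ha h => ?_
      · have := h3 _ (hKn.conj_mem a (hQK ha) s) _ (hKn.conj_mem b (hQK hb) s)
        rwa [show s * a * s⁻¹ * (s * b * s⁻¹) = s * (a * b) * s⁻¹ by group] at this
      · have hg' : s * g * s⁻¹ ∈ K := hKn.conj_mem g (mem_of_index_two_of_odd hK hg) s
        have := hnorm _ hg' _ h
        show s * (g * a * g⁻¹) * s⁻¹ ∈ H.map K.subtype
        rwa [show s * g * s⁻¹ * (MulAut.conj s).toMonoidHom a * (s * g * s⁻¹)⁻¹ =
          s * (g * a * g⁻¹) * s⁻¹ by simp [MulAut.conj_apply]; group] at this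
    have hoddH : ∀ a : ℤ, ¬ 2 ∣ a → (↑(x ^ a * y) : G) ∈ H.map K.subtype := by
      intro a ha
      obtain ⟨j, hj⟩ := d.exists_conj (i := i) (i' := a) (by omega)
      rw [← hj]
      exact hall (↑(x ^ j) : G) _ hiQ
    refine not_inf_le_of_index_two S K hH fun t ht => ?_
    obtain ⟨htS, htK⟩ := mem_inf.1 ht
    have htm : (⟨t, htS⟩ : (S : Subgroup G)) ∈ d.maxSub 1 := hKS.le (mem_subgroupOf.2 htK)
    obtain ⟨k, e | e⟩ := d.mem_maxSub.1 htm <;> rw [show t = _ from congrArg Subtype.val e]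
    · have h1 := mul_mem (hoddH (2 * k + 1) (by omega)) (inv_mem (hoddH 1 (by omega)))
      rw [← Subgroup.coe_inv, ← Subgroup.coe_mul, show x ^ (2 * k + 1) * y * (x ^ (1 : ℤ) * y)⁻¹ =
        x ^ (2 * k) by rw [zpow_add]; group] at h1
      exact h1
    · exact hoddH _ (by omega)

theorem SDPair.exists_index_two_dihedral {T : Subgroup G} (hT : IsKleinFour T)
    (hTS : T ≤ (S : Subgroup G))
    (h₁ : (centralizer (T : Set G)).relIndex (normalizer (T : Set G)) = 6)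
    (hw : ∀ g : G, g * (↑(x ^ qq n) : G) * g⁻¹ ∈ (S : Subgroup G) →
      g * (↑(x ^ qq n) : G) * g⁻¹ = (↑(x ^ qq n) : G) ∨
        g * (↑(x ^ qq n) : G) * g⁻¹ = (↑(x ^ qq n) : G)⁻¹) :
    ∃ K : Subgroup G, K.Normal ∧ K.index = 2 ∧
      (∀ P : Sylow 2 K, ∃ m : ℕ, Nonempty ((P : Subgroup K) ≃* DihedralGroup m)) ∧
      ∀ H : Subgroup K, H.index ≠ 2 := by
  obtain ⟨K, hKn, hK, hxyK⟩ :=
    CfsgLib.Inv53.exists_index_two_notMem S ((d.maxSub 0).map (S : Subgroup G).subtype)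
      (map_subtype_le _)
      (by rw [relIndex, subgroupOf, comap_map_eq_self_of_injective (subtype_injective _)]
          exact d.index_maxSub 0)
      (n := 2) one_le_two
      (fun t htS ht => by
        set a : (S : Subgroup G) := ⟨t, htS⟩ with hat
        have ha : a ∉ d.maxSub 0 := fun h => ht ⟨a, h, rfl⟩
        have ho1 : orderOf a ≠ 1 := fun h => ha (orderOf_eq_one_iff.1 h ▸ one_mem _)
        have ho2 : orderOf a ≠ 2 := fun h => by
          rcases d.orderOf_eq_two_iff.1 h with e | ⟨i, hi, e⟩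
          · exact ha (e ▸ d.zpow_mem_maxSub.2 ⟨qq n, d.hh_eq⟩)
          · exact ha (e ▸ d.zpow_y_mem_maxSub.2 (by simpa using hi))
        have : orderOf t = orderOf a := (orderOf_mk t htS).symm
        have := orderOf_pos a
        rw [show 2 ^ (2 - 1) = 2 from rfl]
        omega)
      (x := (↑(x ^ (1 : ℤ) * y) : G))
      (by rw [orderOf_coe, d.orderOf_zpow_y_odd (by omega)]; norm_num)
      (fun g hg => by
        obtain ⟨a, ha, he⟩ := mem_map.1 hg
        have hao : orderOf a = 4 := by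
          rw [← orderOf_coe, show (a : G) = _ from he]
          exact ((MulAut.conj g).orderOf_eq _).trans
            (by rw [orderOf_coe]; exact d.orderOf_zpow_y_odd (by omega))
        have hxy : ∀ c : G, (c = (↑(x ^ qq n) : G) ∨ c = (↑(x ^ qq n) : G)⁻¹) →
            (↑(x ^ (1 : ℤ) * y) : G) ≠ c := by
          rintro c (rfl | rfl) h
          · exact d.zpow_y_ne_zpow 1 _ (Subtype.ext h)
          · rw [← Subgroup.coe_inv, ← zpow_neg] at h
            exact d.zpow_y_ne_zpow 1 _ (Subtype.ext h)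
        rcases d.orderOf_eq_four_iff.1 hao with rfl | rfl | ⟨i, hi, rfl⟩
        · have he' : (↑(x ^ (1 : ℤ) * y) : G) = g⁻¹ * (↑(x ^ qq n) : G) * g⁻¹⁻¹ := by
            rw [show (↑(x ^ qq n) : G) = _ from he]; group
          exact hxy _ (hw g⁻¹ (he' ▸ SetLike.coe_mem _)) he'
        · have he' : (↑(x ^ (1 : ℤ) * y) : G)⁻¹ = g⁻¹ * (↑(x ^ qq n) : G) * g⁻¹⁻¹ := by
            have he2 : (↑(x ^ qq n) : G)⁻¹ = g * (↑(x ^ (1 : ℤ) * y) : G) * g⁻¹ :=
              (show (↑(x ^ qq n) : G)⁻¹ = (↑(x ^ (-qq n)) : G) by rw [zpow_neg]; rfl).trans he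
            rw [← inv_inv (↑(x ^ qq n) : G), he2]
            group
          rcases hw g⁻¹ (he' ▸ inv_mem (SetLike.coe_mem _)) with h | h <;> rw [← he'] at h
          · exact hxy _ (Or.inr rfl) (inv_eq_iff_eq_inv.1 h)
          · exact hxy _ (Or.inl rfl) (inv_injective h)
        · have := d.zpow_y_mem_maxSub.1 ha
          omega)
  refine ⟨K, hKn, hK, ?_⟩
  have hsq : ∀ a : ℤ, 2 ∣ a → (↑(x ^ a) : G) ∈ K := by
    rintro a ⟨k, rfl⟩
    rw [mul_comm, zpow_mul, zpow_two, Subgroup.coe_mul, ← sq]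
    exact sq_mem_of_index_two hK _
  have heven : ∀ a : ℤ, 2 ∣ a → (↑(x ^ a * y) : G) ∈ K := by
    intro a ha
    obtain ⟨g, hg⟩ := isConj_iff.1
      (d.isConj_z_of_six S hT hTS h₁ _ (d.orderOf_zpow_y_even ha)).symm
    rw [← hg]
    exact hKn.conj_mem _ (hsq _ ⟨qq n, d.hh_eq⟩) g
  have hKS : K.subgroupOf (S : Subgroup G) = d.maxSub 0 := by
    ext a
    rw [mem_subgroupOf]
    obtain ⟨i, rfl | rfl⟩ := d.eq_cases a
    · rw [d.zpow_mem_maxSub]
      refine ⟨fun h => by_contra fun hi => hxyK ?_, hsq i⟩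
      have h1 := mul_mem (mul_mem h (hsq (1 - i) (by omega))) (heven 0 (dvd_zero 2))
      rwa [← Subgroup.coe_mul, ← Subgroup.coe_mul, ← zpow_add, add_sub_cancel, zpow_zero,
        one_mul] at h1
    · rw [d.zpow_y_mem_maxSub, sub_zero]
      refine ⟨fun h => by_contra fun hi => hxyK ?_, heven i⟩
      have h1 := mul_mem (hsq (1 - i) (by omega)) h
      rwa [← Subgroup.coe_mul, ← mul_assoc, ← zpow_add, sub_add_cancel] at h1
  refine ⟨fun P => ?_, fun H hH => ?_⟩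
  · obtain ⟨e⟩ := nonempty_sylow_equiv_of_normal S K hKS P
    obtain ⟨e'⟩ := d.nonempty_equiv_maxSub_zero
    exact ⟨2 ^ (n - 1), ⟨e.trans e'⟩⟩
  · obtain ⟨h3, hnorm⟩ := index_two_map_subtype hH
    obtain ⟨g, hgN, hgC, hg⟩ := exists_odd_mem_notMem (H := centralizer (T : Set G))
      (N := normalizer (T : Set G)) (by rw [h₁]; norm_num)
    obtain ⟨hzT, i, hi, hiT, m⟩ := d.four_sylow S hT hTS
    have hTK : T ≤ K := fun q hq => by
      rcases (m ⟨q, hTS hq⟩).1 hq with e | e | e | e <;>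
        rw [show q = _ from congrArg Subtype.val e]
      · exact one_mem K
      · exact hsq _ ⟨qq n, d.hh_eq⟩
      · exact heven i hi
      · exact mul_mem (hsq _ ⟨qq n, d.hh_eq⟩) (heven i hi)
    have hall : ∀ s : G, ∀ q ∈ T, s * q * s⁻¹ ∈ H.map K.subtype := by
      intro s
      refine kleinFour_forall_mem hT hgN hg hgC
        (M := (H.map K.subtype).comap (MulAut.conj s).toMonoidHom) (fun a ha b hb => ?_)
        fun a ha h => ?_
      · have := h3 _ (hKn.conj_mem a (hTK ha) s) _ (hKn.conj_mem b (hTK hb) s)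
        rwa [show s * a * s⁻¹ * (s * b * s⁻¹) = s * (a * b) * s⁻¹ by group] at this
      · have hg' : s * g * s⁻¹ ∈ K := hKn.conj_mem g (mem_of_index_two_of_odd hK hg) s
        have := hnorm _ hg' _ h
        show s * (g * a * g⁻¹) * s⁻¹ ∈ H.map K.subtype
        rwa [show s * g * s⁻¹ * (MulAut.conj s).toMonoidHom a * (s * g * s⁻¹)⁻¹ =
          s * (g * a * g⁻¹) * s⁻¹ by simp [MulAut.conj_apply]; group] at this
    have hevenH : ∀ a : ℤ, 2 ∣ a → (↑(x ^ a * y) : G) ∈ H.map K.subtype := by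
      intro a ha
      obtain ⟨j, hj⟩ := d.exists_conj (i := i) (i' := a) (dvd_sub ha hi)
      rw [← hj]
      exact hall (↑(x ^ j) : G) _ hiT
    refine not_inf_le_of_index_two S K hH fun t ht => ?_
    obtain ⟨htS, htK⟩ := mem_inf.1 ht
    have htm : (⟨t, htS⟩ : (S : Subgroup G)) ∈ d.maxSub 0 := hKS.le (mem_subgroupOf.2 htK)
    obtain ⟨k, e | e⟩ := d.mem_maxSub.1 htm <;> rw [show t = _ from congrArg Subtype.val e]
    · have h1 := mul_mem (hevenH (2 * k) ⟨k, rfl⟩) (inv_mem (hevenH 0 (dvd_zero 2)))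
      rw [← Subgroup.coe_inv, ← Subgroup.coe_mul, show x ^ (2 * k) * y * (x ^ (0 : ℤ) * y)⁻¹ =
        x ^ (2 * k) by rw [zpow_zero]; group] at h1
      exact h1
    · exact hevenH _ (by omega)

theorem SDPair.hasNormalPComplement
    (hz : ∀ g : G, g * (↑(x ^ hh n) : G) * g⁻¹ ∈ (S : Subgroup G) →
      g * (↑(x ^ hh n) : G) * g⁻¹ = (↑(x ^ hh n) : G))
    (hw : ∀ g : G, g * (↑(x ^ qq n) : G) * g⁻¹ ∈ (S : Subgroup G) →
      g * (↑(x ^ qq n) : G) * g⁻¹ = (↑(x ^ qq n) : G) ∨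
        g * (↑(x ^ qq n) : G) * g⁻¹ = (↑(x ^ qq n) : G)⁻¹) :
    Cfsg.HasNormalPComplement 2 G := by
  haveI : Fact (Nat.Prime 2) := ⟨Nat.prime_two⟩
  refine CfsgLib.Transfer.hasNormalPComplement_of_local S fun D hD g hgN hgp => ?_
  have hg : Odd (orderOf g) := Nat.coprime_two_right.1 hgp
  let V : Subgroup G := D ⊓ (zpowers x).map (S : Subgroup G).subtype
  haveI : IsMulCommutative V := by
    refine ⟨⟨fun p q => Subtype.ext ?_⟩⟩
    obtain ⟨p', ⟨a, rfl⟩, hp'⟩ := mem_map.1 (mem_inf.1 p.2).2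
    obtain ⟨q', ⟨b, rfl⟩, hq'⟩ := mem_map.1 (mem_inf.1 q.2).2
    show (p : G) * q = q * p
    rw [← hp', ← hq', ← map_mul, ← map_mul]
    exact congrArg _ ((Commute.refl x).zpow_zpow a b).eq
  have himg : ∀ t ∈ V, g * t * g⁻¹ ∈ V := by
    intro t ht
    obtain ⟨htD, t', ⟨a, rfl⟩, rfl⟩ := ht
    have hD' := (mem_normalizer_iff.1 hgN _).1 htD
    refine mem_inf.2 ⟨hD', ?_⟩
    show g * (↑(x ^ a) : G) * g⁻¹ ∈ _
    obtain ⟨e, he⟩ : ∃ e : (S : Subgroup G), (e : G) = g * (↑(x ^ a) : G) * g⁻¹ :=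
      ⟨⟨_, hD hD'⟩, rfl⟩
    obtain ⟨b, rfl | rfl⟩ := d.eq_cases e
    · exact ⟨_, zpow_mem_zpowers x b, he⟩
    · have h4 : (x ^ a) ^ 4 = 1 := by
        refine Subtype.ext ?_
        rw [Subgroup.coe_pow, Subgroup.coe_one, ← conj_eq_one_iff (a := g), ← conj_pow, ← he,
          ← Subgroup.coe_pow, d.pow_four_zpow_y, Subgroup.coe_one]
      by_cases h2 : (x ^ a) ^ 2 = 1
      · rw [sq, d.sq_eq_one_iff] at h2
        rcases d.zpow_of_hh_dvd h2 with e1 | e1 <;> rw [e1] at he ⊢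
        · exact ⟨1, one_mem _, by simp⟩
        · exact ⟨_, zpow_mem_zpowers x (hh n), (hz g (he ▸ SetLike.coe_mem _)).symm⟩
      · have ho : orderOf (x ^ a) = 4 :=
          orderOf_eq_prime_pow (p := 2) (n := 1) (by simpa using h2)
            (by rw [show 2 ^ (1 + 1) = 4 from rfl]; exact h4)
        rcases d.orderOf_eq_four_iff.1 ho with e1 | e1 | ⟨i, hi, e1⟩
        · rw [e1] at he ⊢
          rcases hw g (he ▸ SetLike.coe_mem _) with h | h <;> rw [h]
          · exact ⟨_, zpow_mem_zpowers x (qq n), rfl⟩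
          · exact ⟨_, inv_mem (zpow_mem_zpowers x (qq n)), rfl⟩
        · rw [e1, zpow_neg, Subgroup.coe_inv, ← conj_inv] at he ⊢
          rcases hw g (inv_mem_iff.1 (he ▸ SetLike.coe_mem _)) with h | h <;> rw [h]
          · exact ⟨_, inv_mem (zpow_mem_zpowers x (qq n)), rfl⟩
          · exact ⟨_, zpow_mem_zpowers x (qq n), (inv_inv _).symm⟩
        · exact absurd e1.symm (d.zpow_y_ne_zpow i a)
  have hgV : g ∈ normalizer (V : Set G) := by
    refine mem_normalizer_iff_map_conj_eq.2 (eq_of_le_of_card_ge ?_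
      (card_map_of_injective (MulAut.conj g).injective).ge)
    rintro _ ⟨t, ht, rfl⟩
    exact himg t ht
  have hgC : g ∈ centralizer (V : Set G) := by
    refine mem_centralizer_of_fix_invol (S.2.to_le (inf_le_left.trans hD)) hgV ?_ ?_
    · intro t ht ht2
      obtain ⟨htD, t', ⟨a, rfl⟩, rfl⟩ := ht
      have h2 : x ^ a * x ^ a = 1 := Subtype.ext ht2
      show g * (↑(x ^ a) : G) * g⁻¹ = (↑(x ^ a) : G)
      rcases d.zpow_of_hh_dvd (d.sq_eq_one_iff.1 h2) with e1 | e1 <;> rw [e1]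
      · simp
      · refine hz g (hD ?_)
        have := (mem_normalizer_iff.1 hgN _).1 htD
        rwa [show (S : Subgroup G).subtype _ = (↑(x ^ a) : G) from rfl, e1] at this
    · rintro u hu ⟨k, hk⟩
      have h1 : u = 1 := orderOf_eq_one_iff.1 (Nat.eq_one_of_dvd_coprimes
        (Nat.Coprime.pow_left k (Nat.coprime_two_left.2 hg))
        (orderOf_dvd_of_pow_eq_one hk) (orderOf_dvd_of_mem_zpowers hu))
      rw [h1]; exact one_mem _
  intro b hb
  suffices h : g * b * g⁻¹ = b from (mul_inv_eq_iff_eq_mul.1 h).symm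
  have hfix : ∀ t ∈ V, g * t * g⁻¹ = t := fun t ht => by rw [← hgC t ht, mul_inv_cancel_right]
  by_cases hbV : b ∈ V
  · exact hfix b hbV
  have hb'D : g * b * g⁻¹ ∈ D := (mem_normalizer_iff.1 hgN b).1 hb
  have hb'V : g * b * g⁻¹ ∉ V := fun h => hbV (by
    have := hfix _ h
    rwa [mul_left_cancel (mul_right_cancel this)] at h)
  have hout : ∀ e ∈ D, e ∉ V → ∀ he : e ∈ (S : Subgroup G),
      (⟨e, he⟩ : (S : Subgroup G)) ∉ zpowers x :=
    fun e heD heV he h => heV (mem_inf.2 ⟨heD, _, h, rfl⟩)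
  have hc : b⁻¹ * (g * b * g⁻¹) ∈ V := by
    refine mem_inf.2 ⟨mul_mem (inv_mem hb) hb'D,
      ⟨⟨b, hD hb⟩⁻¹ * ⟨g * b * g⁻¹, hD hb'D⟩, ?_, rfl⟩⟩
    rw [SetLike.mem_coe, mul_mem_iff_of_index_two d.index_zpowers, inv_mem_iff]
    exact iff_of_false (hout b hb hbV _) (hout _ hb'D hb'V _)
  obtain ⟨k, hk⟩ := S.2.to_le (inf_le_left.trans hD) ⟨_, hc⟩
  have := eq_one_of_conj_eq_mul hg (b := b) (by rw [mul_inv_cancel_left]) (hfix _ hc)
    (congrArg Subtype.val hk)
  exact (inv_mul_eq_one.1 this).symm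

end CfsgLib.TwoGroups
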