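import Cfsg.Agent.TwoGroups.GLTwoType
import Cfsg.Agent.FusionSub.GUTwoSylow

/-!
The isomorphism type of a Sylow 2-subgroup of `GU(2,q)`, `q` odd.
-/

set_option autoImplicit false

namespace CfsgLib.TwoGroups.GUTwoType

open CfsgLib CfsgLib.FusionSub CfsgLib.FusionSub.GLTwo CfsgLib.FusionSub.GUTwo CfsgLib.Forms Matrix
open scoped MatrixGroups

section mono

variable {F : Type*} [Field F]

theorem isWreathed_mono {P : Subgroup (GL (Fin 2) F)} [Finite P] {n : ℕ} (hn : 2 ≤ n)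
    (hcard : Nat.card P = 2 ^ (2 * n + 1)) (hw : FusionSub.GLTwo.swap ∈ P) {t : Fˣ} (ht : orderOf t = 2 ^ n)
    (h1 : Δ (t, 1) ∈ P) (h2 : Δ (1, t) ∈ P) : Cfsg.IsWreathed P := by
  have hw' : Cfsg.IsWreathed P := by
    refine ⟨n, hn, hcard, ⟨Δ (t, 1), h1⟩, ⟨Δ (1, t), h2⟩, ⟨FusionSub.GLTwo.swap, hw⟩, ?_, ?_, ?_, ?_, ?_⟩
    · rw [← Subgroup.orderOf_coe, orderOf_injective Δ Δ_injective, Prod.orderOf, ht, orderOf_one,
        Nat.lcm_one_right]
    · refine Subtype.ext ?_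
      rw [Subgroup.coe_mul, Subgroup.coe_mul, ← map_mul, ← map_mul]
      simp [mul_comm]
    · rw [eq_bot_iff]
      rintro x ⟨⟨i, hi⟩, ⟨j, hj⟩⟩
      rw [Subgroup.mem_bot]
      have hi' := congrArg Subtype.val hi
      have hj' := congrArg Subtype.val hj
      simp only [Subgroup.coe_zpow, ← map_zpow] at hi' hj'
      have h := congrArg Prod.fst (Δ_injective (hi'.trans hj'.symm))
      simp only [Prod.pow_fst, _root_.one_zpow] at h
      refine Subtype.ext ?_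
      rw [Subgroup.coe_one, ← hi', map_eq_one_iff Δ Δ_injective]
      exact Prod.ext h (by simp)
    · rw [← Subgroup.orderOf_coe]
      refine orderOf_eq_prime (by rw [sq, FusionSub.GLTwo.swap_mul_swap]) fun h => ?_
      exact FusionSub.GLTwo.swap_ne_Δ 1 1 (h.trans (map_one Δ).symm)
    · exact Subtype.ext (FusionSub.GLTwo.swap_conj_Δ _ _)
  exact hw'

theorem dihedral_or_quasi_mono {P : Subgroup (GL (Fin 2) F)} [Finite P] (h2F : (2 : F) ≠ 0)
    (hP2 : IsPGroup 2 P) (hd : ∀ a b : Fˣ, (a = 1 ∨ a = -1) → (b = 1 ∨ b = -1) → Δ (a, b) ∈ P)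
    (hdiag : ∀ a b : Fˣ, Δ (a, b) ∈ P → (a = 1 ∨ a = -1) ∧ (b = 1 ∨ b = -1))
    (h16 : 16 ≤ Nat.card P) : (∃ m : ℕ, Nonempty (P ≃* DihedralGroup m)) ∨ Cfsg.IsQuasiDihedral P := by
  have : Fact (Nat.Prime 2) := ⟨Nat.prime_two⟩
  have hne : (-1 : Fˣ) ≠ 1 := fun h => h2F (by
    have := congrArg Units.val h
    simp at this
    linear_combination -this)
  let s : P := ⟨Δ (-1, 1), hd _ _ (Or.inr rfl) (Or.inl rfl)⟩
  have hs : orderOf s = 2 := by
    refine orderOf_eq_prime (Subtype.ext ?_) fun h => hne ?_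
    · rw [Subgroup.coe_pow, ← map_pow]
      exact (congrArg Δ (Prod.ext (by simp) (by simp) : ((-1, 1) : Fˣ × Fˣ) ^ 2 = 1)).trans (map_one Δ)
    · exact congrArg Prod.fst (Δ_injective ((congrArg Subtype.val h).trans (map_one Δ).symm))
  have hC : Nat.card (Subgroup.centralizer ({s} : Set P)) = 4 := by
    let f : Fin 2 → Fˣ := ![1, -1]
    have hf : ∀ i, f i = 1 ∨ f i = -1 := fun i => by
      fin_cases i <;> [exact Or.inl rfl; exact Or.inr rfl]
    have hfi : Function.Injective f := fun i j h => by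
      fin_cases i <;> fin_cases j <;> first | rfl | exact absurd h hne | exact absurd h.symm hne
    let g : Fin 2 × Fin 2 → Subgroup.centralizer ({s} : Set P) := fun x =>
      ⟨⟨Δ (f x.1, f x.2), hd _ _ (hf _) (hf _)⟩, Subgroup.mem_centralizer_singleton_iff.2
        (Subtype.ext (by
          show Δ (f x.1, f x.2) * Δ (-1, 1) = Δ (-1, 1) * Δ (f x.1, f x.2)
          rw [← map_mul, ← map_mul, mul_comm]))⟩
    rw [← Nat.card_eq_of_bijective g ⟨?_, ?_⟩, Nat.card_eq_fintype_card, Fintype.card_prod]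
    · rfl
    · intro x y h
      have h' : (f x.1, f x.2) = (f y.1, f y.2) :=
        Δ_injective (congrArg Subtype.val (congrArg Subtype.val h) :)
      exact Prod.ext (hfi (congrArg Prod.fst h')) (hfi (congrArg Prod.snd h'))
    · rintro ⟨⟨x, hx⟩, hxs⟩
      have hc : x * Δ (-1, 1) = Δ (-1, 1) * x :=
        congrArg Subtype.val (Subgroup.mem_centralizer_singleton_iff.1 hxs)
      have hc' := congrArg (fun u : GL (Fin 2) F => (u : Matrix (Fin 2) (Fin 2) F)) hc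
      simp only [Units.val_mul, coe_Δ] at hc'
      have e01 := congrFun (congrFun hc' 0) 1
      have e10 := congrFun (congrFun hc' 1) 0
      simp [Matrix.mul_apply, Fin.sum_univ_two] at e01 e10
      have h01 : (x : Matrix (Fin 2) (Fin 2) F) 0 1 = 0 := by
        have : (2 : F) * (x : Matrix (Fin 2) (Fin 2) F) 0 1 = 0 := by linear_combination e01
        simpa [h2F] using this
      have h10 : (x : Matrix (Fin 2) (Fin 2) F) 1 0 = 0 := by
        have : (2 : F) * (x : Matrix (Fin 2) (Fin 2) F) 1 0 = 0 := by linear_combination -e10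
        simpa [h2F] using this
      have hdet : IsUnit (x : Matrix (Fin 2) (Fin 2) F).det :=
        (Matrix.GeneralLinearGroup.det x).isUnit
      rw [Matrix.det_fin_two, h01, zero_mul, sub_zero, IsUnit.mul_iff] at hdet
      have hxΔ : x = Δ (hdet.1.unit, hdet.2.unit) := by
        ext i j
        fin_cases i <;> fin_cases j <;> simp [coe_Δ, h01, h10]
      obtain ⟨h1, h2⟩ := hdiag _ _ (hxΔ ▸ hx)
      have hord : ∀ a : Fˣ, (a = 1 ∨ a = -1) → ∃ i : Fin 2, f i = a := by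
        rintro a (rfl | rfl)
        · exact ⟨0, rfl⟩
        · exact ⟨1, rfl⟩
      obtain ⟨i, hi⟩ := hord _ h1
      obtain ⟨j, hj⟩ := hord _ h2
      refine ⟨(i, j), Subtype.ext (Subtype.ext ?_)⟩
      show Δ (f i, f j) = x
      rw [hi, hj, ← hxΔ]
  rcases CfsgLib.Inv53.dihedral_quasi_or_four hP2 s hs hC with h | h | h
  · exact Or.inl h
  · exact Or.inr h
  · omega

end mono

variable {F : Type*} [Field F] [Fintype F] {q : ℕ}

theorem quasi_of_dihedral_or (P : Sylow 2 (Cfsg.GU 2 F q)) (hodd : q % 2 = 1) (hF : Fintype.card F = q ^ 2)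
    {P' : Subgroup (GL (Fin 2) F)} (e : (P : Subgroup (Cfsg.GU 2 F q)) ≃* P')
    (h : (∃ m : ℕ, Nonempty (P' ≃* DihedralGroup m)) ∨ Cfsg.IsQuasiDihedral P') :
    Cfsg.IsQuasiDihedral (P : Subgroup (Cfsg.GU 2 F q)) := by
  rcases h with ⟨m, ⟨d⟩⟩ | h
  · obtain ⟨k, hk1, ⟨eq⟩⟩ := GUTwo.inc_preimage_quaternion hF hodd P
    obtain ⟨u, v, hu, hv, huv⟩ := quaternion_noncommuting hk1
    let f : QuaternionGroup (2 ^ k) →* DihedralGroup m :=
      ((e.trans d).toMonoidHom.comp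
        ((GUTwo.inc (F := F) (q := q)).subgroupComap (P : Subgroup (Cfsg.GU 2 F q)))).comp
        eq.symm.toMonoidHom
    have hf : Function.Injective f := by
      refine ((e.trans d).injective.comp ?_).comp eq.symm.injective
      intro a b hab
      exact Subtype.ext (GUTwo.inc_injective (congrArg Subtype.val hab))
    refine absurd ?_ huv
    apply hf
    rw [map_mul, map_mul]
    refine dihedral_commute ?_ ?_ <;> rw [← map_pow, ne_eq, map_eq_one_iff f hf] <;> assumption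
  · exact isQuasiDihedral_of_equiv h e.symm

theorem wreathed_aux (hF : Fintype.card F = q ^ 2) (hodd : q % 2 = 1)
    (P : Sylow 2 (Cfsg.GU 2 F q))
    (hw : (⟨FusionSub.GLTwo.swap, FusionSub.GUTwo.swap_mem⟩ : Cfsg.GU 2 F q) ∈ (P : Subgroup (Cfsg.GU 2 F q)))
    (hΔ : ∀ (a b : Fˣ) (ha : a ∈ normOne F q) (hb : b ∈ normOne F q),
        (∃ k : ℕ, orderOf a = 2 ^ k) → (∃ k : ℕ, orderOf b = 2 ^ k) →
        (⟨Δ (a, b), Δ_mem hF ha hb⟩ : Cfsg.GU 2 F q) ∈ (P : Subgroup (Cfsg.GU 2 F q))) (h4 : q % 4 = 3) :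
    Cfsg.IsWreathed (P : Subgroup (Cfsg.GU 2 F q)) := by
  have : Fact (Nat.Prime 2) := ⟨Nat.prime_two⟩
  have hoddF : Odd (Fintype.card F) := by rw [hF]; exact (Nat.odd_iff.2 hodd).pow
  have h2 : (2 : F) ≠ 0 := Linear.two_ne_zero_of_odd hoddF
  have hq : 2 ≤ q := two_le_q hF
  set P' := (P : Subgroup (Cfsg.GU 2 F q)).map (Cfsg.GU 2 F q).subtype with hP'
  let e := Subgroup.equivMapOfInjective (P : Subgroup (Cfsg.GU 2 F q)) (Cfsg.GU 2 F q).subtype
    (Subgroup.subtype_injective _)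
  have hcard : Nat.card P' = Nat.card (P : Subgroup (Cfsg.GU 2 F q)) := (Nat.card_congr e.toEquiv).symm
  have hP2 : IsPGroup 2 P' := P.isPGroup'.map _
  have hcardGU : Nat.card (Cfsg.GU 2 F q) = q * ((q + 1) * (q ^ 2 - 1)) := by
    rw [card_GU hF]
    simp [Finset.sum_range_succ, Finset.prod_range_succ, u]
  have hsq : q ^ 2 - 1 = (q + 1) * (q - 1) := by rw [← Nat.sq_sub_sq, one_pow]
  obtain ⟨n, o, ho, hno⟩ := Nat.exists_eq_pow_mul_and_not_dvd (n := q + 1) (by omega) 2 (by norm_num)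
  have hn2 : 2 ≤ n := by
    by_contra hlt
    have : n = 0 ∨ n = 1 := by omega
    rcases this with rfl | rfl
    · omega
    · obtain ⟨c, hc⟩ : Odd o := Nat.not_even_iff_odd.1 fun he => ho he.two_dvd
      omega
  obtain ⟨g, hg⟩ := IsCyclic.exists_generator (α := normOne F q)
  have hog : orderOf g = 2 ^ n * o := by
    rw [orderOf_eq_card_of_forall_mem_zpowers hg, card_normOne hF, hno]
  have hot : orderOf (((g ^ o : normOne F q)) : Fˣ) = 2 ^ n := by
    rw [Subgroup.orderOf_coe, orderOf_pow' g (fun h => ho (by rw [h]; exact dvd_zero 2)), hog,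
      Nat.gcd_eq_right (dvd_mul_left o _), Nat.mul_div_cancel _ (Nat.pos_of_ne_zero fun h =>
        ho (by rw [h]; exact dvd_zero 2))]
  have hone : (1 : Fˣ) ∈ normOne F q := one_mem _
  refine isWreathed_of_equiv (isWreathed_mono (P := P')  hn2 ?_ ⟨_, hw, rfl⟩ hot
    ⟨_, hΔ _ _ (g ^ o).2 hone ⟨n, hot⟩ ⟨0, by simp⟩, rfl⟩
    ⟨_, hΔ _ _ hone (g ^ o).2 ⟨0, by simp⟩ ⟨n, hot⟩, rfl⟩) e.symm
  rw [hcard]
  have h1 := P.card_eq_multiplicity
  obtain ⟨c, hc⟩ : ∃ c, q - 1 = 2 * (2 * c + 1) := ⟨(q - 3) / 4, by omega⟩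
  have hj : Nat.card (Cfsg.GU 2 F q) = 2 ^ (2 * n + 1) * (q * (o * o * (2 * c + 1))) := by
    rw [hcardGU, hsq, hno, hc]
    ring
  have hodd' : ¬ 2 ∣ q * (o * o * (2 * c + 1)) := by
    have hoddo : Odd o := Nat.not_even_iff_odd.1 fun he => ho he.two_dvd
    have h := (Nat.odd_iff.2 hodd).mul ((hoddo.mul hoddo).mul ⟨c, rfl⟩)
    exact fun hd => Nat.not_even_iff_odd.2 h (even_iff_two_dvd.2 hd)
  rw [hj, Nat.factorization_mul (pow_ne_zero _ two_ne_zero)
      (fun h => hodd' (by rw [h]; exact dvd_zero 2)),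
    Nat.prime_two.factorization_pow, Finsupp.add_apply, Finsupp.single_eq_same,
    Nat.factorization_eq_zero_of_not_dvd hodd', add_zero] at h1
  exact h1

theorem quasiDihedral_aux (hF : Fintype.card F = q ^ 2) (hodd : q % 2 = 1)
    (P : Sylow 2 (Cfsg.GU 2 F q))
    (hw : (⟨FusionSub.GLTwo.swap, FusionSub.GUTwo.swap_mem⟩ : Cfsg.GU 2 F q) ∈ (P : Subgroup (Cfsg.GU 2 F q)))
    (hΔ : ∀ (a b : Fˣ) (ha : a ∈ normOne F q) (hb : b ∈ normOne F q),
        (∃ k : ℕ, orderOf a = 2 ^ k) → (∃ k : ℕ, orderOf b = 2 ^ k) →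
        (⟨Δ (a, b), Δ_mem hF ha hb⟩ : Cfsg.GU 2 F q) ∈ (P : Subgroup (Cfsg.GU 2 F q))) (h4 : ¬ q % 4 = 3) :
    Cfsg.IsQuasiDihedral (P : Subgroup (Cfsg.GU 2 F q)) := by
  have : Fact (Nat.Prime 2) := ⟨Nat.prime_two⟩
  have hoddF : Odd (Fintype.card F) := by rw [hF]; exact (Nat.odd_iff.2 hodd).pow
  have h2 : (2 : F) ≠ 0 := Linear.two_ne_zero_of_odd hoddF
  have hq : 2 ≤ q := two_le_q hF
  set P' := (P : Subgroup (Cfsg.GU 2 F q)).map (Cfsg.GU 2 F q).subtype with hP'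
  let e := Subgroup.equivMapOfInjective (P : Subgroup (Cfsg.GU 2 F q)) (Cfsg.GU 2 F q).subtype
    (Subgroup.subtype_injective _)
  have hcard : Nat.card P' = Nat.card (P : Subgroup (Cfsg.GU 2 F q)) := (Nat.card_congr e.toEquiv).symm
  have hP2 : IsPGroup 2 P' := P.isPGroup'.map _
  have hcardGU : Nat.card (Cfsg.GU 2 F q) = q * ((q + 1) * (q ^ 2 - 1)) := by
    rw [card_GU hF]
    simp [Finset.sum_range_succ, Finset.prod_range_succ, u]
  have hsq : q ^ 2 - 1 = (q + 1) * (q - 1) := by rw [← Nat.sq_sub_sq, one_pow]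
  have hm1 : ∃ k : ℕ, orderOf (-1 : Fˣ) = 2 ^ k := by
    obtain ⟨k, -, hk⟩ := (Nat.dvd_prime_pow Nat.prime_two).1
      (orderOf_dvd_of_pow_eq_one (by simp : (-1 : Fˣ) ^ (2 ^ 1) = 1))
    exact ⟨k, hk⟩
  have hpm : ∀ a : Fˣ, (a = 1 ∨ a = -1) → a ∈ normOne F q ∧ ∃ k : ℕ, orderOf a = 2 ^ k := by
    rintro a (rfl | rfl)
    · exact ⟨one_mem _, 0, by simp⟩
    · exact ⟨neg_one_mem_normOne hodd, hm1⟩
  refine quasi_of_dihedral_or P hodd hF e (dihedral_or_quasi_mono (P := P') h2 hP2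
    (fun a b ha hb => ⟨_, hΔ a b (hpm a ha).1 (hpm b hb).1 (hpm a ha).2 (hpm b hb).2, rfl⟩)
    (fun a b hab => ?_) ?_)
  · obtain ⟨y, hy, hyv⟩ := hab
    have hN := (Δ_mem_iff hF).1 (show Δ (a, b) ∈ Cfsg.GU 2 F q from
      (show (y : GL (Fin 2) F) = Δ (a, b) from hyv) ▸ y.2)
    obtain ⟨k, hk⟩ := hP2 ⟨Δ (a, b), ⟨y, hy, hyv⟩⟩
    have hk' : Δ (a, b) ^ 2 ^ k = 1 := congrArg Subtype.val hk
    rw [← map_pow, map_eq_one_iff Δ Δ_injective, Prod.pow_mk, Prod.mk_eq_one] at hk'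
    have key : ∀ a : Fˣ, a ^ 2 ^ k = 1 → a ∈ normOne F q → a = 1 ∨ a = -1 := by
      intro a ha hn
      obtain ⟨j, -, hj⟩ := (Nat.dvd_prime_pow Nat.prime_two).1 (orderOf_dvd_of_pow_eq_one ha)
      have hd : orderOf a ∣ q + 1 := orderOf_dvd_of_pow_eq_one hn
      have hj1 : orderOf a ∣ 2 := by
        rcases j with _ | _ | j
        · rw [hj]; exact one_dvd _
        · rw [hj]; rfl
        · exfalso
          have h44 : 4 ∣ q + 1 := (hj ▸ pow_dvd_pow 2 (show 2 ≤ j + 1 + 1 by omega)).trans hd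
          omega
      have ha2 : (a : F) ^ 2 = 1 := by
        rw [← Units.val_pow_eq_pow_val, orderOf_dvd_iff_pow_eq_one.1 hj1, Units.val_one]
      rcases sq_eq_one_iff.1 ha2 with h | h
      · exact Or.inl (Units.ext h)
      · exact Or.inr (Units.ext (by simpa using h))
    exact ⟨key a hk'.1 hN.1, key b hk'.2 hN.2⟩
  · rw [hcard]
    have hd : 2 ^ 4 ∣ Nat.card (Cfsg.GU 2 F q) := by
      obtain ⟨c, hc⟩ : 2 ∣ q + 1 := by omega
      obtain ⟨d, hd⟩ : 4 ∣ q - 1 := by omega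
      refine ⟨q * (c * c * d), ?_⟩
      rw [hcardGU, hsq, hc, hd]
      ring
    exact Nat.le_of_dvd Nat.card_pos (P.pow_dvd_card_of_pow_dvd_card hd)


theorem sylow_type (hF : Fintype.card F = q ^ 2) (P : Sylow 2 (Cfsg.GU 2 F q)) :
    (q % 4 = 1 → Cfsg.IsQuasiDihedral (P : Subgroup (Cfsg.GU 2 F q))) ∧
      (q % 4 = 3 → Cfsg.IsWreathed (P : Subgroup (Cfsg.GU 2 F q))) := by
  have : Fact (Nat.Prime 2) := ⟨Nat.prime_two⟩
  obtain ⟨Q, hw, hΔ⟩ := GUTwo.exists_sylow hF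
  refine ⟨fun h => ?_, fun h => ?_⟩
  · exact isQuasiDihedral_of_equiv (quasiDihedral_aux hF (by omega) Q hw hΔ (by omega)) (Sylow.equiv Q P)
  · exact isWreathed_of_equiv (wreathed_aux hF (by omega) Q hw hΔ h) (Sylow.equiv Q P)

end CfsgLib.TwoGroups.GUTwoType
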