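import Cfsg.Agent.FusionSub.PSLThree
import Cfsg.Agent.Forms.SLThreeInvolutions

/-!
The centraliser of an involution of `PSL(3,q)`, `q` odd.
-/

set_option autoImplicit false

namespace CfsgLib.TwoGroups.PSLThreeInv

open Matrix CfsgLib CfsgLib.FusionSub
open scoped MatrixGroups

variable {F : Type*} [Field F]

theorem embThree_injective : Function.Injective (embThree (F := F)) := by
  intro g h e
  have e' := congrArg (fun x : SL(3, F) => x.1) e
  simp only [coe_embThree] at e'
  ext i j
  fin_cases i <;> fin_cases j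
  · exact congrFun (congrFun e' 0) 0
  · exact congrFun (congrFun e' 0) 1
  · exact congrFun (congrFun e' 1) 0
  · exact congrFun (congrFun e' 1) 1

/-- `diag(-1,-1,1)`. -/
def dd : SL(3, F) := embThree (GLTwo.Δ (-1, -1))

theorem coe_dd : (dd : SL(3, F)).1 = !![-1, 0, 0; 0, -1, 0; 0, 0, 1] := by
  rw [dd, coe_embThree]
  simp [GLTwo.coe_Δ, Matrix.det_fin_two]

theorem dd_mul_dd : (dd : SL(3, F)) * dd = 1 := by
  rw [dd, ← map_mul, ← map_mul, show ((-1, -1) * (-1, -1) : Fˣ × Fˣ) = 1 by simp, map_one, map_one]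

theorem centralizer_dd (h2 : (2 : F) ≠ 0) {x : SL(3, F)} (hx : x * dd = dd * x) :
    ∃ g, embThree g = x := by
  have hx' : x.1 * dd.1 = dd.1 * x.1 := congrArg (fun y : SL(3, F) => y.1) hx
  rw [coe_dd] at hx'
  have e02 := congrFun (congrFun hx' 0) 2
  have e12 := congrFun (congrFun hx' 1) 2
  have e20 := congrFun (congrFun hx' 2) 0
  have e21 := congrFun (congrFun hx' 2) 1
  simp [Matrix.mul_apply, Fin.sum_univ_three] at e02 e12 e20 e21
  have h02 : x.1 0 2 = 0 := by
    have : (2 : F) * x.1 0 2 = 0 := by linear_combination e02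
    simpa [h2] using this
  have h12 : x.1 1 2 = 0 := by
    have : (2 : F) * x.1 1 2 = 0 := by linear_combination e12
    simpa [h2] using this
  have h20 : x.1 2 0 = 0 := by
    have : (2 : F) * x.1 2 0 = 0 := by linear_combination -e20
    simpa [h2] using this
  have h21 : x.1 2 1 = 0 := by
    have : (2 : F) * x.1 2 1 = 0 := by linear_combination -e21
    simpa [h2] using this
  have hdet := x.2
  rw [Matrix.det_fin_three, h02, h12, h20, h21] at hdet
  have h1 : (!![x.1 0 0, x.1 0 1; x.1 1 0, x.1 1 1]).det * x.1 2 2 = 1 := by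
    rw [Matrix.det_fin_two_of]
    linear_combination hdet
  have hne : (!![x.1 0 0, x.1 0 1; x.1 1 0, x.1 1 1]).det ≠ 0 := fun h => by simp [h] at h1
  refine ⟨Matrix.GeneralLinearGroup.mkOfDetNeZero _ hne, Subtype.ext ?_⟩
  have h22 : x.1 2 2 = ((!![x.1 0 0, x.1 0 1; x.1 1 0, x.1 1 1]).det)⁻¹ := eq_inv_of_mul_eq_one_right h1
  rw [coe_embThree]
  ext i j
  fin_cases i <;> fin_cases j <;>
    simp [Matrix.GeneralLinearGroup.mkOfDetNeZero, h02, h12, h20, h21, h22]

/-- An involution of `GL(2,F)` other than `-1` is conjugate to `diag(-1,1)`. -/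
theorem exists_conj_of_sq (h2 : (2 : F) ≠ 0) {g : GL (Fin 2) F} (hg : g * g = 1) (h1 : g ≠ 1)
    (hm : g ≠ GLTwo.Δ (-1, -1)) : ∃ c : GL (Fin 2) F, g = c * GLTwo.Δ (-1, 1) * c⁻¹ := by
  have hg' : g.1 * g.1 = 1 := by
    rw [← Units.val_mul, hg, Units.val_one]
  have e00 := congrFun (congrFun hg' 0) 0
  have e01 := congrFun (congrFun hg' 0) 1
  have e10 := congrFun (congrFun hg' 1) 0
  have e11 := congrFun (congrFun hg' 1) 1
  simp [Matrix.mul_apply, Fin.sum_univ_two] at e00 e01 e10 e11
  set a := g.1 0 0 with ha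
  set b := g.1 0 1 with hb
  set c := g.1 1 0 with hc
  set d := g.1 1 1 with hd
  have had : d = -a := by
    by_contra hne
    have hne' : a + d ≠ 0 := fun h => hne (by linear_combination h)
    have hb0 : b = 0 := by
      have : (a + d) * b = 0 := by linear_combination e01
      simpa [hne'] using this
    have hc0 : c = 0 := by
      have : (a + d) * c = 0 := by linear_combination e10
      simpa [hne'] using this
    have haa : a = 1 ∨ a = -1 := sq_eq_one_iff.1 (by linear_combination e00 - c * hb0)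
    have hdd : d = 1 ∨ d = -1 := sq_eq_one_iff.1 (by linear_combination e11 - c * hb0)
    rcases haa with h | h <;> rcases hdd with h' | h'
    · apply h1
      ext i j
      fin_cases i <;> fin_cases j <;> simp [← ha, ← hb, ← hc, ← hd, h, h', hb0, hc0]
    · exact hne' (by rw [h, h']; ring)
    · exact hne' (by rw [h, h']; ring)
    · apply hm
      ext i j
      fin_cases i <;> fin_cases j <;>
        simp [GLTwo.coe_Δ, ← ha, ← hb, ← hc, ← hd, h, h', hb0, hc0]
  have key : ∀ (M : Matrix (Fin 2) (Fin 2) F), M.det ≠ 0 → g.1 * M = M * !![-1, 0; 0, 1] →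
      ∃ c : GL (Fin 2) F, g = c * GLTwo.Δ (-1, 1) * c⁻¹ := by
    intro M hM h
    refine ⟨Matrix.GeneralLinearGroup.mkOfDetNeZero M hM, ?_⟩
    rw [eq_mul_inv_iff_mul_eq]
    apply Units.ext
    simp [GLTwo.coe_Δ, Matrix.GeneralLinearGroup.mkOfDetNeZero, h]
  by_cases hb0 : b = 0
  · rcases (sq_eq_one_iff.1 (by linear_combination e00 - c * hb0) : a = 1 ∨ a = -1) with h | h
    · refine key !![0, 2; 1, c] (by simp [h2]) ?_
      ext i j
      fin_cases i <;> fin_cases j <;>
        simp [Matrix.mul_apply, Fin.sum_univ_two, ← ha, ← hb, ← hc, ← hd, hb0, had, h] <;> ring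
    · refine key !![2, 0; -c, 1] (by simp [h2]) ?_
      ext i j
      fin_cases i <;> fin_cases j <;>
        simp [Matrix.mul_apply, Fin.sum_univ_two, ← ha, ← hb, ← hc, ← hd, hb0, had, h] <;> ring
  · refine key !![b, b; -1 - a, 1 - a] ?_ ?_
    · rw [Matrix.det_fin_two_of]
      intro h
      have : (2 : F) * b = 0 := by linear_combination h
      simp [h2, hb0] at this
    · ext i j
      fin_cases i <;> fin_cases j <;>
        simp [Matrix.mul_apply, Fin.sum_univ_two, ← ha, ← hb, ← hc, ← hd, had] <;>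
        first | (ring; done) | linear_combination e00 | linear_combination -e00

variable [Fintype F]

/-- Every involution of `SL(3,F)`, `q` odd, is conjugate to `diag(-1,-1,1)`. -/
theorem exists_conj_dd (hodd : Odd (Fintype.card F)) {s : SL(3, F)} (hs1 : s ≠ 1) (hs : s * s = 1) :
    ∃ c : SL(3, F), s = c * dd * c⁻¹ := by
  have : Fact (Nat.Prime 2) := ⟨Nat.prime_two⟩
  have h2 : (2 : F) ≠ 0 := Linear.two_ne_zero_of_odd hodd
  obtain ⟨P⟩ : Nonempty (Sylow 2 (GL (Fin 2) F)) := inferInstance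
  obtain ⟨o, ho, hcard⟩ := sl_three_card_odd_index hodd
  let R := (P : Subgroup (GL (Fin 2) F)).map (embThree (F := F))
  have hRcard : Nat.card R = Nat.card (P : Subgroup (GL (Fin 2) F)) :=
    (Nat.card_congr (Subgroup.equivMapOfInjective _ _ embThree_injective).toEquiv).symm
  have hidx : ¬ 2 ∣ R.index := by
    intro h
    have h1 : R.index = (P : Subgroup (GL (Fin 2) F)).index * o := by
      refine Nat.eq_of_mul_eq_mul_right (Nat.card_pos (α := (P : Subgroup (GL (Fin 2) F)))) ?_
      rw [← hRcard, Subgroup.index_mul_card, hcard, ← Subgroup.index_mul_card (P : Subgroup (GL (Fin 2) F)),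
        hRcard]
      ring
    rw [h1] at h
    rcases Nat.prime_two.dvd_mul.1 h with h3 | h3
    · exact P.not_dvd_index h3
    · exact ho h3
  have hord : orderOf s = 2 := orderOf_eq_prime (by rw [sq, hs]) hs1
  have hsp : IsPGroup 2 (Subgroup.zpowers s) := IsPGroup.of_card (n := 1) (by rw [Nat.card_zpowers, hord, pow_one])
  obtain ⟨Q, hQ⟩ := hsp.exists_le_sylow
  obtain ⟨k, hk⟩ := MulAction.exists_smul_eq SL(3, F)
    ((P.isPGroup'.map _ : IsPGroup 2 R).toSylow hidx) Q
  have hsQ : s ∈ (Q : Subgroup SL(3, F)) := hQ (Subgroup.mem_zpowers s)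
  rw [← hk, Sylow.coe_subgroup_smul] at hsQ
  obtain ⟨_, ⟨g, -, rfl⟩, hgs⟩ := hsQ
  have hgs' : k * embThree g * k⁻¹ = s := hgs
  have hgg : g * g = 1 := by
    apply embThree_injective
    rw [map_mul, map_one]
    apply (MulAut.conj k).injective
    rw [map_mul, map_one, MulAut.conj_apply, hgs', hs]
  have hg1 : g ≠ 1 := fun h => hs1 (by rw [← hgs', h]; simp)
  by_cases hm : g = GLTwo.Δ (-1, -1)
  · exact ⟨k, by rw [← hgs', hm, dd]⟩
  · obtain ⟨c, hc⟩ := exists_conj_of_sq h2 hgg hg1 hm
    have hperm := permThree_conj (F := F) (-1) 1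
    rw [show ((-1 : Fˣ) * 1)⁻¹ = -1 by simp] at hperm
    refine ⟨k * embThree c * permThree⁻¹, ?_⟩
    rw [dd, ← hperm, ← hgs', hc]
    simp only [map_mul, map_inv, _root_.mul_inv_rev, inv_inv, mul_assoc, inv_mul_cancel_left]

theorem centralizer_equiv (hodd : Odd (Fintype.card F))
    (t : Matrix.ProjectiveSpecialLinearGroup (Fin 3) F) (ht : orderOf t = 2) :
    ∃ (Z : Subgroup (GL (Fin 2) F)) (_ : Z.Normal), Z ≤ Subgroup.center (GL (Fin 2) F) ∧
      Nat.card Z = Nat.gcd (Fintype.card F - 1) 3 ∧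
      Nonempty (↥(Subgroup.centralizer ({t} : Set (Matrix.ProjectiveSpecialLinearGroup (Fin 3) F))) ≃*
        GL (Fin 2) F ⧸ Z) := by
  have h2 : (2 : F) ≠ 0 := Linear.two_ne_zero_of_odd hodd
  have ht2 : t * t = 1 := by rw [← sq, ← ht, pow_orderOf_eq_one]
  have ht1 : t ≠ 1 := fun h => by rw [h, orderOf_one] at ht; omega
  obtain ⟨s, hs1, hs, hst⟩ := Forms.SLThreeInvolutions.exists_lift ht1 ht2
  obtain ⟨c, rfl⟩ := exists_conj_dd hodd hs1 hs
  let mk : SL(3, F) →* Matrix.ProjectiveSpecialLinearGroup (Fin 3) F :=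
    QuotientGroup.mk' (Subgroup.center SL(3, F))
  let emb : GL (Fin 2) F →* SL(3, F) := (MulAut.conj c).toMonoidHom.comp embThree
  have hemb : ∀ g, emb g = c * embThree g * c⁻¹ := fun _ => rfl
  have hcomm : ∀ g : GL (Fin 2) F, embThree g * dd = dd * embThree g := by
    intro g
    rw [dd, ← map_mul, ← map_mul]
    congr 1
    ext i j
    fin_cases i <;> fin_cases j <;> simp [GLTwo.coe_Δ, Matrix.mul_apply, Fin.sum_univ_two]
  have hmem : ∀ g, mk (emb g) ∈ Subgroup.centralizer ({t} : Set _) := by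
    intro g
    rw [Subgroup.mem_centralizer_singleton_iff, ← hst, ← map_mul, ← map_mul, hemb]
    congr 1
    simp only [mul_assoc, inv_mul_cancel_left, ← mul_assoc (embThree g), hcomm]
  let φ := (mk.comp emb).codRestrict _ hmem
  have hsurj : Function.Surjective φ := by
    rintro ⟨y, hy⟩
    obtain ⟨x, rfl⟩ := QuotientGroup.mk'_surjective _ y
    rw [Subgroup.mem_centralizer_singleton_iff, ← hst, ← map_mul, ← map_mul] at hy
    obtain ⟨z, hz, hzeq⟩ := (QuotientGroup.mk'_eq_mk' _).1 hy
    set s := c * dd * c⁻¹ with hsdef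
    have hzc := Subgroup.mem_center_iff.1 hz
    have hconj : x⁻¹ * s * x = s * z := by
      calc x⁻¹ * s * x = x⁻¹ * (s * x) := mul_assoc _ _ _
        _ = x⁻¹ * (x * s * z) := by rw [hzeq]
        _ = s * z := by simp [mul_assoc]
    have hz2 : z * z = 1 := by
      calc z * z = s * s * (z * z) := by rw [hs, one_mul]
        _ = (s * z) * (s * z) := Commute.mul_mul_mul_comm (hzc s) s z
        _ = (x⁻¹ * s * x) * (x⁻¹ * s * x) := by rw [hconj]
        _ = x⁻¹ * (s * s) * x := by simp [mul_assoc]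
        _ = 1 := by rw [hs]; simp
    have hz3 : z ^ 3 = 1 := by
      obtain ⟨r, hr, hrz⟩ := Matrix.SpecialLinearGroup.mem_center_iff.1 hz
      apply Subtype.ext
      rw [Matrix.SpecialLinearGroup.coe_pow, ← hrz, ← map_pow, show r ^ 3 = 1 by simpa using hr, map_one,
        Matrix.SpecialLinearGroup.coe_one]
    have hz1 : z = 1 := by rwa [pow_succ, sq, hz2, one_mul] at hz3
    rw [hz1, mul_one] at hconj
    have hxs : x * s = s * x := by
      nth_rw 1 [← hconj]
      simp [mul_assoc]
    obtain ⟨g, hg⟩ := centralizer_dd h2 (x := c⁻¹ * x * c) (by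
      calc c⁻¹ * x * c * dd = c⁻¹ * (x * s) * c := by simp [hsdef, mul_assoc]
        _ = c⁻¹ * (s * x) * c := by rw [hxs]
        _ = dd * (c⁻¹ * x * c) := by simp [hsdef, mul_assoc])
    refine ⟨g, Subtype.ext (congrArg mk ?_)⟩
    rw [hemb, hg]
    simp [mul_assoc]
  have hker : φ.ker = (Subgroup.center SL(3, F)).comap embThree := by
    ext g
    rw [MonoidHom.mem_ker, Subgroup.mem_comap, Subtype.ext_iff, Subgroup.coe_one]
    show mk (emb g) = 1 ↔ _
    rw [QuotientGroup.mk'_apply, QuotientGroup.eq_one_iff, hemb]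
    refine ⟨fun h => ?_, fun h => Subgroup.Normal.conj_mem inferInstance _ h c⟩
    have := Subgroup.Normal.conj_mem inferInstance _ h c⁻¹
    simpa [mul_assoc] using this
  refine ⟨φ.ker, inferInstance, ?_, ?_, ⟨(QuotientGroup.quotientKerEquivOfSurjective φ hsurj).symm⟩⟩
  · rw [hker]
    intro g hg
    rw [Subgroup.mem_center_iff]
    intro h
    apply embThree_injective
    rw [map_mul, map_mul]
    exact Subgroup.mem_center_iff.1 hg _
  · have hrange : Subgroup.center SL(3, F) ≤ (embThree (F := F)).range := fun z hz =>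
      MonoidHom.mem_range.2 (centralizer_dd h2 (Subgroup.mem_center_iff.1 hz dd).symm)
    rw [hker, ← Nat.card_congr (Subgroup.equivMapOfInjective _ _ embThree_injective).symm.toEquiv,
      Subgroup.map_comap_eq_self hrange, Linear.card_center_SL, Fintype.card_fin, Nat.gcd_comm]

end CfsgLib.TwoGroups.PSLThreeInv
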