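import Cfsg.Agent.TwoGroups.HaradaFourBase

/-!
A normal elementary abelian subgroup of order 8 meeting `A` in a four-subgroup: the bound.
-/

set_option autoImplicit false
set_option linter.unusedSectionVars false

namespace CfsgLib.TwoGroups.Harada

open Subgroup SqIndex InvolutionFix

universe u

variable {S : Type u} [Group S] [Finite S]

theorem conj2 {G : Type*} [Group G] (a b c : G) : a * (b * c) * a⁻¹ = (a * b * a⁻¹) * (a * c * a⁻¹) := by group

namespace Setup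

variable {d : Setup S} {s zs x : S}

theorem Four.x_bottom (c : Four d s zs x) : Bottom c.σ ⟨(x : S ⧸ d.E), c.mk_x⟩ where
  f := c.fix2
  ne e := c.hxE ((QuotientGroup.eq_one_iff x).1 (congrArg (fun r : R d => (r : S ⧸ d.E)) e))
  fixed := Subtype.ext (by
    rw [c.σ_coe]
    exact mul_inv_eq_one.1 ((QuotientGroup.eq_one_iff _).2 (c.hxc s)))
  sq := Subtype.ext ((QuotientGroup.eq_one_iff _).2 c.hxx)
  central := mem_center_iff.2 fun r => Subtype.ext (by
    obtain ⟨_, ⟨y, _, rfl⟩⟩ := r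
    exact mul_inv_eq_iff_eq_mul.1 (mul_inv_eq_one.1 ((QuotientGroup.eq_one_iff _).2 (c.hxc y))))

theorem Four.w_ne_zs (c : Four d s zs x) (hR : ¬ IsCyclic (R d)) : x * x ≠ zs := by
  have b := c.x_bottom
  have := normal_zpowers b.central
  have h := card_quot_lt b
  have hnt : Nontrivial (R d ⧸ zpowers (⟨(x : S ⧸ d.E), c.mk_x⟩ : R d)) := by
    rw [← Finite.one_lt_card_iff_nontrivial]
    by_contra hlt
    push Not at hlt
    have hpos := (Nat.card_pos : 0 < Nat.card (R d ⧸ zpowers (⟨(x : S ⧸ d.E), c.mk_x⟩ : R d)))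
    have : Fact (Nat.Prime 2) := ⟨Nat.prime_two⟩
    exact hR (isCyclic_of_prime_card (p := 2) (by omega))
  obtain ⟨⟨_, ⟨y, hy, rfl⟩⟩, hσ, -, -⟩ := exists_shift b
  have h' := congrArg (fun r : R d => (r : S ⧸ d.E)) hσ
  rw [c.σ_coe] at h'
  have hm : (y * x)⁻¹ * (s * y * s⁻¹) ∈ d.E := QuotientGroup.eq.1 h'.symm
  obtain ⟨e, he, hye⟩ : ∃ e ∈ d.E, s * y * s⁻¹ = y * x * e := ⟨_, hm, (mul_inv_cancel_left _ _).symm⟩
  set e0 := s * x * s⁻¹ * x⁻¹ with he0
  set ε := s * e * s⁻¹ * e⁻¹ with hε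
  have he0E : e0 ∈ d.E := c.hxc s
  have hεE : ε ∈ d.E := mul_mem (d.En.conj_mem e he s) (inv_mem he)
  have h1 : s * (y * x * e) * s⁻¹ = y := by
    rw [← hye]
    calc s * (s * y * s⁻¹) * s⁻¹ = (s * s) * y * (s * s)⁻¹ := by group
      _ = y := by rw [c.ssq, one_mul, inv_one, mul_one]
  have h2 : s * (y * x * e) * s⁻¹ = y * ((x * x) * (e * e0 * (ε * e))) := by
    calc s * (y * x * e) * s⁻¹ = (s * y * s⁻¹) * e0 * x * (ε * e) := by rw [he0, hε]; group
      _ = y * x * ((e * e0) * x) * (ε * e) := by rw [hye]; group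
      _ = y * x * (x * (e * e0)) * (ε * e) := by rw [d.F_comm c.hx (mul_mem he he0E)]
      _ = _ := by group
  rw [h2, mul_eq_left, show e * e0 * (ε * e) = e0 * ε by
    rw [d.E_comm he he0E, mul_assoc, ← mul_assoc e, d.E_comm he hεE, mul_assoc ε, d.Esq e he, mul_one]] at h1
  intro hwz
  rw [hwz] at h1
  have hzz := d.Esq zs (mem_inf.1 c.zsP).1
  have h3 : e0 * ε = zs := (inv_eq_of_mul_eq_one_right h1).symm.trans (inv_eq_of_mul_eq_one_right hzz)
  rcases c.dls e he with h | h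
  · rw [show ε = 1 from h, mul_one] at h3
    exact c.e0_zs h3
  · rw [show ε = zs from h] at h3
    exact c.e0_one (mul_eq_right.1 h3)

/-- If `F / E` is not cyclic then `S = F ∪ s F`. -/
theorem Four.two_cosets (c : Four d s zs x) (hR : ¬ IsCyclic (R d)) (g : S) :
    g ∈ d.F ∨ s⁻¹ * g ∈ d.F := by
  classical
  have hwz := c.w_ne_zs hR
  have hsF : s ∉ d.F := fun h => c.hsE (d.comm_in_E c.h4 c.hs c.hsE h rfl)
  have hsi : s⁻¹ = s := inv_eq_of_mul_eq_one_right c.ssq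
  let J := {f : S // f ∈ d.F ∧ s * f * s⁻¹ = f⁻¹}
  have key : ∀ g : S, s⁻¹ * (g * s * g⁻¹) ∈ d.F → g ∈ d.F ∨ s⁻¹ * g ∈ d.F := by
    intro g hg
    let Φ : d.F → J := fun y => ⟨s * y * s⁻¹ * (y : S)⁻¹, mul_mem ((Setup.normal_F d).conj_mem _ y.2 s) (inv_mem y.2), by
      calc s * (s * y * s⁻¹ * (y : S)⁻¹) * s⁻¹ = (s * s) * y * s⁻¹ * (y : S)⁻¹ * s⁻¹ := by group
        _ = y * s * (y : S)⁻¹ * s⁻¹ := by rw [c.ssq, hsi, one_mul]
        _ = _ := by group⟩
    have hfib : ∀ y y' : d.F, Φ y = Φ y' → (y' : S)⁻¹ * y ∈ d.E ⊓ d.A := by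
      intro y y' e
      have e' : s * (y : S) * s⁻¹ * (y : S)⁻¹ = s * y' * s⁻¹ * (y' : S)⁻¹ := congrArg Subtype.val e
      have hcom : s * ((y' : S)⁻¹ * y) = (y' : S)⁻¹ * y * s := by
        rw [hsi] at e'
        calc s * ((y' : S)⁻¹ * y) = (y' : S)⁻¹ * ((y' : S) * s * (y' : S)⁻¹) * y := by group
          _ = (y' : S)⁻¹ * (s⁻¹ * (s * y' * s * (y' : S)⁻¹)) * y := by group
          _ = (y' : S)⁻¹ * (s⁻¹ * (s * y * s * (y : S)⁻¹)) * y := by rw [e']
          _ = (y' : S)⁻¹ * y * s := by group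
      have hE := d.comm_in_E c.h4 c.hs c.hsE (mul_mem (inv_mem y'.2) y.2) hcom
      rw [← d.fixed_eq c.hs c.hsE c.h4]
      exact mem_inf.2 ⟨hE, mem_centralizer_singleton_iff.2 hcom.symm⟩
    have hFT : Nat.card d.F ≤ Nat.card (Set.range Φ) * 4 := by
      have hrep : ∀ t : Set.range Φ, ∃ y : d.F, Φ y = t := fun t => t.2
      choose rep hrep using hrep
      refine le_of_le_of_eq (Nat.card_le_card_of_injective (fun y : d.F =>
        ((⟨Φ y, y, rfl⟩ : Set.range Φ), (⟨((rep ⟨Φ y, y, rfl⟩ : d.F) : S)⁻¹ * y,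
          hfib y _ (hrep ⟨Φ y, y, rfl⟩).symm⟩ : (d.E ⊓ d.A : Subgroup S)))) fun a b e => ?_)
        (by rw [Nat.card_prod, c.h4])
      obtain ⟨e1, e2⟩ := Prod.mk.inj e
      have e2' := congrArg (fun w : (d.E ⊓ d.A : Subgroup S) => (w : S)) e2
      simp only at e2'
      rw [e1] at e2'
      exact Subtype.ext (mul_left_cancel e2')
    have hJ : Nat.card J * 4 ≤ Nat.card d.F := by
      let I := {r : R d // c.σ r = r⁻¹}
      have hI : 2 * Nat.card I ≤ Nat.card (R d) := card_inverted c.fix2 hR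
      let π : J → I := fun f => ⟨⟨(f.1 : S ⧸ d.E), f.1, f.2.1, rfl⟩, Subtype.ext (by
        rw [c.σ_coe]
        show ((s * f.1 * s⁻¹ : S) : S ⧸ d.E) = ((f.1⁻¹ : S) : S ⧸ d.E)
        rw [f.2.2])⟩
      have hrep : ∀ t : Set.range π, ∃ f : J, π f = t := fun t => t.2
      choose rep hrep using hrep
      have hle : Nat.card J ≤ Nat.card (Set.range π) * 4 := by
        refine le_of_le_of_eq (Nat.card_le_card_of_injective (fun f : J =>
          ((⟨π f, f, rfl⟩ : Set.range π), (⟨(rep ⟨π f, f, rfl⟩).1⁻¹ * f.1, ?_⟩ :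
            (d.E ⊓ d.A : Subgroup S)))) fun a b e => ?_) (by rw [Nat.card_prod, c.h4])
        · set f0 := rep ⟨π f, f, rfl⟩ with hf0
          have e := congrArg (fun r : I => ((r.1 : R d) : S ⧸ d.E)) (hrep ⟨π f, f, rfl⟩)
          have hE : f0.1⁻¹ * f.1 ∈ d.E := QuotientGroup.eq.1 e
          rw [← d.fixed_eq c.hs c.hsE c.h4]
          refine mem_inf.2 ⟨hE, mem_centralizer_singleton_iff.2 (mul_inv_eq_iff_eq_mul.1 ?_).symm⟩
          set v := f0.1⁻¹ * f.1 with hv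
          have h1 : s * (f0.1 * v) * s⁻¹ = (f0.1 * v)⁻¹ := by rw [hv, mul_inv_cancel_left]; exact f.2.2
          rw [← conj_mul, f0.2.2, mul_inv_rev, ← d.F_comm (inv_mem f0.2.1) (d.En.conj_mem v hE s)] at h1
          exact (mul_right_cancel h1).trans (inv_eq_of_mul_eq_one_right (d.Esq v hE))
        · obtain ⟨e1, e2⟩ := Prod.mk.inj e
          have e2' := congrArg (fun w : (d.E ⊓ d.A : Subgroup S) => (w : S)) e2
          simp only at e2'
          rw [e1] at e2'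
          exact Subtype.ext (mul_left_cancel e2')
      have hsub : Nat.card (Set.range π) ≤ Nat.card I :=
        Nat.card_le_card_of_injective Subtype.val Subtype.val_injective
      have := c.card_F
      omega
    have hTJ : Nat.card (Set.range Φ) ≤ Nat.card J :=
      Nat.card_le_card_of_injective Subtype.val Subtype.val_injective
    have hsurj := ((Nat.bijective_iff_injective_and_card (Subtype.val : Set.range Φ → J)).2
      ⟨Subtype.val_injective, (show Nat.card (Set.range Φ) = Nat.card J by omega)⟩).2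
    set f := s⁻¹ * (g * s * g⁻¹) with hf
    have hfJ : s * f * s⁻¹ = f⁻¹ := by
      rw [hf, mul_inv_rev, inv_inv]
      calc s * (s⁻¹ * (g * s * g⁻¹)) * s⁻¹ = g * s * g⁻¹ * s⁻¹ := by group
        _ = (g * s * g⁻¹)⁻¹ * s := by
          rw [hsi, mul_inv_rev, mul_inv_rev, inv_inv, hsi, mul_assoc g s g⁻¹]
    obtain ⟨⟨t, y, hyt⟩, ht⟩ := hsurj ⟨f, hg, hfJ⟩
    have e : s * (y : S) * s⁻¹ * (y : S)⁻¹ = f := congrArg Subtype.val (hyt.trans ht)
    have hgy : (y : S)⁻¹ * g * s = s * ((y : S)⁻¹ * g) := by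
      have h2 : g * s * g⁻¹ = y * s * (y : S)⁻¹ := by
        calc g * s * g⁻¹ = s * f := by rw [hf, mul_inv_cancel_left]
          _ = s * (s * y * s⁻¹ * (y : S)⁻¹) := by rw [e]
          _ = (s * s) * y * s⁻¹ * (y : S)⁻¹ := by group
          _ = y * s * (y : S)⁻¹ := by rw [c.ssq, hsi, one_mul]
      calc (y : S)⁻¹ * g * s = (y : S)⁻¹ * (g * s * g⁻¹) * g := by group
        _ = _ := by rw [h2]; group
    have hA := c.centralizer_s hwz hgy
    have hP := d.fixed_eq c.hs c.hsE c.h4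
    by_cases hAE : (y : S)⁻¹ * g ∈ d.E
    · left
      have := mul_mem y.2 (d.E_le_F hAE)
      rwa [mul_inv_cancel_left] at this
    · right
      have hidx : ((d.E ⊓ d.A).subgroupOf d.A).index = 2 := by
        have h := card_mul_index ((d.E ⊓ d.A).subgroupOf d.A)
        rw [Nat.card_congr (subgroupOfEquivOfLe (inf_le_right : d.E ⊓ d.A ≤ d.A)).toEquiv, c.h4, d.cardA] at h
        omega
      have hsy : s⁻¹ * ((y : S)⁻¹ * g) ∈ d.E := (mem_inf.1 ((mul_mem_iff_of_index_two hidx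
        (a := (⟨s⁻¹, inv_mem c.hs⟩ : d.A)) (b := ⟨_, hA⟩)).2
        ⟨fun h => absurd (by simpa using inv_mem (mem_inf.1 h).1) c.hsE,
          fun h => absurd (mem_inf.1 h).1 hAE⟩)).1
      have := mul_mem ((Setup.normal_F d).conj_mem _ y.2 s⁻¹) (d.E_le_F hsy)
      rwa [show s⁻¹ * (y : S) * s⁻¹⁻¹ * (s⁻¹ * ((y : S)⁻¹ * g)) = s⁻¹ * g by group] at this
  by_cases hgF : g ∈ d.F
  · exact Or.inl hgF
  have hnt : Nontrivial (S ⧸ d.F) := ⟨(g : S ⧸ d.F), 1, fun e => hgF ((QuotientGroup.eq_one_iff g).1 e)⟩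
  have : Fact (Nat.Prime 2) := ⟨Nat.prime_two⟩
  have := (d.two.to_quotient d.F).center_nontrivial
  obtain ⟨⟨q, hq⟩, hq1⟩ := exists_ne (1 : center (S ⧸ d.F))
  obtain ⟨z, rfl⟩ := QuotientGroup.mk_surjective q
  have hzs : s⁻¹ * (z * s * z⁻¹) ∈ d.F := by
    refine QuotientGroup.eq.1 ?_
    rw [QuotientGroup.mk_mul, QuotientGroup.mk_mul, QuotientGroup.mk_inv, ← mem_center_iff.1 hq,
      mul_inv_cancel_right]
  have hzF : z ∉ d.F := fun h => hq1 (Subtype.ext ((QuotientGroup.eq_one_iff z).2 h))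
  have hsq : (s : S ⧸ d.F) = z := QuotientGroup.eq.2 ((key z hzs).resolve_left hzF)
  refine key g ?_
  refine QuotientGroup.eq.1 ?_
  rw [QuotientGroup.mk_mul, QuotientGroup.mk_mul, QuotientGroup.mk_inv, hsq, mem_center_iff.1 hq,
    mul_inv_cancel_right]

/-- The index in `F` splits along `F → F / E`. -/
theorem Four.split_F (c : Four d s zs x) (H : Subgroup S) :
    ∃ r q : ℕ, (sqSub H ⊓ d.F).relIndex (H ⊓ d.F) = r * q ∧
      q = (sqSub H ⊓ d.E).relIndex (H ⊓ d.E) ∧ r ≤ 4 ∧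
      (3 ≤ r → x * x ∈ sqSub H) ∧ (IsCyclic (R d) → r ≤ 2) ∧
      Nat.card ((sqSub H ⊓ d.F).map (QuotientGroup.mk' d.E)) * r ≤ Nat.card (R d) ∧
      (2 ≤ r → ∃ v ∈ H ⊓ d.F, v ∉ d.E) := by
  set π := QuotientGroup.mk' d.E with hπ
  have hle := inf_le_inf_right d.F (sqSub_le H)
  have h1 := relIndex_eq_mul π hle
  rw [hπ, QuotientGroup.ker_mk', inf_assoc, inf_assoc, inf_eq_right.2 d.E_le_F, ← hπ] at h1
  refine ⟨_, _, h1, rfl, ?_⟩
  set D := (H ⊓ d.F).map π with hD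
  have hDR : D ≤ R d := map_mono inf_le_right
  set D' := D.subgroupOf (R d) with hD'
  have hmap : D'.map (R d).subtype = D := by rw [hD', subgroupOf_map_subtype, inf_eq_left.2 hDR]
  have hsq : sqSub D ≤ (sqSub H ⊓ d.F).map π := by
    rw [hD, ← map_sqSub]
    exact map_mono (le_inf (sqSub_mono inf_le_left) ((sqSub_le _).trans inf_le_right))
  have hr : ((sqSub H ⊓ d.F).map π).relIndex D ≤ (sqSub D').relIndex D' := by
    refine (relIndex_le_of_le_left hsq (relIndex_ne_zero _ _)).trans (le_of_eq ?_)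
    rw [← hmap, ← map_sqSub, relIndex_map_map_of_injective _ _ (R d).subtype_injective]
  obtain ⟨h4, h3⟩ := InvolutionFix.sqIndex c.fix2 D'
  have hmul := card_mul_relIndex (map_mono (f := π) hle)
  refine ⟨hr.trans h4, fun h => ?_, fun hc => ?_, ?_, fun h => ?_⟩
  · have hx' := h3 (h.trans hr) _ c.x_bottom.fixed
    rw [hD', mem_subgroupOf] at hx'
    obtain ⟨v, hv, hvx⟩ := hx'
    rw [← d.sq_eq_of_coset c.hx (QuotientGroup.eq.1 hvx.symm)]
    exact sq_mem (mem_inf.1 hv).1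
  · refine hr.trans ?_
    obtain ⟨g, hg⟩ := IsCyclic.exists_generator (α := D')
    have hK : sqSub D' = sqSub D' := rfl
    classical
    refine (Nat.card_le_card_of_injective (β := Bool) (fun q : D' ⧸ (sqSub D').subgroupOf D' =>
      decide (q = 1)) fun a b e => ?_).trans (by simp)
    have hgg : ∀ q : D' ⧸ (sqSub D').subgroupOf D', q = 1 ∨ q = (g : D' ⧸ (sqSub D').subgroupOf D') := by
      intro q
      obtain ⟨y, rfl⟩ := QuotientGroup.mk_surjective q
      obtain ⟨i, rfl⟩ := hg y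
      have hg2 : ((g * g : D') : D' ⧸ (sqSub D').subgroupOf D') = 1 :=
        (QuotientGroup.eq_one_iff _).2 (mem_subgroupOf.2 (sq_mem g.2))
      rw [QuotientGroup.mk_mul] at hg2
      show ((g ^ i : D') : D' ⧸ (sqSub D').subgroupOf D') = 1 ∨ ((g ^ i : D') : D' ⧸ (sqSub D').subgroupOf D') = g
      rw [QuotientGroup.mk_zpow]
      rcases Int.even_or_odd i with ⟨j, rfl⟩ | ⟨j, rfl⟩
      · left; rw [← two_mul, zpow_mul, zpow_two, hg2, one_zpow]
      · right; rw [zpow_add, zpow_mul, zpow_two, hg2, one_zpow, one_mul, zpow_one]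
    by_cases ha : a = 1
    · rw [ha, (decide_eq_decide.1 e).1 ha]
    · rw [(hgg a).resolve_left ha, (hgg b).resolve_left fun hb => ha ((decide_eq_decide.1 e).2 hb)]
  · rw [hmul]
    exact card_le_of_le hDR
  · by_contra hno
    push Not at hno
    have hDbot : D = ⊥ := by
      rw [hD, Subgroup.map_eq_bot_iff, hπ, QuotientGroup.ker_mk']
      exact hno
    rw [hDbot, relIndex_bot_right] at h
    omega

/-- The bound when `F / E` is not cyclic. -/
theorem Four.bound_noncyclic (c : Four d s zs x) (hR : ¬ IsCyclic (R d)) (H : Subgroup S) :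
    (sqSub H).relIndex H ≤ 16 := by
  obtain ⟨r, q, hb, hq, hr4, hr3, -, -, -⟩ := c.split_F H
  have hwE := c.hxx
  have hwz := c.w_ne_zs hR
  have hmulE := card_mul_relIndex (inf_le_inf_right d.E (sqSub_le H))
  rw [← hq] at hmulE
  have hDE : Nat.card (H ⊓ d.E : Subgroup S) ≤ 8 := (card_le_of_le inf_le_right).trans c.h8.le
  have hkpos := Nat.card_pos (α := (sqSub H ⊓ d.E : Subgroup S))
  have hk3 : 3 ≤ r → 2 ≤ Nat.card (sqSub H ⊓ d.E : Subgroup S) := fun h =>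
    (one_lt_card_iff_ne_bot _).2 fun e => c.hw1 (mem_bot.1 (e ▸ mem_inf.2 ⟨hr3 h, hwE⟩))
  by_cases hHF : H ≤ d.F
  · refine (d.split H (a := 1) (b := 16) ?_ ?_).trans (by norm_num)
    · exact (relIndex_map_eq_one _ (by rwa [QuotientGroup.ker_mk'])).le
    · rw [hb]
      rcases Nat.lt_or_ge r 3 with h | h
      · nlinarith
      · have := hk3 h
        nlinarith
  refine d.split H (a := 2) (b := 8) ?_ ?_
  · refine (relIndex_sq_le_card _).trans (card_le_two (z := (s : S ⧸ d.F)) ?_)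
    rintro _ ⟨g, -, rfl⟩
    rcases c.two_cosets hR g with h | h
    · exact Or.inl ((QuotientGroup.eq_one_iff g).2 h)
    · exact Or.inr (QuotientGroup.eq.2 h).symm
  rw [hb]
  obtain ⟨h, hh, hhF⟩ := SetLike.not_le_iff_exists.1 hHF
  by_cases hE : d.E ≤ H
  · have hf := (c.two_cosets hR h).resolve_left hhF
    obtain ⟨e, he, hez⟩ := c.zs_ex
    have hzK : zs ∈ sqSub H ⊓ d.E := by
      refine mem_inf.2 ⟨?_, (mem_inf.1 c.zsP).1⟩
      have hcm := commutator_mem hh (hE he)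
      have hhs : h * e * h⁻¹ = s * e * s⁻¹ := by
        rw [show h * e * h⁻¹ = s * ((s⁻¹ * h) * e * (s⁻¹ * h)⁻¹) * s⁻¹ by group, ← d.F_comm hf he,
          mul_inv_cancel_right]
      rwa [hhs, hez] at hcm
    have hk2 : 2 ≤ Nat.card (sqSub H ⊓ d.E : Subgroup S) :=
      (one_lt_card_iff_ne_bot _).2 fun e' => c.zs1 (mem_bot.1 (e' ▸ hzK))
    rcases Nat.lt_or_ge r 3 with h3 | h3
    · nlinarith
    · have hk4 : 3 ≤ Nat.card (sqSub H ⊓ d.E : Subgroup S) := by
        by_contra hlt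
        push Not at hlt
        exact hwz (eq_of_card_le_two (by omega) (mem_inf.2 ⟨hr3 h3, hwE⟩) hzK c.hw1 c.zs1)
      have hq2 : q ≤ 2 := by
        by_contra hlt
        push Not at hlt
        have := Nat.mul_le_mul hk4 hlt
        omega
      nlinarith
  · have h4 : 2 * Nat.card (H ⊓ d.E : Subgroup S) ≤ 8 :=
      (card_le_half (inf_lt_right.2 hE)).trans c.h8.le
    rcases Nat.lt_or_ge r 3 with h3 | h3
    · nlinarith
    · have := hk3 h3
      nlinarith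

/-- The bound when `F / E` is cyclic. -/
theorem Four.bound_cyclic (c : Four d s zs x) (hR : IsCyclic (R d)) (H : Subgroup S) :
    (sqSub H).relIndex H ≤ 16 := by
  classical
  obtain ⟨r, q, hb, hq, -, -, hr2, hcardr, hrD⟩ := c.split_F H
  have hr := hr2 hR
  have hmulE := card_mul_relIndex (inf_le_inf_right d.E (sqSub_le H))
  rw [← hq] at hmulE
  have hDE : Nat.card (H ⊓ d.E : Subgroup S) ≤ 8 := (card_le_of_le inf_le_right).trans c.h8.le
  have hkpos := Nat.card_pos (α := (sqSub H ⊓ d.E : Subgroup S))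
  have hq8 : q ≤ 8 := by nlinarith
  by_cases hHF : H ≤ d.F
  · refine (d.split H (a := 1) (b := 16) ?_ ?_).trans (by norm_num)
    · exact (relIndex_map_eq_one _ (by rwa [QuotientGroup.ker_mk'])).le
    · rw [hb]; exact (Nat.mul_le_mul hr hq8)
  have hq4 : q ≤ 4 := by
    rcases d.half_or_centralize H with h | h
    · rw [← hq, c.h8] at h; omega
    · exact absurd h hHF
  set a := (sqSub (H.map (QuotientGroup.mk' d.F))).relIndex (H.map (QuotientGroup.mk' d.F)) with ha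
  rcases Nat.lt_or_ge a 3 with ha3 | ha3
  · refine (d.split H (a := 2) (b := 8) (by omega) ?_)
    rw [hb]; exact Nat.mul_le_mul hr hq4
  refine d.split H (d.quot_eight c.h8 _) (b := 4) ?_
  rw [hb]
  by_contra hgt
  push Not at hgt
  have hr' : r = 2 := by
    by_contra hne
    have : r ≤ 1 := by omega
    nlinarith
  subst hr'
  have hq3 : 3 ≤ q := by omega
  -- `F` is commutative
  have hFcomm : ∀ f f' : d.F, f * f' = f' * f := by
    let φ : d.F →* R d := ((QuotientGroup.mk' d.E).comp d.F.subtype).codRestrict (R d) fun f => ⟨f, f.2, rfl⟩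
    have hker : φ.ker ≤ center d.F := fun e he => mem_center_iff.2 fun f => Subtype.ext
      (d.F_comm f.2 ((QuotientGroup.eq_one_iff (e : S)).1 (congrArg (fun r : R d => (r : S ⧸ d.E)) he))).symm
    exact (MonoidHom.isMulCommutative_of_isCyclic_of_ker_le_center φ hker).is_comm.comm
  have hxFc : ∀ f ∈ d.F, f * x = x * f := fun f hf =>
    congrArg (fun w : d.F => (w : S)) (hFcomm ⟨f, hf⟩ ⟨x, c.hx⟩)
  have hroot : ∀ v ∈ d.F, v * v ∈ d.E → v ∈ d.E ∨ x⁻¹ * v ∈ d.E := by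
    intro v hv hvv
    let := Fintype.ofFinite (R d)
    have h2 := IsCyclic.card_pow_eq_one_le (α := R d) (n := 2) two_pos
    by_contra hno
    push Not at hno
    have hm : ∀ y : R d, (y : S ⧸ d.E) * y = 1 → y ∈ Finset.univ.filter (fun a : R d => a ^ 2 = 1) := fun y hy => by
      simp only [Finset.mem_filter, Finset.mem_univ, true_and]
      exact Subtype.ext (by rw [Subgroup.coe_pow, pow_two, hy]; rfl)
    have hsub : ({1, ⟨(x : S ⧸ d.E), c.mk_x⟩, ⟨(v : S ⧸ d.E), v, hv, rfl⟩} : Finset (R d)) ⊆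
        Finset.univ.filter (fun a : R d => a ^ 2 = 1) := by
      intro y hy
      simp only [Finset.mem_insert, Finset.mem_singleton] at hy
      rcases hy with rfl | rfl | rfl
      · exact hm 1 (one_mul 1)
      · exact hm _ ((QuotientGroup.eq_one_iff _).2 c.hxx)
      · exact hm _ ((QuotientGroup.eq_one_iff _).2 hvv)
    have h3 := (Finset.card_le_card hsub).trans h2
    rw [Finset.card_insert_of_notMem (by
        simp only [Finset.mem_insert, Finset.mem_singleton, Subtype.ext_iff, not_or]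
        exact ⟨fun e => c.hxE ((QuotientGroup.eq_one_iff x).1 e.symm),
          fun e => hno.1 ((QuotientGroup.eq_one_iff v).1 e.symm)⟩),
      Finset.card_insert_of_notMem (by
        simp only [Finset.mem_singleton, Subtype.ext_iff]
        exact fun e => hno.2 (QuotientGroup.eq.1 e)), Finset.card_singleton] at h3
    omega
  -- the images of `H ∩ F` contain `x`
  obtain ⟨v, hv, hvx⟩ : ∃ v ∈ H ⊓ d.F, x⁻¹ * v ∈ d.E := by
    obtain ⟨v0, hv0, hv0E⟩ := hrD le_rfl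
    set D := (H ⊓ d.F).map (QuotientGroup.mk' d.E)
    have hne : D ≠ ⊥ := fun e => hv0E ((QuotientGroup.eq_one_iff v0).1 (mem_bot.1 (e ▸ ⟨v0, hv0, rfl⟩)))
    have : Fact (Nat.Prime 2) := ⟨Nat.prime_two⟩
    obtain ⟨⟨y, hy⟩, hy2⟩ := exists_prime_orderOf_dvd_card' 2
      (((d.two.to_quotient d.E).to_subgroup D).card_eq_or_dvd.resolve_left
        (Nat.ne_of_gt ((one_lt_card_iff_ne_bot _).2 hne)))
    rw [orderOf_mk] at hy2
    obtain ⟨v, hv, rfl⟩ := hy
    refine ⟨v, hv, (hroot v (mem_inf.1 hv).2 ((QuotientGroup.eq_one_iff _).1 ?_)).resolve_left fun h => ?_⟩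
    · rw [QuotientGroup.mk_mul, ← pow_two, ← hy2, QuotientGroup.mk'_apply, pow_orderOf_eq_one]
    · rw [QuotientGroup.mk'_apply, (QuotientGroup.eq_one_iff v).2 h, orderOf_one] at hy2
      omega
  set w := x * x with hwdef
  have hwP := c.wP
  have hw1 := c.hw1
  have hwK : w ∈ sqSub H ⊓ d.E :=
    mem_inf.2 ⟨by rw [hwdef, ← d.sq_eq_of_coset c.hx hvx]; exact sq_mem (mem_inf.1 hv).1, c.hxx⟩
  have hk2 : 2 ≤ Nat.card (sqSub H ⊓ d.E : Subgroup S) :=
    (one_lt_card_iff_ne_bot _).2 fun e => hw1 (mem_bot.1 (e ▸ hwK))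
  have hEH : d.E ≤ H := by
    by_contra hE
    have := card_le_half (inf_lt_right.2 hE)
    rw [c.h8] at this
    nlinarith
  have hkle : Nat.card (sqSub H ⊓ d.E : Subgroup S) ≤ 2 := by
    by_contra hlt
    push Not at hlt
    have := Nat.mul_le_mul hlt hq3
    omega
  have hK : ∀ y ∈ sqSub H, y ∈ d.E → y = 1 ∨ y = w := fun y hy hyE =>
    or_iff_not_imp_left.2 fun h1 => eq_of_card_le_two hkle (mem_inf.2 ⟨hy, hyE⟩) hwK h1 hw1
  have hxH : x ∈ H := by
    have := mul_mem (mem_inf.1 hv).1 (hEH (inv_mem hvx))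
    rwa [mul_inv_rev, inv_inv, mul_inv_cancel_left] at this
  have hHE : ∀ h ∈ H, ∀ e ∈ d.E, h * e * h⁻¹ * e⁻¹ = 1 ∨ h * e * h⁻¹ * e⁻¹ = w := fun h hh e he =>
    hK _ (commutator_mem hh (hEH he)) (mul_mem (d.En.conj_mem e he h) (inv_mem he))
  have hHx : ∀ h ∈ H, h * x * h⁻¹ * x⁻¹ = 1 ∨ h * x * h⁻¹ * x⁻¹ = w := fun h hh =>
    hK _ (commutator_mem hh hxH) (c.hxc h)
  -- generators of `E`
  have hzsE := (mem_inf.1 c.zsP).1
  obtain ⟨v1, hv1, hv11, hv1w, hv1z⟩ : ∃ v1 ∈ d.E ⊓ d.A, v1 ≠ 1 ∧ v1 ≠ w ∧ (zs ≠ w → v1 = zs) := by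
    by_cases hz : zs = w
    · by_contra hno
      push Not at hno
      have := card_le_two (C := d.E ⊓ d.A) (z := w) fun y hy => or_iff_not_imp_left.2 fun h1 => by
        by_contra h2
        exact (hno y hy h1 h2).1 hz
      have := c.h4
      omega
    · exact ⟨zs, c.zsP, c.zs1, hz, fun _ => rfl⟩
  obtain ⟨q0, hq0, hsq0⟩ := c.zs_ex
  have hwE : w ∈ d.E := c.hxx
  have hv1E := (mem_inf.1 hv1).1
  have hq0' : q0 ∉ d.four hwE hv1E := by
    intro h
    have hle : q0 ∈ d.E ⊓ d.A := by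
      rcases (d.mem_four _ _).1 h with e | e | e | e <;> rw [e]
      exacts [one_mem _, hwP, hv1, mul_mem hwP hv1]
    exact c.zs1 (by rw [← hsq0, c.s_fix hle, mul_inv_cancel])
  have hext : ∀ g g' : S, g * v1 * g⁻¹ = g' * v1 * g'⁻¹ → g * q0 * g⁻¹ = g' * q0 * g'⁻¹ → g⁻¹ * g' ∈ d.F := by
    intro g g' e1 e2
    refine d.mem_F_of_fix c.h8 hwE hv1E hq0 hw1 hv11 hv1w hq0' ?_ ?_ ?_ <;> refine mul_inv_eq_iff_eq_mul.1 ?_
    · exact c.hwc _
    · rw [show g⁻¹ * g' * v1 * (g⁻¹ * g')⁻¹ = g⁻¹ * (g' * v1 * g'⁻¹) * g by group, ← e1]; group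
    · rw [show g⁻¹ * g' * q0 * (g⁻¹ * g')⁻¹ = g⁻¹ * (g' * q0 * g'⁻¹) * g by group, ← e2]; group
  set Hb := H.map (QuotientGroup.mk' d.F) with hHb
  have hH4 : 4 ≤ Nat.card Hb := by
    have : Fact (Nat.Prime 2) := ⟨Nat.prime_two⟩
    obtain ⟨j, hj⟩ := ((d.two.to_quotient d.F).to_subgroup Hb).exists_card_eq
    have h3 := ha3.trans (relIndex_sq_le_card Hb)
    rw [hj] at h3 ⊢
    rcases j with _ | _ | j
    · norm_num at h3
    · norm_num at h3
    · rw [pow_succ, pow_succ]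
      have := Nat.one_le_two_pow (n := j)
      omega
  have hrep : ∀ b : Hb, ∃ h ∈ H, (h : S ⧸ d.F) = b := fun b => b.2
  choose rep hrepH hrep using hrep
  let Φ : Hb → Bool × Bool := fun b => (decide (rep b * v1 * (rep b)⁻¹ * v1⁻¹ = 1),
    decide (rep b * q0 * (rep b)⁻¹ * q0⁻¹ = 1))
  have hΦ : Function.Injective Φ := by
    intro b b' e
    obtain ⟨e1, e2⟩ := Prod.mk.inj e
    have key : ∀ y ∈ d.E, decide (rep b * y * (rep b)⁻¹ * y⁻¹ = 1) = decide (rep b' * y * (rep b')⁻¹ * y⁻¹ = 1) →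
        rep b * y * (rep b)⁻¹ = rep b' * y * (rep b')⁻¹ := by
      intro y hy e
      refine mul_right_cancel (b := y⁻¹) ?_
      by_cases h : rep b * y * (rep b)⁻¹ * y⁻¹ = 1
      · rw [h, (decide_eq_decide.1 e).1 h]
      · rw [(hHE _ (hrepH b) y hy).resolve_left h,
          (hHE _ (hrepH b') y hy).resolve_left fun h' => h ((decide_eq_decide.1 e).2 h')]
    refine Subtype.ext ?_
    rw [← hrep b, ← hrep b']
    exact QuotientGroup.eq.2 (hext _ _ (key v1 hv1E e1) (key q0 hq0 e2))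
  have hsurj := ((Nat.bijective_iff_injective_and_card Φ).2 ⟨hΦ, le_antisymm
    (Nat.card_le_card_of_injective Φ hΦ) (by simpa using hH4)⟩).2
  obtain ⟨bc, hbc⟩ := hsurj (true, false)
  obtain ⟨bu, hbu⟩ := hsurj (false, true)
  simp only [Φ, Prod.mk.injEq, decide_eq_true_eq, decide_eq_false_iff_not] at hbc hbu
  have hcH := hrepH bc
  have huH := hrepH bu
  set g := rep bc
  set u := rep bu
  have cv : g * v1 * g⁻¹ = v1 := mul_inv_eq_one.1 hbc.1
  have cq : g * q0 * g⁻¹ = w * q0 := mul_inv_eq_iff_eq_mul.1 ((hHE g hcH q0 hq0).resolve_left hbc.2)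
  have uv : u * v1 * u⁻¹ = w * v1 := mul_inv_eq_iff_eq_mul.1 ((hHE u huH v1 hv1E).resolve_left hbu.1)
  have uq : u * q0 * u⁻¹ = q0 := mul_inv_eq_one.1 hbu.2
  have sv : s * v1 * s⁻¹ = v1 := c.s_fix hv1
  have sq : s * q0 * s⁻¹ = zs * q0 := mul_inv_eq_iff_eq_mul.1 hsq0
  have ww : w * w = 1 := d.Esq w hwE
  by_cases hz : zs = w
  · -- an element acting as `s`
    have hf : s⁻¹ * g ∈ d.F := hext s g (by rw [sv, cv]) (by rw [sq, cq, hz])
    set f := s⁻¹ * g with hfdef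
    have hgx : g * x * g⁻¹ * x⁻¹ = s * x * s⁻¹ * x⁻¹ := by
      rw [show g = s * f by rw [hfdef, mul_inv_cancel_left],
        show s * f * x * (s * f)⁻¹ = s * (f * x * f⁻¹) * s⁻¹ by group, hxFc f hf, mul_inv_cancel_right]
    rcases hHx g hcH with e | e <;> rw [hgx] at e
    · exact c.e0_one e
    · exact c.e0_zs (e.trans hz.symm)
  obtain rfl : v1 = zs := hv1z hz
  have cq' : g⁻¹ * q0 * g = w * q0 := by
    have : g * (w * q0) * g⁻¹ = q0 := by rw [← conj_mul, c.hwc, cq, ← mul_assoc, ww, one_mul]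
    calc g⁻¹ * q0 * g = g⁻¹ * (g * (w * q0) * g⁻¹) * g := by rw [this]
      _ = _ := by group
  have cv' : g⁻¹ * v1 * g = v1 := by
    calc g⁻¹ * v1 * g = g⁻¹ * (g * v1 * g⁻¹) * g := by rw [cv]
      _ = _ := by group
  -- the involution `g s g⁻¹` lies in `s F`
  have hf : s⁻¹ * (g * s * g⁻¹) ∈ d.F := by
    refine hext s _ ?_ ?_
    · rw [show g * s * g⁻¹ * v1 * (g * s * g⁻¹)⁻¹ = g * (s * (g⁻¹ * v1 * g) * s⁻¹) * g⁻¹ by group, cv', sv, cv]
    · rw [show g * s * g⁻¹ * q0 * (g * s * g⁻¹)⁻¹ = g * (s * (g⁻¹ * q0 * g) * s⁻¹) * g⁻¹ by group, cq',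
        conj2 s w q0, c.s_fix hwP, sq, conj2 g w, c.hwc, conj2 g v1, cv, cq, ← mul_assoc v1 w,
        d.E_comm hzsE hwE, mul_assoc w v1, ← mul_assoc w w, ww, one_mul]
  set f := s⁻¹ * (g * s * g⁻¹) with hfdef
  have hsi : s⁻¹ = s := inv_eq_of_mul_eq_one_right c.ssq
  have hfinv : s * f * s⁻¹ = f⁻¹ := by
    rw [hfdef, mul_inv_rev, inv_inv]
    calc s * (s⁻¹ * (g * s * g⁻¹)) * s⁻¹ = g * s * g⁻¹ * s⁻¹ := by group
      _ = (g * s * g⁻¹)⁻¹ * s := by rw [hsi, mul_inv_rev, mul_inv_rev, inv_inv, hsi, mul_assoc g s g⁻¹]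
  -- the commutator map of `s` on `F`
  let β : d.F →* S :=
    { toFun := fun y => s * y * s⁻¹ * (y : S)⁻¹
      map_one' := by simp
      map_mul' := fun y y' => by
        have h := congrArg (fun w : d.F => (w : S))
          (hFcomm ⟨s * y' * s⁻¹ * (y' : S)⁻¹, mul_mem ((Setup.normal_F d).conj_mem _ y'.2 s) (inv_mem y'.2)⟩ y)
        simp only [Subgroup.coe_mul] at h ⊢
        calc s * ((y : S) * y') * s⁻¹ * ((y : S) * y')⁻¹
            = (s * y * s⁻¹) * ((s * y' * s⁻¹ * (y' : S)⁻¹) * (y : S)⁻¹) := by group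
          _ = (s * y * s⁻¹) * ((y : S)⁻¹ * (s * y' * s⁻¹ * (y' : S)⁻¹)) := by
              congr 1
              rw [eq_inv_mul_iff_mul_eq, ← mul_assoc, ← h, mul_inv_cancel_right]
          _ = _ := by group }
  have hβ : ∀ y : d.F, β y = s * y * s⁻¹ * (y : S)⁻¹ := fun y => rfl
  set B := β.range with hBdef
  set n := Nat.card (R d) with hn
  have hcF := c.card_F
  have hβker : Nat.card β.ker ≤ 4 := by
    rw [← c.h4, ← d.fixed_eq c.hs c.hsE c.h4]
    refine Nat.card_le_card_of_injective (fun y => (⟨(y.1 : S), mem_inf.2 ⟨?_, ?_⟩⟩ :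
      (d.E ⊓ centralizer {s} : Subgroup S))) fun a b e => ?_
    · exact d.comm_in_E c.h4 c.hs c.hsE y.1.2 (mul_inv_eq_iff_eq_mul.1 (mul_inv_eq_one.1 y.2))
    · exact mem_centralizer_singleton_iff.2 (mul_inv_eq_iff_eq_mul.1 (mul_inv_eq_one.1 y.2)).symm
    · exact Subtype.ext (Subtype.ext (congrArg (fun w : (d.E ⊓ centralizer {s} : Subgroup S) => (w : S)) e))
  have hβker' : 4 ≤ Nat.card β.ker := by
    rw [← c.h4]
    exact Nat.card_le_card_of_injective (fun p => (⟨⟨p.1, d.E_le_F (mem_inf.1 p.2).1⟩,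
      mul_inv_eq_one.2 (c.s_fix p.2)⟩ : β.ker)) fun a b e =>
        Subtype.ext (congrArg (fun w : β.ker => ((w : d.F) : S)) e)
  have hBcard : Nat.card B * 4 = Nat.card d.F := by
    have h := card_mul_index β.ker
    rw [index_ker, ← hBdef] at h
    rw [← h, le_antisymm hβker hβker', mul_comm]
  have hBF : B ≤ d.F := by
    rintro _ ⟨y, rfl⟩
    exact mul_mem ((Setup.normal_F d).conj_mem _ y.2 s) (inv_mem y.2)
  have hPB : d.E ⊓ d.A ≤ B := by
    intro p hp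
    have h0 : s * x * s⁻¹ * x⁻¹ ∈ B := ⟨⟨x, c.hx⟩, rfl⟩
    have h1 : v1 ∈ B := ⟨⟨q0, d.E_le_F hq0⟩, hsq0⟩
    rcases four_cases_inf c.h4 c.e0P c.zsP c.e0_one c.zs1 (Ne.symm c.e0_zs) hp with e | e | e | e <;> rw [e]
    exacts [one_mem _, h0, h1, mul_mem h0 h1]
  have hBE : B ⊓ d.E = d.E ⊓ d.A := by
    refine le_antisymm ?_ (le_inf hPB inf_le_left)
    rintro b ⟨⟨y, hyb⟩, hbE⟩
    rw [← d.fixed_eq c.hs c.hsE c.h4]
    refine mem_inf.2 ⟨hbE, mem_centralizer_singleton_iff.2 (mul_inv_eq_iff_eq_mul.1 ?_).symm⟩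
    calc s * b * s⁻¹ = b⁻¹ := by
          rw [← hyb, hβ]
          calc s * (s * y * s⁻¹ * (y : S)⁻¹) * s⁻¹ = (s * s) * y * s⁻¹ * (y : S)⁻¹ * s⁻¹ := by group
            _ = y * s * (y : S)⁻¹ * s⁻¹ := by rw [c.ssq, hsi, one_mul]
            _ = _ := by group
      _ = b := inv_eq_of_mul_eq_one_right (d.Esq b hbE)
  set Bb := (B.map (QuotientGroup.mk' d.E)).subgroupOf (R d) with hBbdef
  have hBb : Nat.card Bb * 2 = n := by
    rw [Nat.card_congr (subgroupOfEquivOfLe (map_mono hBF)).toEquiv]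
    have h := card_map_mul (QuotientGroup.mk' d.E) B
    rw [QuotientGroup.ker_mk', hBE, c.h4] at h
    omega
  -- `f` has maximal order modulo `E`
  have hfn : ((f : S) : S ⧸ d.E) ^ (n / 2) ≠ 1 := by
    intro hpow
    let := Fintype.ofFinite (R d)
    have hn2 : 0 < n / 2 := by
      have := Nat.card_pos (α := Bb)
      omega
    have hT := IsCyclic.card_pow_eq_one_le (α := R d) hn2
    set T := Finset.univ.filter (fun a : R d => a ^ (n / 2) = 1)
    have hBT : (Finset.univ.filter (fun a : R d => a ∈ Bb)) ⊆ T := by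
      intro a ha
      simp only [T, Finset.mem_filter, Finset.mem_univ, true_and] at ha ⊢
      have h := pow_card_eq_one' (x := (⟨a, ha⟩ : Bb))
      have e : n / 2 = Nat.card Bb := by omega
      rw [e]
      exact congrArg (fun w : Bb => (w : R d)) h
    have hBc : (Finset.univ.filter (fun a : R d => a ∈ Bb)).card = n / 2 := by
      rw [← Fintype.card_subtype, ← Nat.card_eq_fintype_card]
      show Nat.card Bb = n / 2
      omega
    have hEq := Finset.eq_of_subset_of_card_le hBT (by rw [hBc]; exact hT)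
    have hfB : (⟨(f : S ⧸ d.E), f, hf, rfl⟩ : R d) ∈ Bb := by
      have : (⟨(f : S ⧸ d.E), f, hf, rfl⟩ : R d) ∈ T := by
        simp only [T, Finset.mem_filter, Finset.mem_univ, true_and]
        exact Subtype.ext (by rw [Subgroup.coe_pow, hpow]; rfl)
      rw [← hEq] at this
      simpa using this
    rw [hBbdef, mem_subgroupOf] at hfB
    obtain ⟨b, hbB, hbf⟩ := hfB
    have hE : b⁻¹ * f ∈ d.E := QuotientGroup.eq.1 hbf
    have hfB' : f ∈ B := by
      have hP : b⁻¹ * f ∈ d.E ⊓ d.A := by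
        rw [← d.fixed_eq c.hs c.hsE c.h4]
        refine mem_inf.2 ⟨hE, mem_centralizer_singleton_iff.2 (mul_inv_eq_iff_eq_mul.1 ?_).symm⟩
        obtain ⟨y, hyb⟩ := hbB
        have hbinv : s * b * s⁻¹ = b⁻¹ := by
          rw [← hyb, hβ]
          calc s * (s * y * s⁻¹ * (y : S)⁻¹) * s⁻¹ = (s * s) * y * s⁻¹ * (y : S)⁻¹ * s⁻¹ := by group
            _ = y * s * (y : S)⁻¹ * s⁻¹ := by rw [c.ssq, hsi, one_mul]
            _ = _ := by group
        set e := b⁻¹ * f with he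
        have h1 : s * (b * e) * s⁻¹ = (b * e)⁻¹ := by rw [he, mul_inv_cancel_left]; exact hfinv
        rw [← conj_mul, hbinv, mul_inv_rev, ← d.F_comm (inv_mem (hBF ⟨y, hyb⟩)) (d.En.conj_mem e hE s)] at h1
        exact (mul_right_cancel h1).trans (inv_eq_of_mul_eq_one_right (d.Esq e hE))
      have := mul_mem hbB (hPB hP)
      rwa [mul_inv_cancel_left] at this
    obtain ⟨y, hy⟩ := hfB'
    rw [hβ] at hy
    have hcom : (y : S)⁻¹ * g * s = s * ((y : S)⁻¹ * g) := by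
      have h2 : g * s * g⁻¹ = y * s * (y : S)⁻¹ := by
        calc g * s * g⁻¹ = s * f := by rw [hfdef, mul_inv_cancel_left]
          _ = s * (s * y * s⁻¹ * (y : S)⁻¹) := by rw [hy]
          _ = (s * s) * y * s⁻¹ * (y : S)⁻¹ := by group
          _ = y * s * (y : S)⁻¹ := by rw [c.ssq, hsi, one_mul]
      calc (y : S)⁻¹ * g * s = (y : S)⁻¹ * (g * s * g⁻¹) * g := by group
        _ = _ := by rw [h2]; group
    have hA := c.centralizer_s (fun e => hz (e.symm.trans rfl)) hcom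
    -- `g` would act as `1` or as `s`
    have hfixq : ((y : S)⁻¹ * g) * q0 * ((y : S)⁻¹ * g)⁻¹ = w * q0 := by
      rw [show ((y : S)⁻¹ * g) * q0 * ((y : S)⁻¹ * g)⁻¹ = (y : S)⁻¹ * (g * q0 * g⁻¹) * y by group, cq,
        mul_assoc, d.F_comm y.2 (mul_mem hwE hq0), inv_mul_cancel_left]
    by_cases hAE : (y : S)⁻¹ * g ∈ d.E
    · rw [← d.F_comm (d.E_le_F hAE) hq0, mul_inv_cancel_right] at hfixq
      exact hw1 (mul_eq_right.1 hfixq.symm)
    · have hidx : ((d.E ⊓ d.A).subgroupOf d.A).index = 2 := by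
        have h := card_mul_index ((d.E ⊓ d.A).subgroupOf d.A)
        rw [Nat.card_congr (subgroupOfEquivOfLe (inf_le_right : d.E ⊓ d.A ≤ d.A)).toEquiv, c.h4, d.cardA] at h
        omega
      have hsy : s⁻¹ * ((y : S)⁻¹ * g) ∈ d.E := (mem_inf.1 ((mul_mem_iff_of_index_two hidx
        (a := (⟨s⁻¹, inv_mem c.hs⟩ : d.A)) (b := ⟨_, hA⟩)).2
        ⟨fun h => absurd (by simpa using inv_mem (mem_inf.1 h).1) c.hsE,
          fun h => absurd (mem_inf.1 h).1 hAE⟩)).1
      set e := s⁻¹ * ((y : S)⁻¹ * g) with he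
      rw [show (y : S)⁻¹ * g = s * e by rw [he, mul_inv_cancel_left],
        show s * e * q0 * (s * e)⁻¹ = s * (e * q0 * e⁻¹) * s⁻¹ by group, d.E_comm hsy hq0,
        mul_inv_cancel_right, sq] at hfixq
      exact hz (mul_right_cancel hfixq)
  -- an element `x1 ∈ x E` inverted by `s` and by `g`
  have hpown : ∀ y : S, y ∈ d.F → (y : S ⧸ d.E) ^ n = 1 := fun y hy =>
    congrArg (fun r : R d => (r : S ⧸ d.E)) (pow_card_eq_one' (x := (⟨(y : S ⧸ d.E), y, hy, rfl⟩ : R d)))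
  set x1 := f ^ (n / 2) with hx1
  have hx1F : x1 ∈ d.F := pow_mem hf _
  have hneven : n / 2 * 2 = n := by omega
  have hx1x : x⁻¹ * x1 ∈ d.E := by
    refine (hroot x1 hx1F ((QuotientGroup.eq_one_iff _).1 ?_)).resolve_left fun h => hfn ?_
    · rw [hx1, ← pow_two, ← pow_mul, hneven, QuotientGroup.mk_pow, hpown f hf]
    · rw [← QuotientGroup.mk_pow]
      exact (QuotientGroup.eq_one_iff _).2 h
  have hx1sq : x1 * x1 = w := d.sq_eq_of_coset c.hx hx1x
  have hx1w : x1⁻¹ = x1 * w := by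
    refine inv_eq_of_mul_eq_one_right ?_
    rw [← mul_assoc, hx1sq, ww]
  have hsx1 : s * x1 * s⁻¹ = x1⁻¹ := by rw [hx1, ← conj_pow, hfinv, inv_pow]
  set d0 := g * g with hd0def
  have hd0K : d0 ∈ sqSub H := sq_mem hcH
  have hd0F : d0 ∈ d.F := by
    have h := hext 1 d0 ?_ ?_
    · simpa using h
    · rw [show d0 * v1 * d0⁻¹ = g * (g * v1 * g⁻¹) * g⁻¹ by rw [hd0def]; group, cv, cv]; simp
    · rw [show d0 * q0 * d0⁻¹ = g * (g * q0 * g⁻¹) * g⁻¹ by rw [hd0def]; group, cq, ← conj_mul, c.hwc, cq,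
        ← mul_assoc, ww]
      simp
  set m := n / 2 with hm
  have hd0n : d0 ^ m ∈ d.E := by
    refine (QuotientGroup.eq_one_iff _).1 ?_
    set M := (sqSub H ⊓ d.F).map (QuotientGroup.mk' d.E) with hM
    have hmem : (d0 : S ⧸ d.E) ∈ M := ⟨d0, mem_inf.2 ⟨hd0K, hd0F⟩, rfl⟩
    obtain ⟨j, hj⟩ : Nat.card M ∣ m := by
      have : Fact (Nat.Prime 2) := ⟨Nat.prime_two⟩
      obtain ⟨i, hi⟩ := ((d.two.to_quotient d.E).to_subgroup M).exists_card_eq
      obtain ⟨k, hk⟩ := ((d.two.to_quotient d.E).to_subgroup (R d)).exists_card_eq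
      rw [hi] at hcardr
      rw [← hn] at hk
      rw [hk] at hcardr
      rw [hi, hm, hk]
      have hik : i + 1 ≤ k :=
        (Nat.pow_le_pow_iff_right (by norm_num : 1 < 2)).1 (by rw [pow_succ]; exact hcardr)
      have he : 2 ^ k / 2 = 2 ^ (k - 1) := by
        rw [show k = (k - 1) + 1 by omega, pow_succ, Nat.mul_div_cancel _ two_pos, Nat.add_sub_cancel]
      rw [he]
      exact Nat.pow_dvd_pow 2 (by omega)
    rw [QuotientGroup.mk_pow, hj, pow_mul]
    have := congrArg (fun w : M => (w : S ⧸ d.E)) (pow_card_eq_one' (x := (⟨_, hmem⟩ : M)))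
    simp only [Subgroup.coe_pow, Subgroup.coe_one] at this
    rw [this, one_pow]
  have hd0fix : d0 ^ m ∈ d.E ⊓ d.A := by
    have hfix : g * d0 ^ m * g⁻¹ = d0 ^ m := by
      rw [← conj_pow, show g * d0 * g⁻¹ = d0 by rw [hd0def]; group]
    by_contra hno
    have hqP : q0 ∉ d.E ⊓ d.A := fun h => c.zs1 (by rw [← hsq0, c.s_fix h, mul_inv_cancel])
    have hp := d.mul_mem_of_index_two c.h8 (P := d.E ⊓ d.A) inf_le_left c.h4 hd0n hq0 hno hqP
    have hgP : g * (d0 ^ m * q0) * g⁻¹ = d0 ^ m * q0 := by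
      have hne : x * x ≠ v1 := fun e => hz e.symm
      rcases four_cases_inf c.h4 c.zsP c.wP c.zs1 c.hw1 hne hp with e | e | e | e <;> rw [e]
      · rw [mul_one, mul_inv_cancel]
      · exact cv
      · exact c.hwc g
      · rw [← conj_mul, cv, c.hwc]
    rw [← conj_mul, hfix, cq] at hgP
    exact hw1 (mul_eq_right.1 (mul_left_cancel hgP))
  have hfd : f * (g * f * g⁻¹) = s * d0 * s⁻¹ * d0⁻¹ := by
    rw [hd0def, hfdef]
    calc s⁻¹ * (g * s * g⁻¹) * (g * (s⁻¹ * (g * s * g⁻¹)) * g⁻¹)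
        = s⁻¹ * g * s * s⁻¹ * (g * s * g⁻¹) * g⁻¹ := by group
      _ = s * (g * g) * s * (g * g)⁻¹ := by rw [hsi, mul_assoc (s * g) s s, c.ssq]; group
      _ = _ := by rw [hsi]
  have hgx1 : g * x1 * g⁻¹ = x1⁻¹ := by
    have hgf : g * f * g⁻¹ ∈ d.F := (Setup.normal_F d).conj_mem f hf g
    have hcom : Commute f (g * f * g⁻¹) :=
      congrArg (fun w : d.F => (w : S)) (hFcomm ⟨f, hf⟩ ⟨_, hgf⟩)
    refine (inv_eq_of_mul_eq_one_right ?_).symm
    rw [hx1, ← conj_pow, ← hcom.mul_pow, hfd]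
    have h2 := map_pow β ⟨d0, hd0F⟩ m
    rw [hβ, hβ, Subgroup.coe_pow, c.s_fix hd0fix, mul_inv_cancel] at h2
    exact h2.symm
  -- the contradiction
  have uv' : u⁻¹ * v1 * u = w * v1 := by
    have : u * (w * v1) * u⁻¹ = v1 := by rw [← conj_mul, c.hwc, uv, ← mul_assoc, ww, one_mul]
    calc u⁻¹ * v1 * u = u⁻¹ * (u * (w * v1) * u⁻¹) * u := by rw [this]
      _ = _ := by group
  have uq' : u⁻¹ * q0 * u = q0 := by
    calc u⁻¹ * q0 * u = u⁻¹ * (u * q0 * u⁻¹) * u := by rw [uq]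
      _ = _ := by group
  have hf2 : (s * g)⁻¹ * (u * s * u⁻¹) ∈ d.F := by
    refine hext _ _ ?_ ?_
    · rw [show u * s * u⁻¹ * v1 * (u * s * u⁻¹)⁻¹ = u * (s * (u⁻¹ * v1 * u) * s⁻¹) * u⁻¹ by group, uv',
        conj2 s w v1, c.s_fix hwP, sv, conj2 u w v1, c.hwc, uv, ← mul_assoc w w v1, ww, one_mul,
        show s * g * v1 * (s * g)⁻¹ = s * (g * v1 * g⁻¹) * s⁻¹ by group, cv, sv]
    · rw [show u * s * u⁻¹ * q0 * (u * s * u⁻¹)⁻¹ = u * (s * (u⁻¹ * q0 * u) * s⁻¹) * u⁻¹ by group, uq',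
        show s * g * q0 * (s * g)⁻¹ = s * (g * q0 * g⁻¹) * s⁻¹ by group, cq, conj2 s w q0, c.s_fix hwP,
        sq, conj2 u v1 q0, uv, uq, ← mul_assoc w v1 q0]
  set f2 := (s * g)⁻¹ * (u * s * u⁻¹) with hf2def
  have hR1 : u * s * u⁻¹ * x1 * (u * s * u⁻¹)⁻¹ = x1 := by
    have hfx : f2 * x1 * f2⁻¹ = x1 := by
      have h := congrArg (fun w : d.F => (w : S)) (hFcomm ⟨f2, hf2⟩ ⟨x1, hx1F⟩)
      simp only [Subgroup.coe_mul] at h
      rw [h, mul_inv_cancel_right]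
    rw [show u * s * u⁻¹ = s * g * f2 by rw [hf2def, mul_inv_cancel_left],
      show s * g * f2 * x1 * (s * g * f2)⁻¹ = s * (g * (f2 * x1 * f2⁻¹) * g⁻¹) * s⁻¹ by group, hfx, hgx1]
    rw [show s * x1⁻¹ * s⁻¹ = (s * x1 * s⁻¹)⁻¹ by group, hsx1, inv_inv]
  have hηcases : x1⁻¹ * (u⁻¹ * x1 * u) = 1 ∨ x1⁻¹ * (u⁻¹ * x1 * u) = w := by
    refine hK _ ?_ ?_
    · have hx1H : x1 ∈ H := by
        have := mul_mem hxH (hEH hx1x)
        rwa [mul_inv_cancel_left] at this
      have := commutator_mem (inv_mem hx1H) (inv_mem huH)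
      rwa [show x1⁻¹ * u⁻¹ * x1⁻¹⁻¹ * u⁻¹⁻¹ = x1⁻¹ * (u⁻¹ * x1 * u) by group] at this
    · obtain ⟨e, he, hxe⟩ : ∃ e ∈ d.E, x1 = x * e := ⟨_, hx1x, (mul_inv_cancel_left _ _).symm⟩
      rw [hxe, show (x * e)⁻¹ * (u⁻¹ * (x * e) * u) =
        e⁻¹ * (x⁻¹ * (u⁻¹ * x * u⁻¹⁻¹ * x⁻¹) * x⁻¹⁻¹) * (u⁻¹ * e * u⁻¹⁻¹) by group]
      exact mul_mem (mul_mem (inv_mem he) (d.En.conj_mem _ (c.hxc u⁻¹) x⁻¹)) (d.En.conj_mem e he u⁻¹)
  obtain ⟨η, hη, hηd⟩ : ∃ η, u⁻¹ * x1 * u = x1 * η ∧ (η = 1 ∨ η = w) :=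
    ⟨_, (mul_inv_cancel_left _ _).symm, hηcases⟩
  have hconj : ∀ t : S, t * η * t⁻¹ = η := by
    intro t
    rcases hηd with rfl | rfl
    · rw [mul_one, mul_inv_cancel]
    · exact c.hwc t
  refine hw1 ((mul_eq_left (a := x1)).1 ?_)
  calc x1 * w = (u * (x1 * η) * u⁻¹) * w := by rw [← hη]; group
    _ = u * (x1 * η * w) * u⁻¹ := by rw [conj2 u (x1 * η) w, c.hwc]
    _ = u * (s * (x1 * η) * s⁻¹) * u⁻¹ := by
        rw [conj2 s x1 η, hconj, hsx1, hx1w, mul_assoc x1 η w, mul_assoc x1 w η,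
          ← mul_inv_eq_iff_eq_mul.1 (c.hwc η)]
    _ = u * s * u⁻¹ * x1 * (u * s * u⁻¹)⁻¹ := by rw [← hη]; group
    _ = x1 := hR1

/-- The bound when `|E| = 8` and `|E ∩ A| = 4`. -/
theorem bound_eight_four (d : Setup S) (h8 : Nat.card d.E = 8) (h4 : Nat.card (d.E ⊓ d.A : Subgroup S) = 4)
    (hmax : ∀ N : Subgroup S, N.Normal → (∀ x ∈ N, x * x = 1) → Nat.card N ≤ 8) (H : Subgroup S) :
    (sqSub H).relIndex H ≤ 16 := by
  by_cases hF : d.F ≤ d.E
  · have hFE : d.F = d.E := le_antisymm hF d.E_le_F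
    by_cases hHF : H ≤ d.F
    · refine (d.split H (a := 1) (b := 16) ?_ ?_).trans (by norm_num)
      · exact (relIndex_map_eq_one _ (by rwa [QuotientGroup.ker_mk'])).le
      · refine ((Nat.le_of_dvd Nat.card_pos (Dvd.intro_left _
          (card_mul_relIndex (inf_le_inf_right d.F (sqSub_le H))))).trans (card_le_of_le inf_le_right)).trans ?_
        rw [hFE, h8]
        norm_num
    · refine d.split H (d.quot_eight h8 _) (b := 4) ?_
      rcases d.half_or_centralize H with h | h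
      · rw [h8] at h
        rw [hFE]
        omega
      · exact absurd h hHF
  · obtain ⟨s, zs, x, c⟩ := d.exists_four h8 h4 hmax hF
    by_cases hR : IsCyclic (R d)
    · exact c.bound_cyclic hR H
    · exact c.bound_noncyclic hR H

end Setup

end CfsgLib.TwoGroups.Harada
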