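import Cfsg.Agent.TwoGroups.HaradaSixteen
import Cfsg.Agent.TwoGroups.HaradaEightFour

/-!
Sectional rank of 2-groups with a self-centralizing elementary abelian subgroup of order 8.
-/

set_option autoImplicit false
set_option linter.unusedSectionVars false

namespace CfsgLib.TwoGroups.Harada

open Subgroup SqIndex

universe u

variable {S : Type u} [Group S] [Finite S]

namespace Setup

theorem bound_normal (d : Setup S) (hAE : d.A ≤ d.E) (H : Subgroup S) :
    (sqSub H).relIndex H ≤ 16 := by
  have hFA : d.F ≤ d.A := fun f hf => d.cent f fun a ha => d.F_comm hf (hAE ha)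
  have hFE : d.F = d.E := le_antisymm (hFA.trans hAE) d.E_le_F
  have h8 : Nat.card d.E = 8 := le_antisymm ((card_le_of_le (d.E_le_F.trans hFA)).trans d.cardA.le) d.large
  by_cases hHF : H ≤ d.F
  · refine (relIndex_sq_le_card H).trans ((card_le_of_le hHF).trans ?_)
    rw [hFE, h8]
    norm_num
  refine d.split H (d.quot_eight h8 _) (b := 4) ?_
  rcases d.half_or_centralize H with h | h
  · rw [h8] at h
    rw [hFE]
    omega
  · exact absurd h hHF

theorem bound_eight (d : Setup S) (h8 : Nat.card d.E = 8)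
    (hmax : ∀ N : Subgroup S, N.Normal → (∀ x ∈ N, x * x = 1) → Nat.card N ≤ 8) (H : Subgroup S) :
    (sqSub H).relIndex H ≤ 16 := by
  rcases d.A_inter with h | h | h
  · exact d.bound_eight_two h8 h hmax H
  · exact d.bound_eight_four h8 h hmax H
  · exact d.bound_normal h H

theorem bound_large (d : Setup S) (h16 : 16 ≤ Nat.card d.E) (H : Subgroup S) :
    (sqSub H).relIndex H ≤ 16 := by
  by_cases hAE : d.A ≤ d.E
  · exact d.bound_normal hAE H
  · exact d.bound_sixteen h16 hAE H

end Setup

/-- Harada: a 2-group with a self-centralizing elementary abelian subgroup of order 8 has sectional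
rank at most 4. -/
theorem sectionalPRankLE_four (hS : IsPGroup 2 S) (A : Subgroup S) (hA : ∀ a ∈ A, a * a = 1)
    (hA8 : Nat.card A = 8) (hC : ∀ x : S, (∀ a ∈ A, a * x = x * a) → x ∈ A) :
    Cfsg.SectionalPRankLE 2 4 S := by
  by_cases h16 : ∃ E : Subgroup S, E.Normal ∧ (∀ e ∈ E, e * e = 1) ∧ 16 ≤ Nat.card E
  · obtain ⟨E, hEn, hEsq, hE⟩ := h16
    exact SqIndex.sectionalPRankLE fun H =>
      (Setup.bound_large ⟨hS, A, hA, hA8, hC, E, hEn, hEsq, by omega⟩ hE H).trans (by norm_num)
  push Not at h16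
  by_cases h8 : ∃ E : Subgroup S, E.Normal ∧ (∀ e ∈ E, e * e = 1) ∧ 4 < Nat.card E
  · obtain ⟨E, hEn, hEsq, hE⟩ := h8
    have : Fact (Nat.Prime 2) := ⟨Nat.prime_two⟩
    have key : ∀ N : Subgroup S, N.Normal → (∀ x ∈ N, x * x = 1) → Nat.card N ≤ 8 ∧
        (4 < Nat.card N → Nat.card N = 8) := by
      intro N hN hsq
      have hlt := h16 N hN hsq
      obtain ⟨j, hj⟩ := (hS.to_subgroup N).exists_card_eq
      rw [hj] at hlt ⊢
      have : j < 4 := (Nat.pow_lt_pow_iff_right (by norm_num : 1 < 2)).1 (by omega : 2 ^ j < 2 ^ 4)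
      interval_cases j <;> norm_num
    have hE8 := (key E hEn hEsq).2 hE
    exact SqIndex.sectionalPRankLE fun H =>
      (Setup.bound_eight ⟨hS, A, hA, hA8, hC, E, hEn, hEsq, hE8.ge⟩ hE8 (fun N hN h => (key N hN h).1) H).trans
        (by norm_num)
  push Not at h8
  exact FourGroup.sectionalPRankLE_four hS fun N hN _ hsq =>
    h8 N hN fun x hx => by rw [← pow_two]; exact hsq x hx

end CfsgLib.TwoGroups.Harada
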