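import Cfsg.Agent.TwoGroups.HaradaMain
import Mathlib.GroupTheory.SpecificGroups.Quaternion

/-!
A self-centralizing central product of two quaternion groups contains a self-centralizing
elementary abelian subgroup of order 8.
-/

set_option autoImplicit false
set_option linter.unusedSectionVars false

namespace CfsgLib.TwoGroups.QuaternionProduct

open Subgroup
open scoped Pointwise

universe u

/-- The quaternion group of order 8. -/
abbrev G : Type := QuaternionGroup 2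

/-- A generator of order 4. -/
abbrev qa : G := .a 1
/-- The second generator. -/
abbrev qb : G := .xa 0
/-- The central involution. -/
abbrev qz : G := .a 2

/-- The automorphism cycling the generators, as a function. -/
def θfun : G → G
  | .a i => if i = 0 then .a 0 else if i = 1 then .xa 0 else if i = 2 then .a 2 else .xa 2
  | .xa i => if i = 0 then .xa 3 else if i = 1 then .a 3 else if i = 2 then .xa 1 else .a 1

theorem θ_mul : ∀ x y : G, θfun (x * y) = θfun x * θfun y := by decide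

theorem θ_inj : ∀ x y : G, θfun x = θfun y → x = y := by decide

/-- The automorphism cycling the generators. -/
def θ : G →* G := MonoidHom.mk' θfun θ_mul

/-- The diagonal subgroup, modulo the centre of the second factor. -/
def diag : Subgroup (G × G) where
  carrier := {p | p.2 = p.1 ∨ p.2 = p.1 * qz}
  one_mem' := Or.inl rfl
  mul_mem' := fun {p q} (hp : p.2 = p.1 ∨ p.2 = p.1 * qz) (hq : q.2 = q.1 ∨ q.2 = q.1 * qz) =>
    (by decide : ∀ a b c e : G, (b = a ∨ b = a * qz) → (e = c ∨ e = c * qz) →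
      (b * e = a * c ∨ b * e = a * c * qz)) p.1 p.2 q.1 q.2 hp hq
  inv_mem' := fun {p} (hp : p.2 = p.1 ∨ p.2 = p.1 * qz) =>
    (by decide : ∀ a b : G, (b = a ∨ b = a * qz) → (b⁻¹ = a⁻¹ ∨ b⁻¹ = a⁻¹ * qz)) p.1 p.2 hp

/-- Congruence modulo the kernel. -/
def Eqv (p q : G × G) : Prop := p = q ∨ p = q * (qz, qz)

instance : DecidableRel Eqv := fun p q => inferInstanceAs (Decidable (p = q ∨ p = q * (qz, qz)))

/-- Congruence modulo the centre. -/
def Eqc (p q : G × G) : Prop := Eqv p q ∨ Eqv p (q * (qz, 1))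

instance : DecidableRel Eqc := fun p q => inferInstanceAs (Decidable (Eqv p q ∨ Eqv p (q * (qz, 1))))

theorem diag_centralizer : ∀ p : G × G, Eqv (p * (qa, qa)) ((qa, qa) * p) →
    Eqv (p * (qb, qb)) ((qb, qb) * p) → p.2 = p.1 ∨ p.2 = p.1 * qz := by
  decide

theorem image_qa : ∀ p : G × G, Eqv (p * p) (qz, 1) → Eqv (p * (qa, qa)) ((qa, qa) * p) →
    Eqv (p * (qb, qb)) ((qb, qb) * p * (qz, 1)) → Eqc p (qa, 1) ∨ Eqc p (1, qa) := by
  decide

theorem image_qb : ∀ p : G × G, Eqv (p * p) (qz, 1) → Eqv (p * (qb, qb)) ((qb, qb) * p) →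
    Eqv (p * (qa, qa)) ((qa, qa) * p * (qz, 1)) → Eqc p (qb, 1) ∨ Eqc p (1, qb) := by
  decide

variable {S : Type u} [Group S]

/-- A copy of the central product inside `S` containing its centralizer. -/
structure Frame (S : Type u) [Group S] where
  φ : G × G →* S
  ker : ∀ p : G × G, φ p = 1 ↔ p = 1 ∨ p = (qz, qz)
  cent : centralizer (φ.range : Set S) ≤ φ.range

namespace Frame

variable (f : Frame S)

/-- The central involution. -/
def z : S := f.φ (qz, 1)

theorem map_eq_iff (p q : G × G) : f.φ p = f.φ q ↔ Eqv p q := by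
  rw [← inv_mul_eq_one, ← map_inv, ← map_mul, f.ker, inv_mul_eq_one, inv_mul_eq_iff_eq_mul]
  refine ⟨?_, ?_⟩
  · rintro (rfl | rfl)
    · exact Or.inl rfl
    · exact Or.inr (by rw [mul_assoc, show ((qz, qz) : G × G) * (qz, qz) = 1 by decide, mul_one])
  · rintro (rfl | rfl)
    · exact Or.inl rfl
    · exact Or.inr (by rw [mul_assoc, show ((qz, qz) : G × G) * (qz, qz) = 1 by decide, mul_one])

theorem z_comm (p : G × G) : f.φ p * f.z = f.z * f.φ p := by
  rw [z, ← map_mul, ← map_mul]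
  exact congrArg f.φ ((by decide : ∀ p : G × G, p * (qz, 1) = (qz, 1) * p) p)

/-- Equality modulo the centre. -/
def Eqz (x y : S) : Prop := x = y ∨ x = y * f.z

theorem eqz_of_eqc {p q : G × G} (h : Eqc p q) : f.Eqz (f.φ p) (f.φ q) := by
  rcases h with h | h
  · exact Or.inl ((f.map_eq_iff _ _).2 h)
  · exact Or.inr (((f.map_eq_iff _ _).2 h).trans (map_mul _ _ _))

theorem eqz_trans {x y w : S} (h : f.Eqz x y) (h' : f.Eqz y w) : f.Eqz x w := by
  have hzz : f.z * f.z = 1 := by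
    rw [z, ← map_mul, show ((qz, 1) : G × G) * (qz, 1) = 1 by decide, map_one]
  rcases h with rfl | rfl <;> rcases h' with rfl | rfl
  · exact Or.inl rfl
  · exact Or.inr rfl
  · exact Or.inr rfl
  · exact Or.inl (by rw [mul_assoc, hzz, mul_one])

theorem eqz_conj {g x y : S} (hg : g * f.z * g⁻¹ = f.z) (h : f.Eqz x y) :
    f.Eqz (g * x * g⁻¹) (g * y * g⁻¹) := by
  rcases h with rfl | rfl
  · exact Or.inl rfl
  · refine Or.inr ?_
    calc g * (y * f.z) * g⁻¹ = (g * y * g⁻¹) * (g * f.z * g⁻¹) := by group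
      _ = _ := by rw [hg]

/-- The elementary abelian subgroup given by the diagonal. -/
def E : Subgroup S := diag.map f.φ

theorem E_sq : ∀ e ∈ f.E, e * e = 1 := by
  rintro _ ⟨p, hp, rfl⟩
  rw [← map_mul, f.ker]
  exact (by decide : ∀ p : G × G, (p.2 = p.1 ∨ p.2 = p.1 * qz) → (p * p = 1 ∨ p * p = (qz, qz))) p hp

theorem z_mem_E : f.z ∈ f.E := ⟨(qz, 1), Or.inr (by decide), rfl⟩

theorem card_E : Nat.card f.E = 8 := by
  classical
  have h := SqIndex.card_map_mul f.φ diag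
  have hd : Nat.card diag = 16 := by
    have e : diag = (diag : Subgroup (G × G)) := rfl
    let : Fintype diag := Fintype.ofFinite _
    rw [Nat.card_eq_fintype_card]
    refine (Fintype.card_of_subtype
      (Finset.univ.filter fun p : G × G => p.2 = p.1 ∨ p.2 = p.1 * qz) fun p => ?_).trans (by decide)
    simp only [Finset.mem_filter, Finset.mem_univ, true_and]
    rfl
  have hk : Nat.card (diag ⊓ f.φ.ker : Subgroup (G × G)) = 2 := by
    refine le_antisymm (Harada.card_le_two (z := (qz, qz)) fun p hp => (f.ker p).1 (mem_inf.1 hp).2) ?_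
    refine (one_lt_card_iff_ne_bot _).2 fun e => ?_
    have hm : ((qz, qz) : G × G) ∈ diag ⊓ f.φ.ker := mem_inf.2 ⟨Or.inl rfl, (f.ker _).2 (Or.inr rfl)⟩
    rw [e, mem_bot] at hm
    exact (by decide : ((qz, qz) : G × G) ≠ 1) hm
  rw [hd, hk] at h
  change Nat.card (diag.map f.φ) = 8
  omega

variable [Finite S]

/-- An element outside the central product normalizing it and centralizing `E` exchanges the factors. -/
theorem swap {t : S} (ht : ∀ x ∈ f.φ.range, t * x * t⁻¹ ∈ f.φ.range) (htE : ∀ e ∈ f.E, t * e * t⁻¹ = e)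
    (htQ : t ∉ f.φ.range) :
    f.Eqz (t * f.φ (1, qa) * t⁻¹) (f.φ (qa, 1)) ∧ f.Eqz (t * f.φ (1, qb) * t⁻¹) (f.φ (qb, 1)) ∧
      f.Eqz (t * f.φ (qa, 1) * t⁻¹) (f.φ (1, qa)) ∧ f.Eqz (t * f.φ (qb, 1) * t⁻¹) (f.φ (1, qb)) := by
  obtain ⟨P, hP⟩ := ht _ ⟨(qa, 1), rfl⟩
  obtain ⟨R, hR⟩ := ht _ ⟨(qb, 1), rfl⟩
  have ha : t * f.φ (qa, qa) * t⁻¹ = f.φ (qa, qa) := htE _ ⟨(qa, qa), Or.inl rfl, rfl⟩
  have hb : t * f.φ (qb, qb) * t⁻¹ = f.φ (qb, qb) := htE _ ⟨(qb, qb), Or.inl rfl, rfl⟩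
  have hz : t * f.φ (qz, 1) * t⁻¹ = f.φ (qz, 1) := htE _ ⟨(qz, 1), Or.inr (by decide), rfl⟩
  let c : G × G →* S := ((MulAut.conj t).toMonoidHom.comp f.φ)
  have hc : ∀ p, c p = t * f.φ p * t⁻¹ := fun p => rfl
  have tr : ∀ {p q : G × G} {p' q' : G × G}, Eqv p q → c p = f.φ p' → c q = f.φ q' → Eqv p' q' :=
    fun {p q p' q'} h hp hq => (f.map_eq_iff _ _).1 (by
      rw [← hp, ← hq, hc, hc, (f.map_eq_iff _ _).2 h])
  have cP : c (qa, 1) = f.φ P := hP.symm
  have cR : c (qb, 1) = f.φ R := hR.symm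
  have ca : c (qa, qa) = f.φ (qa, qa) := ha
  have cb : c (qb, qb) = f.φ (qb, qb) := hb
  have cz : c (qz, 1) = f.φ (qz, 1) := hz
  have hPc := image_qa P
    (tr (p := (qa, 1) * (qa, 1)) (q := (qz, 1)) (Or.inl (by decide)) (by rw [map_mul, cP, map_mul]) cz)
    (tr (p := (qa, 1) * (qa, qa)) (q := (qa, qa) * (qa, 1)) (Or.inl (by decide))
      (by rw [map_mul, cP, ca, map_mul]) (by rw [map_mul, cP, ca, map_mul]))
    (tr (p := (qa, 1) * (qb, qb)) (q := (qb, qb) * (qa, 1) * (qz, 1)) (Or.inl (by decide))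
      (by rw [map_mul, cP, cb, map_mul]) (by rw [map_mul, map_mul, cP, cb, cz, map_mul, map_mul]))
  have hRc := image_qb R
    (tr (p := (qb, 1) * (qb, 1)) (q := (qz, 1)) (Or.inl (by decide)) (by rw [map_mul, cR, map_mul]) cz)
    (tr (p := (qb, 1) * (qb, qb)) (q := (qb, qb) * (qb, 1)) (Or.inl (by decide))
      (by rw [map_mul, cR, cb, map_mul]) (by rw [map_mul, cR, cb, map_mul]))
    (tr (p := (qb, 1) * (qa, qa)) (q := (qa, qa) * (qb, 1) * (qz, 1)) (Or.inl (by decide))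
      (by rw [map_mul, cR, ca, map_mul]) (by rw [map_mul, map_mul, cR, ca, cz, map_mul, map_mul]))
  have hrel : Eqv (P * R) (R * P * (qz, 1)) :=
    tr (p := (qa, 1) * (qb, 1)) (q := (qb, 1) * (qa, 1) * (qz, 1)) (Or.inl (by decide))
      (by rw [map_mul, cP, cR, map_mul]) (by rw [map_mul, map_mul, cP, cR, cz, map_mul, map_mul])
  -- the image of `(qa, 1)` is not congruent to itself
  have hmixed : ∀ P R : G × G, (Eqc P (qa, 1) ∧ Eqc R (1, qb)) ∨ (Eqc P (1, qa) ∧ Eqc R (qb, 1)) →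
      ¬ Eqv (P * R) (R * P * (qz, 1)) := by
    have hdec : ∀ P : G × G, Eqc P (qa, 1) ∨ Eqc P (1, qa) → ∀ R : G × G, Eqc R (qb, 1) ∨ Eqc R (1, qb) →
        ((Eqc P (qa, 1) ∧ Eqc R (1, qb)) ∨ (Eqc P (1, qa) ∧ Eqc R (qb, 1))) →
        ¬ Eqv (P * R) (R * P * (qz, 1)) := by
      decide
    exact fun P R h => hdec P (h.imp And.left And.left) R (h.symm.imp And.right And.right) h
  rcases hPc with hPc | hPc <;> rcases hRc with hRc | hRc
  · exfalso
    -- `t` induces an inner automorphism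
    obtain ⟨q, hq, qa', qb'⟩ : ∃ q ∈ diag, f.φ P = f.φ (q * (qa, 1) * q⁻¹) ∧
        f.φ R = f.φ (q * (qb, 1) * q⁻¹) := by
      have hdec : ∀ P : G × G, Eqc P (qa, 1) → ∀ R : G × G, Eqc R (qb, 1) →
          ∃ q : G, Eqv P ((q, q) * (qa, 1) * (q, q)⁻¹) ∧ Eqv R ((q, q) * (qb, 1) * (q, q)⁻¹) := by
        decide
      obtain ⟨q, h1, h2⟩ := hdec P hPc R hRc
      exact ⟨(q, q), Or.inl rfl, (f.map_eq_iff _ _).2 h1, (f.map_eq_iff _ _).2 h2⟩
    let c' : G × G →* S := ((MulAut.conj (f.φ q)).toMonoidHom.comp f.φ)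
    have hc' : ∀ p, c' p = f.φ q * f.φ p * (f.φ q)⁻¹ := fun p => rfl
    have hEq : ∀ p ∈ diag, c' p = f.φ p := fun p hp => by
      have h := Harada.comm_of_sq f.E f.E_sq (⟨q, hq, rfl⟩ : f.φ q ∈ f.E) (⟨p, hp, rfl⟩ : f.φ p ∈ f.E)
      rw [hc', h, mul_inv_cancel_right]
    have hgen : ∀ p : G × G, c p = c' p := by
      intro p
      have e1 : c (qa, 1) = c' (qa, 1) := by rw [cP, qa', hc', map_mul, map_mul, map_inv]
      have e2 : c (qb, 1) = c' (qb, 1) := by rw [cR, qb', hc', map_mul, map_mul, map_inv]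
      have e3 : c (qa, qa) = c' (qa, qa) := by rw [ca, hEq (qa, qa) (Or.inl rfl)]
      have e4 : c (qb, qb) = c' (qb, qb) := by rw [cb, hEq (qb, qb) (Or.inl rfl)]
      obtain ⟨i, j, k, l, rfl⟩ : ∃ (i j : Fin 2) (k l : Fin 4),
          p = (qa, 1) ^ (k : ℕ) * (qb, 1) ^ (i : ℕ) * ((qa, qa) ^ (l : ℕ) * (qb, qb) ^ (j : ℕ)) :=
        (by decide : ∀ p : G × G, ∃ (i j : Fin 2) (k l : Fin 4),
          p = (qa, 1) ^ (k : ℕ) * (qb, 1) ^ (i : ℕ) * ((qa, qa) ^ (l : ℕ) * (qb, qb) ^ (j : ℕ))) p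
      simp only [map_mul, map_pow, e1, e2, e3, e4]
    refine htQ ?_
    have hmem : (f.φ q)⁻¹ * t ∈ centralizer (f.φ.range : Set S) := mem_centralizer_iff.2 fun x hx => by
      obtain ⟨p, rfl⟩ := hx
      have h := hgen p
      rw [hc, hc'] at h
      calc f.φ p * ((f.φ q)⁻¹ * t) = (f.φ q)⁻¹ * (f.φ q * f.φ p * (f.φ q)⁻¹) * t := by group
        _ = (f.φ q)⁻¹ * (t * f.φ p * t⁻¹) * t := by rw [h]
        _ = _ := by group
    have := mul_mem (show f.φ q ∈ f.φ.range from ⟨q, rfl⟩) (f.cent hmem)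
    rwa [mul_inv_cancel_left] at this
  · exact absurd hrel (hmixed P R (Or.inl ⟨hPc, hRc⟩))
  · exact absurd hrel (hmixed P R (Or.inr ⟨hPc, hRc⟩))
  · have h3 : f.Eqz (t * f.φ (qa, 1) * t⁻¹) (f.φ (1, qa)) := hP ▸ f.eqz_of_eqc hPc
    have h4 : f.Eqz (t * f.φ (qb, 1) * t⁻¹) (f.φ (1, qb)) := hR ▸ f.eqz_of_eqc hRc
    refine ⟨?_, ?_, h3, h4⟩
    · have e : c (1, qa) = f.φ (P⁻¹ * (qa, qa)) := by
        rw [show ((1, qa) : G × G) = (qa, 1)⁻¹ * (qa, qa) by decide, map_mul, map_inv, cP, ca, map_mul, map_inv]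
      show f.Eqz (c (1, qa)) _
      rw [e]
      refine f.eqz_of_eqc ?_
      exact (by decide : ∀ P : G × G, Eqc P (1, qa) → Eqc (P⁻¹ * (qa, qa)) (qa, 1)) P hPc
    · have e : c (1, qb) = f.φ (R⁻¹ * (qb, qb)) := by
        rw [show ((1, qb) : G × G) = (qb, 1)⁻¹ * (qb, qb) by decide, map_mul, map_inv, cR, cb, map_mul, map_inv]
      show f.Eqz (c (1, qb)) _
      rw [e]
      refine f.eqz_of_eqc ?_
      exact (by decide : ∀ R : G × G, Eqc R (1, qb) → Eqc (R⁻¹ * (qb, qb)) (qb, 1)) R hRc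

/-- The twisted frame. -/
def twist : Frame S where
  φ := f.φ.comp (MonoidHom.prodMap (MonoidHom.id G) θ)
  ker p := by
    rw [MonoidHom.comp_apply, f.ker]
    exact (by decide : ∀ p : G × G, ((p.1, θfun p.2) = 1 ∨ (p.1, θfun p.2) = (qz, qz)) ↔
      (p = 1 ∨ p = (qz, qz))) p
  cent := by
    have h : (f.φ.comp (MonoidHom.prodMap (MonoidHom.id G) θ)).range = f.φ.range := by
      rw [MonoidHom.range_comp, MonoidHom.range_eq_top.2 ?_, ← MonoidHom.range_eq_map]
      intro p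
      obtain ⟨q, hq⟩ := (by decide : ∀ b : G, ∃ q : G, θfun q = b) p.2
      exact ⟨(p.1, q), Prod.ext rfl hq⟩
    rw [h]
    exact f.cent

/-- An element normalizing the central product and centralizing `E`, if `E` is not self-centralizing. -/
theorem exists_outer (hS : IsPGroup 2 S) (h : ¬ centralizer (f.E : Set S) ≤ f.E) :
    ∃ t, (∀ x ∈ f.φ.range, t * x * t⁻¹ ∈ f.φ.range) ∧ (∀ e ∈ f.E, t * e * t⁻¹ = e) ∧ t ∉ f.φ.range := by
  set T := centralizer (f.E : Set S)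
  have hQE : ∀ q ∈ f.φ.range, ∀ e ∈ f.E, q * e * q⁻¹ ∈ f.E := by
    rintro _ ⟨q, rfl⟩ _ ⟨e, he, rfl⟩
    refine ⟨q * e * q⁻¹, ?_, by rw [map_mul, map_mul, map_inv]⟩
    exact (by decide : ∀ a b c e : G, (e = c ∨ e = c * qz) →
      (b * e * b⁻¹ = a * c * a⁻¹ ∨ b * e * b⁻¹ = a * c * a⁻¹ * qz)) q.1 q.2 e.1 e.2 he
  have hQT : ∀ q ∈ f.φ.range, ∀ t ∈ T, q * t * q⁻¹ ∈ T := fun q hq t ht => mem_centralizer_iff.2 fun e he => by
    have h1 := mem_centralizer_iff.1 ht _ (hQE q⁻¹ (inv_mem hq) e he)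
    calc e * (q * t * q⁻¹) = q * ((q⁻¹ * e * q⁻¹⁻¹) * t) * q⁻¹ := by group
      _ = q * (t * (q⁻¹ * e * q⁻¹⁻¹)) * q⁻¹ := by rw [h1]
      _ = _ := by group
  have hnorm : f.φ.range ≤ normalizer (T : Set S) := fun q hq => mem_normalizer_iff.2 fun t =>
    ⟨hQT q hq t, fun h => by
      have := hQT q⁻¹ (inv_mem hq) _ h
      rwa [show q⁻¹ * (q * t * q⁻¹) * q⁻¹⁻¹ = t by group] at this⟩
  set L := f.φ.range ⊔ T
  have hTQ : ¬ T ≤ f.φ.range := by
    intro hle
    refine h fun t ht => ?_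
    obtain ⟨p, rfl⟩ := hle ht
    refine ⟨p, diag_centralizer p ((f.map_eq_iff _ _).1 ?_) ((f.map_eq_iff _ _).1 ?_), rfl⟩
    · rw [map_mul, map_mul]
      exact (mem_centralizer_iff.1 ht _ ⟨(qa, qa), Or.inl rfl, rfl⟩).symm
    · rw [map_mul, map_mul]
      exact (mem_centralizer_iff.1 ht _ ⟨(qb, qb), Or.inl rfl, rfl⟩).symm
  have hlt : f.φ.range.subgroupOf L < ⊤ := lt_top_iff_ne_top.2 fun e => hTQ fun t ht =>
    (subgroupOf_eq_top.1 e) (mem_sup_right ht)
  have : Fact (Nat.Prime 2) := ⟨Nat.prime_two⟩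
  have : Group.IsNilpotent L := (hS.to_subgroup L).isNilpotent
  obtain ⟨⟨g, hgL⟩, hg, hgQ⟩ := SetLike.exists_of_lt (Group.normalizerCondition_of_isNilpotent _ hlt)
  rw [mem_subgroupOf] at hgQ
  obtain ⟨q, hq, t, ht, hqt⟩ : g ∈ (f.φ.range : Set S) * (T : Set S) := by
    rw [← coe_mul_of_left_le_normalizer_right _ _ hnorm]
    exact hgL
  replace hqt : q * t = g := hqt
  subst hqt
  refine ⟨t, fun x hx => ?_, fun e he => ?_, fun h' => hgQ (mul_mem hq h')⟩
  · have h1 := (mem_normalizer_iff.1 hg ⟨x, mem_sup_left hx⟩).1 (mem_subgroupOf.2 hx)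
    rw [mem_subgroupOf] at h1
    have := mul_mem (mul_mem (inv_mem hq) h1) hq
    simpa [mul_assoc] using this
  · rw [← mem_centralizer_iff.1 ht e he, mul_inv_cancel_right]

include f in
theorem exists_self_centralizing (hS : IsPGroup 2 S) :
    ∃ A : Subgroup S, (∀ a ∈ A, a * a = 1) ∧ Nat.card A = 8 ∧
      ∀ x : S, (∀ a ∈ A, a * x = x * a) → x ∈ A := by
  by_cases h1 : centralizer (f.E : Set S) ≤ f.E
  · exact ⟨f.E, f.E_sq, f.card_E, fun x hx => h1 (mem_centralizer_iff.2 hx)⟩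
  by_cases h2 : centralizer (f.twist.E : Set S) ≤ f.twist.E
  · exact ⟨f.twist.E, f.twist.E_sq, f.twist.card_E, fun x hx => h2 (mem_centralizer_iff.2 hx)⟩
  exfalso
  obtain ⟨t, ht, htE, htQ⟩ := f.exists_outer hS h1
  obtain ⟨u, hu, huE, huQ⟩ := f.twist.exists_outer hS h2
  obtain ⟨t1, t2, -, -⟩ := f.swap ht htE htQ
  obtain ⟨-, -, u1, u2⟩ := f.twist.swap hu huE huQ
  have hzt : t * f.z * t⁻¹ = f.z := htE _ f.z_mem_E
  have hztw : f.twist.z = f.z := by
    show f.φ (qz, θ 1) = f.φ (qz, 1)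
    rw [map_one]
  have hzu : u * f.z * u⁻¹ = f.z := by rw [← hztw]; exact huE _ f.twist.z_mem_E
  have hEq : ∀ x y, f.twist.Eqz x y → f.Eqz x y := fun x y h => by
    unfold Eqz at h ⊢
    rwa [hztw] at h
  set A := f.φ (qa, 1)
  set B := f.φ (qb, 1)
  have ua : f.Eqz (u * A * u⁻¹) (f.φ (1, qb)) := by
    have := hEq _ _ u1
    exact this
  have ub : f.Eqz (u * B * u⁻¹) (f.φ (1, θfun qb)) := hEq _ _ u2
  set g := t * u with hg
  have hzg : g * f.z * g⁻¹ = f.z := by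
    rw [show g * f.z * g⁻¹ = t * (u * f.z * u⁻¹) * t⁻¹ by rw [hg]; group, hzu, hzt]
  have gA : f.Eqz (g * A * g⁻¹) B := by
    rw [show g * A * g⁻¹ = t * (u * A * u⁻¹) * t⁻¹ by rw [hg]; group]
    exact f.eqz_trans (f.eqz_conj hzt ua) t2
  have gB : f.Eqz (g * B * g⁻¹) (A * B) := by
    rw [show g * B * g⁻¹ = t * (u * B * u⁻¹) * t⁻¹ by rw [hg]; group]
    refine f.eqz_trans (f.eqz_conj hzt ub) ?_
    have e : f.φ (1, θfun qb) = f.φ (1, qa) * f.φ (1, qb) := by rw [← map_mul]; exact congrArg f.φ (by decide)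
    rw [e, show t * (f.φ (1, qa) * f.φ (1, qb)) * t⁻¹ = (t * f.φ (1, qa) * t⁻¹) * (t * f.φ (1, qb) * t⁻¹) by group]
    rcases t1 with e1 | e1 <;> rcases t2 with e2 | e2 <;> rw [e1, e2]
    · exact Or.inl rfl
    · exact Or.inr (by rw [mul_assoc])
    · refine Or.inr ?_
      rw [mul_assoc, mul_assoc, f.z_comm]
    · refine Or.inl ?_
      have hzz : f.z * f.z = 1 := by
        rw [z, ← map_mul, show ((qz, 1) : G × G) * (qz, 1) = 1 by decide, map_one]
      rw [mul_assoc, ← mul_assoc f.z, ← f.z_comm, mul_assoc, hzz, mul_one]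
  have gAB : f.Eqz (g * (A * B) * g⁻¹) A := by
    have e : g * (A * B) * g⁻¹ = (g * A * g⁻¹) * (g * B * g⁻¹) := by group
    have hdec : f.Eqz (B * (A * B)) A := by
      have hm : B * (A * B) = f.φ ((qb, 1) * ((qa, 1) * (qb, 1))) := by rw [map_mul, map_mul]
      rw [hm]
      exact f.eqz_of_eqc (by decide)
    refine f.eqz_trans ?_ hdec
    rw [e]
    have hzz : f.z * f.z = 1 := by
      rw [z, ← map_mul, show ((qz, 1) : G × G) * (qz, 1) = 1 by decide, map_one]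
    have hzAB : f.z * (A * B) = A * B * f.z := by
      rw [← map_mul]; exact (f.z_comm _).symm
    rcases gA with e1 | e1 <;> rcases gB with e2 | e2 <;> rw [e1, e2]
    · exact Or.inl rfl
    · exact Or.inr (by rw [← mul_assoc B])
    · refine Or.inr ?_
      rw [mul_assoc B f.z, hzAB, ← mul_assoc B]
    · refine Or.inl ?_
      rw [mul_assoc B f.z, ← mul_assoc f.z, hzAB, mul_assoc (A * B), hzz, mul_one]
  obtain ⟨j, hj⟩ := hS g
  have key : ∀ n : ℕ, (n % 3 = 0 → f.Eqz (g ^ n * A * (g ^ n)⁻¹) A) ∧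
      (n % 3 = 1 → f.Eqz (g ^ n * A * (g ^ n)⁻¹) B) ∧
      (n % 3 = 2 → f.Eqz (g ^ n * A * (g ^ n)⁻¹) (A * B)) := by
    intro n
    induction n with
    | zero => exact ⟨fun _ => Or.inl (by simp), fun h => by omega, fun h => by omega⟩
    | succ n ih =>
      obtain ⟨i0, i1, i2⟩ := ih
      have step : ∀ y y', f.Eqz (g ^ n * A * (g ^ n)⁻¹) y → f.Eqz (g * y * g⁻¹) y' →
          f.Eqz (g ^ (n + 1) * A * (g ^ (n + 1))⁻¹) y' := fun y y' h h' => by
        refine f.eqz_trans ?_ h'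
        rw [pow_succ', show g * g ^ n * A * (g * g ^ n)⁻¹ = g * (g ^ n * A * (g ^ n)⁻¹) * g⁻¹ by group]
        exact f.eqz_conj hzg h
      exact ⟨fun h => step _ _ (i2 (by omega)) gAB, fun h => step _ _ (i0 (by omega)) gA,
        fun h => step _ _ (i1 (by omega)) gB⟩
  obtain ⟨k0, k1, k2⟩ := key (2 ^ j)
  rw [hj, inv_one, one_mul, mul_one] at k1 k2
  have h3 : 2 ^ j % 3 ≠ 0 := fun h =>
    absurd ((Nat.Prime.dvd_of_dvd_pow (by norm_num : Nat.Prime 3) (Nat.dvd_of_mod_eq_zero h))) (by norm_num)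
  have hne : ∀ p q : G × G, ¬ Eqc p q → ¬ f.Eqz (f.φ p) (f.φ q) := by
    rintro p q h (e | e)
    · exact h (Or.inl ((f.map_eq_iff _ _).1 e))
    · rw [z, ← map_mul] at e
      exact h (Or.inr ((f.map_eq_iff _ _).1 e))
  rcases (by omega : 2 ^ j % 3 = 1 ∨ 2 ^ j % 3 = 2) with h | h
  · exact hne (qa, 1) (qb, 1) (by decide) (k1 h)
  · refine hne (qa, 1) ((qa, 1) * (qb, 1)) (by decide) ?_
    rw [map_mul]
    exact k2 h

end Frame

/-- The frame of two commuting quaternion subgroups generating a group of order 32. -/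
theorem exists_frame [Finite S] (Q Q₁ Q₂ : Subgroup S) (e₁ : Q₁ ≃* G) (e₂ : Q₂ ≃* G)
    (hcomm : ∀ a ∈ Q₁, ∀ b ∈ Q₂, a * b = b * a) (hQ : Q₁ ⊔ Q₂ = Q) (hQ32 : Nat.card Q = 32)
    (hC : centralizer (Q : Set S) ≤ Q) : Nonempty (Frame S) := by
  let i₁ : G →* S := Q₁.subtype.comp e₁.symm.toMonoidHom
  let i₂ : G →* S := Q₂.subtype.comp e₂.symm.toMonoidHom
  let φ : G × G →* S := MonoidHom.noncommCoprod i₁ i₂ fun a b => hcomm _ (e₁.symm a).2 _ (e₂.symm b).2
  have hrange : φ.range = Q := by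
    refine (MonoidHom.noncommCoprod_range _ _ _).trans ?_
    rw [← hQ]
    congr 1
    · rw [MonoidHom.range_comp, MonoidHom.range_eq_top.2 e₁.symm.surjective, ← MonoidHom.range_eq_map,
        range_subtype]
    · rw [MonoidHom.range_comp, MonoidHom.range_eq_top.2 e₂.symm.surjective, ← MonoidHom.range_eq_map,
        range_subtype]
  have hker2 : Nat.card φ.ker = 2 := by
    have h := card_mul_index φ.ker
    rw [index_ker, hrange, hQ32, Nat.card_prod, Nat.card_eq_fintype_card (α := G), QuaternionGroup.card] at h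
    omega
  have hmem : ∀ p : G × G, φ p = 1 → p.1 * p.1 = 1 := by
    intro p hp
    have h1 : i₁ p.1 * i₂ p.2 = 1 := hp
    have hp2 : p * p = 1 := by
      have hk : (⟨p, hp⟩ : φ.ker) ^ Nat.card φ.ker = 1 := pow_card_eq_one'
      rw [hker2] at hk
      rw [← pow_two]
      exact congrArg Subtype.val hk
    exact congrArg Prod.fst hp2
  obtain ⟨p, hp, hp1⟩ : ∃ p, φ p = 1 ∧ p ≠ 1 := by
    by_contra hno
    push Not at hno
    have : φ.ker = ⊥ := (eq_bot_iff_forall _).2 fun p hp => hno p hp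
    rw [this, card_bot] at hker2
    omega
  have hz : φ (qz, qz) = 1 := by
    have h1 : i₁ p.1 * i₂ p.2 = 1 := hp
    have hp2 : p.2 * p.2 = 1 := by
      have hk : (⟨p, hp⟩ : φ.ker) ^ Nat.card φ.ker = 1 := pow_card_eq_one'
      rw [hker2, pow_two] at hk
      exact congrArg Prod.snd (congrArg Subtype.val hk)
    have hcases : ∀ x : G, x * x = 1 → x = 1 ∨ x = qz := by decide
    have i1inj : Function.Injective i₁ := Q₁.subtype_injective.comp e₁.symm.injective
    have i2inj : Function.Injective i₂ := Q₂.subtype_injective.comp e₂.symm.injective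
    obtain ⟨x, y⟩ := p
    rcases hcases x (hmem _ hp) with rfl | rfl <;> rcases hcases y hp2 with rfl | rfl
    · exact absurd rfl hp1
    · rw [map_one, one_mul, ← map_one i₂] at h1
      exact absurd (i2inj h1) (by decide)
    · rw [map_one i₂, mul_one, ← map_one i₁] at h1
      exact absurd (i1inj h1) (by decide)
    · exact hp
  refine ⟨⟨φ, fun q => ⟨fun hq => ?_, ?_⟩, by rw [hrange]; exact hC⟩⟩
  · refine or_iff_not_imp_left.2 fun h => Harada.eq_of_card_le_two hker2.le hq hz h ?_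
    decide
  · rintro (rfl | rfl)
    exacts [map_one φ, hz]

end CfsgLib.TwoGroups.QuaternionProduct
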