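import Cfsg.Agent.TwoGroups.FourCentralizerMain
import Cfsg.Agent.TwoGroups.Semidihedral
import Mathlib.GroupTheory.SpecificGroups.KleinFour
import Mathlib.GroupTheory.NoncommCoprod

/-!
Sectional rank with involution centralizers of type dihedral by four-group.
-/

set_option autoImplicit false
set_option linter.unusedSectionVars false

namespace CfsgLib.TwoGroups.DihedralByFour

open Subgroup SqIndex

universe u

/-- Sectional rank is read off from a Sylow subgroup. -/
theorem sectional_of_sylow {G : Type*} [Group G] [Finite G] {r : ℕ} (S : Sylow 2 G)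
    (h : ∀ H : Subgroup (S : Subgroup G), (sqSub H).relIndex H ≤ 2 ^ r) : Cfsg.SectionalPRankLE 2 r G := by
  have : Fact (Nat.Prime 2) := ⟨Nat.prime_two⟩
  intro H N _ A _ hA
  set J := A.comap (QuotientGroup.mk' N)
  let f : J →* A := ((QuotientGroup.mk' N).comp J.subtype).codRestrict A fun j => j.2
  have hf : Function.Surjective f := by
    rintro ⟨a, ha⟩
    obtain ⟨x, rfl⟩ := QuotientGroup.mk_surjective a
    exact ⟨⟨x, ha⟩, rfl⟩
  obtain ⟨P⟩ := (inferInstance : Nonempty (Sylow 2 J))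
  have hA2 : IsPGroup 2 A := fun a => ⟨1, Subtype.ext (by rw [pow_one]; exact hA a a.2)⟩
  set f' := f.comp (P : Subgroup J).subtype with hf'
  have hsurj : f'.range = ⊤ := by
    rw [hf', MonoidHom.range_comp, range_subtype]
    have htop : IsPGroup 2 (⊤ : Subgroup A) := hA2.to_subgroup ⊤
    have h2 := (P.mapSurjective hf).3 htop le_top
    rw [Sylow.coe_mapSurjective] at h2
    exact h2.symm
  let ι : (P : Subgroup J) →* G := (H.subtype.comp J.subtype).comp (P : Subgroup J).subtype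
  have hι : Function.Injective ι := fun a b e => Subtype.ext (Subtype.ext (Subtype.ext e))
  have hP2 : IsPGroup 2 ι.range := by
    rw [MonoidHom.range_eq_map]
    exact (P.isPGroup'.to_subgroup ⊤).map ι
  obtain ⟨Q, hQ⟩ := hP2.exists_le_sylow
  obtain ⟨g, hg⟩ := MulAction.exists_smul_eq G Q S
  have hmem : ∀ p, (MulAut.conj g) (ι p) ∈ (S : Subgroup G) := fun p => by
    rw [← hg, Sylow.coe_subgroup_smul]
    exact Subgroup.smul_mem_pointwise_smul _ _ _ (hQ ⟨p, rfl⟩)
  let ψ : (P : Subgroup J) →* (S : Subgroup G) := ((MulAut.conj g).toMonoidHom.comp ι).codRestrict _ hmem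
  have hψ : Function.Injective ψ := fun a b e =>
    hι ((MulAut.conj g).injective (congrArg (fun w : (S : Subgroup G) => (w : G)) e))
  have hsq : sqSub ψ.range ≤ f'.ker.map ψ := by
    refine sqSub_le_of ?_
    rintro _ ⟨p, rfl⟩
    exact ⟨p * p, Subtype.ext ((pow_two _).symm.trans (hA _ (f' p).2)), map_mul _ _ _⟩
  have hcard : Nat.card A = (f'.ker.map ψ).relIndex ψ.range := by
    rw [MonoidHom.range_eq_map, relIndex_map_map_of_injective _ _ hψ, relIndex_top_right, index_ker, hsurj,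
      card_top]
  rw [hcard]
  exact le_trans (Nat.le_of_dvd (Nat.pos_of_ne_zero (relIndex_ne_zero _ _))
    (relIndex_dvd_of_le_left ψ.range hsq)) (h _)

variable {S : Type u} [Group S] [Finite S]

/-- Cyclic subgroups have square index at most 2. -/
theorem relIndex_cyclic (H : Subgroup S) [IsCyclic H] : (sqSub H).relIndex H ≤ 2 := by
  classical
  obtain ⟨g, hg⟩ := IsCyclic.exists_generator (α := H)
  refine (Nat.card_le_card_of_injective (β := Bool) (fun q : H ⧸ (sqSub H).subgroupOf H =>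
    decide (q = ((1 : H) : H ⧸ (sqSub H).subgroupOf H))) fun a b e => ?_).trans (by simp)
  have hgg : ∀ q : H ⧸ (sqSub H).subgroupOf H,
      q = ((1 : H) : H ⧸ (sqSub H).subgroupOf H) ∨ q = (g : H ⧸ (sqSub H).subgroupOf H) := by
    intro q
    obtain ⟨y, rfl⟩ := QuotientGroup.mk_surjective q
    obtain ⟨i, rfl⟩ := hg y
    have hsq : ∀ j : ℤ, g ^ j * g ^ j ∈ (sqSub H).subgroupOf H := fun j => mem_subgroupOf.2 (sq_mem (g ^ j).2)
    rcases Int.even_or_odd i with ⟨j, rfl⟩ | ⟨j, rfl⟩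
    · left
      refine QuotientGroup.eq.2 ?_
      rw [mul_one]
      exact inv_mem (by
        show g ^ (j + j) ∈ _
        rw [zpow_add]; exact hsq j)
    · right
      refine QuotientGroup.eq.2 ?_
      have e : (g ^ (2 * j + 1))⁻¹ * g = (g ^ j * g ^ j)⁻¹ := by
        rw [← zpow_add, ← zpow_neg, ← zpow_neg, ← zpow_add_one]
        congr 1
        omega
      show (g ^ (2 * j + 1))⁻¹ * g ∈ _
      rw [e]
      exact inv_mem (hsq j)
  by_cases ha : a = ((1 : H) : H ⧸ (sqSub H).subgroupOf H)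
  · rw [ha, (decide_eq_decide.1 e).1 ha]
  · rw [(hgg a).resolve_left ha, (hgg b).resolve_left fun hb => ha ((decide_eq_decide.1 e).2 hb)]

/-- A group with a cyclic subgroup of index 2 has square indices at most 4. -/
theorem relIndex_le_four {c : S} (hc : (zpowers c).index = 2) (H : Subgroup S) :
    (sqSub H).relIndex H ≤ 4 := by
  have := normal_of_index_eq_two hc
  rw [relIndex_eq_mul (QuotientGroup.mk' (zpowers c)) (sqSub_le H), map_sqSub, QuotientGroup.ker_mk']
  refine le_of_le_of_eq (Nat.mul_le_mul (?_ : _ ≤ 2) (?_ : _ ≤ 2)) rfl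
  · exact ((Harada.relIndex_sq_le_card _).trans (card_le_card_group _)).trans hc.le
  · have : IsCyclic (H ⊓ zpowers c : Subgroup S) :=
      isCyclic_of_injective (Subgroup.inclusion (inf_le_right : H ⊓ zpowers c ≤ zpowers c))
        (Subgroup.inclusion_injective _)
    exact (relIndex_le_of_le_left (le_inf (sqSub_mono inf_le_left) ((sqSub_le _).trans inf_le_right))
      (relIndex_ne_zero _ _)).trans (relIndex_cyclic _)

/-- The two kinds of dihedral or quasi-dihedral groups. -/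
theorem type_cases {D : Type*} [Group D] [Finite D]
    (hD : (∃ m : ℕ, 2 ≤ m ∧ Nonempty (D ≃* DihedralGroup m)) ∨ Cfsg.IsQuasiDihedral D) :
    (∃ c : D, (zpowers c).index = 2) ∧
      ((Nat.card D = 4 ∧ ∀ a : D, a * a = 1) ∨
        Nat.card {z : D // z * z = 1 ∧ z ∈ center D} ≤ 2) := by
  classical
  rcases hD with ⟨m, hm, ⟨e⟩⟩ | hQ
  · have : NeZero m := ⟨by omega⟩
    refine ⟨⟨e.symm (.r 1), ?_⟩, ?_⟩
    · have h := card_mul_index (zpowers (e.symm (.r 1)))
      rw [Nat.card_zpowers, MulEquiv.orderOf_eq, DihedralGroup.orderOf_r_one, Nat.card_congr e.toEquiv,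
        DihedralGroup.nat_card, mul_comm 2] at h
      exact Nat.eq_of_mul_eq_mul_left (by omega) h
    rcases Nat.lt_or_ge m 3 with h3 | h3
    · obtain rfl : m = 2 := by omega
      refine Or.inl ⟨by rw [Nat.card_congr e.toEquiv, DihedralGroup.nat_card], fun a => e.injective ?_⟩
      rw [map_mul, map_one]
      exact (by decide : ∀ x : DihedralGroup 2, x * x = 1) (e a)
    right
    have key : ∀ z : D, z * z = 1 → z ∈ center D → ∃ i : ZMod m, e z = .r i ∧ (i.val = 0 ∨ 2 * i.val = m) := by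
      intro z _ hz
      have h1 : ∀ y, e z * y = y * e z := fun y => by
        have := congrArg e (mem_center_iff.1 hz (e.symm y))
        rwa [map_mul, map_mul, e.apply_symm_apply, eq_comm] at this
      rcases he : e z with i | i
      · refine ⟨i, rfl, ?_⟩
        have h := h1 (.sr 0)
        rw [he, DihedralGroup.r_mul_sr, DihedralGroup.sr_mul_r, DihedralGroup.sr.injEq, zero_sub, zero_add,
          neg_eq_iff_add_eq_zero] at h
        have hd : m ∣ i.val + i.val := by
          rw [← ZMod.natCast_eq_zero_iff, Nat.cast_add, ZMod.natCast_zmod_val]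
          exact h
        have := ZMod.val_lt i
        obtain ⟨k, hk⟩ := hd
        rcases Nat.lt_or_ge k 2 with hk2 | hk2
        · interval_cases k <;> omega
        · have := Nat.mul_le_mul_left m hk2
          omega
      · exfalso
        have h := h1 (.r 1)
        rw [he, DihedralGroup.r_mul_sr, DihedralGroup.sr_mul_r, DihedralGroup.sr.injEq] at h
        have h2 : ((2 : ℕ) : ZMod m) = 0 := by
          have : (i + 1) - (i - 1) = (0 : ZMod m) := by rw [h, sub_self]
          rw [← this]; push_cast; ring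
        have := Nat.le_of_dvd two_pos ((ZMod.natCast_eq_zero_iff _ _).1 h2)
        omega
    refine (Nat.card_le_card_of_injective (fun z => decide (e z.1 = .r 0)) fun a b hab => ?_).trans (by simp)
    obtain ⟨i, hi, hi'⟩ := key a.1 a.2.1 a.2.2
    obtain ⟨j, hj, hj'⟩ := key b.1 b.2.1 b.2.2
    refine Subtype.ext (e.injective ?_)
    have h0 := decide_eq_decide.1 hab
    rw [hi, hj, DihedralGroup.r.injEq, DihedralGroup.r.injEq] at h0
    rw [hi, hj, DihedralGroup.r.injEq]
    refine ZMod.val_injective m ?_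
    have ei : i = 0 ↔ i.val = 0 := (ZMod.val_eq_zero i).symm
    have ej : j = 0 ↔ j.val = 0 := (ZMod.val_eq_zero j).symm
    rw [ei, ej] at h0
    omega
  · obtain ⟨n, x, y, d⟩ := exists_sdPair hQ
    refine ⟨⟨x, d.index_zpowers⟩, Or.inr ?_⟩
    refine le_trans (Nat.card_le_card_of_injective
      (fun z => (⟨z.1, d.center_eq ▸ z.2.2⟩ : zpowers (x ^ hh n)))
      fun a b h => Subtype.ext (congrArg (fun w : zpowers (x ^ hh n) => (w : D)) h)) ?_
    rw [Nat.card_zpowers, d.orderOf_z]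

/-- An element normalizing a small elementary abelian group above the four-group centralizes one of
its involutions. -/
theorem exists_fixed (Z B : Subgroup S) (hBZ : B ≤ Z) (hB : Nat.card B = 4) (hZ : ∀ z ∈ Z, z * z = 1)
    (h8 : Nat.card Z ≤ 8) {g : S} (hn : ∀ z ∈ Z, g * z * g⁻¹ ∈ Z) (hgg : ∀ z ∈ Z, (g * g) * z = z * (g * g)) :
    ∃ b ∈ B, b ≠ 1 ∧ g * b = b * g := by
  by_contra hno
  push Not at hno
  let χ : Z →* S :=
    { toFun := fun e => g * e * g⁻¹ * (e : S)⁻¹
      map_one' := by simp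
      map_mul' := fun a c => by
        have hm : g * c * g⁻¹ * (c : S)⁻¹ ∈ Z := mul_mem (hn c c.2) (inv_mem c.2)
        calc g * ((a * c : Z) : S) * g⁻¹ * ((a * c : Z) : S)⁻¹
            = g * a * g⁻¹ * ((g * c * g⁻¹ * (c : S)⁻¹) * (a : S)⁻¹) := by simp only [Subgroup.coe_mul]; group
          _ = g * a * g⁻¹ * ((a : S)⁻¹ * (g * c * g⁻¹ * (c : S)⁻¹)) := by
            rw [Harada.comm_of_sq Z hZ hm (inv_mem a.2)]
          _ = _ := by group }
  set C := Z ⊓ centralizer {g}
  have h := card_mul_index χ.ker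
  rw [index_ker] at h
  have h1 : Nat.card χ.ker ≤ Nat.card C :=
    Nat.card_le_card_of_injective (fun y => (⟨(y.1 : S), mem_inf.2 ⟨y.1.2, mem_centralizer_singleton_iff.2
      (mul_inv_eq_iff_eq_mul.1 (mul_inv_eq_one.1 y.2)).symm⟩⟩ : C)) fun a c e =>
        Subtype.ext (Subtype.ext (congrArg (fun w : C => (w : S)) e))
  have h2 : Nat.card χ.range ≤ Nat.card C := by
    refine card_le_of_le ?_
    rintro _ ⟨e, rfl⟩
    have hm : g * e * g⁻¹ * (e : S)⁻¹ ∈ Z := mul_mem (hn e e.2) (inv_mem e.2)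
    refine mem_inf.2 ⟨hm, mem_centralizer_singleton_iff.2 (mul_inv_eq_iff_eq_mul.1 ?_).symm⟩
    calc g * (g * e * g⁻¹ * (e : S)⁻¹) * g⁻¹ = ((g * g) * e * (g * g)⁻¹) * (g * (e : S)⁻¹ * g⁻¹) := by group
      _ = (e : S) * (g * (e : S)⁻¹ * g⁻¹) := by rw [hgg e e.2, mul_inv_cancel_right]
      _ = (g * e * g⁻¹ * (e : S)⁻¹)⁻¹ := by group
      _ = _ := inv_eq_of_mul_eq_one_right (hZ _ hm)
  have h3 : Nat.card B * Nat.card C ≤ Nat.card Z := by
    rw [← Nat.card_prod]
    refine Nat.card_le_card_of_injective (fun p : B × C =>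
      (⟨(p.1 : S) * p.2, mul_mem (hBZ p.1.2) (mem_inf.1 p.2.2).1⟩ : Z)) fun p p' e => ?_
    have e' : (p.1 : S) * p.2 = p'.1 * p'.2 := congrArg Subtype.val e
    have h2 : (p'.1 : S)⁻¹ * p.1 = (p'.2 : S) * (p.2 : S)⁻¹ := by
      rw [eq_mul_inv_iff_mul_eq, mul_assoc, e', inv_mul_cancel_left]
    have h1 : (p'.1 : S)⁻¹ * p.1 = 1 := by
      by_contra hne
      exact hno _ (mul_mem (inv_mem p'.1.2) p.1.2) hne (mem_centralizer_singleton_iff.1
        (mem_inf.1 (h2 ▸ mul_mem p'.2.2 (inv_mem p.2.2) : (p'.1 : S)⁻¹ * p.1 ∈ C)).2).symm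
    rw [h1, eq_comm, mul_inv_eq_one] at h2
    exact Prod.ext (Subtype.ext (inv_mul_eq_one.1 h1).symm) (Subtype.ext h2.symm)
  have hC : Nat.card C ≤ 2 := by
    rw [hB] at h3; omega
  have := Nat.mul_le_mul (h1.trans hC) (h2.trans hC)
  have hB4 := card_le_of_le hBZ
  rw [hB] at hB4 h3
  have hC1 := Nat.card_pos (α := C)
  nlinarith

/-- The main bound in the Sylow subgroup. -/
theorem sq_bound {D : Type*} [Group D] [Finite D] (hS : IsPGroup 2 S)
    (hD : (∃ m : ℕ, 2 ≤ m ∧ Nonempty (D ≃* DihedralGroup m)) ∨ Cfsg.IsQuasiDihedral D)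
    (B : Subgroup S) (hB : Nat.card B = 4) (hBsq : ∀ b ∈ B, b * b = 1) (ψ : D × B →* S)
    (hψ : Function.Injective ψ) (hψB : ∀ b : B, ψ (1, b) = b)
    (hcent : ∀ b ∈ B, b ≠ 1 → centralizer {b} ≤ ψ.range) :
    ∀ H : Subgroup S, (sqSub H).relIndex H ≤ 16 := by
  classical
  obtain ⟨⟨c, hc⟩, hcases⟩ := type_cases hD
  set T := ψ.range with hT
  have hBT : B ≤ T := fun b hb => ⟨(1, ⟨b, hb⟩), hψB ⟨b, hb⟩⟩
  rcases hcases with ⟨hD4, hDsq⟩ | hZ
  · refine FourCentralizer.Quad.relIndex_le ⟨hS, T, ?_, ?_, B, hBT, hB, hcent⟩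
    · rintro _ ⟨p, rfl⟩
      rw [← map_mul, show p * p = 1 from Prod.ext (hDsq p.1) (Subtype.ext (hBsq _ p.2.2)), map_one]
    · rw [hT, MonoidHom.range_eq_map, card_map_of_injective hψ, card_top, Nat.card_prod, hD4, hB]
  -- a small elementary abelian subgroup above `B`
  let Z : Subgroup S :=
    { carrier := {t | t ∈ T ∧ t * t = 1 ∧ ∀ u ∈ T, t * u = u * t}
      one_mem' := ⟨one_mem _, one_mul 1, fun u _ => by rw [one_mul, mul_one]⟩
      mul_mem' := fun {a b} ha hb => ⟨mul_mem ha.1 hb.1, by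
        rw [mul_assoc a b (a * b), ← mul_assoc b a b, ← ha.2.2 b hb.1, mul_assoc a b b, hb.2.1, mul_one, ha.2.1],
        fun u hu => ((show Commute a u from ha.2.2 u hu).mul_left (show Commute b u from hb.2.2 u hu)).eq⟩
      inv_mem' := fun {a} ha => ⟨inv_mem ha.1, by rw [← mul_inv_rev, ha.2.1, inv_one],
        fun u hu => (Commute.inv_left (show Commute a u from ha.2.2 u hu)).eq⟩ }
  have hψc : ∀ (d : D) (b : B), ψ (d, b) = ψ (d, 1) * ψ (1, b) := fun d b => by
    rw [← map_mul, Prod.mk_mul_mk, mul_one, one_mul]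
  have hBZ : B ≤ Z := fun b hb => ⟨hBT hb, hBsq b hb, by
    rintro _ ⟨p, rfl⟩
    rw [show b = ψ (1, ⟨b, hb⟩) from (hψB ⟨b, hb⟩).symm, ← map_mul, ← map_mul]
    exact congrArg ψ (Prod.ext (by simp) (Subtype.ext (Harada.comm_of_sq B hBsq hb p.2.2)))⟩
  have hZ8 : Nat.card Z ≤ 8 := by
    have hm : ∀ t : Z, ∃ p : {z : D // z * z = 1 ∧ z ∈ center D} × B, ψ (p.1.1, p.2) = t := by
      rintro ⟨t, ⟨p, rfl⟩, hsq, hcom⟩
      refine ⟨(⟨p.1, ?_, mem_center_iff.2 fun g => ?_⟩, p.2), rfl⟩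
      · rw [← map_mul, ← map_one ψ] at hsq
        exact congrArg Prod.fst (hψ hsq)
      · have h := hcom (ψ (g, 1)) ⟨_, rfl⟩
        rw [← map_mul, ← map_mul] at h
        exact (congrArg Prod.fst (hψ h)).symm
    choose p hp using hm
    refine (Nat.card_le_card_of_injective p fun a b e => Subtype.ext ?_).trans ?_
    · rw [← hp a, ← hp b, e]
    · rw [Nat.card_prod, hB]
      omega
  -- `T` is the whole group
  have hTtop : T = ⊤ := by
    by_contra hne
    have : Fact (Nat.Prime 2) := ⟨Nat.prime_two⟩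
    have : Group.IsNilpotent S := hS.isNilpotent
    obtain ⟨g0, hg0, hg0T⟩ :=
      SetLike.exists_of_lt (Group.normalizerCondition_of_isNilpotent T (lt_top_iff_ne_top.2 hne))
    obtain ⟨k, hk⟩ := hS g0
    obtain ⟨g, hg, hgT, hgg⟩ : ∃ g ∈ normalizer (T : Set S), g ∉ T ∧ g * g ∈ T := by
      have aux : ∀ j, g0 ^ (2 ^ j) ∈ T → ∃ g ∈ normalizer (T : Set S), g ∉ T ∧ g * g ∈ T := by
        intro j
        induction j with
        | zero => intro h; exact absurd (by simpa using h) hg0T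
        | succ j ih =>
          intro h
          by_cases hj : g0 ^ (2 ^ j) ∈ T
          · exact ih hj
          · exact ⟨_, pow_mem hg0 _, hj, by rwa [← pow_add, ← two_mul, ← pow_succ']⟩
      exact aux k (hk ▸ one_mem T)
    have hnT : ∀ t ∈ T, g * t * g⁻¹ ∈ T := fun t ht => (mem_normalizer_iff.1 hg t).1 ht
    have hnT' : ∀ t ∈ T, g⁻¹ * t * g ∈ T := fun t ht => (mem_normalizer_iff''.1 hg t).1 ht
    have hnZ : ∀ z ∈ Z, g * z * g⁻¹ ∈ Z := by
      intro z hz
      refine ⟨hnT z hz.1, by rw [conj_mul, hz.2.1, mul_one, mul_inv_cancel], fun u hu => ?_⟩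
      have h := congrArg (fun w => g * w * g⁻¹) (hz.2.2 _ (hnT' u hu))
      calc g * z * g⁻¹ * u = g * (z * (g⁻¹ * u * g)) * g⁻¹ := by group
        _ = g * ((g⁻¹ * u * g) * z) * g⁻¹ := h
        _ = _ := by group
    obtain ⟨b, hb, hb1, hgb⟩ := exists_fixed Z B hBZ hB (fun z hz => hz.2.1) hZ8 (g := g) hnZ
      (fun z hz => (hz.2.2 _ hgg).symm)
    exact hgT (hcent b hb hb1 (mem_centralizer_singleton_iff.2 hgb))
  intro H
  have hbij : Function.Bijective ψ := ⟨hψ, MonoidHom.range_eq_top.1 hTtop⟩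
  let f : S →* D := (MonoidHom.fst D B).comp (MulEquiv.ofBijective ψ hbij).symm.toMonoidHom
  rw [relIndex_eq_mul f (sqSub_le H), map_sqSub]
  refine le_of_le_of_eq (Nat.mul_le_mul (relIndex_le_four hc _) (?_ : _ ≤ 4)) rfl
  refine ((Nat.le_of_dvd Nat.card_pos (Dvd.intro_left _
    (card_mul_relIndex (inf_le_inf_right f.ker (sqSub_le H))))).trans (card_le_of_le inf_le_right)).trans ?_
  rw [← hB]
  refine Nat.card_le_card_of_injective (fun x => ((MulEquiv.ofBijective ψ hbij).symm x.1).2) fun a b e => ?_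
  refine Subtype.ext ((MulEquiv.ofBijective ψ hbij).symm.injective (Prod.ext ?_ e))
  exact (a.2 : f a.1 = 1).trans (b.2 : f b.1 = 1).symm

theorem main {G : Type*} [Group G] [Finite G] (T D B : Subgroup G) (hT : IsPGroup 2 T)
    (hprod : Cfsg.IsInternalDirectProduct D B T)
    (hD : (∃ m : ℕ, 2 ≤ m ∧ Nonempty (D ≃* DihedralGroup m)) ∨ Cfsg.IsQuasiDihedral D) (hB : IsKleinFour B)
    (hTb : ∀ b ∈ B, orderOf b = 2 →
      T ≤ centralizer ({b} : Set G) ∧ Odd (T.relIndex (centralizer ({b} : Set G)))) :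
    Cfsg.SectionalPRankLE 2 4 G := by
  have : Fact (Nat.Prime 2) := ⟨Nat.prime_two⟩
  obtain ⟨hDT, hBT, hcomm, hdisj, hsup⟩ := hprod
  obtain ⟨P, hP⟩ := hT.exists_le_sylow
  have hBP : B ≤ (P : Subgroup G) := hBT.trans hP
  have hBsq : ∀ b ∈ B, b * b = 1 := fun b hb =>
    congrArg (fun w : B => (w : G)) (IsKleinFour.mul_self (⟨b, hb⟩ : B))
  set B' := B.subgroupOf (P : Subgroup G) with hB'
  let i₁ : D →* (P : Subgroup G) := Subgroup.inclusion (hDT.trans hP)
  let i₂ : B' →* (P : Subgroup G) := B'.subtype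
  let ψ : D × B' →* (P : Subgroup G) :=
    MonoidHom.noncommCoprod i₁ i₂ fun a b => Subtype.ext (hcomm _ a.2 _ b.2)
  have hψval : ∀ p, ((ψ p : (P : Subgroup G)) : G) = (p.1 : G) * ((p.2 : (P : Subgroup G)) : G) := fun p => rfl
  have hψ : Function.Injective ψ := by
    rintro ⟨a, b⟩ ⟨a', b'⟩ e
    have e' : (a : G) * ((b : (P : Subgroup G)) : G) = (a' : G) * ((b' : (P : Subgroup G)) : G) := congrArg Subtype.val e
    have h2 : (a' : G)⁻¹ * a = ((b' : (P : Subgroup G)) : G) * ((b : (P : Subgroup G)) : G)⁻¹ := by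
      rw [eq_mul_inv_iff_mul_eq, mul_assoc, e', inv_mul_cancel_left]
    have h1 : (a' : G)⁻¹ * a = 1 := by
      rw [← mem_bot, ← hdisj]
      exact mem_inf.2 ⟨mul_mem (inv_mem a'.2) a.2, h2 ▸ mul_mem b'.2 (inv_mem b.2)⟩
    rw [h1, eq_comm, mul_inv_eq_one] at h2
    exact Prod.ext (Subtype.ext (inv_mul_eq_one.1 h1).symm) (Subtype.ext (Subtype.ext h2.symm))
  have hrange : T.subgroupOf (P : Subgroup G) ≤ ψ.range := by
    intro t ht
    have hle : D ⊔ B ≤ ψ.range.map (P : Subgroup G).subtype := by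
      refine sup_le (fun d hd => ⟨ψ (⟨d, hd⟩, 1), ⟨_, rfl⟩, ?_⟩) (fun b hb => ⟨ψ (1, ⟨⟨b, hBP hb⟩, hb⟩), ⟨_, rfl⟩, ?_⟩)
      · show ((ψ (⟨d, hd⟩, 1) : (P : Subgroup G)) : G) = d
        rw [hψval]; simp
      · show ((ψ (1, ⟨⟨b, hBP hb⟩, hb⟩) : (P : Subgroup G)) : G) = b
        rw [hψval]; simp
    rw [hsup] at hle
    obtain ⟨y, hy, hyt⟩ := hle ht
    rwa [← Subtype.ext hyt]
  have hB4 : Nat.card B' = 4 := by
    rw [Nat.card_congr (subgroupOfEquivOfLe hBP).toEquiv]; exact IsKleinFour.card_four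
  have hcent : ∀ b ∈ B', b ≠ 1 → centralizer {b} ≤ ψ.range := by
    intro b hb hb1
    refine le_trans (fun y hy => ?_) hrange
    have ho : orderOf (b : G) = 2 :=
      orderOf_eq_prime (by rw [pow_two]; exact hBsq _ hb) fun e => hb1 (Subtype.ext e)
    obtain ⟨hle, hodd⟩ := hTb _ hb ho
    set R := (P : Subgroup G) ⊓ centralizer ({(b : G)} : Set G)
    have hTR : T ≤ R := le_inf hP hle
    have hdvd : T.relIndex R ∣ T.relIndex (centralizer ({(b : G)} : Set G)) :=
      Dvd.intro _ (relIndex_mul_relIndex T R _ hTR inf_le_right)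
    obtain ⟨k, hk⟩ := (P.isPGroup'.to_le (inf_le_left : R ≤ (P : Subgroup G))).exists_card_eq
    have hdvd2 : T.relIndex R ∣ 2 ^ k := hk ▸ Dvd.intro_left _ (card_mul_relIndex hTR)
    obtain ⟨j, -, hj⟩ := (Nat.dvd_prime_pow Nat.prime_two).1 hdvd2
    have hone : T.relIndex R = 1 := by
      have ho' : Odd (T.relIndex R) := hodd.of_dvd_nat hdvd
      rw [hj] at ho' ⊢
      rcases j with _ | j
      · rfl
      · exact absurd ho' (by rw [Nat.not_odd_iff_even, Nat.even_pow]; exact ⟨even_two, by omega⟩)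
    exact relIndex_eq_one.1 hone (mem_inf.2 ⟨y.2, mem_centralizer_singleton_iff.2
      (congrArg Subtype.val (mem_centralizer_singleton_iff.1 hy))⟩)
  exact sectional_of_sylow P fun H => (sq_bound P.isPGroup' hD B' hB4 (fun b hb => Subtype.ext (hBsq _ hb)) ψ hψ
    (fun b => Subtype.ext (by rw [hψval]; simp)) hcent H).trans (by norm_num)

end CfsgLib.TwoGroups.DihedralByFour
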