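import Cfsg.Agent.TwoGroups.Basic

/-!
Four-groups in dihedral groups: their centralizers have at most four elements.
-/

namespace CfsgLib.TwoGroups

open Subgroup

theorem ncard_two_torsion_le (m : ℕ) [NeZero m] : {j : ZMod m | j + j = 0}.ncard ≤ 2 := by
  classical
  have h := IsAddCyclic.card_nsmul_eq_zero_le (α := ZMod m) (n := 2) two_pos
  rw [← Set.ncard_coe_finset] at h
  refine le_trans (le_of_eq ?_) h
  congr 1
  ext j
  simp [two_mul]

theorem ncard_centralizer_sr_le {m : ℕ} [NeZero m] (i : ZMod m) :
    {g : DihedralGroup m | Commute g (DihedralGroup.sr i)}.ncard ≤ 4 := by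
  have hsub : {g : DihedralGroup m | Commute g (DihedralGroup.sr i)} ⊆
      DihedralGroup.r '' {j : ZMod m | j + j = 0} ∪
        (fun j => DihedralGroup.sr (i + j)) '' {j : ZMod m | j + j = 0} := by
    rintro (j | j) hg <;> simp only [Set.mem_setOf_eq, commute_iff_eq] at hg
    · left
      refine ⟨j, ?_, rfl⟩
      rw [DihedralGroup.r_mul_sr, DihedralGroup.sr_mul_r] at hg
      have := DihedralGroup.sr.inj hg
      show j + j = 0
      linear_combination -this
    · right
      refine ⟨j - i, ?_, by simp⟩
      rw [DihedralGroup.sr_mul_sr, DihedralGroup.sr_mul_sr] at hg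
      have := DihedralGroup.r.inj hg
      show j - i + (j - i) = 0
      linear_combination -this
  refine le_trans (Set.ncard_le_ncard hsub (Set.toFinite _)) (le_trans (Set.ncard_union_le _ _) ?_)
  have h1 := Set.ncard_image_le (f := (DihedralGroup.r : ZMod m → DihedralGroup m))
    (s := {j : ZMod m | j + j = 0}) (Set.toFinite _)
  have h2 := Set.ncard_image_le (f := fun j : ZMod m => DihedralGroup.sr (i + j))
    (s := {j : ZMod m | j + j = 0}) (Set.toFinite _)
  have h3 := ncard_two_torsion_le m
  omega

theorem exists_sr_mem_kleinFour {m : ℕ} [NeZero m] {T : Subgroup (DihedralGroup m)}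
    (hT : IsKleinFour T) : ∃ i : ZMod m, DihedralGroup.sr i ∈ T := by
  by_contra hne
  push Not at hne
  have hsub : (T : Set (DihedralGroup m)) ⊆ DihedralGroup.r '' {j : ZMod m | j + j = 0} := by
    rintro (j | j) hg
    · refine ⟨j, ?_, rfl⟩
      have := (isKleinFour_iff.1 hT).2 _ hg
      rw [DihedralGroup.r_mul_r, DihedralGroup.one_def] at this
      exact DihedralGroup.r.inj this
    · exact absurd hg (hne j)
  have h1 := Set.ncard_le_ncard hsub (Set.toFinite _)
  have h2 := Set.ncard_image_le (f := (DihedralGroup.r : ZMod m → DihedralGroup m))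
    (s := {j : ZMod m | j + j = 0}) (Set.toFinite _)
  have h3 := ncard_two_torsion_le m
  have h4 : (T : Set (DihedralGroup m)).ncard = 4 := (isKleinFour_iff.1 hT).1
  omega

/-- A four-group of a finite dihedral group is its own centralizer. -/
theorem centralizer_kleinFour_dihedral {m : ℕ} [NeZero m] {T : Subgroup (DihedralGroup m)}
    (hT : IsKleinFour T) : centralizer (T : Set (DihedralGroup m)) = T := by
  obtain ⟨i, hi⟩ := exists_sr_mem_kleinFour hT
  symm
  refine Subgroup.eq_of_le_of_card_ge (fun g hg t ht => klein_mul_comm hT ht hg) ?_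
  rw [(isKleinFour_iff.1 hT).1]
  refine le_trans ?_ (ncard_centralizer_sr_le i)
  rw [← SetLike.coe_sort_coe, Nat.card_coe_set_eq]
  exact Set.ncard_le_ncard (fun g hg => (hg _ hi).symm) (Set.toFinite _)

end CfsgLib.TwoGroups
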