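import Cfsg.Agent.CharPLocal.Basic
import Cfsg.Agent.Components.Layer

/-!
Centralisers of characteristic `p`: passing from a `p`-subgroup to an overgroup.
-/

set_option autoImplicit false

namespace CfsgLib.TwoGroups

open Subgroup Cfsg CfsgLib.CharPLocal

variable {G : Type*} [Group G] [Finite G] {p : ℕ} [Fact p.Prime]

/-- If `C_G(V)` is of characteristic `p`, so is `C_G(R)` for every `p`-group `R ≥ V`. -/
theorem isCharP_centralizer_of_le {V : Subgroup G} (hC : IsCharP p (centralizer (V : Set G))) :
    ∀ (n : ℕ) (R : Subgroup G), Nat.card R ≤ n → IsPGroup p R → V ≤ R →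
      IsCharP p (centralizer (R : Set G)) := by
  intro n
  induction n with
  | zero => intro R hn; exact absurd hn (by simp [Nat.card_pos.ne'])
  | succ n ih =>
    intro R hn hR hz
    by_cases hVR : V = R
    · rwa [← hVR]
    · have hne : V.subgroupOf R ≠ ⊤ := fun h => hVR (le_antisymm hz (subgroupOf_eq_top.1 h))
      obtain ⟨W', hW', hzW'⟩ := (IsCoatomic.eq_top_or_exists_le_coatom _).resolve_left hne
      have := (hR.isNilpotent : Group.IsNilpotent ↥R)
      have hW'n : W'.Normal := Group.normalizerCondition_of_isNilpotent.normal_of_coatom W' hW'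
      set W := W'.map R.subtype with hW
      have hWR : W ≤ R := map_subtype_le W'
      have hlt : W < R := by
        refine lt_of_le_of_ne hWR fun he => hW'.1 ?_
        rw [← comap_map_eq_self_of_injective R.subtype_injective W', ← hW, he]
        exact subgroupOf_self (H := R)
      have hcard : Nat.card W < Nat.card R :=
        lt_of_le_of_ne (Nat.le_of_dvd Nat.card_pos (card_dvd_of_le hlt.le)) fun h =>
          hlt.ne (Subgroup.eq_of_le_of_card_ge hlt.le h.ge)
      have hzW : V ≤ W := fun v hv => ⟨⟨v, hz hv⟩, hzW' hv, rfl⟩
      have hRW : R ≤ normalizer (W : Set G) := by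
        have hsub : W.subgroupOf R = W' :=
          comap_map_eq_self_of_injective R.subtype_injective W'
        refine (normal_subgroupOf_iff_le_normalizer hWR).1 ?_
        rw [hsub]; exact hW'n
      have hRC : R ≤ normalizer (centralizer (W : Set G) : Set G) :=
        hRW.trans (normalizer_le_normalizer_centralizer W)
      have hX := (ih W (by omega) (hR.to_le hWR) hzW).sup_of_isPGroup hR hRC
      refine (hX.inf_normalizer hR le_sup_left).of_normal
        (le_inf ((centralizer_le (SetLike.coe_subset_coe.2 hWR)).trans le_sup_right)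
          (centralizer_le_normalizer _)) ?_
      exact inf_le_right.trans (normalizer_le_normalizer_centralizer R)

theorem pCore_le_generalizedFitting :
    pCore p G ≤ Cfsg.generalizedFittingSubgroup G :=
  (le_sSup (show pCore p G ∈ {N : Subgroup G | N.Normal ∧ Group.IsNilpotent N} from
    ⟨inferInstance, (CfsgLib.PLocal.isPGroup_pCore p G).isNilpotent⟩)).trans le_sup_right

/-- `F*(H)` a `p`-group means `H` is of characteristic `p`. -/
theorem isCharP_iff_isPGroup_fstar (H : Subgroup G) :
    IsCharP p H ↔ IsPGroup p (Cfsg.generalizedFittingSubgroup H) := by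
  rw [isCharP_iff_type]
  refine ⟨fun h => ?_, fun h => ?_⟩
  · rw [generalizedFittingSubgroup_eq_pCore h]
    exact CfsgLib.PLocal.isPGroup_pCore p H
  · refine centralizer_pCore_le_of_generalizedFitting_eq (le_antisymm (le_sSup ⟨?_, h⟩) pCore_le_generalizedFitting)
    have : (Cfsg.layer H).Normal := inferInstance
    have : (fittingSubgroup H).Normal := Subgroup.sSup_normal _ fun _ hN => hN.1
    exact Subgroup.sup_normal _ _

end CfsgLib.TwoGroups
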