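import Cfsg.Agent.LocalStructure.FStarAction
import Cfsg.Agent.Transfer.Frobenius
import Cfsg.Agent.CharPLocal.Two
import Cfsg.Agent.Components.FStar

/-!
Bender's lemma on a subnormal self-centralizing subgroup of `F*`.
-/

set_option autoImplicit false

namespace CfsgLib.TwoGroups.Bender

open Subgroup Cfsg
open scoped commutatorElement

variable {X : Type*} [Group X] [Finite X] {p : ℕ} [Fact p.Prime]

omit [Fact p.Prime] in
/-- `O^p(F(X))`. -/
abbrev fitPrime (p : ℕ) (X : Type*) [Group X] : Subgroup X :=
  LocalStructure.pResOf p (fittingSubgroup X)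

theorem not_dvd_card_fitPrime : ¬ p ∣ Nat.card (fitPrime p X) := by
  have := Solvable.fittingSubgroup_isNilpotent (G := X)
  have h := Transfer.hasNormalPComplement_iff.1
    (Transfer.hasNormalPComplement_of_isNilpotent (G := fittingSubgroup X) (p := p))
  rwa [fitPrime, ← LocalStructure.map_pResidual, card_map_of_injective (subtype_injective _)]

omit [Finite X] [Fact p.Prime] in
theorem fitPrime_le : fitPrime p X ≤ fittingSubgroup X := LocalStructure.pResOf_le _

instance fitPrime_normal : (fitPrime p X).Normal := by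
  have := Components.fittingSubgroup_normal (G := X)
  exact LocalStructure.pResOf_normal _

theorem isNilpotent_fitPrime : Group.IsNilpotent (fitPrime p X) := by
  have := Solvable.fittingSubgroup_isNilpotent (G := X)
  exact Group.nilpotent_of_mulEquiv (subgroupOfEquivOfLe (fitPrime_le (p := p) (X := X)))

theorem mem_pCore_of_mem_fitting {x : X} (hx : x ∈ fittingSubgroup X) {k : ℕ}
    (hk : orderOf x = p ^ k) : x ∈ pCore p X := by
  have := Components.fittingSubgroup_normal (G := X)
  have := Solvable.fittingSubgroup_isNilpotent (G := X)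
  have hp : IsPGroup p (zpowers (⟨x, hx⟩ : fittingSubgroup X)) :=
    IsPGroup.of_card (n := k) (by rw [Nat.card_zpowers, orderOf_mk, hk])
  obtain ⟨P, hP⟩ := hp.exists_le_sylow
  have hPn : (P : Subgroup (fittingSubgroup X)).Normal :=
    Sylow.normal_of_normalizerCondition Group.normalizerCondition_of_isNilpotent P
  have hPc := Sylow.characteristic_of_normal P hPn
  exact LocalStructure.le_pCore (P.isPGroup'.map (fittingSubgroup X).subtype) ⟨_, hP (mem_zpowers _), rfl⟩

omit [Finite X] in
theorem eq_one_of_pow_mem {N : Subgroup X} (hN : ¬ p ∣ Nat.card N) {c : X} (hc : c ∈ N) {k : ℕ}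
    (hk : c ^ p ^ k = 1) : c = 1 :=
  LocalStructure.eq_one_of_coprime_of_pow (p := p) (Transfer.coprime_orderOf_of_mem hN hc) hk

theorem commute_pCore_fitPrime : ∀ a ∈ pCore p X, ∀ w ∈ fitPrime p X, a * w = w * a := by
  intro a ha w hw
  have h1 : ⁅a, w⁆ ∈ fitPrime p X := by
    rw [commutatorElement_def]
    exact mul_mem ((inferInstance : (fitPrime p X).Normal).conj_mem w hw a) (inv_mem hw)
  have h2 : ⁅a, w⁆ ∈ pCore p X := by
    rw [commutatorElement_def, mul_assoc, mul_assoc, ← mul_assoc w]
    exact mul_mem ha ((LocalStructure.pCore_normal (p := p) (G := X)).conj_mem _ (inv_mem ha) w)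
  obtain ⟨k, hk⟩ := LocalStructure.pCore_isPGroup ⟨_, h2⟩
  exact commutatorElement_eq_one_iff_mul_comm.1
    (eq_one_of_pow_mem not_dvd_card_fitPrime h1 (congrArg Subtype.val hk))

omit [Fact p.Prime] in
theorem isSubnormal_of_le_fstar {S : Subgroup X} (hSF : S ≤ generalizedFittingSubgroup X)
    (h : (S.subgroupOf (generalizedFittingSubgroup X)).IsSubnormal) : S.IsSubnormal := by
  have : (fittingSubgroup X).Normal := Components.fittingSubgroup_normal
  have : (generalizedFittingSubgroup X).Normal := sup_normal _ _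
  have h' := h.trans' this.isSubnormal
  rwa [map_subgroupOf_eq_of_le hSF] at h'

omit [Fact p.Prime] in
theorem layer_le {S : Subgroup X} (hS : S.IsSubnormal)
    (hC : generalizedFittingSubgroup X ⊓ centralizer (S : Set X) ≤ S) : layer X ≤ S := by
  refine sSup_le fun K hK => ?_
  rcases Components.IsComponent.le_or_commutator_eq_bot hK hS with h | h
  · exact h
  · exact (le_inf ((Components.IsComponent.le_layer hK).trans le_sup_left)
      (commutator_eq_bot_iff_le_centralizer.1 h)).trans hC

theorem mem_sup_of_coprime {x : X} (hx : x ∈ generalizedFittingSubgroup X)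
    (ho : (orderOf x).Coprime p) : x ∈ layer X ⊔ fitPrime p X := by
  rw [generalizedFittingSubgroup, ← SetLike.mem_coe, Subgroup.normal_mul] at hx
  obtain ⟨e, he, f, hf, rfl⟩ := hx
  obtain ⟨k, hk⟩ := LocalStructure.exists_pow_mem_pResOf (p := p) hf
  have hc : Commute e f :=
    (mem_centralizer_iff.1 (Components.layer_le_centralizer_fittingSubgroup he) f hf).symm
  refine LocalStructure.mem_of_coprime_of_pow_mem ho (k := k) ?_
  rw [hc.mul_pow]
  exact mul_mem (mem_sup_left (pow_mem he _)) (mem_sup_right hk)

theorem pCore_commute_of_coprime {x : X} (hx : x ∈ generalizedFittingSubgroup X)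
    (ho : (orderOf x).Coprime p) : ∀ a ∈ pCore p X, a * x = x * a := by
  intro a ha
  have hE := Components.layer_le_centralizer_fittingSubgroup (G := X)
  have haF := Components.pCore_le_fittingSubgroup p ha
  have hxM := mem_sup_of_coprime hx ho
  have hle : layer X ⊔ fitPrime p X ≤ centralizer ({a} : Set X) := by
    refine sup_le (fun e he => mem_centralizer_singleton_iff.2 (mem_centralizer_iff.1 (hE he) a haF).symm) ?_
    exact fun w hw => mem_centralizer_singleton_iff.2 (commute_pCore_fitPrime a ha w hw).symm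
  exact (mem_centralizer_singleton_iff.1 (hle hxM)).symm

/-- A `p'`-element of a subnormal `S ≤ F*` centralizes every `p`-subgroup normalized by `S`. -/
theorem commute_of_coprime {S Q : Subgroup X} (hS : S.IsSubnormal)
    (hSF : S ≤ generalizedFittingSubgroup X) (hQ : IsPGroup p Q)
    (hSQ : S ≤ normalizer (Q : Set X)) {x : X} (hxS : x ∈ S) (hx : (orderOf x).Coprime p) :
    ∀ u ∈ Q, x * u = u * x := by
  have base : ∀ u ∈ Q ⊓ S, x * u = u * x := by
    intro u hu
    have hn : ((Q ⊓ S).subgroupOf S).Normal :=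
      (normal_subgroupOf_iff_le_normalizer inf_le_right).2
        ((le_inf hSQ le_normalizer).trans inf_normalizer_le_normalizer_inf)
    have hsn : (Q ⊓ S).IsSubnormal := by
      have h' := hn.isSubnormal.trans' hS
      rwa [map_subgroupOf_eq_of_le inf_le_right] at h'
    exact (pCore_commute_of_coprime (hSF hxS) hx u
      (LocalStructure.le_pCore_of_isSubnormal hsn hQ.to_inf_left hu)).symm
  suffices ∀ H : Subgroup X, H.IsSubnormal → S ≤ H → (∀ u ∈ Q ⊓ H, x * u = u * x) →
      ∀ u ∈ Q, x * u = u * x from this S hS le_rfl base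
  intro H hH
  induction hH with
  | top => exact fun _ h u hu => h u ⟨hu, mem_top _⟩
  | step H K hle _ hn ih =>
    intro hSH h
    refine ih (hSH.trans hle) fun u hu => ?_
    have hc1 : ⁅x, u⁆ ∈ Q := by
      rw [commutatorElement_def]
      exact mul_mem ((mem_normalizer_iff.1 (hSQ hxS) u).1 hu.1) (inv_mem hu.1)
    have hc2 : ⁅x, u⁆ ∈ H := by
      rw [commutatorElement_def, mul_assoc, mul_assoc, ← mul_assoc u]
      exact mul_mem (hSH hxS) ((mem_normalizer_iff.1
        ((normal_subgroupOf_iff_le_normalizer hle).1 hn hu.2) _).1 (inv_mem (hSH hxS)))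
    obtain ⟨k, hk⟩ := hQ ⟨_, hc1⟩
    exact (LocalStructure.commute_of_stab hx (congrArg Subtype.val hk) (h _ ⟨hc1, hc2⟩)).eq

/-- A `p`-group centralizing a self-centralizing subgroup of a nilpotent `p'`-group centralizes it. -/
theorem le_centralizer_nilpotent {W Q : Subgroup X} (hW : Group.IsNilpotent W)
    (hcop : ¬ p ∣ Nat.card W) (hQ : IsPGroup p Q) (hQW : Q ≤ normalizer (W : Set X)) :
    ∀ (n : ℕ) (T : Subgroup X), Nat.card W ≤ Nat.card T + n → T ≤ W →
      Q ≤ centralizer (T : Set X) → W ⊓ centralizer (T : Set X) ≤ T →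
      Q ≤ centralizer (W : Set X) := by
  intro n
  induction n with
  | zero =>
    intro T hn hTW hQT _
    rwa [← Subgroup.eq_of_le_of_card_ge hTW (by simpa using hn)]
  | succ n ih =>
    intro T hn hTW hQT hC
    by_cases hT : T = W
    · rwa [← hT]
    set N := W ⊓ normalizer (T : Set X) with hN
    have hTN : T ≤ N := le_inf hTW le_normalizer
    have hlt : T < N := by
      refine lt_of_le_of_ne hTN fun he => ?_
      have := hW
      have hne : T.subgroupOf W < ⊤ := lt_top_iff_ne_top.2 fun h => hT (le_antisymm hTW (subgroupOf_eq_top.1 h))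
      obtain ⟨w, hw, hwn⟩ := SetLike.exists_of_lt (Group.normalizerCondition_of_isNilpotent _ hne)
      apply hwn
      show (w : X) ∈ T
      rw [he]
      refine ⟨w.2, mem_normalizer_iff.2 fun a => ⟨fun ha => ?_, fun ha => ?_⟩⟩
      · exact (mem_normalizer_iff.1 hw ⟨a, hTW ha⟩).1 ha
      · have haW : a ∈ W := by
          have h3 := mul_mem (mul_mem (inv_mem w.2) (hTW ha)) w.2
          simpa [mul_assoc] using h3
        exact (mem_normalizer_iff.1 hw ⟨a, haW⟩).2 ha
    refine ih N ?_ inf_le_left ?_ ?_
    · have : Nat.card T < Nat.card N :=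
        lt_of_le_of_ne (Nat.le_of_dvd Nat.card_pos (card_dvd_of_le hTN)) fun h =>
          hlt.ne (Subgroup.eq_of_le_of_card_ge hTN h.ge)
      omega
    · intro u hu
      rw [mem_centralizer_iff]
      intro a ha
      set c := ⁅a, u⁆ with hc
      have hcW : c ∈ W := by
        rw [hc, commutatorElement_def, mul_assoc, mul_assoc, ← mul_assoc u]
        exact mul_mem ha.1 ((mem_normalizer_iff.1 (hQW hu) _).1 (inv_mem ha.1))
      have hcT : c ∈ T := by
        refine hC ⟨hcW, mem_centralizer_iff.2 fun t ht => ?_⟩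
        have h1 : a⁻¹ * t * a ∈ T := by
          simpa using (mem_normalizer_iff.1 (inv_mem ha.2) t).1 ht
        have h2 := mem_centralizer_iff.1 (hQT hu) _ h1
        have h3 : t * (a * u * a⁻¹) = a * u * a⁻¹ * t := by
          calc t * (a * u * a⁻¹) = a * ((a⁻¹ * t * a) * u) * a⁻¹ := by simp [mul_assoc]
            _ = a * (u * (a⁻¹ * t * a)) * a⁻¹ := by rw [h2]
            _ = a * u * a⁻¹ * t := by simp [mul_assoc]
        have h4 : t * u⁻¹ = u⁻¹ * t :=
          (Commute.inv_right (show Commute t u from mem_centralizer_iff.1 (hQT hu) t ht)).eq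
        rw [hc, commutatorElement_def]
        exact ((show Commute t (a * u * a⁻¹) from h3).mul_right h4).eq
      have hcu : Commute c u := mem_centralizer_iff.1 (hQT hu) c hcT
      obtain ⟨k, hk⟩ := hQ ⟨u, hu⟩
      have hk' : u ^ p ^ k = 1 := congrArg Subtype.val hk
      have h5 : c * u = a * u * a⁻¹ := by rw [hc, commutatorElement_def, inv_mul_cancel_right]
      have h6 : c ^ p ^ k = 1 := by
        have := hcu.mul_pow (p ^ k)
        rwa [hk', mul_one, h5, conj_pow, hk', mul_one, mul_inv_cancel, eq_comm] at this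
      exact commutatorElement_eq_one_iff_mul_comm.1 (eq_one_of_pow_mem hcop hcW h6)
    · exact (inf_le_inf_left _ (centralizer_le (SetLike.coe_subset_coe.2 hTN))).trans (hC.trans hTN)

/-- Bender's lemma: such a `p`-subgroup centralizes `O^p(F*)`. -/
theorem commute_fstar {S Q : Subgroup X} (hSF : S ≤ generalizedFittingSubgroup X)
    (hS : S.IsSubnormal) (hC : generalizedFittingSubgroup X ⊓ centralizer (S : Set X) ≤ S)
    (hQ : IsPGroup p Q) (hSQ : S ≤ normalizer (Q : Set X)) {x : X}
    (hx : x ∈ generalizedFittingSubgroup X) (ho : (orderOf x).Coprime p) :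
    x ∈ centralizer (Q : Set X) := by
  have hE : layer X ≤ S := layer_le hS hC
  have hEQ : layer X ≤ centralizer (Q : Set X) := by
    rw [← CharPLocal.pResOf_eq_self_of_perfect (p := p) Components.layer_commutator_self]
    refine LocalStructure.pResOf_le_of_forall fun g hg hgo => ?_
    exact mem_centralizer_iff.2 fun u hu => (commute_of_coprime hS hSF hQ hSQ (hE hg) hgo u hu).symm
  have hWQ : fitPrime p X ≤ centralizer (Q : Set X) := by
    rw [le_centralizer_iff]
    refine le_centralizer_nilpotent isNilpotent_fitPrime not_dvd_card_fitPrime hQ le_normalizer_of_normal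
      _ (fitPrime p X ⊓ S) (Nat.le_add_left _ _) inf_le_left ?_ ?_
    · intro u hu
      exact mem_centralizer_iff.2 fun t ht => commute_of_coprime hS hSF hQ hSQ ht.2
        (Transfer.coprime_orderOf_of_mem not_dvd_card_fitPrime ht.1) u hu
    · rintro w ⟨hw, hwc⟩
      refine ⟨hw, hC ⟨mem_sup_right (fitPrime_le hw), mem_centralizer_iff.2 fun s hs => ?_⟩⟩
      have hs' := hSF hs
      rw [generalizedFittingSubgroup, ← SetLike.mem_coe, Subgroup.normal_mul] at hs'
      obtain ⟨e, he, f, hf, rfl⟩ := hs'
      have hfS : f ∈ S := by simpa using mul_mem (inv_mem (hE he)) hs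
      have h1 : Commute e w :=
        (mem_centralizer_iff.1 (Components.layer_le_centralizer_fittingSubgroup he) w (fitPrime_le hw)).symm
      obtain ⟨a, b, ha', hb', ⟨k, hk⟩, hb, hab⟩ := LocalStructure.exists_pPart_mul (p := p) f
      have haF : a ∈ fittingSubgroup X := (zpowers_le.2 hf) ha'
      have hbF : b ∈ fitPrime p X := LocalStructure.mem_pResOf ((zpowers_le.2 hf) hb') hb
      have h2 : Commute a w := commute_pCore_fitPrime a (mem_pCore_of_mem_fitting haF hk) w hw
      have h3 : Commute b w := mem_centralizer_iff.1 hwc b ⟨hbF, (zpowers_le.2 hfS) hb'⟩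
      rw [← hab]
      exact (h1.mul_left (h2.mul_left h3)).eq
  have hM : layer X ⊔ fitPrime p X ≤ centralizer (Q : Set X) := sup_le hEQ hWQ
  exact hM (mem_sup_of_coprime hx ho)

end CfsgLib.TwoGroups.Bender
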