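import Cfsg.Prelude.Def_TwoFusion
import Cfsg.Agent.ZStar.Theorem
import Cfsg.Agent.PLocal.Cores
import Cfsg.Agent.Coprime.Basic

/-!
A strongly closed 2-subgroup acting on a subgroup with trivial odd core and meeting it trivially
centralizes it.
-/

set_option autoImplicit false

namespace CfsgLib.TwoGroups

open Subgroup
open Cfsg (oddCore)

variable {G : Type*} [Group G] [Finite G]

/-- Goldschmidt: if `A` is strongly closed in a Sylow 2-subgroup, normalizes `H`, meets it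
trivially and `O(H) = 1` then `A` centralizes `H`. -/
theorem le_centralizer_of_stronglyClosed (S : Sylow 2 G) {A H : Subgroup G}
    (hA : Cfsg.IsStronglyClosed A (S : Subgroup G)) (hAH : A ≤ normalizer (H : Set G))
    (hO : oddCore ↥H = ⊥) (hdisj : A ⊓ H = ⊥) : A ≤ centralizer (H : Set G) := by
  haveI : Fact (Nat.Prime 2) := ⟨Nat.prime_two⟩
  set X := H ⊔ A with hX
  set A' := A.subgroupOf X with hA'
  set H' := H.subgroupOf X with hH'
  have hAX : A ≤ X := le_sup_right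
  have hHX : H ≤ X := le_sup_left
  haveI hH'n : H'.Normal := (normal_subgroupOf_iff_le_normalizer hHX).2 (sup_le le_normalizer hAH)
  have hA'p : IsPGroup 2 A' := (S.2.to_le hA.1).of_equiv (subgroupOfEquivOfLe hAX).symm
  obtain ⟨P, hP⟩ := hA'p.exists_le_sylow
  -- strong closure inside `X`
  have hcl : ∀ a ∈ A', ∀ g : X, g * a * g⁻¹ ∈ (P : Subgroup X) → g * a * g⁻¹ ∈ A' := by
    obtain ⟨R, hR⟩ := (P.2.map X.subtype).exists_le_sylow
    obtain ⟨g, hg⟩ := MulAction.exists_smul_eq G R S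
    have hgS : ∀ v ∈ (P : Subgroup X), g * (v : G) * g⁻¹ ∈ (S : Subgroup G) := fun v hv => by
      rw [← hg, Sylow.coe_subgroup_smul]
      exact ⟨v, hR ⟨v, hv, rfl⟩, rfl⟩
    have hgA : ∀ a ∈ A, g * a * g⁻¹ ∈ A := fun a ha =>
      hA.2 a ha g (hgS ⟨a, hAX ha⟩ (hP (mem_subgroupOf.2 ha)))
    have hgN : g ∈ normalizer (A : Set G) := mem_normalizer_iff_map_conj_eq.2
      (eq_of_le_of_card_ge (by rintro _ ⟨a, ha, rfl⟩; exact hgA a ha)
        (card_map_of_injective (MulAut.conj g).injective).ge)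
    intro a ha u hu
    have h1 := hgS _ hu
    simp only [coe_mul, coe_inv] at h1
    have h2 : g * u * a * (g * u)⁻¹ ∈ A := hA.2 _ (mem_subgroupOf.1 ha) _ (by
      rwa [show g * u * a * (g * u)⁻¹ = g * (u * a * (u : G)⁻¹) * g⁻¹ by group])
    refine mem_subgroupOf.2 ((mem_normalizer_iff.1 hgN _).2 ?_)
    simp only [coe_mul, coe_inv]
    rwa [show g * (u * a * (u : G)⁻¹) * g⁻¹ = g * u * a * (g * u)⁻¹ by group]
  have hdisj' : ∀ v : X, v ∈ A' → v ∈ H' → v = 1 := fun v h1 h2 => Subtype.ext (by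
    have : (v : G) ∈ A ⊓ H := ⟨mem_subgroupOf.1 h1, mem_subgroupOf.1 h2⟩
    rwa [hdisj, mem_bot] at this)
  have hdec : ∀ g : X, ∃ h ∈ H', ∃ u ∈ A', g = h * u := by
    intro g
    obtain ⟨h, hh, u, hu, e⟩ := CfsgLib.Coprime.exists_mul_of_mem_sup hAH g.2
    exact ⟨⟨h, hHX hh⟩, mem_subgroupOf.2 hh, ⟨u, hAX hu⟩, mem_subgroupOf.2 hu, Subtype.ext e.symm⟩
  set B := A' ⊓ centralizer (H' : Set X) with hB
  suffices A' ≤ B by
    intro a ha h hh
    exact congrArg Subtype.val
      ((mem_inf.1 (this (mem_subgroupOf.2 ha : (⟨a, hAX ha⟩ : X) ∈ A'))).2 ⟨h, hHX hh⟩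
        (mem_subgroupOf.2 hh))
  by_contra hne
  haveI hBn : B.Normal := ⟨fun b hb g => by
    obtain ⟨h, hh, u, hu, rfl⟩ := hdec g
    have hub : u * b * u⁻¹ ∈ B := by
      refine mem_inf.2 ⟨mul_mem (mul_mem hu hb.1) (inv_mem hu), fun v hv => ?_⟩
      have hv' : u⁻¹ * v * u ∈ H' := by
        have := hH'n.conj_mem v hv u⁻¹
        rwa [inv_inv] at this
      have := hb.2 _ hv'
      calc v * (u * b * u⁻¹) = u * ((u⁻¹ * v * u) * b) * u⁻¹ := by group
        _ = u * b * u⁻¹ * v := by rw [this]; group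
    have : h * u * b * (h * u)⁻¹ = u * b * u⁻¹ := by
      calc h * u * b * (h * u)⁻¹ = h * (u * b * u⁻¹) * h⁻¹ := by group
        _ = u * b * u⁻¹ := by rw [hub.2 h hh, mul_inv_cancel_right]
    rw [this]
    exact hub⟩
  -- a central involution of `A'/B`
  obtain ⟨a, ha, haB, ha2, hac⟩ : ∃ a ∈ A', a ∉ B ∧ a * a ∈ B ∧
      ∀ u ∈ A', u * a * u⁻¹ * a⁻¹ ∈ B := by
    haveI : Nontrivial (A' ⧸ B.subgroupOf A') := by
      rw [← Finite.one_lt_card_iff_nontrivial]
      have h0 : (B.subgroupOf A').index ≠ 1 := fun h =>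
        hne (subgroupOf_eq_top.1 (index_eq_one.1 h))
      have h1 : (B.subgroupOf A').index ≠ 0 := index_ne_zero_of_finite
      show 1 < (B.subgroupOf A').index
      omega
    have hQ : IsPGroup 2 (A' ⧸ B.subgroupOf A') := hA'p.to_quotient _
    haveI := hQ.center_nontrivial
    obtain ⟨j, hj⟩ := (hQ.to_subgroup (center (A' ⧸ B.subgroupOf A'))).exists_card_eq
    have hj0 : j ≠ 0 := fun h => by
      rw [h, pow_zero] at hj
      have := Finite.one_lt_card (α := center (A' ⧸ B.subgroupOf A'))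
      omega
    obtain ⟨w, hw⟩ := exists_prime_orderOf_dvd_card' (G := center (A' ⧸ B.subgroupOf A')) 2
      (hj ▸ dvd_pow_self 2 hj0)
    obtain ⟨v, hv⟩ := QuotientGroup.mk'_surjective (B.subgroupOf A') (w : A' ⧸ B.subgroupOf A')
    refine ⟨v, v.2, fun h => ?_, ?_, fun u hu => ?_⟩
    · have h' : (w : A' ⧸ B.subgroupOf A') = 1 := by
        rw [← hv]; exact (QuotientGroup.eq_one_iff _).2 (mem_subgroupOf.2 h)
      rw [show w = 1 from Subtype.ext h', orderOf_one] at hw
      omega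
    · have h' : w * w = 1 := by rw [← sq, ← hw, pow_orderOf_eq_one]
      have := congrArg Subtype.val h'
      rw [coe_mul, ← hv, ← map_mul, coe_one] at this
      exact mem_subgroupOf.1 ((QuotientGroup.eq_one_iff _).1 this)
    · have h' := mem_center_iff.1 w.2 (QuotientGroup.mk' _ ⟨u, hu⟩)
      rw [← hv] at h'
      have : QuotientGroup.mk' (B.subgroupOf A') (⟨u, hu⟩ * v * ⟨u, hu⟩⁻¹ * v⁻¹) = 1 := by
        rw [map_mul, map_mul, map_mul, map_inv, map_inv, h', mul_inv_cancel_right, mul_inv_cancel]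
      exact mem_subgroupOf.1 ((QuotientGroup.eq_one_iff _).1 this)
  set q := QuotientGroup.mk' B with hq
  let P' : Sylow 2 (X ⧸ B) := P.mapSurjective (QuotientGroup.mk'_surjective _)
  have hP' : (P' : Subgroup (X ⧸ B)) = (P : Subgroup X).map q :=
    Sylow.coe_mapSurjective (QuotientGroup.mk'_surjective _) P
  have hord : orderOf (q a) = 2 := orderOf_eq_prime
    (by rw [sq, ← map_mul]; exact (QuotientGroup.eq_one_iff _).2 ha2)
    (fun h => haB ((QuotientGroup.eq_one_iff _).1 h))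
  obtain ⟨N, hN, hNodd, hNc⟩ := CfsgLib.ZStar.exists_oddNormal_of_sylow P' hord
    (by show q a ∈ (P' : Subgroup (X ⧸ B)); rw [hP']; exact ⟨a, hP ha, rfl⟩) (by
      intro b hb
      obtain ⟨g, rfl⟩ := QuotientGroup.mk'_surjective _ b
      have hgP : g * a * g⁻¹ ∈ (P : Subgroup X) := by
        change _ ∈ (P' : Subgroup (X ⧸ B)) at hb
        rw [hP'] at hb
        obtain ⟨s, hs, hse⟩ := hb
        have h1 : s⁻¹ * (g * a * g⁻¹) ∈ B := by
          rw [← QuotientGroup.eq]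
          show q s = q (g * a * g⁻¹)
          rw [hse, map_mul, map_mul, map_inv]
        have := mul_mem hs (hP (mem_inf.1 h1).1)
        rwa [mul_inv_cancel_left] at this
      have hgA := hcl a ha g hgP
      obtain ⟨h, hh, u, hu, rfl⟩ := hdec g
      have huA : u * a * u⁻¹ ∈ A' := mul_mem (mul_mem hu ha) (inv_mem hu)
      have e : h * u * a * (h * u)⁻¹ = u * a * u⁻¹ := by
        refine mul_inv_eq_one.1 (hdisj' _ (mul_mem hgA (inv_mem huA)) ?_)
        have h2 := mul_mem hh (hH'n.conj_mem _ (inv_mem hh) (u * a * u⁻¹))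
        rwa [show h * (u * a * u⁻¹ * h⁻¹ * (u * a * u⁻¹)⁻¹) =
          h * u * a * (h * u)⁻¹ * (u * a * u⁻¹)⁻¹ by group] at h2
      rw [← map_inv, ← map_mul, ← map_mul, e]
      have := hac u hu
      rw [← QuotientGroup.eq_one_iff] at this
      have h3 : q (u * a * u⁻¹ * a⁻¹) = 1 := this
      rwa [map_mul, map_inv, mul_inv_eq_one] at h3)
  -- the preimage meets `H'` in an odd normal subgroup
  set K := (N.comap q) ⊓ H' with hK
  have hKodd : Odd (Nat.card K) := by
    refine hNodd.of_dvd_nat ?_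
    let f : K →* N := (q.comp K.subtype).codRestrict N fun v => (mem_inf.1 v.2).1
    refine card_dvd_of_injective f ((injective_iff_map_eq_one f).2 fun v hv => Subtype.ext ?_)
    have h1 : q (v : X) = 1 := congrArg Subtype.val hv
    exact hdisj' _ (mem_inf.1 ((QuotientGroup.eq_one_iff _).1 h1)).1 (mem_inf.1 v.2).2
  have hKbot : ∀ v ∈ K, v = 1 := by
    intro v hv
    set K₀ := (K.map X.subtype).subgroupOf H with hK₀
    have hKH : K.map X.subtype ≤ H := by
      rintro _ ⟨w, hw, rfl⟩; exact mem_subgroupOf.1 (mem_inf.1 hw).2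
    haveI : K₀.Normal := ⟨fun w hw h => by
      obtain ⟨w', hw', hwe⟩ := mem_subgroupOf.1 hw
      refine mem_subgroupOf.2 ⟨⟨h, hHX h.2⟩ * w' * ⟨h, hHX h.2⟩⁻¹, ?_, ?_⟩
      · exact mem_inf.2 ⟨(Normal.comap hN q).conj_mem _ (mem_inf.1 hw').1 _,
          hH'n.conj_mem _ (mem_inf.1 hw').2 _⟩
      · simp only [coe_mul, coe_inv, ← hwe]; rfl⟩
    have hodd : (Nat.card K₀).Coprime 2 := Nat.coprime_two_right.2 (by
      rw [Nat.card_congr (subgroupOfEquivOfLe hKH).toEquiv,
        card_map_of_injective (Subgroup.subtype_injective X)]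
      exact hKodd)
    have hbot := le_trans (CfsgLib.PLocal.le_pPrimeCore (p := 2) hodd) hO.le
    have h1 : (⟨(v : G), hKH ⟨v, hv, rfl⟩⟩ : H) ∈ K₀ := mem_subgroupOf.2 ⟨v, hv, rfl⟩
    have h2 := mem_bot.1 (hbot h1)
    apply Subtype.ext
    exact congrArg (fun w : H => (w : G)) h2
  refine haB (mem_inf.2 ⟨ha, fun h hh => ?_⟩)
  have h1 : a * h * a⁻¹ * h⁻¹ ∈ K := by
    refine mem_inf.2 ⟨mem_comap.2 ?_, mul_mem (hH'n.conj_mem h hh a) (inv_mem hh)⟩
    rw [map_mul, map_mul, map_mul, map_inv, map_inv]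
    exact hNc (q h)
  have h2 := hKbot _ h1
  rw [mul_inv_eq_one, mul_inv_eq_iff_eq_mul] at h2
  exact h2.symm

end CfsgLib.TwoGroups
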