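import Cfsg.Agent.TwoGroups.HaradaTools
import Cfsg.Agent.TwoGroups.FourGroupIndex

/-!
2-groups with an elementary abelian subgroup of order 16 which is the centralizer of each involution
of one of its four-subgroups.
-/

set_option autoImplicit false
set_option linter.unusedSectionVars false

namespace CfsgLib.TwoGroups.FourCentralizer

open Subgroup SqIndex

universe u

/-- An elementary abelian `T` of order 16 and a four-subgroup `B` with `C(b) ≤ T` for `b ≠ 1` in `B`. -/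
structure Quad (S : Type u) [Group S] where
  two : IsPGroup 2 S
  T : Subgroup S
  hT : ∀ t ∈ T, t * t = 1
  cardT : Nat.card T = 16
  B : Subgroup S
  BT : B ≤ T
  cardB : Nat.card B = 4
  cb : ∀ b ∈ B, b ≠ 1 → centralizer {b} ≤ T

theorem union_cases {S : Type*} [Group S] {P Q R : Subgroup S} (h : ∀ x ∈ P, x ∈ Q ∨ x ∈ R) :
    P ≤ Q ∨ P ≤ R := by
  by_contra hno
  push Not at hno
  obtain ⟨a, haP, haQ⟩ := SetLike.not_le_iff_exists.1 hno.1
  obtain ⟨b, hbP, hbR⟩ := SetLike.not_le_iff_exists.1 hno.2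
  have haR := (h a haP).resolve_left haQ
  have hbQ := (h b hbP).resolve_right hbR
  rcases h _ (mul_mem haP hbP) with e | e
  · exact haQ (by simpa using mul_mem e (inv_mem hbQ))
  · exact hbR (by simpa using mul_mem (inv_mem haR) e)

variable {S : Type u} [Group S] [Finite S]

namespace Quad

variable (q : Quad S)

theorem T_comm {a b : S} (ha : a ∈ q.T) (hb : b ∈ q.T) : a * b = b * a :=
  Harada.comm_of_sq q.T q.hT ha hb

theorem exists_ne_one : ∃ b ∈ q.B, b ≠ 1 := by
  by_contra hno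
  push Not at hno
  have h := q.cardB
  rw [(eq_bot_iff_forall _).2 hno, card_bot] at h
  omega

/-- Fixed points in `T` of an element outside `T`. -/
theorem fix_le {g : S} (hg : g ∉ q.T) : Nat.card (q.T ⊓ centralizer {g} : Subgroup S) ≤ 4 := by
  have hdis : ∀ b ∈ q.B, b ∈ q.T ⊓ centralizer {g} → b = 1 := fun b hb h => by
    by_contra hb1
    exact hg (q.cb b hb hb1 (mem_centralizer_singleton_iff.2
      (mem_centralizer_singleton_iff.1 (mem_inf.1 h).2).symm))
  have h := Nat.card_le_card_of_injective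
    (fun p : q.B × (q.T ⊓ centralizer {g} : Subgroup S) =>
      (⟨(p.1 : S) * (p.2 : S), mul_mem (q.BT p.1.2) (mem_inf.1 p.2.2).1⟩ : q.T)) fun p p' e => ?_
  · rw [Nat.card_prod, q.cardB, q.cardT] at h
    omega
  · have e' : (p.1 : S) * (p.2 : S) = (p'.1 : S) * (p'.2 : S) := congrArg Subtype.val e
    have h2 : (p'.1 : S)⁻¹ * p.1 = (p'.2 : S) * (p.2 : S)⁻¹ := by
      rw [eq_mul_inv_iff_mul_eq, mul_assoc, e', inv_mul_cancel_left]
    have h1 := hdis _ (mul_mem (inv_mem p'.1.2) p.1.2) (h2 ▸ mul_mem p'.2.2 (inv_mem p.2.2))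
    rw [h1, eq_comm, mul_inv_eq_one] at h2
    exact Prod.ext (Subtype.ext (inv_mul_eq_one.1 h1).symm) (Subtype.ext h2.symm)

variable [q.T.Normal]

/-- The commutator map of `g` on `T`. -/
def dl (g : S) : q.T →* S where
  toFun t := g * t * g⁻¹ * (t : S)⁻¹
  map_one' := by simp
  map_mul' a b := by
    have hT : q.T.Normal := inferInstance
    have h := q.T_comm (mul_mem (hT.conj_mem b b.2 g) (inv_mem b.2)) (inv_mem a.2)
    calc g * ((a * b : q.T) : S) * g⁻¹ * ((a * b : q.T) : S)⁻¹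
        = g * a * g⁻¹ * ((g * b * g⁻¹ * (b : S)⁻¹) * (a : S)⁻¹) := by simp only [Subgroup.coe_mul]; group
      _ = g * a * g⁻¹ * ((a : S)⁻¹ * (g * b * g⁻¹ * (b : S)⁻¹)) := by rw [h]
      _ = _ := by group

theorem dl_apply (g : S) (t : q.T) : q.dl g t = g * t * g⁻¹ * (t : S)⁻¹ := rfl

theorem dl_mem (g : S) (t : q.T) : q.dl g t ∈ q.T :=
  mul_mem ((inferInstance : q.T.Normal).conj_mem t t.2 g) (inv_mem t.2)

theorem ker_le (g : S) : Nat.card (q.dl g).ker ≤ Nat.card (q.T ⊓ centralizer {g} : Subgroup S) :=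
  Nat.card_le_card_of_injective (fun x => (⟨(x.1 : S), mem_inf.2 ⟨x.1.2,
    mem_centralizer_singleton_iff.2 (mul_inv_eq_iff_eq_mul.1 (mul_inv_eq_one.1 x.2)).symm⟩⟩ :
      (q.T ⊓ centralizer {g} : Subgroup S))) fun _ _ e =>
    Subtype.ext (Subtype.ext (congrArg (fun w : (q.T ⊓ centralizer {g} : Subgroup S) => (w : S)) e))

/-- The commutators of an involution modulo `T` are exactly its fixed points. -/
theorem invol_fix {g : S} (hg : g ∉ q.T) (hgg : g * g ∈ q.T) :
    Nat.card (q.T ⊓ centralizer {g} : Subgroup S) = 4 ∧ (q.dl g).range ≤ q.T ⊓ centralizer {g} := by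
  have hr : (q.dl g).range ≤ q.T ⊓ centralizer {g} := by
    rintro _ ⟨t, rfl⟩
    refine mem_inf.2 ⟨q.dl_mem g t, mem_centralizer_singleton_iff.2 (mul_inv_eq_iff_eq_mul.1 ?_).symm⟩
    calc g * q.dl g t * g⁻¹ = ((g * g) * t * (g * g)⁻¹) * (g * (t : S)⁻¹ * g⁻¹) := by rw [dl_apply]; group
      _ = (t : S) * (g * (t : S)⁻¹ * g⁻¹) := by rw [q.T_comm hgg t.2, mul_inv_cancel_right]
      _ = (q.dl g t)⁻¹ := by rw [dl_apply]; group
      _ = _ := inv_eq_of_mul_eq_one_right (q.hT _ (q.dl_mem g t))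
  refine ⟨?_, hr⟩
  have h := card_mul_index (q.dl g).ker
  rw [index_ker, q.cardT] at h
  have h4 := q.fix_le hg
  have h1 := q.ker_le g
  have h2 := card_le_of_le hr
  by_contra hne
  have := Nat.mul_le_mul (show Nat.card (q.dl g).ker ≤ 3 by omega) (show Nat.card (q.dl g).range ≤ 3 by omega)
  omega

/-- The normal four-subgroup and its centralizer. -/
structure Struct (q : Quad S) (W : Subgroup S) : Prop where
  le : W ≤ q.T
  card : Nat.card W = 4
  normal : W.Normal
  disj : ∀ b ∈ q.B, b ∈ W → b = 1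
  sq : ∀ k ∈ centralizer (W : Set S), k * k ∈ q.T
  comm : ∀ k ∈ centralizer (W : Set S), ∀ t ∈ q.T, k * t * k⁻¹ * t⁻¹ ∈ W
  cardK : Nat.card (centralizer (W : Set S)) ≤ 64
  index : Nat.card S ≤ 2 * Nat.card (centralizer (W : Set S))
  g0 : ∃ g, g ∉ q.T ∧ g * g ∈ q.T ∧ W = q.T ⊓ centralizer {g} ∧ ∀ y : S, y * g * y⁻¹ * g⁻¹ ∈ q.T

theorem exists_struct (hne : q.T ≠ ⊤) : ∃ W, Struct q W := by
  classical
  have : Fact (Nat.Prime 2) := ⟨Nat.prime_two⟩
  have hT : q.T.Normal := inferInstance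
  obtain ⟨y0, hy0⟩ : ∃ y, y ∉ q.T := by
    by_contra hno
    push Not at hno
    exact hne ((eq_top_iff' q.T).2 hno)
  have hnt : Nontrivial (S ⧸ q.T) :=
    ⟨(y0 : S ⧸ q.T), 1, fun e => hy0 ((QuotientGroup.eq_one_iff y0).1 e)⟩
  have hQ := q.two.to_quotient q.T
  have := hQ.center_nontrivial
  obtain ⟨⟨r, hrZ⟩, hr⟩ := exists_prime_orderOf_dvd_card' 2
    ((hQ.to_subgroup (center (S ⧸ q.T))).card_eq_or_dvd.resolve_left Finite.one_lt_card.ne')
  rw [orderOf_mk] at hr
  obtain ⟨g, rfl⟩ := QuotientGroup.mk_surjective r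
  have hg : g ∉ q.T := fun h => by
    rw [(QuotientGroup.eq_one_iff g).2 h, orderOf_one] at hr
    omega
  have hgg : g * g ∈ q.T := by
    refine (QuotientGroup.eq_one_iff _).1 ?_
    rw [QuotientGroup.mk_mul, ← pow_two, ← hr, pow_orderOf_eq_one]
  have hgc : ∀ y : S, y * g * y⁻¹ * g⁻¹ ∈ q.T := fun y => by
    refine (QuotientGroup.eq_one_iff _).1 ?_
    rw [QuotientGroup.mk_mul, QuotientGroup.mk_mul, QuotientGroup.mk_mul, QuotientGroup.mk_inv,
      QuotientGroup.mk_inv, mem_center_iff.1 hrZ (y : S ⧸ q.T), mul_inv_cancel_right, mul_inv_cancel]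
  obtain ⟨h4, hrange⟩ := q.invol_fix hg hgg
  set W := q.T ⊓ centralizer {g} with hW
  have hconjg : ∀ y : S, ∀ w ∈ q.T, (y * g * y⁻¹) * w * (y * g * y⁻¹)⁻¹ = g * w * g⁻¹ := by
    intro y w hw
    calc (y * g * y⁻¹) * w * (y * g * y⁻¹)⁻¹
        = (y * g * y⁻¹ * g⁻¹) * (g * w * g⁻¹) * (y * g * y⁻¹ * g⁻¹)⁻¹ := by group
      _ = g * w * g⁻¹ := by rw [q.T_comm (hgc y) (hT.conj_mem w hw g), mul_inv_cancel_right]
  have hWn : W.Normal := by
    refine ⟨fun w hw y => mem_inf.2 ⟨hT.conj_mem w (mem_inf.1 hw).1 y,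
      mem_centralizer_singleton_iff.2 (mul_inv_eq_iff_eq_mul.1 ?_).symm⟩⟩
    rw [← hconjg y _ (hT.conj_mem w (mem_inf.1 hw).1 y),
      show y * g * y⁻¹ * (y * w * y⁻¹) * (y * g * y⁻¹)⁻¹ = y * (g * w * g⁻¹) * y⁻¹ by group,
      (mem_centralizer_singleton_iff.1 (mem_inf.1 hw).2).symm, mul_inv_cancel_right]
  have hdis : ∀ b ∈ q.B, b ∈ W → b = 1 := fun b hb h => by
    by_contra hb1
    exact hg (q.cb b hb hb1 (mem_centralizer_singleton_iff.2
      (mem_centralizer_singleton_iff.1 (mem_inf.1 h).2).symm))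
  set K := centralizer (W : Set S) with hK
  have hcomm : ∀ k ∈ K, ∀ t ∈ q.T, k * t * k⁻¹ * t⁻¹ ∈ W := by
    intro k hk t ht
    have hkt := hT.conj_mem t ht k
    have hc : k * t * k⁻¹ * t⁻¹ ∈ q.T := mul_mem hkt (inv_mem ht)
    refine mem_inf.2 ⟨hc, mem_centralizer_singleton_iff.2 (mul_inv_eq_iff_eq_mul.1 ?_).symm⟩
    have h1 : q.dl g ⟨t, ht⟩ ∈ W := hrange ⟨_, rfl⟩
    have h2 : k * q.dl g ⟨t, ht⟩ * k⁻¹ = q.dl g ⟨t, ht⟩ := by
      rw [← mem_centralizer_iff.1 hk _ h1, mul_inv_cancel_right]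
    have h3 : q.dl g ⟨k * t * k⁻¹, hkt⟩ = q.dl g ⟨t, ht⟩ := by
      rw [← h2, q.dl_apply, q.dl_apply]
      calc g * (k * t * k⁻¹) * g⁻¹ * (k * t * k⁻¹)⁻¹
          = (k * g * k⁻¹) * (k * t * k⁻¹) * (k * g * k⁻¹)⁻¹ * (k * t * k⁻¹)⁻¹ := by rw [hconjg k _ hkt]
        _ = k * (g * t * g⁻¹ * t⁻¹) * k⁻¹ := by group
    have h5 : q.dl g (⟨k * t * k⁻¹, hkt⟩ * ⟨t, ht⟩⁻¹) = 1 := by rw [map_mul, h3, map_inv, mul_inv_cancel]
    exact mul_inv_eq_one.1 h5
  have hsq : ∀ k ∈ K, k * k ∈ q.T := by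
    intro k hk
    obtain ⟨b, hb, hb1⟩ := q.exists_ne_one
    refine q.cb b hb hb1 (mem_centralizer_singleton_iff.2 (mul_inv_eq_iff_eq_mul.1 ?_))
    set c := k * b * k⁻¹ * b⁻¹ with hc
    have hcW : c ∈ W := hcomm k hk b (q.BT hb)
    have hkc : k * c * k⁻¹ = c := by rw [← mem_centralizer_iff.1 hk c hcW, mul_inv_cancel_right]
    calc k * k * b * (k * k)⁻¹ = (k * c * k⁻¹) * (k * b * k⁻¹) := by rw [hc]; group
      _ = c * (c * b) := by rw [hkc, hc, inv_mul_cancel_right]
      _ = b := by rw [← mul_assoc, q.hT c (mem_inf.1 hcW).1, one_mul]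
  have hcardK : Nat.card K ≤ 64 := by
    obtain ⟨b, hb, hb1⟩ := q.exists_ne_one
    let χ : K →* S :=
      { toFun := fun k => k * b * (k : S)⁻¹ * b⁻¹
        map_one' := by simp
        map_mul' := fun k k' => by
          have hk' : (k : S) * (k' * b * (k' : S)⁻¹ * b⁻¹) * (k : S)⁻¹ = k' * b * (k' : S)⁻¹ * b⁻¹ := by
            rw [← mem_centralizer_iff.1 k.2 _ (hcomm k' k'.2 b (q.BT hb)), mul_inv_cancel_right]
          rw [q.T_comm (mem_inf.1 (hcomm k k.2 b (q.BT hb))).1 (mem_inf.1 (hcomm k' k'.2 b (q.BT hb))).1]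
          calc ((k * k' : K) : S) * b * ((k * k' : K) : S)⁻¹ * b⁻¹
              = (k : S) * (k' * b * (k' : S)⁻¹ * b⁻¹) * (k : S)⁻¹ * (k * b * (k : S)⁻¹ * b⁻¹) := by
                simp only [Subgroup.coe_mul]; group
            _ = _ := by rw [hk'] }
    have h := card_mul_index χ.ker
    rw [index_ker] at h
    have h1 : Nat.card χ.ker ≤ 16 := by
      rw [← q.cardT]
      refine Nat.card_le_card_of_injective (fun k => (⟨(k.1 : S), q.cb b hb hb1
        (mem_centralizer_singleton_iff.2 (mul_inv_eq_iff_eq_mul.1 (mul_inv_eq_one.1 k.2)))⟩ : q.T))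
        fun a c e => Subtype.ext (Subtype.ext (congrArg (fun w : q.T => (w : S)) e))
    have h2 : Nat.card χ.range ≤ 4 := by
      rw [← h4]
      refine card_le_of_le ?_
      rintro _ ⟨k, rfl⟩
      exact hcomm k k.2 b (q.BT hb)
    rw [← h]
    exact Nat.mul_le_mul h1 h2
  have hindex : Nat.card S ≤ 2 * Nat.card K := by
    obtain ⟨w, hw, hw1, hwc⟩ := FourGroup.Base.exists_central (S := W) (by omega) q.two
    obtain ⟨p, hp, hp1, hpw⟩ : ∃ p ∈ W, p ≠ 1 ∧ p ≠ w := by
      by_contra hno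
      push Not at hno
      have := Harada.card_le_two (z := w) fun p hp => or_iff_not_imp_left.2 (hno p hp)
      omega
    have hgen : ∀ x ∈ W, x = 1 ∨ x = w ∨ x = p ∨ x = w * p := by
      intro x hx
      by_contra hno
      push Not at hno
      let : Fintype W := Fintype.ofFinite _
      have a1 : w * p ≠ 1 := fun e => hpw ((inv_eq_of_mul_eq_one_right e).symm.trans
        (inv_eq_of_mul_eq_one_right (q.hT w (mem_inf.1 hw).1)))
      have h5 := Finset.card_le_univ
        ({⟨1, one_mem _⟩, ⟨w, hw⟩, ⟨p, hp⟩, ⟨w * p, mul_mem hw hp⟩, ⟨x, hx⟩} : Finset W)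
      rw [Finset.card_insert_of_notMem (by simp [Subtype.ext_iff, hw1.symm, hp1.symm, a1.symm, hno.1.symm]),
        Finset.card_insert_of_notMem (by simp [Subtype.ext_iff, hpw.symm, hp1, hno.2.1.symm]),
        Finset.card_insert_of_notMem (by simp [Subtype.ext_iff, hw1, hno.2.2.1.symm]),
        Finset.card_insert_of_notMem (by simp [Subtype.ext_iff, hno.2.2.2.symm]), Finset.card_singleton,
        ← Nat.card_eq_fintype_card] at h5
      omega
    have hd : ∀ y : S, y * p * y⁻¹ = p ∨ y * p * y⁻¹ = w * p := by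
      intro y
      rcases hgen _ (hWn.conj_mem p hp y) with e | e | e | e
      · exact absurd (conj_eq_one_iff.1 e) hp1
      · exact absurd (mul_left_cancel (mul_right_cancel (e.trans (hwc y).symm))) hpw
      · exact Or.inl e
      · exact Or.inr e
    let χ : S →* S :=
      { toFun := fun y => y * p * y⁻¹ * p⁻¹
        map_one' := by simp
        map_mul' := fun y y' => by
          have hy : y * (y' * p * y'⁻¹ * p⁻¹) * y⁻¹ = y' * p * y'⁻¹ * p⁻¹ := by
            rcases hd y' with e | e <;> rw [e] <;> simp [hwc]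
          have hm : ∀ z : S, z * p * z⁻¹ * p⁻¹ ∈ q.T := fun z =>
            mul_mem (hT.conj_mem p (mem_inf.1 hp).1 z) (inv_mem (mem_inf.1 hp).1)
          rw [q.T_comm (hm y) (hm y')]
          calc y * y' * p * (y * y')⁻¹ * p⁻¹ = y * (y' * p * y'⁻¹ * p⁻¹) * y⁻¹ * (y * p * y⁻¹ * p⁻¹) := by group
            _ = _ := by rw [hy] }
    have h := card_mul_index χ.ker
    rw [index_ker] at h
    rw [← h, mul_comm 2]
    refine Nat.mul_le_mul (card_le_of_le fun y hy => mem_centralizer_iff.2 fun x hx => ?_)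
      (Harada.card_le_two (z := w) ?_)
    · have e1 : Commute y w := mul_inv_eq_iff_eq_mul.1 (hwc y)
      have e2 : Commute y p := mul_inv_eq_iff_eq_mul.1 (mul_inv_eq_one.1 hy)
      rcases hgen x hx with e | e | e | e <;> rw [e]
      · rw [one_mul, mul_one]
      · exact e1.eq.symm
      · exact e2.eq.symm
      · exact (e1.mul_right e2).eq.symm
    · rintro _ ⟨y, rfl⟩
      rcases hd y with e | e
      · exact Or.inl (by show y * p * y⁻¹ * p⁻¹ = 1; rw [e, mul_inv_cancel])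
      · exact Or.inr (by show y * p * y⁻¹ * p⁻¹ = w; rw [e, mul_inv_cancel_right])
  exact ⟨W, inf_le_left, h4, hWn, hdis, hsq, hcomm, hcardK, hindex, g, hg, hgg, rfl, hgc⟩

variable {q} {W : Subgroup S}

theorem Struct.T_le (s : Struct q W) : q.T ≤ centralizer (W : Set S) := fun _ ht =>
  mem_centralizer_iff.2 fun _ hw => q.T_comm (s.le hw) ht

theorem Struct.card_quot (s : Struct q W) : Nat.card (S ⧸ q.T) ≤ 8 := by
  have h := card_eq_card_quotient_mul_card_subgroup q.T
  rw [q.cardT] at h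
  have := s.index
  have := s.cardK
  omega

theorem Struct.coset (s : Struct q W) {t : S} (ht : t ∈ q.T) : ∃ b ∈ q.B, b⁻¹ * t ∈ W := by
  have hinj : Function.Injective fun p : q.B × W => (⟨(p.1 : S) * p.2, mul_mem (q.BT p.1.2) (s.le p.2.2)⟩ : q.T) := by
    intro p p' e
    have e' : (p.1 : S) * p.2 = p'.1 * p'.2 := congrArg Subtype.val e
    have h2 : (p'.1 : S)⁻¹ * p.1 = (p'.2 : S) * (p.2 : S)⁻¹ := by
      rw [eq_mul_inv_iff_mul_eq, mul_assoc, e', inv_mul_cancel_left]
    have h1 := s.disj _ (mul_mem (inv_mem p'.1.2) p.1.2) (h2 ▸ mul_mem p'.2.2 (inv_mem p.2.2))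
    rw [h1, eq_comm, mul_inv_eq_one] at h2
    exact Prod.ext (Subtype.ext (inv_mul_eq_one.1 h1).symm) (Subtype.ext h2.symm)
  obtain ⟨⟨b, w⟩, hbw⟩ := ((Nat.bijective_iff_injective_and_card _).2
    ⟨hinj, by rw [Nat.card_prod, q.cardB, s.card, q.cardT]⟩).2 ⟨t, ht⟩
  refine ⟨b, b.2, ?_⟩
  rw [← show (b : S) * w = t from congrArg Subtype.val hbw, inv_mul_cancel_left]
  exact w.2

theorem Struct.onto (s : Struct q W) (h64 : Nat.card (centralizer (W : Set S)) = 64) {b w : S} (hb : b ∈ q.B)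
    (hb1 : b ≠ 1) (hw : w ∈ W) : ∃ k ∈ centralizer (W : Set S), k * b * k⁻¹ * b⁻¹ = w := by
  set K := centralizer (W : Set S)
  let χ : K →* S :=
    { toFun := fun k => k * b * (k : S)⁻¹ * b⁻¹
      map_one' := by simp
      map_mul' := fun k k' => by
        have hk' : (k : S) * (k' * b * (k' : S)⁻¹ * b⁻¹) * (k : S)⁻¹ = k' * b * (k' : S)⁻¹ * b⁻¹ := by
          rw [← mem_centralizer_iff.1 k.2 _ (s.comm k' k'.2 b (q.BT hb)), mul_inv_cancel_right]
        rw [q.T_comm (s.le (s.comm k k.2 b (q.BT hb))) (s.le (s.comm k' k'.2 b (q.BT hb)))]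
        calc ((k * k' : K) : S) * b * ((k * k' : K) : S)⁻¹ * b⁻¹
            = (k : S) * (k' * b * (k' : S)⁻¹ * b⁻¹) * (k : S)⁻¹ * (k * b * (k : S)⁻¹ * b⁻¹) := by
              simp only [Subgroup.coe_mul]; group
          _ = _ := by rw [hk'] }
  have hr : χ.range ≤ W := by
    rintro _ ⟨k, rfl⟩
    exact s.comm k k.2 b (q.BT hb)
  have h := card_mul_index χ.ker
  rw [index_ker, h64] at h
  have h1 : Nat.card χ.ker ≤ 16 := by
    rw [← q.cardT]
    exact Nat.card_le_card_of_injective (fun k => (⟨(k.1 : S), q.cb b hb hb1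
      (mem_centralizer_singleton_iff.2 (mul_inv_eq_iff_eq_mul.1 (mul_inv_eq_one.1 k.2)))⟩ : q.T))
      fun a c e => Subtype.ext (Subtype.ext (congrArg (fun w : q.T => (w : S)) e))
  have heq := eq_of_le_of_card_ge hr (by
    rw [s.card]
    by_contra hlt
    push Not at hlt
    have := Nat.mul_le_mul h1 (show Nat.card χ.range ≤ 3 by omega)
    omega)
  obtain ⟨k, hk⟩ : w ∈ χ.range := heq.symm ▸ hw
  exact ⟨k, k.2, hk⟩

theorem Struct.not_comm (s : Struct q W) (h8 : Nat.card (S ⧸ q.T) = 8) :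
    ∃ a b : S ⧸ q.T, a * b ≠ b * a := by
  by_contra hno
  push Not at hno
  have hS := card_eq_card_quotient_mul_card_subgroup q.T
  rw [q.cardT, h8] at hS
  have h64 : Nat.card (centralizer (W : Set S)) = 64 := by
    have := s.index
    have := s.cardK
    omega
  have hcom : ∀ y k : S, y * k * y⁻¹ * k⁻¹ ∈ q.T := fun y k => by
    refine (QuotientGroup.eq_one_iff _).1 ?_
    rw [QuotientGroup.mk_mul, QuotientGroup.mk_mul, QuotientGroup.mk_mul, QuotientGroup.mk_inv,
      QuotientGroup.mk_inv, hno (y : S ⧸ q.T), mul_inv_cancel_right, mul_inv_cancel]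
  have hWn := s.normal
  have hmn : (q.T.map (QuotientGroup.mk' W)).Normal :=
    Subgroup.Normal.map inferInstance _ (QuotientGroup.mk'_surjective _)
  obtain ⟨_, ⟨t, ht, rfl⟩, ht1, htc⟩ :=
    FourGroup.Base.exists_central (S := q.T.map (QuotientGroup.mk' W)) (fun e => by
      have h := card_map_mul (QuotientGroup.mk' W) q.T
      rw [QuotientGroup.ker_mk', inf_eq_right.2 s.le, e, s.card, q.cardT] at h
      omega) (q.two.to_quotient _)
  have htW : t ∉ W := fun h => ht1 ((QuotientGroup.eq_one_iff t).2 h)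
  obtain ⟨b, hb, hbt⟩ := s.coset ht
  have hb1 : b ≠ 1 := fun e => htW (by simpa [e] using hbt)
  have hbfix : ∀ y : S, y * b * y⁻¹ * b⁻¹ ∈ W := fun y => by
    have h1 : y * t * y⁻¹ * t⁻¹ ∈ W := by
      refine (QuotientGroup.eq_one_iff _).1 ?_
      have h := htc (y : S ⧸ W)
      rw [QuotientGroup.mk'_apply] at h
      rw [QuotientGroup.mk_mul, QuotientGroup.mk_mul, QuotientGroup.mk_mul, QuotientGroup.mk_inv,
        QuotientGroup.mk_inv, h, mul_inv_cancel]
    obtain ⟨w, hw, rfl⟩ : ∃ w ∈ W, t = b * w := ⟨_, hbt, (mul_inv_cancel_left _ _).symm⟩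
    have h2 : y * b * y⁻¹ * b⁻¹ = (y * (b * w) * y⁻¹ * (b * w)⁻¹) * (b * ((y * w * y⁻¹)⁻¹ * w) * b⁻¹) := by
      rw [q.T_comm (inv_mem (s.le (hWn.conj_mem w hw y))) (s.le hw)]
      group
    rw [h2]
    exact mul_mem h1 (hWn.conj_mem _ (mul_mem (inv_mem (hWn.conj_mem w hw y)) hw) b)
  have htop : ∀ y : S, y ∈ centralizer (W : Set S) := by
    intro y
    refine mem_centralizer_iff.2 fun w hw => ?_
    obtain ⟨k, hk, hkw⟩ := s.onto h64 hb hb1 hw
    refine (mul_inv_eq_iff_eq_mul.1 ?_).symm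
    rw [← hkw]
    set t1 := y * k * y⁻¹ * k⁻¹ with ht1
    set w1 := y * b * y⁻¹ * b⁻¹ with hw1
    have hw1T : w1 ∈ q.T := s.le (hbfix y)
    calc y * (k * b * k⁻¹ * b⁻¹) * y⁻¹ = (t1 * k) * (w1 * b) * (t1 * k)⁻¹ * (w1 * b)⁻¹ := by
          rw [ht1, hw1]; group
      _ = t1 * ((k * w1 * k⁻¹) * (k * b * k⁻¹)) * t1⁻¹ * (w1 * b)⁻¹ := by group
      _ = t1 * (w1 * (k * b * k⁻¹)) * t1⁻¹ * (w1 * b)⁻¹ := by
          rw [show k * w1 * k⁻¹ = w1 by rw [← mem_centralizer_iff.1 hk w1 (hbfix y), mul_inv_cancel_right]]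
      _ = (w1 * (k * b * k⁻¹)) * (w1 * b)⁻¹ := by
          rw [q.T_comm (hcom y k) (mul_mem hw1T ((inferInstance : q.T.Normal).conj_mem b (q.BT hb) k)),
            mul_inv_cancel_right]
      _ = w1 * (k * b * k⁻¹ * b⁻¹) * w1⁻¹ := by group
      _ = _ := by rw [q.T_comm hw1T (s.le (s.comm k hk b (q.BT hb))), mul_inv_cancel_right]
  have hle := card_le_of_le (show (⊤ : Subgroup S) ≤ centralizer (W : Set S) from fun y _ => htop y)
  rw [card_top] at hle
  omega

theorem Struct.other (s : Struct q W) {T' : Subgroup S} (hT' : ∀ t ∈ T', t * t = 1)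
    (h16 : Nat.card T' = 16) (hne : T' ≠ q.T) :
    T' ≤ centralizer (W : Set S) ∧ q.T ⊓ T' = W ∧ Nat.card (centralizer (W : Set S)) = 64 ∧
      ∀ k ∈ centralizer (W : Set S), k * k = 1 → k ∈ q.T ∨ k ∈ T' := by
  classical
  have hnle : ¬ T' ≤ q.T := fun h => hne (eq_of_le_of_card_ge h (by rw [h16, q.cardT]))
  obtain ⟨f, hf, hfT⟩ := SetLike.not_le_iff_exists.1 hnle
  have hIc : ∀ f ∈ T', q.T ⊓ T' ≤ q.T ⊓ centralizer {f} := fun f hf x hx =>
    mem_inf.2 ⟨(mem_inf.1 hx).1, mem_centralizer_singleton_iff.2 (Harada.comm_of_sq T' hT' (mem_inf.1 hx).2 hf)⟩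
  have hI4 : Nat.card (q.T ⊓ T' : Subgroup S) ≤ 4 := (card_le_of_le (hIc f hf)).trans (q.fix_le hfT)
  have hmul := card_map_mul (QuotientGroup.mk' q.T) T'
  rw [QuotientGroup.ker_mk', inf_comm, h16] at hmul
  set V := T'.map (QuotientGroup.mk' q.T) with hV
  have hV4 : 4 ≤ Nat.card V := by
    by_contra hlt
    push Not at hlt
    have := Nat.mul_le_mul (Nat.le_of_lt_succ hlt) hI4
    omega
  obtain ⟨g, hg, hgg, hW, hgc⟩ := s.g0
  have hK : T' ≤ centralizer (W : Set S) := by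
    by_cases hgV : (g : S ⧸ q.T) ∈ V
    · obtain ⟨f1, hf1, hfg⟩ := hgV
      have hWc : W = q.T ⊓ centralizer {f1} := by
        rw [hW]
        obtain ⟨t, ht, rfl⟩ : ∃ t ∈ q.T, g = f1 * t := ⟨_, QuotientGroup.eq.1 hfg, (mul_inv_cancel_left _ _).symm⟩
        ext z
        simp only [mem_inf, mem_centralizer_singleton_iff]
        refine and_congr_right fun hz => ⟨fun h => ?_, fun h => ?_⟩
        · rw [← mul_assoc z f1, mul_assoc f1 t z, q.T_comm ht hz, ← mul_assoc f1 z t] at h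
          exact mul_right_cancel h
        · rw [← mul_assoc z f1, mul_assoc f1 t z, q.T_comm ht hz, ← mul_assoc f1 z t, h]
      have hf1T : f1 ∉ q.T := fun h => hg ((QuotientGroup.eq_one_iff g).1
        (hfg.symm.trans ((QuotientGroup.eq_one_iff f1).2 h)))
      have hI : q.T ⊓ T' = W := by
        refine eq_of_le_of_card_ge (hWc ▸ hIc f1 hf1) ?_
        rw [s.card]
        have hVs : Nat.card V ≤ 4 := by
          by_contra hlt
          push Not at hlt
          have h8 := s.card_quot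
          have hVtop : V = ⊤ := by
            refine eq_top_of_card_eq V ?_
            obtain ⟨k, hk⟩ := card_subgroup_dvd_card V
            have hle := card_le_card_group V
            rcases Nat.lt_or_ge k 2 with h | h
            · interval_cases k
              · have := Nat.card_pos (α := S ⧸ q.T)
                omega
              · omega
            · nlinarith
          have h8' : Nat.card (S ⧸ q.T) = 8 := by
            rw [← card_top, ← hVtop]
            have : Fact (Nat.Prime 2) := ⟨Nat.prime_two⟩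
            obtain ⟨j, hj⟩ := ((q.two.to_quotient q.T).to_subgroup V).exists_card_eq
            have hle := card_le_card_group V
            rw [hj] at hlt hle ⊢
            have : j ≤ 3 := (Nat.pow_le_pow_iff_right (by norm_num : 1 < 2)).1 (by omega : 2 ^ j ≤ 2 ^ 3)
            interval_cases j <;> simp_all
          obtain ⟨a, b, hab⟩ := s.not_comm h8'
          obtain ⟨a', ha', rfl⟩ : a ∈ V := hVtop ▸ mem_top a
          obtain ⟨b', hb', rfl⟩ : b ∈ V := hVtop ▸ mem_top b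
          exact hab (by rw [← map_mul, Harada.comm_of_sq T' hT' ha' hb', map_mul])
        by_contra hlt
        push Not at hlt
        have := Nat.mul_le_mul hVs (Nat.le_of_lt_succ hlt)
        omega
      intro t ht
      refine mem_centralizer_iff.2 fun w hw => ?_
      rw [← hI] at hw
      exact Harada.comm_of_sq T' hT' (mem_inf.1 hw).2 ht
    · exfalso
      have h8 := s.card_quot
      have hlt : V < V ⊔ zpowers (g : S ⧸ q.T) := left_lt_sup.2 fun h => hgV (h (mem_zpowers _))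
      have htop : V ⊔ zpowers (g : S ⧸ q.T) = ⊤ := by
        refine eq_top_of_card_eq _ ?_
        have := Harada.card_le_half hlt
        have := card_le_card_group (V ⊔ zpowers (g : S ⧸ q.T))
        omega
      have h8' : Nat.card (S ⧸ q.T) = 8 := by
        have h1 := Harada.card_le_half hlt
        rw [htop, card_top] at h1
        omega
      obtain ⟨a, b, hab⟩ := s.not_comm h8'
      have hgZ : (g : S ⧸ q.T) ∈ center (S ⧸ q.T) := mem_center_iff.2 fun y => by
        obtain ⟨y, rfl⟩ := QuotientGroup.mk_surjective y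
        exact mul_inv_eq_iff_eq_mul.1 (mul_inv_eq_one.1 ((QuotientGroup.eq_one_iff _).2 (hgc y)))
      have hVZ : V ≤ center (S ⧸ q.T) := by
        intro v hv
        obtain ⟨v', hv', rfl⟩ := hv
        have hle : V ⊔ zpowers (g : S ⧸ q.T) ≤ centralizer {(v' : S ⧸ q.T)} := by
          refine sup_le ?_ (zpowers_le.2 (mem_centralizer_singleton_iff.2 (mem_center_iff.1 hgZ _).symm))
          rintro _ ⟨c, hc, rfl⟩
          refine mem_centralizer_singleton_iff.2 ?_
          rw [QuotientGroup.mk'_apply, ← QuotientGroup.mk_mul, ← QuotientGroup.mk_mul,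
            Harada.comm_of_sq T' hT' hc hv']
        exact mem_center_iff.2 fun y => mem_centralizer_singleton_iff.1 (hle (htop ▸ mem_top y))
      have ha : a ∈ center (S ⧸ q.T) := (sup_le hVZ (zpowers_le.2 hgZ)) (htop ▸ mem_top a)
      exact hab (mem_center_iff.1 ha b).symm
  have hWle : W ≤ q.T ⊓ centralizer {f} := fun w hw => mem_inf.2 ⟨s.le hw,
    mem_centralizer_singleton_iff.2 (mem_centralizer_iff.1 (hK hf) w hw)⟩
  have hTK := s.T_le
  have hVK : 16 * Nat.card V ≤ Nat.card (centralizer (W : Set S)) := by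
    have h := card_map_mul (QuotientGroup.mk' q.T) (centralizer (W : Set S))
    rw [QuotientGroup.ker_mk', inf_eq_right.2 hTK, q.cardT] at h
    rw [← h, mul_comm 16]
    exact Nat.mul_le_mul_right _ (card_le_of_le (map_mono hK))
  have hcK := s.cardK
  have hI : q.T ⊓ T' = W := by
    have hW4 : q.T ⊓ centralizer {f} = W := (eq_of_le_of_card_ge hWle (by rw [s.card]; exact q.fix_le hfT)).symm
    refine eq_of_le_of_card_ge (hW4 ▸ hIc f hf) ?_
    rw [s.card]
    by_contra hlt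
    push Not at hlt
    have := Nat.mul_le_mul (show Nat.card V ≤ 4 by omega) (Nat.le_of_lt_succ hlt)
    omega
  have h64 : Nat.card (centralizer (W : Set S)) = 64 := by omega
  refine ⟨hK, hI, h64, fun k hk hkk => ?_⟩
  have hmap : (centralizer (W : Set S)).map (QuotientGroup.mk' q.T) = V := by
    refine (eq_of_le_of_card_ge (map_mono hK) ?_).symm
    have h := card_map_mul (QuotientGroup.mk' q.T) (centralizer (W : Set S))
    rw [QuotientGroup.ker_mk', inf_eq_right.2 hTK, q.cardT, h64] at h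
    have hVe : Nat.card (T'.map (QuotientGroup.mk' q.T)) = Nat.card V := rfl
    omega
  obtain ⟨t', ht', htk⟩ : (k : S ⧸ q.T) ∈ V := hmap ▸ ⟨k, hk, rfl⟩
  obtain ⟨t, ht, rfl⟩ : ∃ t ∈ q.T, k = t' * t := ⟨_, QuotientGroup.eq.1 htk, (mul_inv_cancel_left _ _).symm⟩
  by_cases ht'T : t' ∈ q.T
  · exact Or.inl (mul_mem ht'T ht)
  · right
    have hc : t' * t = t * t' := by
      calc t' * t = (t' * t)⁻¹ := (inv_eq_of_mul_eq_one_right hkk).symm
        _ = _ := by
          rw [mul_inv_rev, inv_eq_of_mul_eq_one_right (q.hT t ht), inv_eq_of_mul_eq_one_right (hT' t' ht')]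
    have hI' : t ∈ q.T ⊓ centralizer {t'} := mem_inf.2 ⟨ht, mem_centralizer_singleton_iff.2 hc.symm⟩
    have hW' : W = q.T ⊓ centralizer {t'} := by
      refine eq_of_le_of_card_ge (fun w hw => mem_inf.2 ⟨s.le hw,
        mem_centralizer_singleton_iff.2 (mem_centralizer_iff.1 (hK ht') w hw)⟩) ?_
      rw [s.card]
      exact q.fix_le ht'T
    rw [← hW', ← hI] at hI'
    exact mul_mem ht' (mem_inf.1 hI').2

/-- The bound when `T` is normal. -/
theorem bound_normal (q : Quad S) [q.T.Normal] (H : Subgroup S) : (sqSub H).relIndex H ≤ 16 := by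
  by_cases hHT : H ≤ q.T
  · exact (Harada.relIndex_sq_le_card H).trans ((card_le_of_le hHT).trans q.cardT.le)
  have hne : q.T ≠ ⊤ := fun e => hHT (e ▸ le_top)
  obtain ⟨W, s⟩ := q.exists_struct hne
  obtain ⟨h, hh, hhT⟩ := SetLike.not_le_iff_exists.1 hHT
  rw [relIndex_eq_mul (QuotientGroup.mk' q.T) (sqSub_le H), map_sqSub, QuotientGroup.ker_mk']
  refine le_of_le_of_eq (Nat.mul_le_mul
    (Harada.relIndex_small_quotient (q.two.to_quotient _) s.card_quot s.not_comm _) (?_ : _ ≤ 4)) rfl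
  set f := (q.dl h).comp (Subgroup.inclusion (inf_le_right : H ⊓ q.T ≤ q.T))
  have h1 := card_mul_index f.ker
  rw [index_ker] at h1
  have h2 := card_mul_relIndex (inf_le_inf_right q.T (sqSub_le H))
  have h3 : Nat.card f.range ≤ Nat.card (sqSub H ⊓ q.T : Subgroup S) := by
    refine card_le_of_le ?_
    rintro _ ⟨w, rfl⟩
    exact mem_inf.2 ⟨commutator_mem hh (mem_inf.1 w.2).1, q.dl_mem h _⟩
  have h4 : Nat.card f.ker ≤ 4 := by
    refine le_trans (Nat.card_le_card_of_injective (fun x => (⟨(x.1 : S), mem_inf.2 ⟨(mem_inf.1 x.1.2).2,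
      mem_centralizer_singleton_iff.2 (mul_inv_eq_iff_eq_mul.1 (mul_inv_eq_one.1 x.2)).symm⟩⟩ :
        (q.T ⊓ centralizer {h} : Subgroup S))) fun a b e => ?_) (q.fix_le hhT)
    exact Subtype.ext (Subtype.ext (congrArg (fun w : (q.T ⊓ centralizer {h} : Subgroup S) => (w : S)) e))
  refine Nat.le_of_mul_le_mul_left ?_ (Nat.card_pos (α := (sqSub H ⊓ q.T : Subgroup S)))
  rw [h2, ← h1, mul_comm (Nat.card (sqSub H ⊓ q.T : Subgroup S))]
  exact Nat.mul_le_mul h4 h3

end Quad

end CfsgLib.TwoGroups.FourCentralizer
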