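import Cfsg.Agent.TwoGroups.FourCentralizer

/-!
The sectional rank in the presence of such a subgroup of order 16.
-/

set_option autoImplicit false
set_option linter.unusedSectionVars false

namespace CfsgLib.TwoGroups.FourCentralizer

open Subgroup SqIndex

universe u

variable {S : Type u} [Group S] [Finite S]

/-- Restriction to a subgroup containing `T`. -/
def Quad.restrict (q : Quad S) (N : Subgroup S) (h : q.T ≤ N) : Quad N where
  two := q.two.to_subgroup N
  T := q.T.subgroupOf N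
  hT t ht := Subtype.ext (q.hT t ht)
  cardT := (Nat.card_congr (subgroupOfEquivOfLe h).toEquiv).trans q.cardT
  B := q.B.subgroupOf N
  BT _ hb := q.BT hb
  cardB := (Nat.card_congr (subgroupOfEquivOfLe (q.BT.trans h)).toEquiv).trans q.cardB
  cb b hb hb1 c hc := q.cb b hb (fun e => hb1 (Subtype.ext e))
    (mem_centralizer_singleton_iff.2 (congrArg Subtype.val (mem_centralizer_singleton_iff.1 hc)))

theorem Quad.normal_or_small (q : Quad S) :
    q.T.Normal ∨ ∀ E : Subgroup S, E.Normal → (∀ e ∈ E, e * e = 1) → Nat.card E ≤ 4 := by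
  classical
  refine or_iff_not_imp_left.2 fun hTn E hE hEsq => ?_
  by_contra hgt
  push Not at hgt
  have hE8 : 8 ≤ Nat.card E := by
    have : Fact (Nat.Prime 2) := ⟨Nat.prime_two⟩
    obtain ⟨j, hj⟩ := (q.two.to_subgroup E).exists_card_eq
    rw [hj] at hgt ⊢
    have : 2 < j := (Nat.pow_lt_pow_iff_right (by norm_num : 1 < 2)).1 (by omega : 2 ^ 2 < 2 ^ j)
    exact le_trans (by norm_num) (Nat.pow_le_pow_right two_pos this)
  set N := normalizer (q.T : Set S) with hN
  have hNtop : N < ⊤ := lt_top_iff_ne_top.2 fun e => hTn (normalizer_eq_top_iff.1 e)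
  have : Fact (Nat.Prime 2) := ⟨Nat.prime_two⟩
  have : Group.IsNilpotent S := q.two.isNilpotent
  obtain ⟨h, hh, hhN⟩ := SetLike.exists_of_lt (Group.normalizerCondition_of_isNilpotent _ hNtop)
  have hTN : q.T ≤ N := le_normalizer
  set qN := q.restrict N hTN with hqN
  have : qN.T.Normal := normal_in_normalizer
  have hneT : qN.T ≠ ⊤ := by
    intro e
    refine hTn ?_
    have hNT : N ≤ q.T := subgroupOf_eq_top.1 e
    have hNeq : N = q.T := le_antisymm hNT hTN
    exfalso
    refine hhN (mem_normalizer_iff.2 fun y => ?_)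
    have := mem_normalizer_iff.1 hh y
    rw [hNeq] at this
    exact this
  obtain ⟨W, s⟩ := qN.exists_struct hneT
  set T1 := q.T.map (MulAut.conj h).toMonoidHom with hT1
  have hT1N : T1 ≤ N := by
    rintro _ ⟨t, ht, rfl⟩
    exact (mem_normalizer_iff.1 hh t).1 (hTN ht)
  set T' := T1.subgroupOf N with hT'
  have hT'sq : ∀ t ∈ T', t * t = 1 := by
    rintro t ⟨y, hy, e⟩
    refine Subtype.ext ?_
    show (t : S) * t = 1
    have e' : h * y * h⁻¹ = (t : S) := e
    rw [← e', conj_mul, q.hT y hy, mul_one, mul_inv_cancel]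
  have hT'16 : Nat.card T' = 16 := by
    rw [Nat.card_congr (subgroupOfEquivOfLe hT1N).toEquiv, hT1,
      card_map_of_injective (MulAut.conj h).injective, q.cardT]
  have hne : T' ≠ qN.T := by
    intro e
    refine hhN (mem_normalizer_iff.2 fun y => ?_)
    have heq : ∀ z : N, (z : S) ∈ T1 ↔ (z : S) ∈ q.T := fun z => SetLike.ext_iff.1 e z
    refine ⟨fun hy => (heq ⟨_, hT1N ⟨y, hy, rfl⟩⟩).1 ⟨y, hy, rfl⟩, fun hy => ?_⟩
    obtain ⟨z, hz, hze⟩ := (heq ⟨_, hTN hy⟩).2 hy
    rwa [← mul_left_cancel (mul_right_cancel (hze : h * z * h⁻¹ = h * y * h⁻¹))]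
  obtain ⟨hTK, hI, h64, hinv⟩ := s.other hT'sq hT'16 hne
  -- elements of `T` outside `W`
  have hconjb : ∀ v : N, (v : S) ∈ q.T → v ∉ W → centralizer {(v : S)} ≤ q.T := by
    intro v hv hvW
    obtain ⟨b, hb, hbv⟩ := s.coset (hv : v ∈ qN.T)
    have hb1 : b ≠ 1 := fun e => hvW (by simpa [e] using hbv)
    obtain ⟨k, hk, hkb⟩ := s.onto h64 hb hb1 hbv
    have hkv : k * b * k⁻¹ = v := by
      rw [mul_inv_eq_iff_eq_mul.1 hkb, qN.T_comm (s.le hbv) (qN.BT hb)]
      exact mul_inv_cancel_left _ _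
    intro c hc
    have hc' : (k : S)⁻¹ * c * k ∈ q.T := by
      refine q.cb _ hb (fun e => hb1 (Subtype.ext e)) (mem_centralizer_singleton_iff.2 ?_)
      have e := mem_centralizer_singleton_iff.1 hc
      rw [← hkv] at e
      simp only [Subgroup.coe_mul, Subgroup.coe_inv] at e
      calc (k : S)⁻¹ * c * k * b = (k : S)⁻¹ * (c * ((k : S) * b * (k : S)⁻¹)) * k := by group
        _ = (k : S)⁻¹ * (((k : S) * b * (k : S)⁻¹) * c) * k := by rw [e]
        _ = (b : S) * ((k : S)⁻¹ * c * k) := by group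
    have := (mem_normalizer_iff.1 k.2 _).1 hc'
    rwa [show (k : S) * ((k : S)⁻¹ * c * k) * (k : S)⁻¹ = c by group] at this
  have hEW : ∀ v : N, (v : S) ∈ E → (v : S) ∈ q.T → v ∈ W := by
    intro v hvE hvT
    by_contra hvW
    refine hTn ?_
    have hle : centralizer (E : Set S) = q.T := by
      refine le_antisymm (fun c hc => hconjb v hvT hvW (mem_centralizer_singleton_iff.2
        (mem_centralizer_iff.1 hc _ hvE).symm)) fun t ht => mem_centralizer_iff.2 fun e he => ?_
      exact q.T_comm (hconjb v hvT hvW (mem_centralizer_singleton_iff.2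
        (Harada.comm_of_sq E hEsq he hvE))) ht
    rw [← hle]
    exact Subgroup.normal_centralizer
  -- `E ∩ T = W`
  obtain ⟨b, hb, hb1⟩ := q.exists_ne_one
  have hWE : ∀ w ∈ W, ((w : N) : S) ∈ E := by
    have hfix : 3 ≤ Nat.card (E ⊓ q.T : Subgroup S) := by
      let χ : E →* S :=
        { toFun := fun e => b * e * b⁻¹ * (e : S)⁻¹
          map_one' := by simp
          map_mul' := fun a c => by
            have hm : b * c * b⁻¹ * (c : S)⁻¹ ∈ E := mul_mem (hE.conj_mem c c.2 b) (inv_mem c.2)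
            calc b * ((a * c : E) : S) * b⁻¹ * ((a * c : E) : S)⁻¹
                = b * a * b⁻¹ * ((b * c * b⁻¹ * (c : S)⁻¹) * (a : S)⁻¹) := by simp only [Subgroup.coe_mul]; group
              _ = b * a * b⁻¹ * ((a : S)⁻¹ * (b * c * b⁻¹ * (c : S)⁻¹)) := by
                rw [Harada.comm_of_sq E hEsq hm (inv_mem a.2)]
              _ = _ := by group }
      have hle : ∀ y ∈ E, b * y = y * b → y ∈ E ⊓ q.T := fun y hy e =>
        mem_inf.2 ⟨hy, q.cb b hb hb1 (mem_centralizer_singleton_iff.2 e.symm)⟩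
      have h := card_mul_index χ.ker
      rw [index_ker] at h
      have h1 : Nat.card χ.ker ≤ Nat.card (E ⊓ q.T : Subgroup S) :=
        Nat.card_le_card_of_injective (fun y => (⟨(y.1 : S), hle _ y.1.2
          (mul_inv_eq_iff_eq_mul.1 (mul_inv_eq_one.1 y.2))⟩ : (E ⊓ q.T : Subgroup S))) fun a c e =>
            Subtype.ext (Subtype.ext (congrArg (fun w : (E ⊓ q.T : Subgroup S) => (w : S)) e))
      have h2 : Nat.card χ.range ≤ Nat.card (E ⊓ q.T : Subgroup S) := by
        refine card_le_of_le ?_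
        rintro _ ⟨e, rfl⟩
        have hm : b * e * b⁻¹ * (e : S)⁻¹ ∈ E := mul_mem (hE.conj_mem e e.2 b) (inv_mem e.2)
        refine hle _ hm (mul_inv_eq_iff_eq_mul.1 ?_)
        have hbb := q.hT b (q.BT hb)
        calc b * χ e * b⁻¹ = (b * b) * e * (b * b)⁻¹ * (b * (e : S)⁻¹ * b⁻¹) := by
              show b * (b * e * b⁻¹ * (e : S)⁻¹) * b⁻¹ = _
              group
          _ = (χ e)⁻¹ := by
              show _ = (b * e * b⁻¹ * (e : S)⁻¹)⁻¹
              rw [hbb]; group
          _ = _ := inv_eq_of_mul_eq_one_right (hEsq _ hm)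
      by_contra hlt
      push Not at hlt
      have := Nat.mul_le_mul (h1.trans (Nat.le_of_lt_succ hlt)) (h2.trans (Nat.le_of_lt_succ hlt))
      omega
    have hle : E ⊓ q.T ≤ W.map N.subtype := fun y hy =>
      ⟨⟨y, hTN (mem_inf.1 hy).2⟩, hEW _ (mem_inf.1 hy).1 (mem_inf.1 hy).2, rfl⟩
    have hcW : Nat.card (W.map N.subtype) = 4 := by
      rw [card_map_of_injective N.subtype_injective, s.card]
    have heq : E ⊓ q.T = W.map N.subtype := by
      refine eq_of_le_of_card_ge hle ?_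
      obtain ⟨k, hk⟩ := card_dvd_of_le hle
      rw [hcW] at hk ⊢
      rcases Nat.lt_or_ge k 2 with h | h
      · interval_cases k <;> omega
      · nlinarith
    exact fun w hw => (mem_inf.1 ((le_of_eq heq.symm) ⟨w, hw, rfl⟩)).1
  -- `E` normalizes `T`
  have hEN : ∀ e ∈ E, e ∈ N := by
    have hone : ∀ e ∈ E, ∀ v ∈ q.T, e * v * e⁻¹ ∈ q.T := by
      intro e he v hv
      by_cases hvW : (⟨v, hTN hv⟩ : N) ∈ W
      · rw [Harada.comm_of_sq E hEsq he (hWE _ hvW), mul_inv_cancel_right]; exact hv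
      · have hc : e * v * e⁻¹ * v⁻¹ ∈ E := by
          rw [show e * v * e⁻¹ * v⁻¹ = e * (v * e⁻¹ * v⁻¹) by group]
          exact mul_mem he (hE.conj_mem _ (inv_mem he) v)
        have hcv : e * v * e⁻¹ * v⁻¹ ∈ centralizer {v} := by
          refine mem_centralizer_singleton_iff.2 (mul_inv_eq_iff_eq_mul.1 ?_).symm
          have hvi := inv_eq_of_mul_eq_one_right (q.hT v hv)
          calc v * (e * v * e⁻¹ * v⁻¹) * v⁻¹ = v * e * v * e⁻¹ * (v * v)⁻¹ := by group
            _ = v * e * v⁻¹ * e⁻¹ := by rw [q.hT v hv, inv_one, mul_one, hvi]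
            _ = (e * v * e⁻¹ * v⁻¹)⁻¹ := by group
            _ = _ := inv_eq_of_mul_eq_one_right (hEsq _ hc)
        have := mul_mem (hconjb ⟨v, hTN hv⟩ hv hvW hcv) hv
        rwa [inv_mul_cancel_right] at this
    intro e he
    refine mem_normalizer_iff.2 fun y => ⟨hone e he y, fun hy => ?_⟩
    have := hone e⁻¹ (inv_mem he) _ hy
    rwa [show e⁻¹ * (e * y * e⁻¹) * e⁻¹⁻¹ = y by group] at this
  have hET' : ∀ e ∈ E, e ∈ T1 := by
    intro e he
    have heK : (⟨e, hEN e he⟩ : N) ∈ centralizer (W : Set N) := mem_centralizer_iff.2 fun w hw =>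
      Subtype.ext (Harada.comm_of_sq E hEsq (hWE w hw) he)
    rcases hinv _ heK (Subtype.ext (hEsq e he)) with h' | h'
    · have hw : (⟨e, hEN e he⟩ : N) ∈ W := hEW _ he h'
      rw [← hI] at hw
      exact (mem_inf.1 hw).2
    · exact h'
  -- `h` preserves `W`
  have hhW : ∀ w ∈ W, h * ((w : N) : S) * h⁻¹ ∈ q.T := by
    set T2 := T1.map (MulAut.conj h).toMonoidHom
    have hT2N : T2 ≤ N := by
      rintro _ ⟨t, ht, rfl⟩
      exact (mem_normalizer_iff.1 hh t).1 (hT1N ht)
    have hle : T2.subgroupOf N ≤ qN.T := by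
      have hT2sq : ∀ t ∈ T2.subgroupOf N, t * t = 1 := by
        rintro t ⟨y, ⟨z, hz, rfl⟩, e⟩
        refine Subtype.ext ?_
        show (t : S) * t = 1
        have e' : h * (h * z * h⁻¹) * h⁻¹ = (t : S) := e
        rw [← e', conj_mul, conj_mul, q.hT z hz, mul_one, mul_inv_cancel, mul_one, mul_inv_cancel]
      by_contra hnle
      have hne2 : T2.subgroupOf N ≠ qN.T := fun e => hnle e.le
      have h16 : Nat.card (T2.subgroupOf N) = 16 := by
        rw [Nat.card_congr (subgroupOfEquivOfLe hT2N).toEquiv,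
          card_map_of_injective (MulAut.conj h).injective, hT1,
          card_map_of_injective (MulAut.conj h).injective, q.cardT]
      obtain ⟨hK2, -, -, -⟩ := s.other hT2sq h16 hne2
      have hor := union_cases (P := T2.subgroupOf N) (Q := qN.T) (R := T') fun y hy =>
        hinv y (hK2 hy) (hT2sq y hy)
      rcases hor with h2 | h2
      · exact hnle h2
      · refine hne (eq_of_le_of_card_ge (fun z hz => ?_) (by rw [hT'16]; exact qN.cardT.le))
        obtain ⟨t, ht, e⟩ := hz
        obtain ⟨y, hy, e'⟩ : (⟨_, hT2N ⟨_, ⟨t, ht, rfl⟩, rfl⟩⟩ : N) ∈ T' := h2 ⟨_, ⟨t, ht, rfl⟩, rfl⟩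
        have hty : y = h * t * h⁻¹ :=
          mul_left_cancel (mul_right_cancel (e' : h * y * h⁻¹ = h * (h * t * h⁻¹) * h⁻¹))
        show (z : S) ∈ q.T
        have e2 : h * t * h⁻¹ = (z : S) := e
        rw [← e2, ← hty]
        exact hy
    intro w hw
    have hwT' : w ∈ T' := (mem_inf.1 ((le_of_eq hI.symm) hw)).2
    exact hle (x := ⟨_, hT2N ⟨_, hwT', rfl⟩⟩) ⟨_, hwT', rfl⟩
  have hET : centralizer (E : Set S) = T1 := by
    refine le_antisymm (fun c hc => ?_) fun t ht => mem_centralizer_iff.2 fun e he => ?_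
    · obtain ⟨e, he, heW⟩ : ∃ e ∈ E, ∀ h : e ∈ N, (⟨e, h⟩ : N) ∉ W := by
        by_contra hno
        push Not at hno
        have hle : E ≤ W.map N.subtype := fun e he => by
          obtain ⟨hN', hW'⟩ := hno e he
          exact ⟨⟨e, hN'⟩, hW', rfl⟩
        have := card_le_of_le hle
        rw [card_map_of_injective N.subtype_injective, s.card] at this
        omega
      obtain ⟨v, hv, hve⟩ := hET' e he
      have hve' : h * v * h⁻¹ = e := hve
      subst hve'
      have hvW : (⟨v, hTN hv⟩ : N) ∉ W := fun hw => heW (hEN _ he)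
        (hEW ⟨_, hEN _ he⟩ he (hhW _ hw))
      have hc' : h⁻¹ * c * h ∈ q.T := by
        refine hconjb ⟨v, hTN hv⟩ hv hvW (mem_centralizer_singleton_iff.2 ?_)
        calc h⁻¹ * c * h * v = h⁻¹ * (c * (h * v * h⁻¹)) * h := by group
          _ = h⁻¹ * ((h * v * h⁻¹) * c) * h := by rw [mem_centralizer_iff.1 hc _ he]
          _ = _ := by group
      exact ⟨h⁻¹ * c * h, hc', by show h * (h⁻¹ * c * h) * h⁻¹ = c; group⟩
    · have := congrArg Subtype.val (Harada.comm_of_sq T' hT'sq (show (⟨e, hT1N (hET' e he)⟩ : N) ∈ T' from hET' e he)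
        (show (⟨t, hT1N ht⟩ : N) ∈ T' from ht))
      exact this
  have hT1n : T1.Normal := hET ▸ Subgroup.normal_centralizer
  refine hTn ⟨fun t ht g => ?_⟩
  have h1 : h * t * h⁻¹ ∈ T1 := ⟨t, ht, rfl⟩
  obtain ⟨t', ht', e⟩ := hT1n.conj_mem _ h1 (h * g * h⁻¹)
  have e' : h * t' * h⁻¹ = h * (g * t * g⁻¹) * h⁻¹ := (e : h * t' * h⁻¹ = _).trans (by group)
  rwa [← mul_left_cancel (mul_right_cancel e')]

/-- The square index bound for such groups. -/
theorem Quad.relIndex_le (q : Quad S) (H : Subgroup S) : (sqSub H).relIndex H ≤ 16 := by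
  rcases q.normal_or_small with h | h
  · exact Quad.bound_normal q H
  · obtain ⟨bd⟩ := FourGroup.exists_base q.two fun N hN _ hsq =>
      h N hN fun x hx => by rw [← pow_two]; exact hsq x hx
    exact bd.relIndex_sqSub_le H

end CfsgLib.TwoGroups.FourCentralizer
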