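import Cfsg.Agent.TwoGroups.FourGroupTheorem
import Mathlib.GroupTheory.GroupAction.ConjAct
import Mathlib.Tactic.IntervalCases

/-!
MacWilliams' four-group theorem, main argument.
-/

set_option autoImplicit false
set_option linter.unusedSectionVars false

namespace CfsgLib.TwoGroups.FourGroup

open Subgroup SqIndex Omega2Central

universe u

variable {G : Type u} [Group G] [Finite G]

theorem card_cases (hG : IsPGroup 2 G) (S : Subgroup G) (h : Nat.card S ≤ 4) :
    Nat.card S = 1 ∨ Nat.card S = 2 ∨ Nat.card S = 4 := by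
  have : Fact (Nat.Prime 2) := ⟨Nat.prime_two⟩
  obtain ⟨j, hj⟩ := (hG.to_subgroup S).exists_card_eq
  rw [hj] at h ⊢
  have : j ≤ 2 := (Nat.pow_le_pow_iff_right (by norm_num : 1 < 2)).1 h
  interval_cases j <;> norm_num

namespace Base

variable (bd : Base G)

theorem exists_central {S : Subgroup G} [S.Normal] (hne : Nat.card S ≠ 1) :
    IsPGroup 2 G → ∃ z ∈ S, z ≠ 1 ∧ ∀ g : G, g * z * g⁻¹ = z := by
  intro hG
  have : Fact (Nat.Prime 2) := ⟨Nat.prime_two⟩
  letI : MulAction G S := MulAction.compHom S (MulAut.conjNormal : G →* MulAut S)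
  have h2 : 2 ∣ Nat.card S := (hG.to_subgroup S).card_eq_or_dvd.resolve_left hne
  have h1 : (1 : S) ∈ MulAction.fixedPoints G S := fun g => map_one (MulAut.conjNormal g)
  obtain ⟨z, hz, hzne⟩ := hG.exists_fixed_point_of_prime_dvd_card_of_fixed_point S h2 h1
  refine ⟨z, z.2, fun e => hzne (Subtype.ext e).symm, fun g => ?_⟩
  have := congrArg Subtype.val (hz g)
  exact (MulAut.conjNormal_apply g z).symm.trans this

theorem card_le_two_cases {z : G} (hz : z ∈ bd.W) (hz1 : z ≠ 1) {v : G} (hv : v ∈ bd.W) (hv1 : v ≠ 1)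
    (hvz : v ≠ z) {w : G} (hw : w ∈ bd.W) : w = 1 ∨ w = z ∨ w = v ∨ w = z * v := by
  classical
  let : Fintype bd.W := Fintype.ofFinite _
  have hzv1 : z * v ≠ 1 := fun e => hvz ((mul_eq_one_iff_inv_eq.1 e).symm.trans
    (inv_eq_of_mul_eq_one_right hz.2))
  have hzv2 : z * v ≠ z := fun e => hv1 (mul_eq_left.1 e)
  have hzv3 : z * v ≠ v := fun e => hz1 (mul_eq_right.1 e)
  by_contra hno
  simp only [not_or] at hno
  have h5 := Finset.card_le_univ ({1, ⟨z, hz⟩, ⟨v, hv⟩, ⟨z * v, mul_mem hz hv⟩, ⟨w, hw⟩} : Finset bd.W)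
  rw [Finset.card_insert_of_notMem (by simp [Subtype.ext_iff, hz1.symm, hv1.symm, hzv1.symm, Ne.symm hno.1]),
    Finset.card_insert_of_notMem (by simp [Subtype.ext_iff, hvz.symm, hzv2.symm, Ne.symm hno.2.1]),
    Finset.card_insert_of_notMem (by simp [Subtype.ext_iff, hzv3.symm, Ne.symm hno.2.2.1]),
    Finset.card_insert_of_notMem (by simp [Subtype.ext_iff, Ne.symm hno.2.2.2]), Finset.card_singleton,
    ← Nat.card_eq_fintype_card] at h5
  have := bd.card_W
  omega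

theorem N_eq_top (h : Nat.card bd.W ≤ 2) : bd.N = ⊤ := by
  refine eq_top_iff.2 fun g _ => mem_centralizer_iff.2 fun w hw => ?_
  by_cases hw1 : w = 1
  · simp [hw1]
  have hne : Nat.card bd.W ≠ 1 := fun e => hw1 (by
    have := Finite.card_le_one_iff_subsingleton.1 e.le
    exact congrArg Subtype.val (Subsingleton.elim (⟨w, hw⟩ : bd.W) 1))
  obtain ⟨z, hz, hz1, hzc⟩ := exists_central (S := bd.W) hne bd.two
  have hwz : w = z := by
    by_contra hne'
    classical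
    let : Fintype bd.W := Fintype.ofFinite _
    have := Finset.card_le_univ ({1, ⟨z, hz⟩, ⟨w, hw⟩} : Finset bd.W)
    rw [Finset.card_insert_of_notMem (by simp [Subtype.ext_iff, hz1.symm, Ne.symm hw1]),
      Finset.card_insert_of_notMem (by simp [Subtype.ext_iff, Ne.symm hne']), Finset.card_singleton,
      ← Nat.card_eq_fintype_card] at this
    omega
  rw [hwz]
  calc z * g = g * z * g⁻¹ * g := by rw [hzc g]
    _ = g * z := by group

theorem N_index : bd.N.index = 1 ∨ bd.N.index = 2 := by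
  by_cases htop : bd.N = ⊤
  · left; rw [htop, index_top]
  right
  have hne : Nat.card bd.W ≠ 1 := fun e => htop (bd.N_eq_top (by omega))
  obtain ⟨z, hz, hz1, hzc⟩ := exists_central (S := bd.W) hne bd.two
  obtain ⟨t, -, ht⟩ := SetLike.exists_of_lt (lt_top_iff_ne_top.2 htop)
  obtain ⟨v, hv, hvt⟩ : ∃ v ∈ bd.W, t * v * t⁻¹ ≠ v := by
    by_contra hno
    push Not at hno
    refine ht (mem_centralizer_iff.2 fun w hw => ?_)
    calc w * t = t * w * t⁻¹ * t := by rw [hno w hw]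
      _ = t * w := by group
  have hv1 : v ≠ 1 := fun e => hvt (by rw [e]; group)
  have hvz : v ≠ z := fun e => hvt (by rw [e, hzc])
  have hmove : ∀ g : G, g ∉ bd.N → g * v * g⁻¹ = z * v := by
    intro g hg
    have hcv := (inferInstance : bd.W.Normal).conj_mem v hv g
    rcases bd.card_le_two_cases hz hz1 hv hv1 hvz hcv with e | e | e | e
    · exact absurd (conj_eq_one_iff.1 e) hv1
    · exfalso
      refine hvz ?_
      calc v = g⁻¹ * (g * v * g⁻¹) * g := by group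
        _ = g⁻¹ * z * g⁻¹⁻¹ := by rw [e, inv_inv]
        _ = z := hzc g⁻¹
    · exfalso
      refine hg (mem_centralizer_iff.2 fun w hw => ?_)
      have hgw : g * w * g⁻¹ = w := by
        rcases bd.card_le_two_cases hz hz1 hv hv1 hvz hw with rfl | rfl | rfl | rfl
        · group
        · exact hzc g
        · exact e
        · rw [show g * (z * v) * g⁻¹ = (g * z * g⁻¹) * (g * v * g⁻¹) by group, hzc, e]
      calc w * g = g * w * g⁻¹ * g := by rw [hgw]
        _ = g * w := by group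
    · exact e
  refine index_eq_two_iff.2 ⟨t, fun b => ?_⟩
  by_cases hb : b ∈ bd.N
  · exact Or.inr ⟨hb, fun e => ht ((mul_mem_cancel_left hb).1 e)⟩
  · refine Or.inl ⟨?_, hb⟩
    by_contra hbt
    have e := hmove _ hbt
    rw [show b * t * v * (b * t)⁻¹ = b * (t * v * t⁻¹) * b⁻¹ by group, hmove t ht,
      show b * (z * v) * b⁻¹ = (b * z * b⁻¹) * (b * v * b⁻¹) by group, hzc, hmove b hb] at e
    exact hz1 (mul_eq_right.1 (mul_left_cancel e))

/-- The squares of the elements of `A`. -/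
def Sq : Subgroup G where
  carrier := {w | ∃ a ∈ bd.A, a * a = w}
  one_mem' := ⟨1, one_mem _, one_mul 1⟩
  mul_mem' := fun {x y} (hx : ∃ a ∈ bd.A, a * a = x) (hy : ∃ a ∈ bd.A, a * a = y) => by
    obtain ⟨a, ha, rfl⟩ := hx
    obtain ⟨b, hb, rfl⟩ := hy
    refine ⟨a * b, mul_mem ha hb, ?_⟩
    rw [mul_assoc a b, ← mul_assoc b a b, bd.comm b hb a ha, mul_assoc a b b, ← mul_assoc]
  inv_mem' := fun {x} (hx : ∃ a ∈ bd.A, a * a = x) => by
    obtain ⟨a, ha, rfl⟩ := hx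
    exact ⟨a⁻¹, inv_mem ha, (mul_inv_rev a a).symm⟩

theorem Sq_le : bd.Sq ≤ bd.W := by
  rintro _ ⟨a, ha, rfl⟩
  exact bd.sq_mem_W ha

instance normal_Sq : bd.Sq.Normal := ⟨fun w hw g => by
  obtain ⟨a, ha, rfl⟩ := hw
  exact ⟨g * a * g⁻¹, bd.hn.conj_mem a ha g, by group⟩⟩

/-- A square root in `A`. -/
noncomputable def root (q : bd.Sq) : G := q.2.choose

theorem root_mem (q : bd.Sq) : bd.root q ∈ bd.A := q.2.choose_spec.1

theorem root_sq (q : bd.Sq) : bd.root q * bd.root q = q := q.2.choose_spec.2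

/-- The displacement of the roots. -/
noncomputable def shift (g : bd.N) (q : {q : bd.Sq // q ≠ 1}) : bd.W :=
  ⟨_, bd.comm_mem_W g.2 (bd.root_mem q.1)⟩

theorem mem_C_of_shift {g h : bd.N} (e : bd.shift g = bd.shift h) : (g : G)⁻¹ * h ∈ bd.C := by
  have key : ∀ a ∈ bd.A, (g : G) * a * (g : G)⁻¹ = h * a * (h : G)⁻¹ := by
    intro a ha
    have hW : ∀ w ∈ bd.W, (g : G) * w * (g : G)⁻¹ = h * w * (h : G)⁻¹ := fun w hw => by
      rw [bd.mem_N g.2 hw, bd.mem_N h.2 hw, mul_inv_cancel_right, mul_inv_cancel_right]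
    by_cases hq : a * a = 1
    · exact hW a ⟨ha, hq⟩
    let q : {q : bd.Sq // q ≠ 1} := ⟨⟨a * a, a, ha, rfl⟩, fun e1 => hq (congrArg Subtype.val e1)⟩
    set r := bd.root q.1 with hr
    have hrA := bd.root_mem q.1
    have hr2 : r * r = a * a := bd.root_sq q.1
    have hw : r⁻¹ * a ∈ bd.W := by
      refine ⟨mul_mem (inv_mem hrA) ha, ?_⟩
      calc r⁻¹ * a * (r⁻¹ * a) = r⁻¹ * (a * r⁻¹) * a := by group
        _ = r⁻¹ * (r⁻¹ * a) * a := by rw [bd.comm a ha _ (inv_mem hrA)]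
        _ = (r * r)⁻¹ * (a * a) := by group
        _ = 1 := by rw [hr2, inv_mul_cancel]
    have e' : r⁻¹ * ((g : G) * r * (g : G)⁻¹) = r⁻¹ * (h * r * (h : G)⁻¹) :=
      congrArg Subtype.val (congrFun e q)
    have h1 := mul_left_cancel e'
    rw [← mul_inv_cancel_left r a,
      show (g : G) * (r * (r⁻¹ * a)) * (g : G)⁻¹ = (g * r * (g : G)⁻¹) * (g * (r⁻¹ * a) * (g : G)⁻¹) by group,
      show (h : G) * (r * (r⁻¹ * a)) * (h : G)⁻¹ = (h * r * (h : G)⁻¹) * (h * (r⁻¹ * a) * (h : G)⁻¹) by group,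
      h1, hW _ hw]
  refine bd.mem_C_of_fix fun a ha => ?_
  rw [show (g : G)⁻¹ * h * a * ((g : G)⁻¹ * h)⁻¹ = (g : G)⁻¹ * (h * a * (h : G)⁻¹) * g by group, ← key a ha]
  group

theorem C_relIndex_N : bd.C.relIndex bd.N ≤ Nat.card bd.W ^ (Nat.card bd.Sq - 1) := by
  classical
  have hcard : Nat.card {q : bd.Sq // q ≠ 1} = Nat.card bd.Sq - 1 := by
    let : Fintype bd.Sq := Fintype.ofFinite _
    rw [Nat.card_eq_fintype_card, Fintype.card_subtype_compl, Fintype.card_subtype_eq, Nat.card_eq_fintype_card]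
  rw [← hcard, ← Nat.card_fun, Subgroup.relIndex]
  refine Nat.card_le_card_of_injective (fun x : bd.N ⧸ bd.C.subgroupOf bd.N => bd.shift x.out) fun a b e => ?_
  rw [← QuotientGroup.out_eq' a, ← QuotientGroup.out_eq' b]
  exact QuotientGroup.eq.2 (bd.mem_C_of_shift e)

theorem C_index : bd.C.index = bd.C.relIndex bd.N * bd.N.index :=
  (relIndex_mul_index bd.C_le_N).symm

/-- Coordinates when `A` is the direct product of two cyclic groups of order 4. -/
structure Coord (bd : Base G) where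
  z : G
  v : G
  az : G
  av : G
  hz : z ∈ bd.W
  hv : v ∈ bd.W
  z1 : z ≠ 1
  v1 : v ≠ 1
  vz : v ≠ z
  central : ∀ g : G, g * z * g⁻¹ = z
  haz : az ∈ bd.A
  hav : av ∈ bd.A
  az2 : az * az = z
  av2 : av * av = v

theorem exists_coord (h : Nat.card bd.Sq = 4) : Nonempty (Coord bd) := by
  classical
  have hW : bd.Sq = bd.W := eq_of_le_of_card_ge bd.Sq_le (by rw [h]; exact bd.card_W)
  obtain ⟨z, hz, hz1, hzc⟩ := exists_central (S := bd.W) (by rw [← hW, h]; norm_num) bd.two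
  obtain ⟨v, hv, hv1, hvz⟩ : ∃ v ∈ bd.W, v ≠ 1 ∧ v ≠ z := by
    by_contra hno
    push Not at hno
    let : Fintype bd.W := Fintype.ofFinite _
    have hsub : (Finset.univ : Finset bd.W) ⊆ {1, ⟨z, hz⟩} := fun x _ => by
      by_cases hx : (x : G) = 1
      · simp [Subtype.ext_iff, hx]
      · simp [Subtype.ext_iff, hno x x.2 hx]
    have := (Finset.card_le_card hsub).trans Finset.card_le_two
    rw [Finset.card_univ, ← Nat.card_eq_fintype_card, ← hW, h] at this
    omega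
  obtain ⟨az, haz, az2⟩ : ∃ a ∈ bd.A, a * a = z := (show z ∈ bd.Sq by rw [hW]; exact hz)
  obtain ⟨av, hav, av2⟩ : ∃ a ∈ bd.A, a * a = v := (show v ∈ bd.Sq by rw [hW]; exact hv)
  exact ⟨⟨z, v, az, av, hz, hv, hz1, hv1, hvz, hzc, haz, hav, az2, av2⟩⟩

namespace Coord

variable {bd : Base G} (co : Coord bd)

/-- The element of `W` with given coordinates. -/
def e (p : Vec) : G := co.z ^ p.1.val * co.v ^ p.2.val

/-- A root with given coordinates. -/
def rt (p : Vec) : G := co.az ^ p.1.val * co.av ^ p.2.val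

theorem e_mem (p : Vec) : co.e p ∈ bd.W := mul_mem (pow_mem co.hz _) (pow_mem co.hv _)

theorem rt_mem (p : Vec) : co.rt p ∈ bd.A := mul_mem (pow_mem co.haz _) (pow_mem co.hav _)

theorem e_zero : co.e 0 = 1 := by simp [e]

theorem rt_zero : co.rt 0 = 1 := by simp [rt]

theorem pow_val_add {w : G} (hw : w * w = 1) : ∀ i j : ZMod 2, w ^ i.val * w ^ j.val = w ^ (i + j).val := by
  intro i j
  rw [← pow_add, ZMod.val_add, ← pow_eq_pow_mod _ (by rw [pow_two, hw] : w ^ 2 = 1)]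

theorem e_add (p q : Vec) : co.e p * co.e q = co.e (p + q) := by
  rw [e, e, e, Commute.mul_mul_mul_comm (Commute.pow_pow (bd.W_comm co.hv co.hz.1) _ _),
    pow_val_add co.hz.2, pow_val_add co.hv.2]
  rfl

theorem e_inj {p : Vec} (h : co.e p = 1) : p = 0 := by
  obtain ⟨i, j⟩ := p
  fin_cases i <;> fin_cases j
  · rfl
  · exact absurd (by simpa [e, ZMod.val] using h) co.v1
  · exact absurd (by simpa [e, ZMod.val] using h) co.z1
  · refine absurd ?_ co.vz
    have h' : co.z * co.v = 1 := by simpa [e, ZMod.val] using h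
    rw [← inv_eq_of_mul_eq_one_right h']
    exact inv_eq_of_mul_eq_one_right co.hz.2

theorem e_injective : Function.Injective co.e := fun p q h => by
  have h1 : co.e (p + q) = 1 := by rw [← e_add, h]; exact (co.e_mem q).2
  have := co.e_inj h1
  calc p = p + (q + q) := by rw [vec_add_self, add_zero]
    _ = q := by rw [← add_assoc, this, zero_add]

theorem e_surj {w : G} (hw : w ∈ bd.W) : ∃ p, co.e p = w := by
  rcases bd.card_le_two_cases co.hz co.z1 co.hv co.v1 co.vz hw with rfl | rfl | rfl | rfl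
  · exact ⟨0, co.e_zero⟩
  · exact ⟨(1, 0), by simp [e, ZMod.val_one]⟩
  · exact ⟨(0, 1), by simp [e, ZMod.val_one]⟩
  · exact ⟨(1, 1), by simp [e, ZMod.val_one]⟩

theorem rt_sq (p : Vec) : co.rt p * co.rt p = co.e p := by
  have hc : Commute co.av co.az := bd.comm _ co.hav _ co.haz
  rw [rt, Commute.mul_mul_mul_comm (hc.pow_pow _ _), ← (Commute.refl co.az).mul_pow,
    ← (Commute.refl co.av).mul_pow, co.az2, co.av2]
  rfl

theorem decomp {a : G} (ha : a ∈ bd.A) : ∃ p q, a = co.rt p * co.e q := by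
  obtain ⟨p, hp⟩ := co.e_surj (bd.sq_mem_W ha)
  obtain ⟨q, hq⟩ := co.e_surj (w := (co.rt p)⁻¹ * a) ⟨mul_mem (inv_mem (co.rt_mem p)) ha, by
    calc (co.rt p)⁻¹ * a * ((co.rt p)⁻¹ * a) = (co.rt p)⁻¹ * (a * (co.rt p)⁻¹) * a := by group
      _ = (co.rt p)⁻¹ * ((co.rt p)⁻¹ * a) * a := by rw [bd.comm a ha _ (inv_mem (co.rt_mem p))]
      _ = (co.rt p * co.rt p)⁻¹ * (a * a) := by group
      _ = 1 := by rw [co.rt_sq, hp, inv_mul_cancel]⟩
  exact ⟨p, q, by rw [hq, mul_inv_cancel_left]⟩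

/-- `g` acts on `A` through the matrix `X`. -/
def Img (g : G) (X : Mat) : Prop := ∀ p : Vec, g * co.rt p * g⁻¹ = co.rt p * co.e (ap X p)

theorem img_exists {g : G} (hg : g ∈ bd.N) : ∃ X, co.Img g X := by
  obtain ⟨p₁, h₁⟩ := co.e_surj (bd.comm_mem_W hg co.haz)
  obtain ⟨p₂, h₂⟩ := co.e_surj (bd.comm_mem_W hg co.hav)
  have a₁ : g * co.az * g⁻¹ = co.az * co.e p₁ := by rw [h₁, mul_inv_cancel_left]
  have a₂ : g * co.av * g⁻¹ = co.av * co.e p₂ := by rw [h₂, mul_inv_cancel_left]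
  refine ⟨(p₁, p₂), fun p => ?_⟩
  obtain ⟨i, j⟩ := p
  have e00 : ∀ X : Mat, ap X (0, 0) = 0 := by decide
  have e10 : ∀ X : Mat, ap X (1, 0) = X.1 := by decide
  have e01 : ∀ X : Mat, ap X (0, 1) = X.2 := by decide
  have e11 : ∀ X : Mat, ap X (1, 1) = X.1 + X.2 := by decide
  fin_cases i <;> fin_cases j
  · show g * co.rt (0, 0) * g⁻¹ = co.rt (0, 0) * co.e (ap (p₁, p₂) (0, 0))
    rw [e00, co.e_zero, show co.rt (0, 0) = 1 from co.rt_zero]; group
  · show g * co.rt (0, 1) * g⁻¹ = co.rt (0, 1) * co.e (ap (p₁, p₂) (0, 1))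
    rw [e01, show co.rt (0, 1) = co.av by simp [rt, ZMod.val_one]]; exact a₂
  · show g * co.rt (1, 0) * g⁻¹ = co.rt (1, 0) * co.e (ap (p₁, p₂) (1, 0))
    rw [e10, show co.rt (1, 0) = co.az by simp [rt, ZMod.val_one]]; exact a₁
  · show g * co.rt (1, 1) * g⁻¹ = co.rt (1, 1) * co.e (ap (p₁, p₂) (1, 1))
    rw [e11, show co.rt (1, 1) = co.az * co.av by simp [rt, ZMod.val_one],
      show g * (co.az * co.av) * g⁻¹ = (g * co.az * g⁻¹) * (g * co.av * g⁻¹) by group, a₁, a₂,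
      Commute.mul_mul_mul_comm (bd.W_comm (co.e_mem p₁) co.hav), co.e_add]

theorem img_unique {g : G} {X Y : Mat} (hX : co.Img g X) (hY : co.Img g Y) : X = Y := by
  have h : ∀ p, ap X p = ap Y p := fun p => co.e_injective (mul_left_cancel ((hX p).symm.trans (hY p)))
  have e10 : ∀ X : Mat, ap X (1, 0) = X.1 := by decide
  have e01 : ∀ X : Mat, ap X (0, 1) = X.2 := by decide
  exact Prod.ext (by rw [← e10 X, ← e10 Y, h]) (by rw [← e01 X, ← e01 Y, h])

theorem img_mul {g h : G} {X Y : Mat} (hg : g ∈ bd.N) (hX : co.Img g X) (hY : co.Img h Y) :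
    co.Img (g * h) (X + Y) := by
  intro p
  rw [show g * h * co.rt p * (g * h)⁻¹ = g * (h * co.rt p * h⁻¹) * g⁻¹ by group, hY p,
    show g * (co.rt p * co.e (ap Y p)) * g⁻¹ = (g * co.rt p * g⁻¹) * (g * co.e (ap Y p) * g⁻¹) by group,
    hX p, bd.mem_N hg (co.e_mem _), mul_inv_cancel_right, mul_assoc, co.e_add, ap_add]

theorem img_inv {g : G} {X : Mat} (hg : g ∈ bd.N) (hX : co.Img g X) : co.Img g⁻¹ X := by
  obtain ⟨Y, hY⟩ := co.img_exists (inv_mem hg)
  have h1 := co.img_mul hg hX hY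
  rw [mul_inv_cancel] at h1
  have h0 : co.Img 1 0 := fun p => by
    rw [show ap (0 : Mat) p = 0 by simp [ap], co.e_zero]; group
  have := co.img_unique h1 h0
  rwa [show Y = X by rw [← zero_add Y, ← add_self' X, add_assoc, this, add_zero]] at hY

theorem img_zero_iff {g : G} (hg : g ∈ bd.N) : co.Img g 0 ↔ g ∈ bd.C := by
  have hap : ∀ p : Vec, ap (0 : Mat) p = 0 := by decide
  constructor
  · intro h
    refine bd.mem_C_of_fix fun a ha => ?_
    obtain ⟨p, q, rfl⟩ := co.decomp ha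
    rw [show g * (co.rt p * co.e q) * g⁻¹ = (g * co.rt p * g⁻¹) * (g * co.e q * g⁻¹) by group, h p, hap,
      co.e_zero, mul_one, bd.mem_N hg (co.e_mem q), mul_inv_cancel_right]
  · intro h p
    rw [hap, co.e_zero, mul_one, ← bd.comm_C h (co.rt_mem p), mul_inv_cancel_right]

theorem img_conjN {g y : G} {X : Mat} (hy : y ∈ bd.N) (hg : g ∈ bd.N) (hX : co.Img g X) :
    co.Img (y * g * y⁻¹) X := by
  obtain ⟨Y, hY⟩ := co.img_exists hy
  have h1 := co.img_mul (mul_mem hy hg) (co.img_mul hy hY hX) (co.img_inv hy hY)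
  rwa [show Y + X + Y = X by rw [add_comm Y X, add_assoc, add_self', add_zero]] at h1

theorem conj_e {t : G} (ht : t ∉ bd.N) (p : Vec) : t * co.e p * t⁻¹ = co.e (tv p) := by
  have hv : t * co.v * t⁻¹ = co.z * co.v := by
    rcases bd.card_le_two_cases co.hz co.z1 co.hv co.v1 co.vz
      ((inferInstance : bd.W.Normal).conj_mem _ co.hv t) with e | e | e | e
    · exact absurd (conj_eq_one_iff.1 e) co.v1
    · exfalso
      refine co.vz ?_
      calc co.v = t⁻¹ * (t * co.v * t⁻¹) * t := by group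
        _ = t⁻¹ * co.z * t⁻¹⁻¹ := by rw [e, inv_inv]
        _ = co.z := co.central t⁻¹
    · exfalso
      refine ht (mem_centralizer_iff.2 fun w hw => ?_)
      obtain ⟨q, rfl⟩ := co.e_surj hw
      have : t * co.e q * t⁻¹ = co.e q := by
        rw [Coord.e, ← conj_mul, ← conj_pow, ← conj_pow, co.central, e]
      calc co.e q * t = t * co.e q * t⁻¹ * t := by rw [this]
        _ = t * co.e q := by group
    · exact e
  obtain ⟨i, j⟩ := p
  have hconj : t * co.e (i, j) * t⁻¹ = co.z ^ i.val * (co.z * co.v) ^ j.val := by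
    rw [Coord.e, ← conj_mul, ← conj_pow, ← conj_pow, co.central, hv]
  rw [hconj, (show Commute co.z co.v from (bd.W_comm co.hz co.hv.1)).mul_pow, ← mul_assoc,
    pow_val_add co.hz.2]
  rfl

theorem img_conjT {g t : G} {X : Mat} (ht : t ∉ bd.N) (hg : g ∈ bd.N) (hX : co.Img g X) :
    co.Img (t * g * t⁻¹) (conjU X) := by
  intro p
  obtain ⟨p, rfl⟩ : ∃ q, tv q = p := ⟨tv p, tv_tv p⟩
  obtain ⟨p', q', hpq⟩ := co.decomp (bd.hn.conj_mem _ (co.rt_mem p) t)
  have hp' : p' = tv p := by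
    refine co.e_injective ?_
    rw [← co.conj_e ht, ← co.rt_sq p,
      show t * (co.rt p * co.rt p) * t⁻¹ = (t * co.rt p * t⁻¹) * (t * co.rt p * t⁻¹) by group, hpq,
      Commute.mul_mul_mul_comm (bd.W_comm (co.e_mem q') (co.rt_mem p')), co.rt_sq, (co.e_mem q').2, mul_one]
  rw [hp'] at hpq
  have hgN : t * g * t⁻¹ ∈ bd.N := (inferInstance : bd.N.Normal).conj_mem g hg t
  have h1 : t * g * t⁻¹ * (t * co.rt p * t⁻¹) * (t * g * t⁻¹)⁻¹ = (t * co.rt p * t⁻¹) * co.e (tv (ap X p)) := by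
    rw [show t * g * t⁻¹ * (t * co.rt p * t⁻¹) * (t * g * t⁻¹)⁻¹ = t * (g * co.rt p * g⁻¹) * t⁻¹ by group,
      hX p, show t * (co.rt p * co.e (ap X p)) * t⁻¹ = (t * co.rt p * t⁻¹) * (t * co.e (ap X p) * t⁻¹) by group,
      co.conj_e ht]
  rw [hpq, ← conj_mul, bd.mem_N hgN (co.e_mem q'), mul_inv_cancel_right, ap_conjU, mul_assoc (co.rt (tv p)),
    co.e_add, add_comm, ← co.e_add, ← mul_assoc] at h1
  exact mul_right_cancel h1

/-- A fixed-point-free element only fixes involutions of `C`. -/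
theorem sq_eq_one_of_fix {g : G} {X : Mat} (hg : g ∈ bd.N) (hX : co.Img g X) (hI : Inv X) :
    ∀ c : G, c ∈ bd.C → g * c * g⁻¹ = c → c * c = 1 := by
  intro c
  obtain ⟨k, hk⟩ := bd.two c
  induction k generalizing c with
  | zero => intros; rw [pow_zero, pow_one] at hk; rw [hk, one_mul]
  | succ k ih =>
    intro hc hfix
    have h2 := ih (c * c) (by rw [← pow_two, ← pow_mul, ← pow_succ']; exact hk) (mul_mem hc hc)
      (by rw [← conj_mul, hfix])
    obtain ⟨p, q, rfl⟩ := co.decomp (bd.omega c hc (by rw [← pow_four_eq, h2]))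
    rw [← conj_mul, hX p, bd.mem_N hg (co.e_mem q), mul_inv_cancel_right, mul_right_cancel_iff,
      mul_eq_left] at hfix
    have hp := hI p (co.e_inj hfix)
    rw [hp, co.rt_zero, one_mul, (co.e_mem q).2]

/-- Elements of `C` inverted by a good element are involutions. -/
theorem sq_eq_one_of_inverted {g : G} {X : Mat} (hg : g ∈ bd.N) (hX : co.Img g X) (hI : Good X) :
    ∀ c : G, c ∈ bd.C → g * c * g⁻¹ = c⁻¹ → c * c = 1 := by
  intro c
  obtain ⟨k, hk⟩ := bd.two c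
  induction k generalizing c with
  | zero => intros; rw [pow_zero, pow_one] at hk; rw [hk, one_mul]
  | succ k ih =>
    intro hc hfix
    have h2 := ih (c * c) (by rw [← pow_two, ← pow_mul, ← pow_succ']; exact hk) (mul_mem hc hc)
      (by rw [← conj_mul, hfix, mul_inv_rev])
    obtain ⟨p, q, rfl⟩ := co.decomp (bd.omega c hc (by rw [← pow_four_eq, h2]))
    rw [← conj_mul, hX p, bd.mem_N hg (co.e_mem q), mul_inv_cancel_right, eq_inv_iff_mul_eq_one,
      mul_assoc (co.rt p), co.e_add, Commute.mul_mul_mul_comm (bd.W_comm (co.e_mem _) (co.rt_mem p)),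
      co.rt_sq, co.e_add, co.e_add] at hfix
    have h0 := co.e_inj hfix
    rw [add_assoc (ap X p) q q, vec_add_self, add_zero] at h0
    rw [hI p h0, co.rt_zero, one_mul, (co.e_mem q).2]

theorem exists_lift {g : G} (hg : g ∈ bd.N) (hsq : g * g ∈ sqSub bd.C) :
    ∃ c ∈ bd.C, g * c⁻¹ * (g * c⁻¹) ∈ bd.W := by
  obtain ⟨c, hc, hcc⟩ := bd.exists_root hsq
  have hgc : g * c * g⁻¹ ∈ bd.C := (inferInstance : bd.C.Normal).conj_mem c hc g
  refine ⟨c, hc, ?_⟩
  have h := bd.sq_inj' hgc hc (by rw [conj_mul, hcc]; group)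
  rw [show g * c⁻¹ * (g * c⁻¹) = (g * c * g⁻¹)⁻¹ * (g * g) * c⁻¹ by group, ← hcc, mul_assoc,
    mul_inv_cancel_right]
  exact h

theorem exists_involution {g : G} {X : Mat} (hg : g ∈ bd.N) (hX : co.Img g X) (hG : Good X)
    (hw : g * g ∈ bd.W) : ∃ g' ∈ bd.N, co.Img g' X ∧ g' * g' = 1 := by
  obtain ⟨q, hq⟩ := co.e_surj hw
  obtain ⟨p, hp⟩ := good_surj X hG q
  have hrN : co.rt p ∈ bd.N := bd.C_le_N (bd.A_le_C (co.rt_mem p))
  refine ⟨g * co.rt p, mul_mem hg hrN, ?_, ?_⟩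
  · have := co.img_mul hg hX ((co.img_zero_iff hrN).2 (bd.A_le_C (co.rt_mem p)))
    rwa [add_zero] at this
  · calc g * co.rt p * (g * co.rt p) = (g * co.rt p * g⁻¹) * (g * g) * co.rt p := by group
      _ = co.rt p * co.e (ap X p) * co.e q * co.rt p := by rw [hX p, hq]
      _ = co.rt p * (co.e (ap X p + q) * co.rt p) := by rw [mul_assoc (co.rt p), co.e_add, mul_assoc]
      _ = co.e p * co.e (ap X p + q) := by
          rw [bd.W_comm (co.e_mem _) (co.rt_mem p), ← mul_assoc, co.rt_sq]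
      _ = 1 := by rw [co.e_add, ← add_assoc, hp, vec_add_self, co.e_zero]

theorem conj_mem_coset {g y : G} {X : Mat} (hg : g ∈ bd.N) (hX : co.Img g X) (hG : Good X) (h2 : g * g = 1)
    (hy : co.Img (y * g * y⁻¹) X) : g⁻¹ * (y * g * y⁻¹) ∈ bd.W := by
  have hyN : y * g * y⁻¹ ∈ bd.N := (inferInstance : bd.N.Normal).conj_mem g hg y
  set c := g⁻¹ * (y * g * y⁻¹) with hc
  have hcC : c ∈ bd.C := by
    refine (co.img_zero_iff (mul_mem (inv_mem hg) hyN)).1 ?_
    have := co.img_mul (inv_mem hg) (co.img_inv hg hX) hy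
    rwa [add_self'] at this
  refine bd.mem_W_of_C hcC (co.sq_eq_one_of_inverted hg hX hG c hcC ?_)
  have hyy : y * g * y⁻¹ * (y * g * y⁻¹) = 1 := by rw [conj_mul, h2]; group
  have hgc : g * c = y * g * y⁻¹ := by rw [hc, mul_inv_cancel_left]
  rw [← hgc] at hyy
  rw [eq_inv_iff_mul_eq_one]
  rw [show g * c * g⁻¹ * c = g * c * (g * c) by rw [show g⁻¹ = g from inv_eq_of_mul_eq_one_right h2]; group]
  exact hyy

theorem not_involution {g : G} {X : Mat} (hg : g ∈ bd.N) (hX : co.Img g X) (hne : X ≠ 0) (hG : Good X)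
    (h2 : g * g = 1) (hfix : ∀ y : G, co.Img (y * g * y⁻¹) X) : False := by
  have hgW : ∀ w ∈ bd.W, g * w = w * g := fun w hw => bd.mem_N hg hw
  let E : Subgroup G :=
    { carrier := {x | x ∈ bd.W ∨ g * x ∈ bd.W}
      one_mem' := Or.inl (one_mem _)
      mul_mem' := fun {a b} (ha : a ∈ bd.W ∨ g * a ∈ bd.W) (hb : b ∈ bd.W ∨ g * b ∈ bd.W) => by
        rcases ha with ha | ha <;> rcases hb with hb | hb
        · exact Or.inl (mul_mem ha hb)
        · right; rw [← mul_assoc, hgW a ha, mul_assoc]; exact mul_mem ha hb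
        · right; rw [← mul_assoc]; exact mul_mem ha hb
        · left
          have e : a * b = (g * a) * (g * b) := by
            rw [← mul_assoc (g * a) g, ← hgW _ ha, ← mul_assoc g g a, h2, one_mul]
          rw [e]; exact mul_mem ha hb
      inv_mem' := fun {a} (ha : a ∈ bd.W ∨ g * a ∈ bd.W) => by
        rcases ha with ha | ha
        · exact Or.inl (inv_mem ha)
        · right
          have e : g * a⁻¹ = (g * a)⁻¹ := by
            have h3 := hgW _ (inv_mem ha)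
            rw [mul_inv_rev] at h3 ⊢
            rw [show g⁻¹ = g from inv_eq_of_mul_eq_one_right h2] at h3 ⊢
            calc g * a⁻¹ = g * (g * (a⁻¹ * g)) := by rw [h3, mul_assoc, h2, mul_one]
              _ = a⁻¹ * g := by rw [← mul_assoc, h2, one_mul]
          rw [e]; exact inv_mem ha }
  have hmem : ∀ x ∈ E, x ∈ bd.W ∨ ∃ w ∈ bd.W, x = g * w := by
    intro x hx
    rcases hx with hx | hx
    · exact Or.inl hx
    · exact Or.inr ⟨_, hx, by rw [← mul_assoc, h2, one_mul]⟩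
  have hEn : E.Normal := ⟨fun x hx y => by
    rcases hmem x hx with hx | ⟨w, hw, rfl⟩
    · exact Or.inl ((inferInstance : bd.W.Normal).conj_mem x hx y)
    · right
      rw [show g * (y * (g * w) * y⁻¹) = (g * g) * (g⁻¹ * (y * g * y⁻¹)) * (y * w * y⁻¹) by group, h2, one_mul]
      exact mul_mem (co.conj_mem_coset hg hX hG h2 (hfix y)) ((inferInstance : bd.W.Normal).conj_mem w hw y)⟩
  have hsmall := bd.small E hEn
    ⟨⟨fun a b => Subtype.ext (by
      show (a : G) * b = b * a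
      rcases hmem a a.2 with ha | ⟨v, hv, ha⟩ <;> rcases hmem b b.2 with hb | ⟨w, hw, hb⟩
      · exact bd.W_comm ha hb.1
      · rw [hb, ← mul_assoc, ← hgW _ ha, mul_assoc, bd.W_comm ha hw.1, ← mul_assoc]
      · rw [ha, mul_assoc, bd.W_comm hv hb.1, ← mul_assoc, hgW _ hb, mul_assoc]
      · rw [ha, hb, mul_assoc g v, ← mul_assoc v g w, ← hgW v hv, mul_assoc g v w, bd.W_comm hv hw.1,
          mul_assoc g w, ← mul_assoc w g v, ← hgW w hw, mul_assoc g w v])⟩⟩
    (fun x hx => by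
      rw [pow_two]
      rcases hmem x hx with hx | ⟨w, hw, rfl⟩
      · exact hx.2
      · rw [mul_assoc, ← mul_assoc w g, ← hgW w hw, mul_assoc g w w, hw.2, mul_one, h2])
  have hlt : bd.W < E := by
    refine lt_of_le_of_ne (fun x hx => Or.inl hx) fun e => ?_
    have hgE : g ∈ E := Or.inr (by rw [h2]; exact one_mem _)
    rw [← e] at hgE
    exact hne (co.img_unique hX ((co.img_zero_iff hg).2 (bd.A_le_C hgE.1)))
  have h4 : 4 ≤ Nat.card bd.W := by
    have hinj : Function.Injective (fun p => (⟨co.e p, co.e_mem p⟩ : bd.W)) :=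
      fun a b e => co.e_injective (congrArg Subtype.val e)
    have := Nat.card_le_card_of_injective _ hinj
    rwa [Nat.card_prod, Nat.card_zmod] at this
  have : Nat.card bd.W < Nat.card E := lt_of_le_of_ne (card_le_of_le hlt.le)
    fun e => hlt.ne (eq_of_le_of_card_ge hlt.le e.ge)
  omega

theorem not_sq_fixed {g : G} {X : Mat} (hg : g ∈ bd.N) (hX : co.Img g X) (hne : X ≠ 0) (hG : Good X)
    (hsq : g * g ∈ sqSub bd.C)
    (hfix : ∀ (y h : G), h ∈ bd.N → co.Img h X → co.Img (y * h * y⁻¹) X) : False := by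
  obtain ⟨c, hc, hw⟩ := exists_lift hg hsq
  have hcN : c⁻¹ ∈ bd.N := bd.C_le_N (inv_mem hc)
  have hX' : co.Img (g * c⁻¹) X := by
    have := co.img_mul hg hX ((co.img_zero_iff hcN).2 (inv_mem hc))
    rwa [add_zero] at this
  obtain ⟨g', hg', hX'', h2⟩ := co.exists_involution (mul_mem hg hcN) hX' hG hw
  exact co.not_involution hg' hX'' hne hG h2 fun y => hfix y g' hg' hX''

theorem sq_mem_W_of_inv {g : G} {X : Mat} (hg : g ∈ bd.N) (hX : co.Img g X) (hI : Inv X) : g * g ∈ bd.W := by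
  have hC : g * g ∈ bd.C := by
    refine (co.img_zero_iff (mul_mem hg hg)).1 ?_
    have := co.img_mul hg hX hX
    rwa [add_self'] at this
  exact bd.mem_W_of_C hC (co.sq_eq_one_of_fix hg hX hI _ hC (by group))

include co in
theorem W_le_sq : bd.W ≤ sqSub bd.C := fun w hw => by
  obtain ⟨p, rfl⟩ := co.e_surj hw
  rw [← co.rt_sq p]
  exact sq_mem (bd.A_le_C (co.rt_mem p))

theorem img_fixed {X : Mat} (hX : bd.N = ⊤ ∨ conjU X = X) (y h : G) (hh : h ∈ bd.N) (hi : co.Img h X) :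
    co.Img (y * h * y⁻¹) X := by
  by_cases hy : y ∈ bd.N
  · exact co.img_conjN hy hh hi
  · rcases hX with e | e
    · exact absurd (e ▸ mem_top y) hy
    · simpa only [e] using co.img_conjT hy hh hi

/-- Elements acting as an element of order 3 do not occur beside a further element. -/
theorem not_omega {g h : G} {X Y : Mat} (hg : g ∈ bd.N) (hX : co.Img g X) (hG : Good X) (hI : Inv X)
    (hh : h ∈ bd.N) (hY : co.Img h Y) (hYX : Y ≠ 0 ∧ Y ≠ one' ∧ Y ≠ X ∧ Y ≠ X + one') : False := by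
  have hne : X ≠ 0 := fun e => by subst e; exact absurd hI (by decide)
  obtain ⟨g₁, hg₁, hX₁, h₁⟩ := co.exists_involution hg hX hG (co.sq_mem_W_of_inv hg hX hI)
  by_cases htop : bd.N = ⊤
  · exact co.not_involution hg₁ hX₁ hne hG h₁ fun y => co.img_fixed (Or.inl htop) y g₁ hg₁ hX₁
  obtain ⟨t, -, ht⟩ := SetLike.exists_of_lt (lt_top_iff_ne_top.2 htop)
  set g₂ := t * g₁ * t⁻¹ with hg₂def
  have hg₂ : g₂ ∈ bd.N := (inferInstance : bd.N.Normal).conj_mem g₁ hg₁ t
  have hX₂ : co.Img g₂ (X + one') := by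
    rw [← conjU_omega X hG hI]; exact co.img_conjT ht hg₁ hX₁
  have h₂ : g₂ * g₂ = 1 := by rw [hg₂def, conj_mul, h₁]; group
  obtain ⟨hG2, hI2⟩ := good_of_omega X hG hI
  have hcom₁ : ∀ y ∈ bd.N, g₁⁻¹ * (y * g₁ * y⁻¹) ∈ bd.W := fun y hy =>
    co.conj_mem_coset hg₁ hX₁ hG h₁ (co.img_conjN hy hg₁ hX₁)
  have hcom₂ : ∀ y ∈ bd.N, g₂⁻¹ * (y * g₂ * y⁻¹) ∈ bd.W := fun y hy =>
    co.conj_mem_coset hg₂ hX₂ hG2 h₂ (co.img_conjN hy hg₂ hX₂)
  set g₀ := g₁ * g₂ with hg₀
  have hg₀N : g₀ ∈ bd.N := mul_mem hg₁ hg₂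
  have hX₀ : co.Img g₀ one' := by
    have := co.img_mul hg₁ hX₁ hX₂
    rwa [← add_assoc, add_self', zero_add] at this
  have hcom₀ : ∀ y ∈ bd.N, g₀⁻¹ * (y * g₀ * y⁻¹) ∈ bd.W := by
    intro y hy
    have e : g₀⁻¹ * (y * g₀ * y⁻¹) =
        (g₂⁻¹ * (g₁⁻¹ * (y * g₁ * y⁻¹)) * g₂⁻¹⁻¹) * (g₂⁻¹ * (y * g₂ * y⁻¹)) := by
      rw [hg₀]; group
    rw [e]
    exact mul_mem ((inferInstance : bd.W.Normal).conj_mem _ (hcom₁ y hy) _) (hcom₂ y hy)
  have hCA : ∀ c ∈ bd.C, c ∈ bd.A := by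
    intro c hc
    have hw := hcom₀ c (bd.C_le_N hc)
    set w := g₀⁻¹ * (c * g₀ * c⁻¹) with hwdef
    have h1 : g₀ * c * g₀⁻¹ = g₀ * w⁻¹ * g₀⁻¹ * c := by rw [hwdef]; group
    rw [bd.mem_N hg₀N (inv_mem hw), mul_inv_cancel_right] at h1
    refine bd.omega c hc ?_
    rw [← pow_four_eq]
    refine co.sq_eq_one_of_fix hg₀N hX₀ inv_id (c * c) (mul_mem hc hc) ?_
    have hwc : w⁻¹ * c = c * w⁻¹ := bd.comm_C hc (inv_mem hw).1
    rw [← conj_mul, h1]
    calc w⁻¹ * c * (w⁻¹ * c) = w⁻¹ * c * (c * w⁻¹) := by rw [hwc]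
      _ = w⁻¹ * (c * c) * w⁻¹ := by group
      _ = c * c * w⁻¹ * w⁻¹ := by rw [bd.comm_C (mul_mem hc hc) (inv_mem hw).1]
      _ = c * c := by rw [mul_assoc, (inv_mem hw).2, mul_one]
  -- an element with matrix `nil1`
  obtain ⟨n, hn, hXn⟩ : ∃ n ∈ bd.N, co.Img n nil1 := by
    have hsum : ∀ {a b : G} {P Q : Mat}, a ∈ bd.N → co.Img a P → b ∈ bd.N → co.Img b Q →
        ∃ n ∈ bd.N, co.Img n (P + Q) := fun ha hP hb hQ => ⟨_, mul_mem ha hb, co.img_mul ha hP hQ⟩
    have hconjN : t * h * t⁻¹ ∈ bd.N := (inferInstance : bd.N.Normal).conj_mem h hh t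
    obtain ⟨n', hn', hXn'⟩ := hsum hh hY hconjN (co.img_conjT ht hh hY)
    rcases outside_field X hG hI Y hYX with e | e | e | e | e | e
    · exact ⟨h, hh, e ▸ hY⟩
    · exact e ▸ hsum hh hY hg₀N hX₀
    · exact e ▸ hsum hh hY hg₁ hX₁
    · exact e ▸ hsum hh hY hg₂ hX₂
    · exact ⟨n', hn', e ▸ hXn'⟩
    · exact e ▸ hsum hn' hXn' hg₀N hX₀
  have hm : co.Img (n * g₀) (nil1 + one') := co.img_mul hn hXn hX₀
  have hmW := co.sq_mem_W_of_inv (mul_mem hn hg₀N) hm inv_nil1_add_one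
  have hg0W : g₀ * g₀ ∈ bd.W := co.sq_mem_W_of_inv hg₀N hX₀ inv_id
  have hnn : n * n ∈ bd.W := by
    have hw := hcom₀ n⁻¹ (inv_mem hn)
    have e : n * n = (n * g₀ * (n * g₀)) *
        ((g₀⁻¹ * g₀⁻¹) * (g₀ * (g₀⁻¹ * (n⁻¹ * g₀ * n⁻¹⁻¹))⁻¹ * g₀⁻¹)) := by group
    rw [e]
    refine mul_mem hmW (mul_mem ?_ ((inferInstance : bd.W.Normal).conj_mem _ (inv_mem hw) g₀))
    rw [← mul_inv_rev]; exact inv_mem hg0W
  exact co.not_sq_fixed hn hXn nil1_ne good_nil1 (co.W_le_sq hnn) (co.img_fixed (Or.inr conjU_nil1))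

end Coord

end Base

end CfsgLib.TwoGroups.FourGroup
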