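import Mathlib.Data.ZMod.Basic
import Mathlib.Tactic.FinCases

/-!
Finite facts about `2 × 2` matrices over `GF(2)`, stored by their two columns.
-/

set_option autoImplicit false
set_option synthInstance.maxSize 1000
set_option maxRecDepth 100000

namespace CfsgLib.TwoGroups.FourGroup

/-- Vectors. -/
abbrev Vec : Type := ZMod 2 × ZMod 2

/-- Matrices, as pairs of columns. -/
abbrev Mat : Type := Vec × Vec

/-- Application. -/
def ap (X : Mat) (p : Vec) : Vec := (p.1 * X.1.1 + p.2 * X.2.1, p.1 * X.1.2 + p.2 * X.2.2)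

/-- The transvection. -/
def tv (p : Vec) : Vec := (p.1 + p.2, p.2)

/-- Conjugation by the transvection. -/
def conjU (X : Mat) : Mat := (tv (ap X (tv (1, 0))), tv (ap X (tv (0, 1))))

/-- `1 + X` is injective. -/
def Good (X : Mat) : Prop := ∀ p : Vec, p + ap X p = 0 → p = 0

/-- `X` is injective. -/
def Inv (X : Mat) : Prop := ∀ p : Vec, ap X p = 0 → p = 0

instance (X : Mat) : Decidable (Good X) := inferInstanceAs (Decidable (∀ p : Vec, p + ap X p = 0 → p = 0))

instance (X : Mat) : Decidable (Inv X) := inferInstanceAs (Decidable (∀ p : Vec, ap X p = 0 → p = 0))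

/-- The identity matrix. -/
def one' : Mat := ((1, 0), (0, 1))

/-- The fixed nilpotent matrix. -/
def nil1 : Mat := ((0, 0), (1, 0))

/-- A second nilpotent matrix. -/
def nil2 : Mat := ((0, 1), (0, 0))

/-- The third nilpotent matrix. -/
def nil3 : Mat := ((1, 1), (1, 1))

theorem ap_add : ∀ X Y : Mat, ∀ p : Vec, ap (X + Y) p = ap X p + ap Y p := by decide

theorem ap_conjU : ∀ X : Mat, ∀ p : Vec, tv (ap X p) = ap (conjU X) (tv p) := by decide

theorem tv_tv : ∀ p : Vec, tv (tv p) = p := by decide

theorem add_self' : ∀ X : Mat, X + X = 0 := by decide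

theorem vec_add_self : ∀ p : Vec, p + p = 0 := by decide

theorem good_surj : ∀ X : Mat, Good X → ∀ q : Vec, ∃ p : Vec, p + ap X p = q := by decide

theorem conjU_nil1 : conjU nil1 = nil1 := by decide

theorem good_nil1 : Good nil1 := by decide

theorem nil1_ne : nil1 ≠ 0 := by decide

theorem good_nil2 : Good nil2 := by decide

theorem good_nil3 : Good nil3 := by decide

theorem nil_sum : nil1 + nil2 + nil3 = one' := by decide

theorem inv_id : Inv one' := by decide

theorem inv_nil1_add_one : Inv (nil1 + one') := by decide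

theorem conjU_omega : ∀ X : Mat, Good X → Inv X → conjU X = X + one' := by decide

theorem good_of_omega : ∀ X : Mat, Good X → Inv X → Good (X + one') ∧ Inv (X + one') := by decide

theorem omega_unique : ∀ X Y : Mat, Good X → Inv X → Good Y → Inv Y → Y = X ∨ Y = X + one' := by decide

theorem omega_exists : ∃ X : Mat, Good X ∧ Inv X := ⟨((0, 1), (1, 1)), by decide, by decide⟩

theorem fixed_cases : ∀ X : Mat, conjU X = X → X = 0 ∨ X = one' ∨ X = nil1 ∨ X = nil1 + one' := by decide

theorem nil2_conj : conjU nil2 = nil3 := by decide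

theorem nil23 : nil2 + nil3 + one' = nil1 := by decide

theorem outside_field : ∀ w : Mat, Good w → Inv w → ∀ X : Mat,
    (X ≠ 0 ∧ X ≠ one' ∧ X ≠ w ∧ X ≠ w + one') →
      (nil1 = X ∨ nil1 = X + one' ∨ nil1 = X + w ∨ nil1 = X + (w + one') ∨
        nil1 = X + conjU X ∨ nil1 = X + conjU X + one') := by decide

end CfsgLib.TwoGroups.FourGroup
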