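import Mathlib.GroupTheory.Nilpotent
import Mathlib.GroupTheory.PGroup
import Mathlib.GroupTheory.SpecificGroups.Cyclic
import Mathlib.GroupTheory.Index

/-!
2-groups in which every element of order at most 4 is central.
-/

set_option autoImplicit false
set_option linter.unusedSectionVars false

namespace CfsgLib.TwoGroups.Omega2Central

open Subgroup

universe u

/-- Every element with `x ^ 4 = 1` is central. -/
def OCentral (T : Type*) [Group T] : Prop := ∀ x : T, x ^ 4 = 1 → x ∈ center T

variable {T : Type u} [Group T]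

theorem pow_four_of_sq {x : T} (hx : x * x = 1) : x ^ 4 = 1 := by
  rw [show 4 = 2 * 2 from rfl, pow_mul, pow_two x, hx, one_pow]

theorem OCentral.comm (h : OCentral T) {x : T} (hx : x ^ 4 = 1) (y : T) : x * y = y * x :=
  (mem_center_iff.1 (h x hx) y).symm

/-- The involutions with the identity. -/
def om (h : OCentral T) : Subgroup T where
  carrier := {x | x * x = 1}
  one_mem' := one_mul 1
  mul_mem' := fun {a b} (ha : a * a = 1) (hb : b * b = 1) => by
    show a * b * (a * b) = 1
    rw [mul_assoc a b, ← mul_assoc b a b, ← h.comm (pow_four_of_sq ha) b, mul_assoc a b b, hb, mul_one, ha]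
  inv_mem' := fun {a} (ha : a * a = 1) => by
    show a⁻¹ * a⁻¹ = 1
    rw [← mul_inv_rev, ha, inv_one]

theorem mem_om (h : OCentral T) {x : T} : x ∈ om h ↔ x * x = 1 := Iff.rfl

instance om_normal (h : OCentral T) : (om h).Normal :=
  ⟨fun n (hn : n * n = 1) g => by
    rw [show g * n * g⁻¹ = n from by
      rw [← h.comm (pow_four_of_sq hn) g, mul_inv_cancel_right]]
    exact hn⟩

theorem of_subgroup (h : OCentral T) (M : Subgroup T) : OCentral M := fun x hx =>
  mem_center_iff.2 fun y => Subtype.ext (mem_center_iff.1 (h x (by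
    rw [← SubmonoidClass.coe_pow, hx, OneMemClass.coe_one])) y)

section
variable [Finite T]

theorem sq_commutator (hT : IsPGroup 2 T) (h : OCentral T) :
    ∀ x y : T, x ^ 8 = 1 → (x⁻¹ * (y * x * y⁻¹)) * (x⁻¹ * (y * x * y⁻¹)) = 1 := by
  induction hn : Nat.card T using Nat.strong_induction_on generalizing T with
  | _ n ih =>
    intro x y hx
    by_cases hcyc : zpowers x = ⊤
    · obtain ⟨i, rfl⟩ : y ∈ zpowers x := hcyc ▸ mem_top y
      rw [← (Commute.self_zpow x i).eq, mul_inv_cancel_right, inv_mul_cancel, one_mul]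
    obtain ⟨M, hM, hxM⟩ := (eq_top_or_exists_le_coatom (zpowers x)).resolve_left hcyc
    have : Fact (Nat.Prime 2) := ⟨Nat.prime_two⟩
    have : Group.IsNilpotent T := hT.isNilpotent
    have hMn : M.Normal := NormalizerCondition.normal_of_coatom _ Group.normalizerCondition_of_isNilpotent hM
    set u := y * x * y⁻¹ with hu
    have hxm : x ∈ M := hxM (mem_zpowers x)
    have hum : u ∈ M := hMn.conj_mem x hxm y
    have hcard : Nat.card M < n := by
      rw [← hn]
      refine lt_of_le_of_ne (card_le_card_group M) fun e => hM.1 (eq_top_of_card_eq M e)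
    have hk := congrArg Subtype.val (ih (Nat.card M) hcard (hT.to_subgroup M) (of_subgroup h M) rfl
      ⟨x, hxm⟩ ⟨u, hum⟩ (Subtype.ext (by simpa using hx)))
    simp only [Subgroup.coe_mul, Subgroup.coe_inv, Subgroup.coe_one] at hk
    set k := x⁻¹ * (u * x * u⁻¹) with hkdef
    have hkc := h.comm (pow_four_of_sq hk)
    have hsq : u * u = x * x := by
      have h4 : (x * x) ^ 4 = 1 := by rw [← pow_two, ← pow_mul]; exact hx
      rw [hu, show y * x * y⁻¹ * (y * x * y⁻¹) = y * (x * x) * y⁻¹ by group, ← h.comm h4 y,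
        mul_inv_cancel_right]
    have hux : u * x = x * k * u := by rw [hkdef]; group
    have e : u * x⁻¹ = k⁻¹ * x⁻¹ * u := by
      calc u * x⁻¹ = k⁻¹ * x⁻¹ * (x * k * u) * x⁻¹ := by group
        _ = k⁻¹ * x⁻¹ * (u * x) * x⁻¹ := by rw [hux]
        _ = _ := by group
    have ht2 : x⁻¹ * u * (x⁻¹ * u) = k⁻¹ := by
      calc x⁻¹ * u * (x⁻¹ * u) = x⁻¹ * (u * x⁻¹) * u := by group
        _ = x⁻¹ * (k⁻¹ * x⁻¹ * u) * u := by rw [e]
        _ = x⁻¹ * k⁻¹ * x⁻¹ * (u * u) := by group
        _ = x⁻¹ * k⁻¹ * x := by rw [hsq]; group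
        _ = k⁻¹ := by
          have hki : k⁻¹ * x = x * k⁻¹ := (Commute.inv_left (hkc x)).eq
          rw [mul_assoc, hki, inv_mul_cancel_left]
    have ht4 : (x⁻¹ * u) ^ 4 = 1 := by
      rw [show 4 = 2 * 2 from rfl, pow_mul, pow_two (x⁻¹ * u), ht2, inv_pow, pow_two, hk, inv_one]
    have htx := h.comm ht4 x
    have hk1 : k = 1 := by
      have : u * x = x * u := by
        calc u * x = x * (x⁻¹ * u * x) := by group
          _ = x * (x * (x⁻¹ * u)) := by rw [htx]
          _ = x * u := by rw [mul_inv_cancel_left]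
      rw [hkdef, this, mul_inv_cancel_right, inv_mul_cancel]
    rw [ht2, hk1, inv_one]

theorem quot (hT : IsPGroup 2 T) (h : OCentral T) : OCentral (T ⧸ om h) := by
  intro x hx
  induction x using QuotientGroup.induction_on with
  | H x =>
    have h4 : x ^ 4 * x ^ 4 = 1 := (QuotientGroup.eq_one_iff (N := om h) (x ^ 4)).1 hx
    refine mem_center_iff.2 fun y => ?_
    induction y using QuotientGroup.induction_on with
    | H y =>
      have h2 := sq_commutator hT h x y (by rw [show 8 = 4 + 4 from rfl, pow_add, h4])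
      rw [← QuotientGroup.mk_mul, ← QuotientGroup.mk_mul]
      refine (QuotientGroup.eq.2 ?_).symm
      show (x * y)⁻¹ * (y * x) ∈ om h
      rw [show (x * y)⁻¹ * (y * x) = y⁻¹ * (x⁻¹ * (y * x * y⁻¹)) * (y⁻¹)⁻¹ by group]
      exact (om_normal h).conj_mem _ h2 _

theorem card_om_quot (hT : IsPGroup 2 T) (h : OCentral T) :
    Nat.card (om (quot hT h)) ≤ Nat.card (om h) := by
  have key : ∀ q : om (quot hT h), ∃ x : T, (x : T ⧸ om h) = q ∧ x * x ∈ om h := by
    rintro ⟨q, hq⟩
    obtain ⟨x, rfl⟩ := QuotientGroup.mk_surjective q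
    exact ⟨x, rfl, (QuotientGroup.eq_one_iff _).1 ((QuotientGroup.mk_mul _ x x).trans hq)⟩
  choose r hr hr2 using key
  refine Nat.card_le_card_of_injective (fun q => (⟨r q * r q, hr2 q⟩ : om h)) fun a b hab => ?_
  have e : r a * r a = r b * r b := congrArg Subtype.val hab
  have ha4 : (r a) ^ 4 = 1 := by
    rw [show 4 = 2 * 2 from rfl, pow_mul, pow_two, pow_two]; exact hr2 a
  refine Subtype.ext ((hr a).symm.trans ((QuotientGroup.eq.2 ?_).trans (hr b)))
  show (r a)⁻¹ * r b * ((r a)⁻¹ * r b) = 1
  have hc : (r a)⁻¹ * r b = r b * (r a)⁻¹ := (Commute.inv_left (h.comm ha4 (r b))).eq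
  nth_rewrite 2 [hc]
  rw [show (r a)⁻¹ * r b * (r b * (r a)⁻¹) = (r a)⁻¹ * (r b * r b) * (r a)⁻¹ by group, ← e]
  group

theorem card_quot_lt (hT : IsPGroup 2 T) (h : OCentral T) [Nontrivial T] :
    Nat.card (T ⧸ om h) < Nat.card T := by
  have : Fact (Nat.Prime 2) := ⟨Nat.prime_two⟩
  have h2 : 2 ∣ Nat.card T := (hT.card_eq_or_dvd).resolve_left (Finite.one_lt_card).ne'
  obtain ⟨t, ht⟩ := exists_prime_orderOf_dvd_card' 2 h2
  have htm : t ∈ om h := by
    rw [mem_om, ← pow_two, ← ht]; exact pow_orderOf_eq_one t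
  have hne : om h ≠ ⊥ := fun e => by
    rw [e, mem_bot] at htm
    rw [htm, orderOf_one] at ht
    omega
  rw [card_eq_card_quotient_mul_card_subgroup (om h)]
  exact lt_mul_of_one_lt_right Nat.card_pos ((one_lt_card_iff_ne_bot _).2 hne)

theorem sq_inj (hT : IsPGroup 2 T) (h : OCentral T) :
    ∀ x y : T, x * x = y * y → (x⁻¹ * y) * (x⁻¹ * y) = 1 := by
  induction hn : Nat.card T using Nat.strong_induction_on generalizing T with
  | _ n ih =>
    intro x y hxy
    by_cases hnt : Nontrivial T
    · have := ih _ (hn ▸ card_quot_lt hT h) (hT.to_quotient (om h)) (quot hT h) rfl (x : T ⧸ om h) y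
        (congrArg _ hxy)
      have hm : x⁻¹ * y * (x⁻¹ * y) * (x⁻¹ * y * (x⁻¹ * y)) = 1 :=
        (QuotientGroup.eq_one_iff (N := om h) (x⁻¹ * y * (x⁻¹ * y))).1 this
      set t := x⁻¹ * y with ht
      have ht4 : t ^ 4 = 1 := by rw [show 4 = 2 * 2 from rfl, pow_mul, pow_two, pow_two]; exact hm
      have hy : y = x * t := by rw [ht, mul_inv_cancel_left]
      rw [hy, mul_assoc x t, ← mul_assoc t x t, h.comm ht4 x, mul_assoc x t t, ← mul_assoc] at hxy
      exact mul_eq_left.1 hxy.symm
    · rw [not_nontrivial_iff_subsingleton] at hnt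
      exact Subsingleton.elim _ _

/-- Subgroups containing all squares have index at most the number of solutions of `x * x = 1`. -/
theorem index_le (hT : IsPGroup 2 T) (h : OCentral T) :
    ∀ K : Subgroup T, (∀ x, x * x ∈ K) → K.index ≤ Nat.card (om h) := by
  induction hn : Nat.card T using Nat.strong_induction_on generalizing T with
  | _ n ih =>
    intro K hK
    by_cases hnt : Nontrivial T
    swap
    · rw [not_nontrivial_iff_subsingleton] at hnt
      rw [Subsingleton.elim K ⊤, index_top]
      exact Nat.card_pos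
    by_cases hle : om h ≤ K
    · have h1 := ih _ (hn ▸ card_quot_lt hT h) (hT.to_quotient (om h)) (quot hT h) rfl
        (K.map (QuotientGroup.mk' (om h))) (fun q => by
          induction q using QuotientGroup.induction_on with
          | H q => exact ⟨q * q, hK q, rfl⟩)
      rw [index_map_eq K (QuotientGroup.mk'_surjective _) (by rw [QuotientGroup.ker_mk']; exact hle)] at h1
      exact h1.trans (card_om_quot hT h)
    · obtain ⟨z, hz, hzK⟩ := SetLike.not_le_iff_exists.1 hle
      obtain ⟨M, ⟨hKM, hzM⟩, hmax⟩ := (Set.toFinite {M : Subgroup T | K ≤ M ∧ z ∉ M}).exists_maximal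
        ⟨K, le_rfl, hzK⟩
      have hMn : M.Normal := ⟨fun m hm g => by
        have e : g * m * g⁻¹ = (g * g) * (g⁻¹ * m * (g⁻¹ * m)) * (m⁻¹ * m⁻¹) * m := by group
        rw [e]
        exact mul_mem (mul_mem (mul_mem (hKM (hK _)) (hKM (hK _))) (hKM (hK _))) hm⟩
      have htwo : ∀ y, y ∉ M → y * z ∈ M := by
        intro y hy
        have hz' : z ∈ M ⊔ zpowers y := by
          by_contra hno
          exact hy (hmax ⟨le_trans hKM le_sup_left, hno⟩ le_sup_left (le_sup_right (a := M) (mem_zpowers y)))
        obtain ⟨m, hm, _, ⟨i, rfl⟩, hmi⟩ := mem_sup_of_normal_left.1 hz'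
        rcases Int.even_or_odd i with ⟨j, rfl⟩ | ⟨j, rfl⟩
        · refine absurd ?_ hzM
          rw [← hmi]
          refine mul_mem hm ?_
          show y ^ (j + j) ∈ M
          rw [zpow_add]; exact hKM (hK _)
        · rw [← hmi]
          show y * (m * y ^ (2 * j + 1)) ∈ M
          rw [show y * (m * y ^ (2 * j + 1)) = (y * m * y⁻¹) * ((y * y) * (y ^ j * y ^ j)) by group]
          exact mul_mem (hMn.conj_mem m hm y) (mul_mem (hKM (hK _)) (hKM (hK _)))
      have hidx : M.index = 2 := by
        refine index_eq_two_iff.2 ⟨z, fun y => ?_⟩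
        by_cases hy : y ∈ M
        · exact Or.inr ⟨hy, fun e => hzM ((mul_mem_cancel_left hy).1 e)⟩
        · exact Or.inl ⟨htwo y hy, hy⟩
      have hMlt : Nat.card M < n := by
        have := card_mul_index M
        have := (Nat.card_pos : 0 < Nat.card M)
        rw [hidx] at *
        omega
      have h1 := ih _ hMlt (hT.to_subgroup M) (of_subgroup h M) rfl (K.subgroupOf M)
        (fun x => hK x)
      have h2 : Nat.card (om (of_subgroup h M)) * 2 ≤ Nat.card (om h) := by
        have hmap : Nat.card (om (of_subgroup h M)) = Nat.card (M ⊓ om h : Subgroup T) :=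
          Nat.card_congr
            { toFun := fun x => ⟨(x.1 : T), x.1.2, congrArg Subtype.val x.2⟩
              invFun := fun x => ⟨⟨x.1, x.2.1⟩, Subtype.ext x.2.2⟩
              left_inv := fun _ => rfl
              right_inv := fun _ => rfl }
        rw [hmap]
        have hd := card_dvd_of_le (inf_le_right : M ⊓ om h ≤ om h)
        obtain ⟨c, hc⟩ := hd
        rw [hc]
        refine Nat.mul_le_mul_left _ ?_
        by_contra hlt
        have hpos : 0 < Nat.card (om h) := Nat.card_pos
        have : c = 1 := by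
          rcases Nat.eq_zero_or_pos c with e | e
          · rw [e, mul_zero] at hc; omega
          · omega
        rw [this, mul_one] at hc
        have e := eq_of_le_of_card_ge (inf_le_right : M ⊓ om h ≤ om h) hc.le
        have hzi : z ∈ M ⊓ om h := by rw [e]; exact hz
        exact hzM hzi.1
      have h3 := relIndex_mul_index hKM
      rw [hidx] at h3
      have h1' : K.relIndex M ≤ Nat.card (om (of_subgroup h M)) := h1
      omega

theorem isCyclic_of_card_om_le (hT : IsPGroup 2 T) (h : OCentral T) (h2 : Nat.card (om h) ≤ 2) :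
    IsCyclic T := by
  induction hn : Nat.card T using Nat.strong_induction_on generalizing T with
  | _ n ih =>
    by_cases hnt : Nontrivial T
    swap
    · rw [not_nontrivial_iff_subsingleton] at hnt
      exact isCyclic_of_subsingleton
    have : Fact (Nat.Prime 2) := ⟨Nat.prime_two⟩
    have hQ : IsCyclic (T ⧸ om h) := ih _ (hn ▸ card_quot_lt hT h) (hT.to_quotient (om h)) (quot hT h)
      ((card_om_quot hT h).trans h2) rfl
    obtain ⟨g, hg⟩ := hQ.exists_generator
    obtain ⟨g, rfl⟩ := QuotientGroup.mk_surjective g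
    by_cases hg1 : g = 1
    · have hle : Nat.card T ≤ 2 := by
        refine le_trans (Nat.card_le_card_of_injective (fun y => (⟨y, ?_⟩ : om h))
          fun a b e => congrArg Subtype.val e) h2
        obtain ⟨j, hj⟩ := hg (y : T ⧸ om h)
        have := QuotientGroup.eq.1 hj
        simpa [hg1] using this
      have hgt : 1 < Nat.card T := Finite.one_lt_card
      exact isCyclic_of_prime_card (p := 2) (by omega)
    refine ⟨g, fun x => ?_⟩
    obtain ⟨i, hi⟩ := hg (x : T ⧸ om h)
    have hx : (g ^ i)⁻¹ * x ∈ om h := QuotientGroup.eq.1 hi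
    have hfull : om h ≤ zpowers g := by
      obtain ⟨j, hj⟩ := (IsPGroup.iff_orderOf.1 hT) g
      obtain ⟨j, rfl⟩ : ∃ j', j = j' + 1 := ⟨j - 1, by
        rcases j with _ | j
        · exact absurd (orderOf_eq_one_iff.1 (by rw [hj, pow_zero])) hg1
        · simp⟩
      set w := g ^ 2 ^ j
      have hw : w * w = 1 := by
        rw [← pow_two, ← pow_mul, ← pow_succ, ← hj, pow_orderOf_eq_one]
      have hw1 : w ≠ 1 := fun e => by
        have := orderOf_dvd_of_pow_eq_one e
        rw [hj] at this
        have := Nat.le_of_dvd (by positivity) this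
        rw [pow_succ] at this
        have := Nat.two_pow_pos j
        omega
      intro y hy
      have hle : om h ≤ zpowers w := le_of_eq (eq_of_le_of_card_ge ((zpowers_le).2 (hw : w ∈ om h)) (by
        rw [Nat.card_zpowers, orderOf_eq_prime (by rw [pow_two]; exact hw) hw1]
        exact h2)).symm
      exact (zpowers_le.2 (pow_mem (mem_zpowers g) _)) (hle hy)
    rw [← mul_inv_cancel_left (g ^ i) x]
    exact mul_mem (zpow_mem (mem_zpowers g) i) (hfull hx)

/-- With at most three involutions the set of squares is closed under multiplication. -/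
theorem exists_sq_eq_mul (hT : IsPGroup 2 T) (h : OCentral T) (h4 : Nat.card (om h) ≤ 4) :
    ∀ x y : T, ∃ c : T, c * c = x * x * (y * y) := by
  induction hn : Nat.card T using Nat.strong_induction_on generalizing T with
  | _ n ih =>
    intro x y
    by_cases hnt : Nontrivial T
    swap
    · rw [not_nontrivial_iff_subsingleton] at hnt
      exact ⟨1, Subsingleton.elim _ _⟩
    have : Fact (Nat.Prime 2) := ⟨Nat.prime_two⟩
    by_cases hsmall : Nat.card (om (quot hT h)) ≤ 2
    · have hcy := isCyclic_of_card_om_le (hT.to_quotient (om h)) (quot hT h) hsmall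
      have hcomm : x * y = y * x :=
        commutative_of_cyclic_center_quotient (QuotientGroup.mk' (om h)) (fun w hw => by
          rw [QuotientGroup.ker_mk'] at hw
          exact h w (pow_four_of_sq hw)) x y
      refine ⟨x * y, ?_⟩
      rw [mul_assoc x y, ← mul_assoc y x y, ← hcomm, mul_assoc x y y, ← mul_assoc x x]
    · obtain ⟨j, hj⟩ := (hT.to_subgroup (om h)).exists_card_eq
      obtain ⟨j', hj'⟩ := ((hT.to_quotient (om h)).to_subgroup (om (quot hT h))).exists_card_eq
      have hle := card_om_quot hT h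
      have heq : Nat.card (om h) = Nat.card (om (quot hT h)) := by
        rw [hj] at h4 hle ⊢
        rw [hj'] at hle hsmall ⊢
        have a1 : 2 ≤ j' := by
          by_contra hlt
          exact hsmall (by rw [show (2:ℕ) = 2 ^ 1 from rfl]; exact Nat.pow_le_pow_right two_pos (by omega))
        have a2 : j ≤ 2 := (Nat.pow_le_pow_iff_right (by norm_num : 1 < 2)).1 h4
        have a3 : j' ≤ j := (Nat.pow_le_pow_iff_right (by norm_num : 1 < 2)).1 hle
        rw [show j' = j by omega]
      have hsurj : ∀ w : T, w * w = 1 → ∃ r : T, r ^ 4 = 1 ∧ r * r = w := by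
        have key : ∀ q : om (quot hT h), ∃ r : T, (r : T ⧸ om h) = q ∧ r * r ∈ om h := by
          rintro ⟨q, hq⟩
          obtain ⟨r, rfl⟩ := QuotientGroup.mk_surjective q
          exact ⟨r, rfl, (QuotientGroup.eq_one_iff _).1 ((QuotientGroup.mk_mul _ r r).trans hq)⟩
        choose r hr hr2 using key
        have hinj : Function.Injective (fun q => (⟨r q * r q, hr2 q⟩ : om h)) := fun a b hab =>
          Subtype.ext ((hr a).symm.trans
            ((QuotientGroup.eq.2 (sq_inj hT h _ _ (congrArg Subtype.val hab))).trans (hr b)))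
        intro w hw
        obtain ⟨q, hq⟩ := ((Nat.bijective_iff_injective_and_card _).2 ⟨hinj, heq.symm⟩).2 ⟨w, hw⟩
        refine ⟨r q, ?_, congrArg Subtype.val hq⟩
        rw [show 4 = 2 * 2 from rfl, pow_mul, pow_two, pow_two]
        exact hr2 q
      obtain ⟨c, hc⟩ := ih _ (hn ▸ card_quot_lt hT h) (hT.to_quotient (om h)) (quot hT h)
        ((card_om_quot hT h).trans h4) rfl (x : T ⧸ om h) y
      obtain ⟨c, rfl⟩ := QuotientGroup.mk_surjective c
      have hw : (c * c)⁻¹ * (x * x * (y * y)) ∈ om h := QuotientGroup.eq.1 hc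
      obtain ⟨r, hr4, hr⟩ := hsurj _ hw
      refine ⟨c * r, ?_⟩
      rw [mul_assoc c r, ← mul_assoc r c r, h.comm hr4 c, mul_assoc c r r, hr, ← mul_assoc c c,
        mul_inv_cancel_left]

end

end CfsgLib.TwoGroups.Omega2Central
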