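import Cfsg.Agent.TwoGroups.SqIndex
import Cfsg.Agent.TwoGroups.Omega2Central
import Cfsg.Agent.TwoGroups.FourGroupMat
import Mathlib.Tactic.Group

/-!
MacWilliams' four-group theorem: a 2-group without normal elementary abelian subgroups of order 8
has sectional rank at most 4.
-/

set_option autoImplicit false
set_option linter.unusedSectionVars false

namespace CfsgLib.TwoGroups.FourGroup

open Subgroup SqIndex Omega2Central
open scoped commutatorElement

universe u

variable {G : Type u} [Group G] [Finite G]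

theorem pow_four_eq {M : Type*} [Monoid M] (x : M) : x * x * (x * x) = x ^ 4 := by
  simp only [pow_succ, pow_zero, one_mul, mul_assoc]

/-- A maximal normal abelian subgroup of exponent dividing 4, with the consequences used here. -/
structure Base (G : Type u) [Group G] where
  two : IsPGroup 2 G
  A : Subgroup G
  hn : A.Normal
  comm : ∀ a ∈ A, ∀ b ∈ A, a * b = b * a
  exp : ∀ a ∈ A, a ^ 4 = 1
  omega : ∀ x ∈ centralizer (A : Set G), x ^ 4 = 1 → x ∈ A
  small : ∀ E : Subgroup G, E.Normal → IsMulCommutative E → (∀ a ∈ E, a ^ 2 = 1) → Nat.card E ≤ 4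

theorem exists_base (hG : IsPGroup 2 G)
    (h : ∀ E : Subgroup G, E.Normal → IsMulCommutative E → (∀ a ∈ E, a ^ 2 = 1) → Nat.card E ≤ 4) :
    Nonempty (Base G) := by
  classical
  have : Fact (Nat.Prime 2) := ⟨Nat.prime_two⟩
  obtain ⟨A, ⟨hn, hc, he⟩, hmax⟩ := (Set.toFinite {A : Subgroup G | A.Normal ∧
      (∀ a ∈ A, ∀ b ∈ A, a * b = b * a) ∧ ∀ a ∈ A, a ^ 4 = 1}).exists_maximal
    ⟨⊥, inferInstance, by simp, by simp⟩
  refine ⟨⟨hG, A, hn, hc, he, ?_, h⟩⟩
  haveI := hn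
  set K := centralizer (A : Set G) with hK
  haveI : K.Normal := Subgroup.normal_centralizer
  by_contra hbad
  push Not at hbad
  obtain ⟨x₀, hx₀K, hx₀4, hx₀A⟩ := hbad
  let bad : Set G := {x | x ∈ K ∧ x ^ 4 = 1 ∧ x ∉ A ∧ x * x ∈ A}
  have hreduce : ∀ x ∈ K, x ^ 4 = 1 → x ∉ A → x ∈ bad ∨ x * x ∈ bad := by
    intro x hx h4 hxA
    by_cases hxx : x * x ∈ A
    · exact Or.inl ⟨hx, h4, hxA, hxx⟩
    · refine Or.inr ⟨mul_mem hx hx, ?_, hxx, ?_⟩
      · rw [← pow_two, ← pow_mul, show 2 * 4 = 4 * 2 from rfl, pow_mul, h4, one_pow]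
      · rw [pow_four_eq, h4]
        exact one_mem _
  have hne : bad.Nonempty := (hreduce x₀ hx₀K hx₀4 hx₀A).elim (fun e => ⟨_, e⟩) fun e => ⟨_, e⟩
  obtain ⟨x, hx, hmin⟩ := (Set.toFinite bad).exists_minimalFor
    (fun x => A ⊔ normalClosure {x}) bad hne
  obtain ⟨hxK, hx4, hxA, hxx⟩ := hx
  set L := A ⊔ normalClosure {x} with hL
  haveI : L.Normal := by rw [hL]; infer_instance
  have hxL : x ∈ L := (show normalClosure {x} ≤ L from le_sup_right) (subset_normalClosure (Set.mem_singleton x))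
  set M := A ⊔ ⁅L, (⊤ : Subgroup G)⁆ with hM
  have hML : M ≤ L := sup_le le_sup_left (commutator_le_left _ _)
  haveI : M.Normal := by rw [hM]; infer_instance
  have hxM : x ∉ M := by
    intro hxM
    have hLM : L ≤ M := sup_le le_sup_left
      (normalClosure_le_normal (Set.singleton_subset_iff.2 hxM))
    haveI : Group.IsNilpotent G := hG.isNilpotent
    have hq : L.map (QuotientGroup.mk' A) ≤ ⁅L.map (QuotientGroup.mk' A), (⊤ : Subgroup (G ⧸ A))⁆ := by
      refine le_trans (map_mono hLM) ?_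
      rw [hM, Subgroup.map_sup, map_commutator, map_top_of_surjective _ (QuotientGroup.mk'_surjective A)]
      refine sup_le ?_ le_rfl
      rw [QuotientGroup.map_mk'_self]
      exact bot_le
    obtain ⟨n, hn'⟩ := Subgroup.nilpotent_iff_lowerCentralSeries.1 (inferInstance : Group.IsNilpotent (G ⧸ A))
    have hall : ∀ i, L.map (QuotientGroup.mk' A) ≤ (⊤ : Subgroup (G ⧸ A)).lowerCentralSeries i := by
      intro i
      induction i with
      | zero => simp
      | succ i ih => exact le_trans hq (le_trans (commutator_mono ih le_rfl) le_rfl)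
    have h1 := hall n
    rw [hn', le_bot_iff, Subgroup.map_eq_bot_iff, QuotientGroup.ker_mk'] at h1
    exact hxA (h1 hxL)
  have hsmall : ∀ w ∈ M, w ∈ K → w ^ 4 = 1 → w ∈ A := by
    intro w hwM hwK hw4
    by_contra hwA
    have key : ∀ v ∈ bad, v ∈ M → False := by
      intro v hv hvM
      have h1 : A ⊔ normalClosure {v} ≤ M :=
        sup_le le_sup_left (normalClosure_le_normal (Set.singleton_subset_iff.2 hvM))
      have h2 := hmin hv (le_trans h1 hML)
      exact hxM (h1 (h2 hxL))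
    rcases hreduce w hwK hw4 hwA with e | e
    · exact key _ e hwM
    · exact key _ e (mul_mem hwM hwM)
  have hconj : ∀ g : G, x⁻¹ * (g * x * g⁻¹) ∈ A := by
    intro g
    set y := g * x * g⁻¹ with hy
    have hyK : y ∈ K := (inferInstance : K.Normal).conj_mem x hxK g
    have hyy : y * y ∈ A := by
      rw [show y * y = g * (x * x) * g⁻¹ by rw [hy]; group]; exact hn.conj_mem _ hxx g
    have hK' : ∀ k ∈ K, ∀ a ∈ A, a * k = k * a := fun k hk a ha => mem_centralizer_iff.1 hk a ha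
    set r := x * y with hr
    have hrK : r ∈ K := mul_mem hxK hyK
    set a := x * x * (y * y) with ha
    have haA : a ∈ A := mul_mem hxx hyy
    have hx22 : x * x * (x * x) = 1 := by rw [pow_four_eq, hx4]
    have hy22 : y * y * (y * y) = 1 := by
      rw [show y * y * (y * y) = g * (x * x * (x * x)) * g⁻¹ by rw [hy]; group, hx22]; group
    have ha2 : a * a = 1 := by
      rw [ha, mul_assoc, ← mul_assoc (y * y) (x * x), hc _ hyy _ hxx, mul_assoc (x * x) (y * y) (y * y),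
        ← mul_assoc, hx22, hy22, one_mul]
    have hxr : x * r * x⁻¹ = r⁻¹ * a := by
      have e1 : x * r * x⁻¹ = y * x := by
        calc x * r * x⁻¹ = x * x * y * x⁻¹ := by rw [hr]; group
          _ = y * (x * x) * x⁻¹ := by rw [hK' y hyK _ hxx]
          _ = y * x := by group
      have e2 : r⁻¹ * a = y * x := by
        calc r⁻¹ * a = y⁻¹ * (x * (y * y)) := by rw [hr, ha]; group
          _ = y⁻¹ * (y * y * x) := by rw [hK' x hxK _ hyy]
          _ = y * x := by group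
      rw [e1, e2]
    have hrM : r ∈ M := by
      have e : r = x * (g * x * g⁻¹ * x⁻¹) * x⁻¹ * (x * x) := by rw [hr, hy]; group
      rw [e]
      refine mul_mem ((inferInstance : M.Normal).conj_mem _ ?_ x) ((show A ≤ M from le_sup_left) hxx)
      refine (show ⁅L, (⊤ : Subgroup G)⁆ ≤ M from le_sup_right) ?_
      rw [commutator_comm]
      have := commutator_mem_commutator (H₁ := (⊤ : Subgroup G)) (H₂ := L) (mem_top g) hxL
      rwa [commutatorElement_def] at this
    obtain ⟨j, hj⟩ := (IsPGroup.iff_orderOf.1 (hG.to_quotient A)) (r : G ⧸ A)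
    rcases j with _ | j
    · rw [pow_zero, orderOf_eq_one_iff, QuotientGroup.eq_one_iff] at hj
      have e : x⁻¹ * y = (x * x)⁻¹ * r := by rw [hr]; group
      rw [e]
      exact mul_mem (inv_mem hxx) hj
    · exfalso
      set m := r ^ 2 ^ j with hm
      have hb : m * m ∈ A := by
        rw [hm, ← pow_two, ← pow_mul, ← pow_succ, ← hj, ← QuotientGroup.eq_one_iff, QuotientGroup.mk_pow,
          pow_orderOf_eq_one]
      set b := m * m with hbdef
      have hxb : x * b * x⁻¹ = b := by rw [← hK' x hxK b hb, mul_inv_cancel_right]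
      have hbinv : x * b * x⁻¹ = b⁻¹ := by
        have hbr : b = r ^ (2 ^ j * 2) := by rw [hbdef, hm, pow_mul, pow_two]
        rw [hbr, ← conj_pow, hxr, (Commute.inv_left (hK' r hrK a haA).symm).mul_pow, inv_pow,
          pow_mul' a, pow_two, ha2, one_pow, mul_one]
      have hm4 : m ^ 4 = 1 := by
        rw [hxb] at hbinv
        have : b * b = 1 := by nth_rewrite 1 [hbinv]; exact inv_mul_cancel b
        rw [← this, hbdef, pow_four_eq]
      have hmA := hsmall m (pow_mem hrM _) (pow_mem hrK _) hm4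
      rw [hm, ← QuotientGroup.eq_one_iff, QuotientGroup.mk_pow] at hmA
      have := Nat.le_of_dvd (pow_pos two_pos _) (hj ▸ orderOf_dvd_of_pow_eq_one hmA)
      rw [pow_succ] at this
      have := Nat.two_pow_pos j
      omega
  set A' := A ⊔ zpowers x with hA'
  have hmem : ∀ w ∈ A', ∃ a ∈ A, ∃ i : ℤ, a * x ^ i = w := by
    intro w hw
    obtain ⟨a, ha, _, ⟨i, rfl⟩, e⟩ := mem_sup_of_normal_left.1 hw
    exact ⟨a, ha, i, e⟩
  have hcx : ∀ a ∈ A, ∀ i : ℤ, Commute a (x ^ i) := fun a ha i =>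
    Commute.zpow_right (mem_centralizer_iff.1 hxK a ha) i
  have hA'A : A' ≤ A := hmax (y := A') ⟨⟨fun w hw g => by
      obtain ⟨a, ha, i, rfl⟩ := hmem w hw
      rw [show g * (a * x ^ i) * g⁻¹ = (g * a * g⁻¹) * (g * x * g⁻¹) ^ i by rw [conj_zpow]; group]
      refine mul_mem ((show A ≤ A' from le_sup_left) (hn.conj_mem a ha g)) (zpow_mem ?_ i)
      rw [show g * x * g⁻¹ = x * (x⁻¹ * (g * x * g⁻¹)) by group]
      exact mul_mem ((show zpowers x ≤ A' from le_sup_right) (mem_zpowers x)) ((show A ≤ A' from le_sup_left) (hconj g))⟩,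
    fun w hw w' hw' => by
      obtain ⟨a, ha, i, rfl⟩ := hmem w hw
      obtain ⟨a', ha', i', rfl⟩ := hmem w' hw'
      exact (((show Commute a a' from hc a ha a' ha').mul_right (hcx a ha i')).mul_left
        ((hcx a' ha' i).symm.mul_right ((Commute.refl x).zpow_zpow i i'))).eq,
    fun w hw => by
      obtain ⟨a, ha, i, rfl⟩ := hmem w hw
      rw [(hcx a ha i).mul_pow, he a ha, one_mul, ← zpow_natCast, ← zpow_mul, mul_comm, zpow_mul,
        zpow_natCast, hx4, one_zpow]⟩ le_sup_left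
  exact hxA (hA'A ((show zpowers x ≤ A' from le_sup_right) (mem_zpowers x)))

namespace Base

variable (bd : Base G)

/-- The centralizer of `A`. -/
abbrev C : Subgroup G := centralizer (bd.A : Set G)

instance normal_A : bd.A.Normal := bd.hn

instance normal_C : bd.C.Normal := Subgroup.normal_centralizer

theorem A_le_C : bd.A ≤ bd.C := fun a ha => mem_centralizer_iff.2 fun b hb => bd.comm b hb a ha

/-- The solutions of `a * a = 1` in `A`. -/
def W : Subgroup G where
  carrier := {w | w ∈ bd.A ∧ w * w = 1}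
  one_mem' := ⟨one_mem _, one_mul 1⟩
  mul_mem' := fun {a b} (ha : a ∈ bd.A ∧ a * a = 1) (hb : b ∈ bd.A ∧ b * b = 1) => ⟨mul_mem ha.1 hb.1, by
    rw [mul_assoc a b, ← mul_assoc b a b, bd.comm b hb.1 a ha.1, mul_assoc a b b, hb.2, mul_one, ha.2]⟩
  inv_mem' := fun {a} (ha : a ∈ bd.A ∧ a * a = 1) => ⟨inv_mem ha.1, by rw [← mul_inv_rev, ha.2, inv_one]⟩

instance normal_W : bd.W.Normal :=
  ⟨fun w hw g => ⟨bd.hn.conj_mem w hw.1 g, by
    rw [show g * w * g⁻¹ * (g * w * g⁻¹) = g * (w * w) * g⁻¹ by group, hw.2]; group⟩⟩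

theorem W_comm {w : G} (hw : w ∈ bd.W) {a : G} (ha : a ∈ bd.A) : w * a = a * w := bd.comm w hw.1 a ha

theorem comm_C {c : G} (hc : c ∈ bd.C) {a : G} (ha : a ∈ bd.A) : a * c = c * a :=
  mem_centralizer_iff.1 hc a ha

theorem card_W : Nat.card bd.W ≤ 4 :=
  bd.small bd.W inferInstance ⟨⟨fun a b => Subtype.ext (bd.comm a a.2.1 b b.2.1)⟩⟩
    fun a ha => by rw [pow_two]; exact ha.2

theorem mem_W_of_C {x : G} (hx : x ∈ bd.C) (hx2 : x * x = 1) : x ∈ bd.W :=
  ⟨bd.omega x hx (Omega2Central.pow_four_of_sq hx2), hx2⟩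

theorem ocentral (D : Subgroup G) (hD : D ≤ bd.C) : OCentral D := fun x hx =>
  mem_center_iff.2 fun y => Subtype.ext
    (bd.comm_C (hD y.2) (bd.omega x (hD x.2) (by rw [← SubmonoidClass.coe_pow, hx, OneMemClass.coe_one]))).symm

theorem card_om (D : Subgroup G) (hD : D ≤ bd.C) : Nat.card (om (bd.ocentral D hD)) ≤ 4 :=
  le_trans (Nat.card_le_card_of_injective
    (fun x => (⟨(x.1 : G), bd.mem_W_of_C (hD x.1.2) (congrArg Subtype.val x.2)⟩ : bd.W))
    fun a b e => Subtype.ext (Subtype.ext (congrArg (fun w : bd.W => (w : G)) e))) bd.card_W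

theorem sq_inj' {x y : G} (hx : x ∈ bd.C) (hy : y ∈ bd.C) (h : x * x = y * y) : x⁻¹ * y ∈ bd.W :=
  bd.mem_W_of_C (mul_mem (inv_mem hx) hy) (congrArg Subtype.val
    (Omega2Central.sq_inj (bd.two.to_subgroup bd.C) (bd.ocentral bd.C le_rfl) ⟨x, hx⟩ ⟨y, hy⟩ (Subtype.ext h)))

theorem exists_root {y : G} (hy : y ∈ sqSub bd.C) : ∃ c ∈ bd.C, c * c = y := by
  refine closure_induction (fun z hz => hz) ⟨1, one_mem _, one_mul 1⟩ ?_ ?_ hy
  · rintro _ _ _ _ ⟨c, hc, rfl⟩ ⟨d, hd, rfl⟩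
    obtain ⟨e, he⟩ := Omega2Central.exists_sq_eq_mul (bd.two.to_subgroup bd.C) (bd.ocentral bd.C le_rfl)
      (bd.card_om bd.C le_rfl) ⟨c, hc⟩ ⟨d, hd⟩
    exact ⟨e, e.2, congrArg Subtype.val he⟩
  · rintro _ _ ⟨c, hc, rfl⟩
    exact ⟨c⁻¹, inv_mem hc, (mul_inv_rev c c).symm⟩

theorem relIndex_le {D K : Subgroup G} (hD : D ≤ bd.C) (hK : ∀ x ∈ D, x * x ∈ K) : K.relIndex D ≤ 4 :=
  le_trans (Omega2Central.index_le (bd.two.to_subgroup D) (bd.ocentral D hD) (K.subgroupOf D)
    fun x => hK x x.2) (bd.card_om D hD)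

theorem eq_sqSub {D K : Subgroup G} (hD : D ≤ bd.C) (hKD : K ≤ D) (hK : ∀ x ∈ D, x * x ∈ K)
    (h4 : 4 ≤ K.relIndex D) : K = sqSub D := by
  refine (eq_of_le_of_card_ge (sqSub_le_of hK) ?_).symm
  have h1 := card_mul_relIndex hKD
  have h2 := card_mul_relIndex (sqSub_le D)
  have h3 := bd.relIndex_le hD fun x hx => sq_mem hx
  have h4' := relIndex_mul_relIndex (sqSub D) K D (sqSub_le_of hK) hKD
  refine Nat.le_of_mul_le_mul_right (c := (sqSub D).relIndex D) ?_ (Nat.pos_of_ne_zero (relIndex_ne_zero _ _))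
  rw [h2, ← h1]
  exact Nat.mul_le_mul_left _ (h3.trans h4)

/-- The centralizer of `W`. -/
def N : Subgroup G := centralizer (bd.W : Set G)

instance normal_N : bd.N.Normal := Subgroup.normal_centralizer

theorem mem_N {g : G} (hg : g ∈ bd.N) {w : G} (hw : w ∈ bd.W) : g * w = w * g :=
  (mem_centralizer_iff.1 hg w hw).symm

theorem C_le_N : bd.C ≤ bd.N := fun _ hc =>
  mem_centralizer_iff.2 fun _ hw => bd.comm_C hc hw.1

theorem mem_C_of_fix {g : G} (h : ∀ a ∈ bd.A, g * a * g⁻¹ = a) : g ∈ bd.C :=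
  mem_centralizer_iff.2 fun a ha =>
    calc a * g = g * a * g⁻¹ * g := by rw [h a ha]
      _ = g * a := by group

theorem sq_mem_W {a : G} (ha : a ∈ bd.A) : a * a ∈ bd.W :=
  ⟨mul_mem ha ha, by rw [pow_four_eq, bd.exp a ha]⟩

theorem comm_mem_W {g : G} (hg : g ∈ bd.N) {a : G} (ha : a ∈ bd.A) : a⁻¹ * (g * a * g⁻¹) ∈ bd.W := by
  have hga : g * a * g⁻¹ ∈ bd.A := bd.hn.conj_mem a ha g
  have hfix : g * (a * a) * g⁻¹ = a * a := by
    rw [bd.mem_N hg (bd.sq_mem_W ha), mul_inv_cancel_right]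
  refine ⟨mul_mem (inv_mem ha) hga, ?_⟩
  calc a⁻¹ * (g * a * g⁻¹) * (a⁻¹ * (g * a * g⁻¹)) = a⁻¹ * ((g * a * g⁻¹) * a⁻¹) * (g * a * g⁻¹) := by group
    _ = a⁻¹ * (a⁻¹ * (g * a * g⁻¹)) * (g * a * g⁻¹) := by rw [bd.comm _ hga _ (inv_mem ha)]
    _ = (a * a)⁻¹ * (g * (a * a) * g⁻¹) := by group
    _ = 1 := by rw [hfix, inv_mul_cancel]

end Base

end CfsgLib.TwoGroups.FourGroup
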