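import Cfsg.Agent.TwoGroups.SqIndex
import Cfsg.Agent.TwoGroups.FourGroupIndex

/-!
2-groups with a self-centralizing elementary abelian subgroup of order 8: common setup.
-/

set_option autoImplicit false
set_option linter.unusedSectionVars false

namespace CfsgLib.TwoGroups.Harada

open Subgroup SqIndex

universe u

/-- A self-centralizing elementary abelian `A` of order 8 and a normal elementary abelian `E`. -/
structure Setup (S : Type u) [Group S] where
  two : IsPGroup 2 S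
  A : Subgroup S
  hA : ∀ a ∈ A, a * a = 1
  cardA : Nat.card A = 8
  cent : ∀ x : S, (∀ a ∈ A, a * x = x * a) → x ∈ A
  E : Subgroup S
  En : E.Normal
  Esq : ∀ e ∈ E, e * e = 1
  large : 8 ≤ Nat.card E

theorem comm_of_sq {M : Type*} [Group M] (H : Subgroup M) (h : ∀ e ∈ H, e * e = 1) {a b : M}
    (ha : a ∈ H) (hb : b ∈ H) : a * b = b * a := by
  have h' : ∀ e ∈ H, e⁻¹ = e := fun e he => inv_eq_of_mul_eq_one_right (h e he)
  calc a * b = (a * b)⁻¹ := (h' _ (mul_mem ha hb)).symm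
    _ = b * a := by rw [mul_inv_rev, h' a ha, h' b hb]

variable {S : Type u} [Group S] [Finite S]

/-- A bound for quotients of order at most 8. -/
theorem relIndex_small_quotient {Q : Type*} [Group Q] [Finite Q] (hQ : IsPGroup 2 Q) (h8 : Nat.card Q ≤ 8)
    (hnc : Nat.card Q = 8 → ∃ a b : Q, a * b ≠ b * a) (H : Subgroup Q) : (sqSub H).relIndex H ≤ 4 := by
  have : Fact (Nat.Prime 2) := ⟨Nat.prime_two⟩
  obtain ⟨j, hj⟩ := hQ.exists_card_eq
  have hd : (sqSub H).relIndex H ∣ Nat.card H := Dvd.intro_left _ (card_mul_relIndex (sqSub_le H))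
  have hle : (sqSub H).relIndex H ≤ Nat.card Q := (Nat.le_of_dvd Nat.card_pos hd).trans (card_le_card_group H)
  by_contra hlt
  push Not at hlt
  have hj3 : j = 3 := by
    rw [hj] at h8 hle
    have h1 : j ≤ 3 := (Nat.pow_le_pow_iff_right (by norm_num : 1 < 2)).1 (by omega : 2 ^ j ≤ 2 ^ 3)
    have h2 : 2 < j := (Nat.pow_lt_pow_iff_right (by norm_num : 1 < 2)).1 (by omega : 2 ^ 2 < 2 ^ j)
    omega
  subst hj3
  obtain ⟨a, b, hab⟩ := hnc hj
  have h1 := card_mul_relIndex (sqSub_le H)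
  obtain ⟨k, hk⟩ := card_subgroup_dvd_card H
  rw [hj] at hk
  have hH8 : Nat.card H = 8 := by
    have := Nat.le_of_dvd Nat.card_pos hd
    rcases Nat.lt_or_ge k 2 with hk2 | hk2
    · interval_cases k <;> omega
    · nlinarith
  have hHtop : H = ⊤ := eq_top_of_card_eq H (by rw [hH8, hj]; rfl)
  have hbot : sqSub H = ⊥ := eq_bot_of_card_le _ (by
    rw [hH8] at h1
    by_contra hlt2
    push Not at hlt2
    nlinarith)
  refine hab ?_
  have hc := commutator_mem (H := H) (hHtop ▸ mem_top a) (hHtop ▸ mem_top b)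
  rw [hbot, mem_bot] at hc
  calc a * b = a * b * a⁻¹ * b⁻¹ * (b * a) := by group
    _ = b * a := by rw [hc, one_mul]

namespace Setup

variable (d : Setup S)

instance normal_E : d.E.Normal := d.En

/-- The centralizer of `E`. -/
abbrev F : Subgroup S := centralizer (d.E : Set S)

instance normal_F : d.F.Normal := Subgroup.normal_centralizer

theorem E_comm {a b : S} (ha : a ∈ d.E) (hb : b ∈ d.E) : a * b = b * a := comm_of_sq d.E d.Esq ha hb

theorem A_comm {a b : S} (ha : a ∈ d.A) (hb : b ∈ d.A) : a * b = b * a := comm_of_sq d.A d.hA ha hb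

theorem E_le_F : d.E ≤ d.F := fun _ he => mem_centralizer_iff.2 fun _ hx => d.E_comm hx he

theorem F_comm {f e : S} (hf : f ∈ d.F) (he : e ∈ d.E) : e * f = f * e := mem_centralizer_iff.1 hf e he

/-- The commutator map of `g` on `E`. -/
def dl (g : S) : d.E →* S where
  toFun e := g * e * g⁻¹ * (e : S)⁻¹
  map_one' := by simp
  map_mul' e f := by
    have h1 : g * f * g⁻¹ ∈ d.E := d.En.conj_mem f f.2 g
    calc g * ((e * f : d.E) : S) * g⁻¹ * ((e * f : d.E) : S)⁻¹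
        = g * e * g⁻¹ * ((g * f * g⁻¹ * (f : S)⁻¹) * (e : S)⁻¹) := by simp only [Subgroup.coe_mul]; group
      _ = g * e * g⁻¹ * ((e : S)⁻¹ * (g * f * g⁻¹ * (f : S)⁻¹)) := by
          rw [d.E_comm (mul_mem h1 (inv_mem f.2)) (inv_mem e.2)]
      _ = _ := by group

theorem dl_apply (g : S) (e : d.E) : d.dl g e = g * e * g⁻¹ * (e : S)⁻¹ := rfl

theorem dl_mem (g : S) (e : d.E) : d.dl g e ∈ d.E := mul_mem (d.En.conj_mem e e.2 g) (inv_mem e.2)

theorem dl_eq_one {g : S} {e : d.E} : d.dl g e = 1 ↔ g * e = e * g := by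
  rw [dl_apply, mul_inv_eq_one, mul_inv_eq_iff_eq_mul]

/-- An involution fixes its own commutators in `E`. -/
theorem inv_fix {g : S} (hg : g * g = 1) {e : S} (he : e ∈ d.E) :
    g * (g * e * g⁻¹ * e⁻¹) = (g * e * g⁻¹ * e⁻¹) * g := by
  have hi : g⁻¹ = g := inv_eq_of_mul_eq_one_right hg
  have hc : g * e * g⁻¹ * e⁻¹ ∈ d.E := mul_mem (d.En.conj_mem e he g) (inv_mem he)
  have h1 : g * (g * e * g⁻¹ * e⁻¹) * g⁻¹ = (g * e * g⁻¹ * e⁻¹)⁻¹ := by
    calc g * (g * e * g⁻¹ * e⁻¹) * g⁻¹ = (g * g) * e * g⁻¹ * e⁻¹ * g⁻¹ := by group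
      _ = e * g * e⁻¹ * g⁻¹ := by rw [hg, hi, one_mul]
      _ = _ := by group
  rw [inv_eq_of_mul_eq_one_right (d.Esq _ hc)] at h1
  exact mul_inv_eq_iff_eq_mul.1 h1

/-- For an involution `g`, a `g`-invariant subgroup of `E` has order at most the square of the
number of its fixed points. -/
theorem card_le_sq {g : S} (hg : g * g = 1) (W : Subgroup S) (hW : W ≤ d.E)
    (hinv : ∀ w ∈ W, g * w * g⁻¹ ∈ W) :
    Nat.card W ≤ Nat.card (W ⊓ centralizer {g} : Subgroup S) * Nat.card (W ⊓ centralizer {g} : Subgroup S) := by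
  set f := (d.dl g).comp (Subgroup.inclusion hW)
  have h := card_mul_index f.ker
  rw [index_ker] at h
  rw [← h]
  refine Nat.mul_le_mul ?_ ?_
  · refine Nat.card_le_card_of_injective (fun x => (⟨(x.1 : S), mem_inf.2 ⟨x.1.2,
      mem_centralizer_singleton_iff.2 (d.dl_eq_one.1 x.2).symm⟩⟩ : (W ⊓ centralizer {g} : Subgroup S))) fun a b e => ?_
    exact Subtype.ext (Subtype.ext (congrArg (fun w : (W ⊓ centralizer {g} : Subgroup S) => (w : S)) e))
  · refine card_le_of_le ?_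
    rintro _ ⟨w, rfl⟩
    refine mem_inf.2 ⟨mul_mem (hinv w w.2) (inv_mem w.2), mem_centralizer_singleton_iff.2 ?_⟩
    exact (d.inv_fix hg (hW w.2)).symm

include d in
theorem exists_central_mem {N : Subgroup S} [N.Normal] (hN : Nat.card N ≠ 1) :
    ∃ z ∈ N, z ≠ 1 ∧ ∀ g : S, g * z * g⁻¹ = z :=
  FourGroup.Base.exists_central hN d.two

/-- The index bound from the decomposition along `S → S / F`. -/
theorem split (H : Subgroup S) {a b : ℕ}
    (ha : (sqSub (H.map (QuotientGroup.mk' d.F))).relIndex (H.map (QuotientGroup.mk' d.F)) ≤ a)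
    (hb : (sqSub H ⊓ d.F).relIndex (H ⊓ d.F) ≤ b) : (sqSub H).relIndex H ≤ a * b := by
  rw [relIndex_eq_mul (QuotientGroup.mk' d.F) (sqSub_le H), map_sqSub, QuotientGroup.ker_mk']
  exact Nat.mul_le_mul ha hb

theorem A_inter : Nat.card (d.E ⊓ d.A : Subgroup S) = 2 ∨ Nat.card (d.E ⊓ d.A : Subgroup S) = 4 ∨
    d.A ≤ d.E := by
  have : Fact (Nat.Prime 2) := ⟨Nat.prime_two⟩
  obtain ⟨j, hj⟩ := (d.two.to_subgroup (d.E ⊓ d.A)).exists_card_eq
  obtain ⟨z, hz, hz1, hzc⟩ := d.exists_central_mem (N := d.E) (by have := d.large; omega)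
  have hzA : z ∈ d.A := d.cent z fun a _ => mul_inv_eq_iff_eq_mul.1 (hzc a)
  have hne : 1 < Nat.card (d.E ⊓ d.A : Subgroup S) :=
    (one_lt_card_iff_ne_bot _).2 fun e => hz1 (mem_bot.1 (e ▸ mem_inf.2 ⟨hz, hzA⟩))
  have hle : Nat.card (d.E ⊓ d.A : Subgroup S) ≤ 8 := (card_le_of_le inf_le_right).trans d.cardA.le
  by_cases h8 : Nat.card (d.E ⊓ d.A : Subgroup S) = 8
  · right; right
    exact inf_eq_right.1 (eq_of_le_of_card_ge inf_le_right (by rw [h8, d.cardA]))
  rw [hj] at hne hle h8 ⊢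
  have h1 : j ≤ 3 := (Nat.pow_le_pow_iff_right (by norm_num : 1 < 2)).1 (by omega : 2 ^ j ≤ 2 ^ 3)
  interval_cases j <;> simp_all

theorem fixed_eq {s : S} (hs : s ∈ d.A) (hsE : s ∉ d.E) (h4 : Nat.card (d.E ⊓ d.A : Subgroup S) = 4) :
    d.E ⊓ centralizer {s} = d.E ⊓ d.A := by
  refine le_antisymm (fun x hx => mem_inf.2 ⟨(mem_inf.1 hx).1, d.cent x fun a ha => ?_⟩) fun x hx =>
    mem_inf.2 ⟨(mem_inf.1 hx).1, mem_centralizer_singleton_iff.2 (d.A_comm (mem_inf.1 hx).2 hs)⟩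
  have hle : (d.E ⊓ d.A) ⊔ zpowers s ≤ d.A := sup_le inf_le_right (zpowers_le.2 hs)
  have hlt : d.E ⊓ d.A < (d.E ⊓ d.A) ⊔ zpowers s :=
    left_lt_sup.2 fun h => hsE (mem_inf.1 (h (mem_zpowers s))).1
  have htop : (d.E ⊓ d.A) ⊔ zpowers s = d.A := by
    refine eq_of_le_of_card_ge hle ?_
    have h1 : Nat.card (d.E ⊓ d.A : Subgroup S) < Nat.card ((d.E ⊓ d.A) ⊔ zpowers s : Subgroup S) :=
      lt_of_le_of_ne (card_le_of_le hlt.le) fun e => hlt.ne (eq_of_le_of_card_ge hlt.le e.ge)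
    obtain ⟨k, hk⟩ := card_dvd_of_le hlt.le
    rw [d.cardA]
    rw [h4] at h1 hk
    omega
  have hle2 : (d.E ⊓ d.A) ⊔ zpowers s ≤ centralizer {x} := by
    refine sup_le (fun y hy => ?_) (zpowers_le.2 ?_)
    · exact mem_centralizer_singleton_iff.2 (d.E_comm (mem_inf.1 hy).1 (mem_inf.1 hx).1)
    · exact mem_centralizer_singleton_iff.2 (mem_centralizer_singleton_iff.1 (mem_inf.1 hx).2).symm
  exact mem_centralizer_singleton_iff.1 (hle2 (htop.symm ▸ ha))

end Setup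

end CfsgLib.TwoGroups.Harada
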