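import Cfsg.Agent.TwoGroups.HaradaBase

/-!
Tools for the index bound in 2-groups with a self-centralizing elementary abelian subgroup of order 8.
-/

set_option autoImplicit false
set_option linter.unusedSectionVars false

namespace CfsgLib.TwoGroups.Harada

open Subgroup SqIndex

universe u

variable {S : Type u} [Group S] [Finite S]

theorem card_le_eight_dvd {C A : Subgroup S} (h : C ≤ A) (h8 : Nat.card A = 8) (h4 : 4 < Nat.card C) :
    C = A := by
  refine eq_of_le_of_card_ge h ?_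
  obtain ⟨k, hk⟩ := card_dvd_of_le h
  rw [h8] at hk ⊢
  rcases Nat.lt_or_ge k 2 with hk2 | hk2
  · interval_cases k <;> simp_all
  · nlinarith

theorem card_le_half {C A : Subgroup S} (h : C < A) : 2 * Nat.card C ≤ Nat.card A := by
  obtain ⟨k, hk⟩ := card_dvd_of_le h.le
  have hne : Nat.card C ≠ Nat.card A := fun e => h.ne (eq_of_le_of_card_ge h.le e.ge)
  have : 2 ≤ k := by
    by_contra hlt
    interval_cases k
    · have := Nat.card_pos (α := A)
      omega
    · exact hne (by omega)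
  rw [hk]
  nlinarith

theorem card_le_two {C : Subgroup S} {z : S} (h : ∀ x ∈ C, x = 1 ∨ x = z) : Nat.card C ≤ 2 := by
  classical
  refine (Nat.card_le_card_of_injective (fun x : C => decide (x.1 = 1)) fun a b e => ?_).trans (by simp)
  refine Subtype.ext ?_
  by_cases ha : a.1 = 1
  · rw [ha, (decide_eq_decide.1 e).1 ha]
  · rw [(h a a.2).resolve_left ha, (h b b.2).resolve_left fun hb => ha ((decide_eq_decide.1 e).2 hb)]

theorem relIndex_map_eq_one {Q : Type*} [Group Q] [Finite Q] (f : S →* Q) {H : Subgroup S} (h : H ≤ f.ker) :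
    (sqSub (H.map f)).relIndex (H.map f) = 1 := by
  rw [relIndex_eq_one]
  intro x hx
  rw [(Subgroup.map_eq_bot_iff _).2 h, mem_bot] at hx
  rw [hx]
  exact one_mem _

theorem relIndex_sq_le_card (H : Subgroup S) : (sqSub H).relIndex H ≤ Nat.card H :=
  Nat.le_of_dvd Nat.card_pos (Dvd.intro_left _ (card_mul_relIndex (sqSub_le H)))

namespace Setup

variable (d : Setup S)

include d in
/-- Involutory action: commutators are fixed. -/
theorem inv_fix' {g : S} (hg : g * g ∈ d.F) {e : S} (he : e ∈ d.E) :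
    g * (g * e * g⁻¹ * e⁻¹) = (g * e * g⁻¹ * e⁻¹) * g := by
  have hc : g * e * g⁻¹ * e⁻¹ ∈ d.E := mul_mem (d.En.conj_mem e he g) (inv_mem he)
  have h1 : g * (g * e * g⁻¹ * e⁻¹) * g⁻¹ = (g * e * g⁻¹ * e⁻¹)⁻¹ := by
    calc g * (g * e * g⁻¹ * e⁻¹) * g⁻¹ = ((g * g) * e * (g * g)⁻¹) * (g * e⁻¹ * g⁻¹) := by group
      _ = e * (g * e⁻¹ * g⁻¹) := by rw [← d.F_comm hg he, mul_inv_cancel_right]
      _ = _ := by group
  rw [inv_eq_of_mul_eq_one_right (d.Esq _ hc)] at h1
  exact mul_inv_eq_iff_eq_mul.1 h1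

theorem card_le_sq' {g : S} (hg : g * g ∈ d.F) (W : Subgroup S) (hW : W ≤ d.E)
    (hinv : ∀ w ∈ W, g * w * g⁻¹ ∈ W) :
    Nat.card W ≤ Nat.card (W ⊓ centralizer {g} : Subgroup S) * Nat.card (W ⊓ centralizer {g} : Subgroup S) := by
  set f := (d.dl g).comp (Subgroup.inclusion hW)
  have h := card_mul_index f.ker
  rw [index_ker] at h
  rw [← h]
  refine Nat.mul_le_mul ?_ ?_
  · refine Nat.card_le_card_of_injective (fun x => (⟨(x.1 : S), mem_inf.2 ⟨x.1.2,
      mem_centralizer_singleton_iff.2 (d.dl_eq_one.1 x.2).symm⟩⟩ : (W ⊓ centralizer {g} : Subgroup S))) fun a b e => ?_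
    exact Subtype.ext (Subtype.ext (congrArg (fun w : (W ⊓ centralizer {g} : Subgroup S) => (w : S)) e))
  · refine card_le_of_le ?_
    rintro _ ⟨w, rfl⟩
    refine mem_inf.2 ⟨mul_mem (hinv w w.2) (inv_mem w.2), mem_centralizer_singleton_iff.2 ?_⟩
    exact (d.inv_fix' hg (hW w.2)).symm

/-- Elements congruent modulo `F` have the same fixed points in `E`. -/
theorem fix_congr {g f : S} (hf : f ∈ d.F) :
    d.E ⊓ centralizer {f * g} = d.E ⊓ centralizer {g} := by
  ext x
  simp only [mem_inf, mem_centralizer_singleton_iff]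
  refine and_congr_right fun hx => ⟨fun h => ?_, fun h => ?_⟩
  · rw [← mul_assoc, d.F_comm hf hx, mul_assoc, mul_assoc] at h
    exact mul_left_cancel h
  · rw [← mul_assoc, d.F_comm hf hx, mul_assoc, h, mul_assoc]

/-- The index in `E` is bounded by the fixed points of an element of `H`. -/
theorem cut {H : Subgroup S} {h : S} (hh : h ∈ H) :
    (sqSub H ⊓ d.E).relIndex (H ⊓ d.E) ≤ Nat.card (H ⊓ d.E ⊓ centralizer {h} : Subgroup S) := by
  set f := (d.dl h).comp (Subgroup.inclusion (inf_le_right : H ⊓ d.E ≤ d.E))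
  have h1 := card_mul_index f.ker
  rw [index_ker] at h1
  have h2 := card_mul_relIndex (inf_le_inf_right d.E (sqSub_le H))
  have h3 : Nat.card f.range ≤ Nat.card (sqSub H ⊓ d.E : Subgroup S) := by
    refine card_le_of_le ?_
    rintro _ ⟨w, rfl⟩
    exact mem_inf.2 ⟨commutator_mem hh (mem_inf.1 w.2).1, d.dl_mem h _⟩
  have h4 : Nat.card f.ker ≤ Nat.card (H ⊓ d.E ⊓ centralizer {h} : Subgroup S) := by
    refine Nat.card_le_card_of_injective (fun x => (⟨(x.1 : S), mem_inf.2 ⟨x.1.2,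
      mem_centralizer_singleton_iff.2 (d.dl_eq_one.1 x.2).symm⟩⟩ :
        (H ⊓ d.E ⊓ centralizer {h} : Subgroup S))) fun a b e => ?_
    exact Subtype.ext (Subtype.ext (congrArg (fun w : (H ⊓ d.E ⊓ centralizer {h} : Subgroup S) => (w : S)) e))
  refine Nat.le_of_mul_le_mul_left ?_ (Nat.card_pos (α := (sqSub H ⊓ d.E : Subgroup S)))
  rw [h2, ← h1, mul_comm (Nat.card (sqSub H ⊓ d.E : Subgroup S))]
  exact Nat.mul_le_mul h4 h3

theorem cut_le {H : Subgroup S} {h : S} (hh : h ∈ H) {n : ℕ}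
    (hn : Nat.card (d.E ⊓ centralizer {h} : Subgroup S) ≤ n) :
    (sqSub H ⊓ d.E).relIndex (H ⊓ d.E) ≤ n :=
  (d.cut hh).trans ((card_le_of_le (inf_le_inf_right _ inf_le_right)).trans hn)

/-- `H` centralizes `E` when no nontrivial element of `E` is a product of squares. -/
theorem centralize {H : Subgroup S} (hE : d.E ≤ H) (hK : sqSub H ⊓ d.E = ⊥) : H ≤ d.F := by
  intro h hh
  refine mem_centralizer_iff.2 fun e he => ?_
  have hc : d.dl h ⟨e, he⟩ ∈ sqSub H ⊓ d.E := mem_inf.2 ⟨commutator_mem hh (hE he), d.dl_mem h _⟩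
  rw [hK, mem_bot] at hc
  exact (d.dl_eq_one.1 hc).symm

/-- Either the index in `E` is at most half of its order or `H` centralizes `E`. -/
theorem half_or_centralize (H : Subgroup S) :
    2 * (sqSub H ⊓ d.E).relIndex (H ⊓ d.E) ≤ Nat.card d.E ∨ H ≤ d.F := by
  have h2 := card_mul_relIndex (inf_le_inf_right d.E (sqSub_le H))
  by_cases hE : d.E ≤ H
  · by_cases hK : sqSub H ⊓ d.E = ⊥
    · exact Or.inr (d.centralize hE hK)
    · left
      have hk : 2 ≤ Nat.card (sqSub H ⊓ d.E : Subgroup S) := (one_lt_card_iff_ne_bot _).2 hK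
      rw [inf_eq_right.2 hE] at h2 ⊢
      rw [← h2]
      exact Nat.mul_le_mul_right _ hk
  · left
    refine le_trans (Nat.mul_le_mul_left 2 ?_) (card_le_half (inf_lt_right.2 hE))
    exact Nat.le_of_dvd Nat.card_pos (Dvd.intro_left _ h2)

include d in
/-- A group acting on a four-subgroup of `E` with a fixed point has an index two kernel. -/
theorem two_orbit {C P : Subgroup S} (hP : P ≤ d.E) (h4 : Nat.card P = 4)
    (hn : ∀ x ∈ C, ∀ p ∈ P, x * p * x⁻¹ ∈ P) {z : S} (hz : z ∈ P) (hz1 : z ≠ 1)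
    (hzc : ∀ x ∈ C, x * z * x⁻¹ = z) :
    Nat.card C ≤ Nat.card (C ⊓ centralizer (P : Set S) : Subgroup S) * 2 := by
  classical
  obtain ⟨p, hp, hpz, hp1⟩ : ∃ p ∈ P, p ≠ z ∧ p ≠ 1 := by
    by_contra hno
    push Not at hno
    have := card_le_two (z := z) fun x hx => or_iff_not_imp_right.2 fun h => hno x hx h
    omega
  have hcases : ∀ x ∈ P, x = 1 ∨ x = z ∨ x = p ∨ x = z * p := by
    intro x hx
    by_contra hno
    push Not at hno
    obtain ⟨x1, xz, xp, xzp⟩ := hno
    let : Fintype P := Fintype.ofFinite _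
    have a1 : z * p ≠ 1 := fun e => hpz ((inv_eq_of_mul_eq_one_right e).symm.trans
      (inv_eq_of_mul_eq_one_right (d.Esq z (hP hz))))
    have a2 : z * p ≠ z := fun e => hp1 (mul_eq_left.1 e)
    have a3 : z * p ≠ p := fun e => hz1 (mul_eq_right.1 e)
    have h5 := Finset.card_le_univ
      ({⟨1, one_mem _⟩, ⟨z, hz⟩, ⟨p, hp⟩, ⟨z * p, mul_mem hz hp⟩, ⟨x, hx⟩} : Finset P)
    rw [Finset.card_insert_of_notMem (by simp [Subtype.ext_iff, hz1.symm, hp1.symm, a1.symm, x1.symm]),
      Finset.card_insert_of_notMem (by simp [Subtype.ext_iff, hpz.symm, a2.symm, xz.symm]),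
      Finset.card_insert_of_notMem (by simp [Subtype.ext_iff, a3.symm, xp.symm]),
      Finset.card_insert_of_notMem (by simp [Subtype.ext_iff, xzp.symm]), Finset.card_singleton,
      ← Nat.card_eq_fintype_card] at h5
    omega
  have hd : ∀ x ∈ C, x * p * x⁻¹ * p⁻¹ = 1 ∨ x * p * x⁻¹ * p⁻¹ = z := by
    intro x hx
    rcases hcases _ (hn x hx p hp) with e | e | e | e
    · exact absurd (conj_eq_one_iff.1 e) hp1
    · exact absurd (mul_left_cancel (mul_right_cancel (e.trans (hzc x hx).symm))) hpz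
    · exact Or.inl (by rw [e, mul_inv_cancel])
    · exact Or.inr (by rw [e, mul_inv_cancel_right])
  let χ : C →* S :=
    { toFun := fun x => x * p * (x : S)⁻¹ * p⁻¹
      map_one' := by simp
      map_mul' := fun x y => by
        have hy : (x : S) * (y * p * (y : S)⁻¹ * p⁻¹) * (x : S)⁻¹ = y * p * (y : S)⁻¹ * p⁻¹ := by
          rcases hd y y.2 with e | e <;> rw [e]
          · simp
          · exact hzc x x.2
        have hcomm := d.E_comm (hP (mul_mem (hn x x.2 p hp) (inv_mem hp))) (hP (mul_mem (hn y y.2 p hp) (inv_mem hp)))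
        rw [hcomm]
        calc ((x * y : C) : S) * p * ((x * y : C) : S)⁻¹ * p⁻¹
            = (x : S) * (y * p * (y : S)⁻¹ * p⁻¹) * (x : S)⁻¹ * (x * p * (x : S)⁻¹ * p⁻¹) := by
              simp only [Subgroup.coe_mul]; group
          _ = _ := by rw [hy] }
  have h1 := card_mul_index χ.ker
  rw [index_ker] at h1
  rw [← h1]
  refine Nat.mul_le_mul ?_ (card_le_two (z := z) ?_)
  · refine Nat.card_le_card_of_injective (fun x => (⟨(x.1 : S), mem_inf.2 ⟨x.1.2, ?_⟩⟩ :
      (C ⊓ centralizer (P : Set S) : Subgroup S))) fun a b e => ?_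
    · have hx : (x.1 : S) * p = p * x.1 := mul_inv_eq_iff_eq_mul.1 (mul_inv_eq_one.1 x.2)
      have hxz : (x.1 : S) * z = z * x.1 := mul_inv_eq_iff_eq_mul.1 (hzc _ x.1.2)
      refine mem_centralizer_iff.2 fun q hq => ?_
      rcases hcases q hq with e | e | e | e <;> subst e
      · rw [one_mul, mul_one]
      · exact hxz.symm
      · exact hx.symm
      · rw [mul_assoc, ← hx, ← mul_assoc, ← hxz, mul_assoc]
    · exact Subtype.ext (Subtype.ext (congrArg (fun w : (C ⊓ centralizer (P : Set S) : Subgroup S) => (w : S)) e))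
  · rintro _ ⟨x, rfl⟩
    exact hd x x.2

theorem exists_mem_A (h : ¬ d.A ≤ d.E) : ∃ s ∈ d.A, s ∉ d.E :=
  SetLike.not_le_iff_exists.1 h

/-- A second involution of `A` independent modulo `E`. -/
theorem exists_second (h2 : Nat.card (d.E ⊓ d.A : Subgroup S) = 2) (a : S) :
    ∃ b ∈ d.A, b ∉ d.E ∧ a⁻¹ * b ∉ d.E := by
  classical
  by_contra hno
  push Not at hno
  by_cases ha : ∃ b ∈ d.A, b ∉ d.E
  · obtain ⟨b0, hb0, hb0E⟩ := ha
    have key : ∀ x ∈ d.A, x ∉ d.E → b0⁻¹ * x ∈ d.E := fun x hx hxE => by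
      have := mul_mem (inv_mem (hno b0 hb0 hb0E)) (hno x hx hxE)
      rwa [show (a⁻¹ * b0)⁻¹ * (a⁻¹ * x) = b0⁻¹ * x by group] at this
    have hle : Nat.card d.A ≤ Nat.card ((d.E ⊓ d.A : Subgroup S) × Bool) := by
      refine Nat.card_le_card_of_injective (fun x =>
        if hx : x.1 ∈ d.E then (⟨x.1, mem_inf.2 ⟨hx, x.2⟩⟩, true)
        else (⟨b0⁻¹ * x.1, mem_inf.2 ⟨key _ x.2 hx, mul_mem (inv_mem hb0) x.2⟩⟩, false)) fun x y e => ?_
      dsimp only at e
      refine Subtype.ext ?_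
      by_cases hx : x.1 ∈ d.E <;> by_cases hy : y.1 ∈ d.E
      · rw [dif_pos hx, dif_pos hy] at e
        exact congrArg (fun w : (d.E ⊓ d.A : Subgroup S) => (w : S)) (Prod.mk.inj e).1
      · rw [dif_pos hx, dif_neg hy] at e
        exact Bool.noConfusion (Prod.mk.inj e).2
      · rw [dif_neg hx, dif_pos hy] at e
        exact Bool.noConfusion (Prod.mk.inj e).2
      · rw [dif_neg hx, dif_neg hy] at e
        exact mul_left_cancel (congrArg (fun w : (d.E ⊓ d.A : Subgroup S) => (w : S)) (Prod.mk.inj e).1)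
    rw [d.cardA, Nat.card_prod, h2, Nat.card_eq_fintype_card (α := Bool), Fintype.card_bool] at hle
    omega
  · push Not at ha
    rw [inf_eq_right.2 (show d.A ≤ d.E from ha), d.cardA] at h2
    omega

/-- The common fixed points of two independent elements of `A`. -/
theorem fix_pair (h2 : Nat.card (d.E ⊓ d.A : Subgroup S) = 2) {a b : S} (ha : a ∈ d.A) (hb : b ∈ d.A)
    (haE : a ∉ d.E) (hbE : b ∉ d.E) (hab : a⁻¹ * b ∉ d.E) {x : S} (hx : x ∈ d.E) (xa : a * x = x * a)
    (xb : b * x = x * b) : x ∈ d.A := by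
  classical
  obtain ⟨z, hzP, hz1⟩ : ∃ z ∈ d.E ⊓ d.A, z ≠ 1 := by
    by_contra hno
    push Not at hno
    rw [(eq_bot_iff_forall _).2 hno, card_bot] at h2
    omega
  obtain ⟨hzE, hzA⟩ := mem_inf.1 hzP
  have ha' : a⁻¹ = a := inv_eq_of_mul_eq_one_right (d.hA a ha)
  rw [ha'] at hab
  set T := d.A ⊓ centralizer {x}
  have hT : 4 < Nat.card T := by
    let : Fintype T := Fintype.ofFinite _
    have m1 : (a : S) ∈ T := mem_inf.2 ⟨ha, mem_centralizer_singleton_iff.2 xa⟩
    have m2 : (b : S) ∈ T := mem_inf.2 ⟨hb, mem_centralizer_singleton_iff.2 xb⟩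
    have m3 : z ∈ T := mem_inf.2 ⟨hzA, mem_centralizer_singleton_iff.2 (d.E_comm hzE hx)⟩
    have h5 := Finset.card_le_univ
      ({⟨1, one_mem _⟩, ⟨z, m3⟩, ⟨a, m1⟩, ⟨b, m2⟩, ⟨a * b, mul_mem m1 m2⟩} : Finset T)
    have a1 : a ≠ 1 := fun e => haE (e ▸ one_mem _)
    have b1 : b ≠ 1 := fun e => hbE (e ▸ one_mem _)
    have ab1 : a * b ≠ 1 := fun e => hab (e ▸ one_mem _)
    have za : z ≠ a := fun e => haE (e ▸ hzE)
    have zb : z ≠ b := fun e => hbE (e ▸ hzE)
    have zab : z ≠ a * b := fun e => hab (e ▸ hzE)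
    have ab : a ≠ b := fun e => ab1 (by rw [← e]; exact d.hA a ha)
    have aab : a ≠ a * b := fun e => b1 (mul_eq_left.1 e.symm)
    have bab : b ≠ a * b := fun e => a1 (mul_eq_right.1 e.symm)
    rw [Finset.card_insert_of_notMem (by simp [Subtype.ext_iff, hz1.symm, a1.symm, b1.symm, ab1.symm]),
      Finset.card_insert_of_notMem (by simp [Subtype.ext_iff, za, zb, zab]),
      Finset.card_insert_of_notMem (by simp [Subtype.ext_iff, ab, aab]),
      Finset.card_insert_of_notMem (by simp [Subtype.ext_iff, bab]), Finset.card_singleton,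
      ← Nat.card_eq_fintype_card] at h5
    omega
  have hTA := card_le_eight_dvd inf_le_left d.cardA hT
  exact d.cent x fun c hc => mem_centralizer_singleton_iff.1 (mem_inf.1 ((le_of_eq hTA.symm) hc)).2

/-- With `|E ∩ A| = 2` the fixed points of an element of `A` outside `E` have order at most 4. -/
theorem card_fix_le_two (h2 : Nat.card (d.E ⊓ d.A : Subgroup S) = 2) {a : S} (ha : a ∈ d.A) (haE : a ∉ d.E) :
    Nat.card (d.E ⊓ centralizer {a} : Subgroup S) ≤ 4 := by
  obtain ⟨b, hb, hbE, hab⟩ := d.exists_second h2 a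
  refine (d.card_le_sq (d.hA b hb) _ inf_le_left ?_).trans ?_
  · intro w hw
    refine mem_inf.2 ⟨d.En.conj_mem w (mem_inf.1 hw).1 b, mem_centralizer_singleton_iff.2 ?_⟩
    have e := mem_centralizer_singleton_iff.1 (mem_inf.1 hw).2
    have hba := d.A_comm hb ha
    calc b * w * b⁻¹ * a = b * (w * a) * b⁻¹ := by
          have : b⁻¹ * a = a * b⁻¹ := (Commute.inv_left hba).eq
          rw [mul_assoc, this]; group
      _ = b * (a * w) * b⁻¹ := by rw [e]
      _ = a * (b * w * b⁻¹) := by rw [← mul_assoc, hba]; group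
  · have hle : Nat.card (d.E ⊓ centralizer {a} ⊓ centralizer {b} : Subgroup S) ≤ 2 := by
      refine (card_le_of_le (K := d.E ⊓ d.A) ?_).trans h2.le
      intro x hx
      obtain ⟨hx1, hxb⟩ := mem_inf.1 hx
      obtain ⟨hxE, hxa⟩ := mem_inf.1 hx1
      exact mem_inf.2 ⟨hxE, d.fix_pair h2 ha hb haE hbE hab hxE
        (mem_centralizer_singleton_iff.1 hxa).symm (mem_centralizer_singleton_iff.1 hxb).symm⟩
    exact Nat.mul_le_mul hle hle

/-- No element of `F` outside `E` commutes with an element of `A` and modulo `E` with a second one. -/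
theorem no_commuting (h2 : Nat.card (d.E ⊓ d.A : Subgroup S) = 2)
    (h3 : ∀ a ∈ d.A, a ∉ d.E → 2 < Nat.card (d.E ⊓ centralizer {a} : Subgroup S))
    {s u y : S} (hs : s ∈ d.A) (hu : u ∈ d.A) (hsE : s ∉ d.E) (huE : u ∉ d.E) (hsu : s⁻¹ * u ∉ d.E)
    (hy : y ∈ d.F) (sy : s * y = y * s) (hc : u * y * u⁻¹ * y⁻¹ ∈ d.E) : y ∈ d.E := by
  have hus := d.A_comm hu hs
  have hfix : ∀ x ∈ d.E, s * x = x * s → u * x = x * u → x ∈ d.A := fun x hx =>
    d.fix_pair h2 hs hu hsE huE hsu hx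
  obtain ⟨z, hzP, hz1⟩ : ∃ z ∈ d.E ⊓ d.A, z ≠ 1 := by
    by_contra hno
    push Not at hno
    rw [(eq_bot_iff_forall _).2 hno, card_bot] at h2
    omega
  have hP : ∀ x ∈ d.E ⊓ d.A, x = 1 ∨ x = z := by
    classical
    intro x hx
    by_contra hno
    push Not at hno
    let : Fintype (d.E ⊓ d.A : Subgroup S) := Fintype.ofFinite _
    have h := Finset.card_le_univ ({⟨1, one_mem _⟩, ⟨z, hzP⟩, ⟨x, hx⟩} : Finset (d.E ⊓ d.A : Subgroup S))
    rw [Finset.card_insert_of_notMem (by simp [Subtype.ext_iff, hz1.symm, hno.1.symm]),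
      Finset.card_insert_of_notMem (by simp [Subtype.ext_iff, hno.2.symm]), Finset.card_singleton,
      ← Nat.card_eq_fintype_card] at h
    omega
  obtain ⟨w, hw, hwu⟩ : ∃ w ∈ d.E ⊓ centralizer {s}, u * w ≠ w * u := by
    by_contra hno
    push Not at hno
    refine absurd (card_le_of_le (K := d.E ⊓ d.A) fun x hx => mem_inf.2 ⟨(mem_inf.1 hx).1,
      hfix x (mem_inf.1 hx).1 (mem_centralizer_singleton_iff.1 (mem_inf.1 hx).2).symm (hno x hx)⟩) ?_
    rw [h2]
    exact Nat.not_le.2 (h3 s hs hsE)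
  obtain ⟨hwE, hws⟩ := mem_inf.1 hw
  have sw : s * w = w * s := (mem_centralizer_singleton_iff.1 hws).symm
  have hdw : u * w * u⁻¹ * w⁻¹ = z := by
    have hm : u * w * u⁻¹ * w⁻¹ ∈ d.E := mul_mem (d.En.conj_mem w hwE u) (inv_mem hwE)
    have hcs : Commute s (u * w * u⁻¹ * w⁻¹) :=
      (((Commute.mul_right (hus.symm : Commute s u) (sw : Commute s w)).mul_right
        (Commute.inv_right (hus.symm : Commute s u))).mul_right (Commute.inv_right (sw : Commute s w)))
    refine (hP _ (mem_inf.2 ⟨hm, hfix _ hm hcs.eq (d.inv_fix (d.hA u hu) hwE)⟩)).resolve_left fun e => hwu ?_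
    exact mul_inv_eq_iff_eq_mul.1 (mul_inv_eq_one.1 e)
  have key : ∀ y' ∈ d.F, s * y' = y' * s → u * y' = y' * u → y' ∈ d.E := by
    intro y' hy' sy' uy'
    have hA : y' ∈ d.A := d.cent y' fun a ha => by
      have hle : d.A ≤ centralizer {y'} := by
        intro c hc
        classical
        have hT : 4 < Nat.card (d.A ⊓ centralizer {y'} : Subgroup S) := by
          let : Fintype (d.A ⊓ centralizer {y'} : Subgroup S) := Fintype.ofFinite _
          have m1 : s ∈ d.A ⊓ centralizer {y'} := mem_inf.2 ⟨hs, mem_centralizer_singleton_iff.2 sy'⟩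
          have m2 : u ∈ d.A ⊓ centralizer {y'} := mem_inf.2 ⟨hu, mem_centralizer_singleton_iff.2 uy'⟩
          have m3 : z ∈ d.A ⊓ centralizer {y'} := mem_inf.2 ⟨(mem_inf.1 hzP).2,
            mem_centralizer_singleton_iff.2 (d.F_comm hy' (mem_inf.1 hzP).1)⟩
          have hs' : s⁻¹ = s := inv_eq_of_mul_eq_one_right (d.hA s hs)
          rw [hs'] at hsu
          have a1 : s ≠ 1 := fun e => hsE (e ▸ one_mem _)
          have b1 : u ≠ 1 := fun e => huE (e ▸ one_mem _)
          have ab1 : s * u ≠ 1 := fun e => hsu (e ▸ one_mem _)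
          have za : z ≠ s := fun e => hsE (e ▸ (mem_inf.1 hzP).1)
          have zb : z ≠ u := fun e => huE (e ▸ (mem_inf.1 hzP).1)
          have zab : z ≠ s * u := fun e => hsu (e ▸ (mem_inf.1 hzP).1)
          have ab : s ≠ u := fun e => ab1 (by rw [← e]; exact d.hA s hs)
          have aab : s ≠ s * u := fun e => b1 (mul_eq_left.1 e.symm)
          have bab : u ≠ s * u := fun e => a1 (mul_eq_right.1 e.symm)
          have h5 := Finset.card_le_univ ({⟨1, one_mem _⟩, ⟨z, m3⟩, ⟨s, m1⟩, ⟨u, m2⟩, ⟨s * u, mul_mem m1 m2⟩} :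
            Finset (d.A ⊓ centralizer {y'} : Subgroup S))
          rw [Finset.card_insert_of_notMem (by simp [Subtype.ext_iff, hz1.symm, a1.symm, b1.symm, ab1.symm]),
            Finset.card_insert_of_notMem (by simp [Subtype.ext_iff, za, zb, zab]),
            Finset.card_insert_of_notMem (by simp [Subtype.ext_iff, ab, aab]),
            Finset.card_insert_of_notMem (by simp [Subtype.ext_iff, bab]), Finset.card_singleton,
            ← Nat.card_eq_fintype_card] at h5
          omega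
        exact (mem_inf.1 ((le_of_eq (card_le_eight_dvd inf_le_left d.cardA hT).symm) hc)).2
      exact mem_centralizer_singleton_iff.1 (hle ha)
    by_contra hE
    have := d.card_fix_le_two h2 hA hE
    have hEle : d.E ⊓ centralizer {y'} = d.E :=
      inf_eq_left.2 fun e he => mem_centralizer_singleton_iff.2 (d.F_comm hy' he)
    rw [hEle] at this
    have := d.large
    omega
  have hcs : Commute s (u * y * u⁻¹ * y⁻¹) :=
    (((Commute.mul_right (hus.symm : Commute s u) (sy : Commute s y)).mul_right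
      (Commute.inv_right (hus.symm : Commute s u))).mul_right (Commute.inv_right (sy : Commute s y)))
  have hcu : u * (u * y * u⁻¹ * y⁻¹) = (u * y * u⁻¹ * y⁻¹) * u := by
    have hui : u⁻¹ = u := inv_eq_of_mul_eq_one_right (d.hA u hu)
    have h1 : u * (u * y * u⁻¹ * y⁻¹) * u⁻¹ = (u * y * u⁻¹ * y⁻¹)⁻¹ := by
      calc u * (u * y * u⁻¹ * y⁻¹) * u⁻¹ = (u * u) * y * u⁻¹ * y⁻¹ * u⁻¹ := by group
        _ = y * u * y⁻¹ * u⁻¹ := by rw [d.hA u hu, hui, one_mul]
        _ = _ := by group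
    rw [inv_eq_of_mul_eq_one_right (d.Esq _ hc)] at h1
    exact mul_inv_eq_iff_eq_mul.1 h1
  rcases hP _ (mem_inf.2 ⟨hc, hfix _ hc hcs.eq hcu⟩) with e | e
  · exact key y hy sy (mul_inv_eq_iff_eq_mul.1 (mul_inv_eq_one.1 e))
  · have hyw : y * w ∈ d.E := by
      refine key _ (mul_mem hy (d.E_le_F hwE)) (Commute.mul_right (sy : Commute s y) sw).eq ?_
      refine mul_inv_eq_iff_eq_mul.1 ?_
      have h1 : u * y * u⁻¹ = z * y := mul_inv_eq_iff_eq_mul.1 e
      have h2' : u * w * u⁻¹ = z * w := mul_inv_eq_iff_eq_mul.1 hdw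
      rw [← conj_mul, h1, h2', mul_assoc, ← mul_assoc y, ← d.F_comm hy (mem_inf.1 hzP).1, mul_assoc z y,
        ← mul_assoc z z, d.Esq z (mem_inf.1 hzP).1, one_mul]
    simpa using mul_mem hyw (inv_mem hwE)

end Setup

end CfsgLib.TwoGroups.Harada
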