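import Cfsg.Agent.TwoGroups.HaradaFlag
import Cfsg.Agent.TwoGroups.HaradaTools

/-!
A normal elementary abelian subgroup of order 8 meeting `A` in a subgroup of order 2.
-/

set_option autoImplicit false
set_option linter.unusedSectionVars false

namespace CfsgLib.TwoGroups.Harada

open Subgroup SqIndex

universe u

variable {S : Type u} [Group S] [Finite S]

theorem eq_of_card_le_two {C : Subgroup S} (h : Nat.card C ≤ 2) {x y : S} (hx : x ∈ C) (hy : y ∈ C)
    (hx1 : x ≠ 1) (hy1 : y ≠ 1) : x = y := by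
  classical
  by_contra hxy
  let : Fintype C := Fintype.ofFinite _
  have h3 := Finset.card_le_univ ({⟨1, one_mem _⟩, ⟨x, hx⟩, ⟨y, hy⟩} : Finset C)
  rw [Finset.card_insert_of_notMem (by simp [Subtype.ext_iff, hx1.symm, hy1.symm]),
    Finset.card_insert_of_notMem (by simp [Subtype.ext_iff, hxy]), Finset.card_singleton,
    ← Nat.card_eq_fintype_card] at h3
  omega

namespace Setup

variable (d : Setup S)

include d in
/-- In a subgroup of `F` containing `E` with index 2 the squares of outer elements agree. -/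
theorem sq_eq_of_coset {x : S} (hx : x ∈ d.F) {v : S} (hv : x⁻¹ * v ∈ d.E) : v * v = x * x := by
  obtain ⟨e, he, rfl⟩ : ∃ e ∈ d.E, v = x * e := ⟨_, hv, (mul_inv_cancel_left _ _).symm⟩
  rw [← mul_assoc, mul_assoc x e x, d.F_comm hx he, ← mul_assoc, mul_assoc (x * x), d.Esq e he, mul_one]

/-- An element of `F` outside `E` which is central of order 2 modulo `E`. -/
theorem exists_central_mod (hF : ¬ d.F ≤ d.E) :
    ∃ x ∈ d.F, x ∉ d.E ∧ x * x ∈ d.E ∧ ∀ g : S, g * x * g⁻¹ * x⁻¹ ∈ d.E := by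
  have : Fact (Nat.Prime 2) := ⟨Nat.prime_two⟩
  have hne : Nat.card (d.F.map (QuotientGroup.mk' d.E)) ≠ 1 := by
    intro e
    refine hF ?_
    have hbot : d.F.map (QuotientGroup.mk' d.E) = ⊥ := eq_bot_of_card_le _ e.le
    rwa [Subgroup.map_eq_bot_iff, QuotientGroup.ker_mk'] at hbot
  have : (d.F.map (QuotientGroup.mk' d.E)).Normal :=
    (Setup.normal_F d).map _ (QuotientGroup.mk'_surjective _)
  obtain ⟨q, hq, hq1, hqc⟩ :=
    FourGroup.Base.exists_central (S := d.F.map (QuotientGroup.mk' d.E)) hne (d.two.to_quotient _)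
  set C := d.F.map (QuotientGroup.mk' d.E) ⊓ center (S ⧸ d.E)
  have hqC : q ∈ C := mem_inf.2 ⟨hq, mem_center_iff.2 fun g => mul_inv_eq_iff_eq_mul.1 (hqc g)⟩
  obtain ⟨⟨r, hr⟩, hr2⟩ := exists_prime_orderOf_dvd_card' 2
    (((d.two.to_quotient d.E).to_subgroup C).card_eq_or_dvd.resolve_left
      fun e => hq1 (mem_bot.1 (eq_bot_of_card_le C e.le ▸ hqC)))
  rw [orderOf_mk] at hr2
  obtain ⟨⟨x, hx, rfl⟩, hxc⟩ := mem_inf.1 hr
  refine ⟨x, hx, fun h => ?_, ?_, fun g => ?_⟩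
  · rw [QuotientGroup.mk'_apply, (QuotientGroup.eq_one_iff x).2 h, orderOf_one] at hr2
    omega
  · refine (QuotientGroup.eq_one_iff _).1 ?_
    rw [QuotientGroup.mk_mul, ← pow_two, ← hr2, QuotientGroup.mk'_apply, pow_orderOf_eq_one]
  · refine (QuotientGroup.eq_one_iff _).1 ?_
    have hg := mem_center_iff.1 hxc (g : S ⧸ d.E)
    rw [QuotientGroup.mk'_apply] at hg
    rw [QuotientGroup.mk_mul, QuotientGroup.mk_mul, QuotientGroup.mk_mul, QuotientGroup.mk_inv,
      QuotientGroup.mk_inv, hg, mul_inv_cancel_right, mul_inv_cancel]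

/-- The bound when `|E| = 8` and `|E ∩ A| = 2`. -/
theorem bound_eight_two (h8 : Nat.card d.E = 8) (h2 : Nat.card (d.E ⊓ d.A : Subgroup S) = 2)
    (hmax : ∀ N : Subgroup S, N.Normal → (∀ x ∈ N, x * x = 1) → Nat.card N ≤ 8) (H : Subgroup S) :
    (sqSub H).relIndex H ≤ 16 := by
  classical
  obtain ⟨z, hzE, hz1, hzc⟩ := d.exists_central_mem (N := d.E) (by omega)
  have hzA : z ∈ d.A := d.cent z fun a _ => mul_inv_eq_iff_eq_mul.1 (hzc a)
  have hzP : z ∈ d.E ⊓ d.A := mem_inf.2 ⟨hzE, hzA⟩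
  have hP : ∀ v ∈ d.E, v ∈ d.A → v = 1 ∨ v = z := fun v hv hvA =>
    or_iff_not_imp_left.2 fun h1 => eq_of_card_le_two h2.le (mem_inf.2 ⟨hv, hvA⟩) hzP h1 hz1
  have hW : ∀ a ∈ d.A, a ∉ d.E → 2 < Nat.card (d.E ⊓ centralizer {a} : Subgroup S) := by
    intro a ha haE
    have h := d.card_le_sq (d.hA a ha) d.E le_rfl fun w hw => d.En.conj_mem w hw a
    by_contra hlt
    push Not at hlt
    have := Nat.mul_le_mul hlt hlt
    omega
  have hdl : ∀ a ∈ d.A, ∀ e ∈ d.E, a * e * a⁻¹ * e⁻¹ = 1 ∨ a * e * a⁻¹ * e⁻¹ = z := by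
    intro a ha e he
    refine or_iff_not_imp_left.2 fun h1 => ?_
    have haE : a ∉ d.E := fun h => h1 (by rw [d.E_comm h he, mul_inv_cancel_right, mul_inv_cancel])
    obtain ⟨b, hb, hbE, hab⟩ := d.exists_second h2 a
    have hker : 3 ≤ Nat.card (d.dl a).ker := by
      refine (hW a ha haE).trans_le (Nat.card_le_card_of_injective (fun y => (⟨⟨y.1, (mem_inf.1 y.2).1⟩,
        d.dl_eq_one.2 (mem_centralizer_singleton_iff.1 (mem_inf.1 y.2).2).symm⟩ : (d.dl a).ker)) fun y y' e' =>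
          Subtype.ext (congrArg (fun w : (d.dl a).ker => ((w : d.E) : S)) e'))
    have hrange : Nat.card (d.dl a).range ≤ 2 := by
      have h := card_mul_index (d.dl a).ker
      rw [index_ker, h8] at h
      by_contra hlt
      push Not at hlt
      have := Nat.mul_le_mul hker hlt
      omega
    set c := a * e * a⁻¹ * e⁻¹ with hc
    have hcE : c ∈ d.E := mul_mem (d.En.conj_mem e he a) (inv_mem he)
    have hac : a * c = c * a := d.inv_fix (d.hA a ha) he
    have hbc : b * c * b⁻¹ = c := by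
      refine eq_of_card_le_two hrange ⟨⟨b * e * b⁻¹, d.En.conj_mem e he b⟩, ?_⟩ ⟨⟨e, he⟩, rfl⟩ ?_ h1
      · rw [d.dl_apply, hc]
        have hba : b * a = a * b := d.A_comm hb ha
        calc a * (b * e * b⁻¹) * a⁻¹ * (b * e * b⁻¹)⁻¹ = (a * b) * e * (a * b)⁻¹ * b * e⁻¹ * b⁻¹ := by group
          _ = (b * a) * e * (b * a)⁻¹ * b * e⁻¹ * b⁻¹ := by rw [hba]
          _ = _ := by group
      · intro h
        exact h1 (conj_eq_one_iff.1 h)
    exact (hP c hcE (d.fix_pair h2 ha hb haE hbE hab hcE hac (mul_inv_eq_iff_eq_mul.1 hbc))).resolve_left h1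
  have hmove : ∀ a ∈ d.A, a ∉ d.E → ∃ w ∈ d.E, a * w * a⁻¹ * w⁻¹ = z := by
    intro a ha haE
    by_contra hno
    push Not at hno
    have hle : d.E ≤ d.E ⊓ centralizer {a} := fun w hw => mem_inf.2 ⟨hw, mem_centralizer_singleton_iff.2
      (mul_inv_eq_iff_eq_mul.1 (mul_inv_eq_one.1 ((hdl a ha w hw).resolve_right (hno w hw)))).symm⟩
    have := card_le_of_le hle
    have := d.card_fix_le_two h2 ha haE
    omega
  obtain ⟨s, hs, hsE, -⟩ := d.exists_second h2 1
  obtain ⟨u, hu, huE, hsu⟩ := d.exists_second h2 s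
  have hsu' : s * u ∉ d.E := by rwa [inv_eq_of_mul_eq_one_right (d.hA s hs)] at hsu
  -- two points moved by exactly one of `s`, `u`
  have hpick : ∀ a ∈ d.A, a ∉ d.E → ∀ b ∈ d.A, b ∉ d.E → a⁻¹ * b ∉ d.E →
      ∃ p ∈ d.E, a * p = p * a ∧ b * p * b⁻¹ * p⁻¹ = z := by
    intro a ha haE b hb hbE hab
    by_contra hno
    push Not at hno
    have hle := card_le_two (C := d.E ⊓ centralizer {a}) (z := z) fun v hv => by
      obtain ⟨hvE, hva⟩ := mem_inf.1 hv
      have va := (mem_centralizer_singleton_iff.1 hva).symm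
      exact hP v hvE (d.fix_pair h2 ha hb haE hbE hab hvE va
        (mul_inv_eq_iff_eq_mul.1 (mul_inv_eq_one.1 ((hdl b hb v hvE).resolve_right (hno v hvE va)))))
    have := hW a ha haE
    omega
  obtain ⟨p, hp, up, sp⟩ := hpick u hu huE s hs hsE fun h => hsu (by simpa using inv_mem h)
  obtain ⟨q, hq, sq, uq⟩ := hpick s hs hsE u hu huE hsu
  have hp1 : p ≠ 1 := fun e => hz1 (by rw [← sp, e]; simp)
  have hpz : p ≠ z := fun e => hz1 (by rw [← sp, e, hzc, mul_inv_cancel])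
  have hq' : q ∉ d.four hzE hp := by
    intro h
    have huz : u * z = z * u := mul_inv_eq_iff_eq_mul.1 (hzc u)
    have : u * q = q * u := by
      rcases (d.mem_four hzE hp).1 h with e | e | e | e <;> rw [e]
      · rw [mul_one, one_mul]
      · exact huz
      · exact up
      · exact (Commute.mul_right (huz : Commute u z) up).eq
    exact hz1 (by rw [← uq, this, mul_inv_cancel_right, mul_inv_cancel])
  -- the structure of `F`
  have hxa : ∀ x ∈ d.F, x ∉ d.E → (∀ g : S, g * x * g⁻¹ * x⁻¹ ∈ d.E) → ∀ a ∈ d.A, a ∉ d.E →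
      a * x * a⁻¹ * x⁻¹ ≠ 1 ∧ a * x * a⁻¹ * x⁻¹ ≠ z := by
    intro x hx hxE hxc a ha haE
    obtain ⟨b, hb, hbE, hab⟩ := d.exists_second h2 a
    refine ⟨fun h => hxE (d.no_commuting h2 hW ha hb haE hbE hab hx
      (mul_inv_eq_iff_eq_mul.1 (mul_inv_eq_one.1 h)) (hxc b)), fun h => ?_⟩
    obtain ⟨w, hw, haw⟩ := hmove a ha haE
    have hcom : a * (x * w) * a⁻¹ = x * w := by
      rw [← conj_mul, mul_inv_eq_iff_eq_mul.1 h, mul_inv_eq_iff_eq_mul.1 haw]
      calc z * x * (z * w) = z * (x * z) * w := by group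
        _ = x * w := by rw [← d.F_comm hx hzE, ← mul_assoc, d.Esq z hzE, one_mul]
    have hmem := d.no_commuting h2 hW ha hb haE hbE hab (mul_mem hx (d.E_le_F hw))
      (mul_inv_eq_iff_eq_mul.1 hcom) ?_
    · exact hxE (by simpa using mul_mem hmem (inv_mem hw))
    · rw [show b * (x * w) * b⁻¹ * (x * w)⁻¹ = (b * x * b⁻¹ * x⁻¹) * (x * (b * w * b⁻¹ * w⁻¹) * x⁻¹) by group]
      exact mul_mem (hxc b) (d.En.conj_mem _ (mul_mem (d.En.conj_mem w hw b) (inv_mem hw)) x)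
  have hFx : ¬ d.F ≤ d.E → ∃ x ∈ d.F, x * x = z ∧ (∀ g : S, g * x * g⁻¹ * x⁻¹ ∈ d.E) ∧ x ∉ d.E ∧
      ∀ y ∈ d.F, y ∈ d.E ∨ x⁻¹ * y ∈ d.E := by
    intro hF
    obtain ⟨x, hx, hxE, hx2, hxc⟩ := d.exists_central_mod hF
    have hxfix : ∀ g : S, g * (x * x) * g⁻¹ = x * x := fun g => by
      rw [← conj_mul]
      refine d.sq_eq_of_coset hx ?_
      have h := d.En.conj_mem _ (hxc g) x⁻¹
      rwa [show x⁻¹ * (g * x * g⁻¹ * x⁻¹) * x⁻¹⁻¹ = x⁻¹ * (g * x * g⁻¹) by group] at h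
    let X : Subgroup S :=
      { carrier := {y | y ∈ d.E ∨ x⁻¹ * y ∈ d.E}
        one_mem' := Or.inl (one_mem _)
        mul_mem' := fun {a c} (ha : a ∈ d.E ∨ x⁻¹ * a ∈ d.E) (hc : c ∈ d.E ∨ x⁻¹ * c ∈ d.E) => by
          rcases ha with ha | ha <;> rcases hc with hc | hc
          · exact Or.inl (mul_mem ha hc)
          · right
            rw [show x⁻¹ * (a * c) = x⁻¹ * a * x * (x⁻¹ * c) by group]
            exact mul_mem (by simpa using d.En.conj_mem a ha x⁻¹) hc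
          · right; rw [← mul_assoc]; exact mul_mem ha hc
          · left
            rw [show a * c = x * (x⁻¹ * a) * x⁻¹ * (x * x) * (x⁻¹ * c) by group]
            exact mul_mem (mul_mem (d.En.conj_mem _ ha x) hx2) hc
        inv_mem' := fun {a} (ha : a ∈ d.E ∨ x⁻¹ * a ∈ d.E) => by
          rcases ha with ha | ha
          · exact Or.inl (inv_mem ha)
          · right
            rw [show x⁻¹ * a⁻¹ = x⁻¹ * (x⁻¹ * a)⁻¹ * x * (x * x)⁻¹ by group]
            exact mul_mem (by simpa using d.En.conj_mem _ (inv_mem ha) x⁻¹) (inv_mem hx2) }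
    have hxx : x * x = z := by
      refine (hP _ hx2 (d.cent _ fun a _ => mul_inv_eq_iff_eq_mul.1 (hxfix a))).resolve_left fun h1 => ?_
      have hsq : ∀ v ∈ X, v * v = 1 := by
        rintro v (hv | hv)
        · exact d.Esq v hv
        · rw [d.sq_eq_of_coset hx hv, h1]
      have hXn : X.Normal := ⟨fun v hv g => by
        rcases hv with hv | hv
        · exact Or.inl (d.En.conj_mem v hv g)
        · right
          rw [show x⁻¹ * (g * v * g⁻¹) = x⁻¹ * (g * x * g⁻¹ * x⁻¹) * x * (g * (x⁻¹ * v) * g⁻¹) by group]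
          exact mul_mem (by simpa using d.En.conj_mem _ (hxc g) x⁻¹) (d.En.conj_mem _ hv g)⟩
      have hle : d.E < X := lt_of_le_of_ne (fun v hv => Or.inl hv) fun e => hxE
        ((le_of_eq e.symm) (Or.inr (by simp)))
      have := card_le_half hle
      have := hmax X hXn hsq
      omega
    refine ⟨x, hx, hxx, hxc, hxE, ?_⟩
    by_contra hno
    push Not at hno
    obtain ⟨y0, hy0, hy0E, hy0x⟩ := hno
    have hXn : X.Normal := ⟨fun v hv g => by
      rcases hv with hv | hv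
      · exact Or.inl (d.En.conj_mem v hv g)
      · right
        rw [show x⁻¹ * (g * v * g⁻¹) = x⁻¹ * (g * x * g⁻¹ * x⁻¹) * x * (g * (x⁻¹ * v) * g⁻¹) by group]
        exact mul_mem (by simpa using d.En.conj_mem _ (hxc g) x⁻¹) (d.En.conj_mem _ hv g)⟩
    have : (d.F.map (QuotientGroup.mk' X)).Normal :=
      (Setup.normal_F d).map _ (QuotientGroup.mk'_surjective _)
    have hne : Nat.card (d.F.map (QuotientGroup.mk' X)) ≠ 1 := by
      intro e
      have hbot : d.F.map (QuotientGroup.mk' X) = ⊥ := eq_bot_of_card_le _ e.le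
      rw [Subgroup.map_eq_bot_iff, QuotientGroup.ker_mk'] at hbot
      rcases hbot hy0 with h | h
      exacts [hy0E h, hy0x h]
    obtain ⟨_, ⟨y, hy, rfl⟩, hy1, hyc⟩ :=
      FourGroup.Base.exists_central (S := d.F.map (QuotientGroup.mk' X)) hne (d.two.to_quotient _)
    have hyX : y ∉ X := fun h => hy1 ((QuotientGroup.eq_one_iff y).2 h)
    have hc : ∀ g : S, g * y * g⁻¹ * y⁻¹ ∈ X := fun g => (QuotientGroup.eq_one_iff _).1 (by
      have := hyc (g : S ⧸ X)
      rw [QuotientGroup.mk'_apply] at this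
      rw [QuotientGroup.mk_mul, QuotientGroup.mk_mul, QuotientGroup.mk_mul, QuotientGroup.mk_inv,
        QuotientGroup.mk_inv, this, mul_inv_cancel])
    obtain ⟨σ, hσ, hσE, hσy⟩ : ∃ σ ∈ d.A, σ ∉ d.E ∧ σ * y * σ⁻¹ * y⁻¹ ∈ d.E := by
      rcases hc s with h | h
      · exact ⟨s, hs, hsE, h⟩
      rcases hc u with h' | h'
      · exact ⟨u, hu, huE, h'⟩
      refine ⟨s * u, mul_mem hs hu, hsu', ?_⟩
      obtain ⟨e, he, hse⟩ : ∃ e ∈ d.E, s * y * s⁻¹ * y⁻¹ = x * e := ⟨_, h, (mul_inv_cancel_left _ _).symm⟩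
      obtain ⟨f, hf, huf⟩ : ∃ f ∈ d.E, u * y * u⁻¹ * y⁻¹ = x * f := ⟨_, h', (mul_inv_cancel_left _ _).symm⟩
      rw [show (s * u) * y * (s * u)⁻¹ * y⁻¹ = s * (u * y * u⁻¹ * y⁻¹) * s⁻¹ * (s * y * s⁻¹ * y⁻¹) by group,
        hse, huf, show s * (x * f) * s⁻¹ * (x * e) =
          (s * x * s⁻¹ * x⁻¹) * (x * (s * f * s⁻¹) * x⁻¹) * (x * x) * e by group]
      exact mul_mem (mul_mem (mul_mem (hxc s) (d.En.conj_mem _ (d.En.conj_mem f hf s) x)) hx2) he
    obtain ⟨τ, hτ, hτE, hστ⟩ := d.exists_second h2 σ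
    obtain ⟨hx1, hxz⟩ := hxa x hx hxE hxc σ hσ hσE
    set δ := σ * x * σ⁻¹ * x⁻¹ with hδ
    have hfixσ : ∀ y : S, σ * y * σ⁻¹ * y⁻¹ ∈ d.E → σ * y * σ⁻¹ * y⁻¹ ∈ d.E ⊓ centralizer {σ} := by
      intro y hy
      refine mem_inf.2 ⟨hy, mem_centralizer_singleton_iff.2 ?_⟩
      have hsi : σ⁻¹ = σ := inv_eq_of_mul_eq_one_right (d.hA σ hσ)
      have h1 : σ * (σ * y * σ⁻¹ * y⁻¹) * σ⁻¹ = (σ * y * σ⁻¹ * y⁻¹)⁻¹ := by
        calc σ * (σ * y * σ⁻¹ * y⁻¹) * σ⁻¹ = (σ * σ) * y * σ⁻¹ * y⁻¹ * σ⁻¹ := by group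
          _ = y * σ * y⁻¹ * σ⁻¹ := by rw [d.hA σ hσ, hsi, one_mul]
          _ = _ := by group
      rw [inv_eq_of_mul_eq_one_right (d.Esq _ hy)] at h1
      exact (mul_inv_eq_iff_eq_mul.1 h1).symm
    -- adjust `y` by `x`
    obtain ⟨y1, hy1F, hy1X, hy1c, hy1σ⟩ : ∃ y1 ∈ d.F, y1 ∉ X ∧ (∀ g, g * y1 * g⁻¹ * y1⁻¹ ∈ X) ∧
        (σ * y1 * σ⁻¹ * y1⁻¹ = 1 ∨ σ * y1 * σ⁻¹ * y1⁻¹ = z) := by
      by_cases h : σ * y * σ⁻¹ * y⁻¹ = 1 ∨ σ * y * σ⁻¹ * y⁻¹ = z
      · exact ⟨y, hy, hyX, hc, h⟩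
      push Not at h
      refine ⟨x * y, mul_mem hx hy, fun h' => hyX ?_, fun g => ?_, ?_⟩
      · have := mul_mem (inv_mem (show x ∈ X from Or.inr (by simp))) h'
        rwa [inv_mul_cancel_left] at this
      · rw [show g * (x * y) * g⁻¹ * (x * y)⁻¹ = (g * x * g⁻¹ * x⁻¹) * (x * (g * y * g⁻¹ * y⁻¹) * x⁻¹) by group]
        exact mul_mem (Or.inl (hxc g)) (hXn.conj_mem _ (hc g) x)
      · rw [show σ * (x * y) * σ⁻¹ * (x * y)⁻¹ = δ * (x * (σ * y * σ⁻¹ * y⁻¹) * x⁻¹) by rw [hδ]; group,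
          ← d.F_comm hx hσy, mul_inv_cancel_right]
        have hδW := hfixσ x (hxc σ)
        have hyW := hfixσ y hσy
        have hzW : z ∈ d.E ⊓ centralizer {σ} := mem_inf.2 ⟨hzE,
          mem_centralizer_singleton_iff.2 (mul_inv_eq_iff_eq_mul.1 (hzc σ)).symm⟩
        have h4 : Nat.card (d.E ⊓ centralizer {σ} : Subgroup S) ≤ 4 := d.card_fix_le_two h2 hσ hσE
        set c := σ * y * σ⁻¹ * y⁻¹
        by_contra hno
        push Not at hno
        obtain ⟨n1, n2⟩ := hno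
        have hcc : c⁻¹ = c := inv_eq_of_mul_eq_one_right (d.Esq _ hσy)
        have hzz : z⁻¹ = z := inv_eq_of_mul_eq_one_right (d.Esq _ hzE)
        let : Fintype (d.E ⊓ centralizer {σ} : Subgroup S) := Fintype.ofFinite _
        have h5 := Finset.card_le_univ ({⟨1, one_mem _⟩, ⟨z, hzW⟩, ⟨δ, hδW⟩, ⟨z * δ, mul_mem hzW hδW⟩, ⟨c, hyW⟩} :
          Finset (d.E ⊓ centralizer {σ} : Subgroup S))
        have a1 : z * δ ≠ 1 := fun e => hxz (by rw [← hzz]; exact (inv_eq_of_mul_eq_one_right e).symm)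
        have a2 : z * δ ≠ z := fun e => hx1 (mul_eq_left.1 e)
        have a3 : z * δ ≠ δ := fun e => hz1 (mul_eq_right.1 e)
        have a4 : c ≠ δ := fun e => n1 (by rw [e]; exact d.Esq _ (hxc σ))
        have a5 : c ≠ z * δ := fun e => n2 (by
          rw [e, d.E_comm hzE (hxc σ), ← mul_assoc, d.Esq _ (hxc σ), one_mul])
        rw [Finset.card_insert_of_notMem (by simp [Subtype.ext_iff, hz1.symm, hx1.symm, a1.symm, h.1.symm]),
          Finset.card_insert_of_notMem (by simp [Subtype.ext_iff, hxz.symm, a2.symm, h.2.symm]),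
          Finset.card_insert_of_notMem (by simp [Subtype.ext_iff, a3.symm, a4.symm]),
          Finset.card_insert_of_notMem (by simp [Subtype.ext_iff, a5.symm]), Finset.card_singleton,
          ← Nat.card_eq_fintype_card] at h5
        omega
    obtain ⟨e, he, hcom⟩ : ∃ e ∈ d.E, σ * (y1 * e) = y1 * e * σ := by
      rcases hy1σ with h | h
      · exact ⟨1, one_mem _, by rw [mul_one]; exact mul_inv_eq_iff_eq_mul.1 (mul_inv_eq_one.1 h)⟩
      · obtain ⟨w, hw, hσw⟩ := hmove σ hσ hσE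
        refine ⟨w, hw, mul_inv_eq_iff_eq_mul.1 ?_⟩
        rw [← conj_mul, mul_inv_eq_iff_eq_mul.1 h, mul_inv_eq_iff_eq_mul.1 hσw]
        calc z * y1 * (z * w) = z * (y1 * z) * w := by group
          _ = y1 * w := by rw [← d.F_comm hy1F hzE, ← mul_assoc, d.Esq z hzE, one_mul]
    have hyF : y1 * e ∈ d.F := mul_mem hy1F (d.E_le_F he)
    have hτy : τ * (y1 * e) * τ⁻¹ * (y1 * e)⁻¹ ∈ X := by
      rw [show τ * (y1 * e) * τ⁻¹ * (y1 * e)⁻¹ =
        (τ * y1 * τ⁻¹ * y1⁻¹) * (y1 * (τ * e * τ⁻¹ * e⁻¹) * y1⁻¹) by group]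
      exact mul_mem (hy1c τ) (hXn.conj_mem _ (Or.inl (mul_mem (d.En.conj_mem e he τ) (inv_mem he))) y1)
    refine hy1X ?_
    have hmem : y1 * e ∈ d.E := by
      refine d.no_commuting h2 hW hσ hτ hσE hτE hστ hyF hcom (hτy.resolve_right fun h => ?_)
      obtain ⟨f, hf, hcf⟩ : ∃ f ∈ d.E, τ * (y1 * e) * τ⁻¹ * (y1 * e)⁻¹ = x * f :=
        ⟨_, h, (mul_inv_cancel_left _ _).symm⟩
      have hcs : Commute σ (τ * (y1 * e) * τ⁻¹ * (y1 * e)⁻¹) :=
        (((Commute.mul_right (d.A_comm hσ hτ : Commute σ τ) (hcom : Commute σ (y1 * e))).mul_right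
          (Commute.inv_right (d.A_comm hσ hτ : Commute σ τ))).mul_right
            (Commute.inv_right (hcom : Commute σ (y1 * e))))
      rw [hcf] at hcs
      have h1 : δ * (x * (σ * f * σ⁻¹ * f⁻¹) * x⁻¹) = 1 := by
        rw [hδ]
        calc σ * x * σ⁻¹ * x⁻¹ * (x * (σ * f * σ⁻¹ * f⁻¹) * x⁻¹) = σ * (x * f) * σ⁻¹ * (x * f)⁻¹ := by group
          _ = 1 := by rw [hcs.eq, mul_inv_cancel_right, mul_inv_cancel]
      have hfE : σ * f * σ⁻¹ * f⁻¹ ∈ d.E := mul_mem (d.En.conj_mem f hf σ) (inv_mem hf)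
      rw [← d.F_comm hx hfE, mul_inv_cancel_right] at h1
      rcases hdl σ hσ f hf with h' | h' <;> rw [h'] at h1
      · exact hx1 (by simpa using h1)
      · exact hxz ((mul_eq_one_iff_eq_inv.1 h1).trans (inv_eq_of_mul_eq_one_right (d.Esq z hzE)))
    have := mul_mem (show y1 * e ∈ X from Or.inl hmem) (inv_mem (show e ∈ X from Or.inl he))
    rwa [mul_inv_cancel_right] at this
  -- the bound
  have hFcard : Nat.card d.F ≤ 16 := by
    by_cases hF : d.F ≤ d.E
    · have := card_le_of_le hF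
      omega
    obtain ⟨x, hx, -, -, -, hall⟩ := hFx hF
    have : Nat.card d.F ≤ Nat.card (d.E × Bool) := by
      refine Nat.card_le_card_of_injective (fun y => if h : y.1 ∈ d.E then (⟨y.1, h⟩, true)
        else (⟨_, (hall y y.2).resolve_left h⟩, false)) fun a b e => ?_
      dsimp only at e
      refine Subtype.ext ?_
      by_cases ha : a.1 ∈ d.E <;> by_cases hb : b.1 ∈ d.E
      · rw [dif_pos ha, dif_pos hb] at e
        exact congrArg (fun w : d.E => (w : S)) (Prod.mk.inj e).1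
      · rw [dif_pos ha, dif_neg hb] at e
        exact Bool.noConfusion (Prod.mk.inj e).2
      · rw [dif_neg ha, dif_pos hb] at e
        exact Bool.noConfusion (Prod.mk.inj e).2
      · rw [dif_neg ha, dif_neg hb] at e
        exact mul_left_cancel (congrArg (fun w : d.E => (w : S)) (Prod.mk.inj e).1)
    rw [Nat.card_prod, h8, Nat.card_eq_fintype_card (α := Bool), Fintype.card_bool] at this
    exact this
  have hmul := card_mul_relIndex (inf_le_inf_right d.F (sqSub_le H))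
  set b := (sqSub H ⊓ d.F).relIndex (H ⊓ d.F) with hb
  by_cases hHF : H ≤ d.F
  · refine (d.split H (a := 1) (b := 16) ?_ ?_).trans (by norm_num)
    · exact (relIndex_map_eq_one _ (by rwa [QuotientGroup.ker_mk'])).le
    · exact ((Nat.le_of_dvd Nat.card_pos (Dvd.intro_left _ hmul)).trans (card_le_of_le inf_le_right)).trans hFcard
  refine d.split H (d.quot_eight h8 _) (b := 4) ?_
  rw [← hb]
  by_cases hF : d.F ≤ d.E
  · have hFE : d.F = d.E := le_antisymm hF d.E_le_F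
    rcases d.half_or_centralize H with h | h
    · rw [← hFE, ← hb, hFE, h8] at h
      omega
    · exact absurd h hHF
  obtain ⟨x, hx, hxx, hxc, hxE, hall⟩ := hFx hF
  have hDle : Nat.card (H ⊓ d.F : Subgroup S) ≤ 16 := (card_le_of_le inf_le_right).trans hFcard
  by_contra hgt
  push Not at hgt
  have hk2 : Nat.card (sqSub H ⊓ d.F : Subgroup S) ≤ 3 := by
    by_contra hlt
    push Not at hlt
    have := Nat.mul_le_mul hlt hgt
    omega
  by_cases hzD : z ∈ sqSub H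
  · have hKz : ∀ v ∈ sqSub H, v ∈ d.F → v = 1 ∨ v = z := by
      intro v hv hvF
      have hk : Nat.card (sqSub H ⊓ d.F : Subgroup S) ≤ 2 := by
        have : Fact (Nat.Prime 2) := ⟨Nat.prime_two⟩
        obtain ⟨j, hj⟩ := (d.two.to_subgroup (sqSub H ⊓ d.F)).exists_card_eq
        rw [hj] at hk2 ⊢
        rcases j with _ | _ | j
        · norm_num
        · norm_num
        · rw [pow_succ, pow_succ] at hk2
          have := Nat.one_le_two_pow (n := j)
          omega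
      exact or_iff_not_imp_left.2 fun h1 =>
        eq_of_card_le_two hk (mem_inf.2 ⟨hv, hvF⟩) (mem_inf.2 ⟨hzD, d.E_le_F hzE⟩) h1 hz1
    -- `D` is all of `F`
    have hD : d.F ≤ H := by
      by_contra hno
      have h1 := card_le_half (inf_lt_right.2 hno)
      have hk : 2 ≤ Nat.card (sqSub H ⊓ d.F : Subgroup S) := (one_lt_card_iff_ne_bot _).2
        fun e => hz1 (mem_bot.1 (e ▸ mem_inf.2 ⟨hzD, d.E_le_F hzE⟩))
      have := Nat.mul_le_mul hk hgt
      omega
    obtain ⟨h, hh, hhF⟩ := SetLike.not_le_iff_exists.1 hHF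
    have hdh : ∀ e ∈ d.E, h * e * h⁻¹ * e⁻¹ = 1 ∨ h * e * h⁻¹ * e⁻¹ = z := fun e he =>
      hKz _ (commutator_mem hh (hD (d.E_le_F he))) (d.E_le_F (mul_mem (d.En.conj_mem e he h) (inv_mem he)))
    obtain ⟨a, haA, ha1, ha2⟩ : ∃ a ∈ d.A, a * p * a⁻¹ = h * p * h⁻¹ ∧ a * q * a⁻¹ = h * q * h⁻¹ := by
      have e1 : ∀ {g e : S} {c : S}, g * e * g⁻¹ * e⁻¹ = c → g * e * g⁻¹ = c * e :=
        fun h => mul_inv_eq_iff_eq_mul.1 h
      have sp' := e1 sp
      have uq' := e1 uq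
      have up' : u * p * u⁻¹ = p := by rw [up, mul_inv_cancel_right]
      have sq' : s * q * s⁻¹ = q := by rw [sq, mul_inv_cancel_right]
      rcases hdh p hp with hp' | hp' <;> rcases hdh q hq with hq'' | hq'' <;>
        rw [e1 hp', e1 hq'']
      · exact ⟨1, one_mem _, by simp, by simp⟩
      · exact ⟨u, hu, by rw [up', one_mul], uq'⟩
      · exact ⟨s, hs, sp', by rw [sq', one_mul]⟩
      · refine ⟨s * u, mul_mem hs hu, ?_, ?_⟩
        · rw [show s * u * p * (s * u)⁻¹ = s * (u * p * u⁻¹) * s⁻¹ by group, up', sp']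
        · rw [show s * u * q * (s * u)⁻¹ = s * (u * q * u⁻¹) * s⁻¹ by group, uq', ← conj_mul, hzc, sq']
    have hf : a⁻¹ * h ∈ d.F := by
      refine d.mem_F_of_fix h8 hzE hp hq hz1 hp1 hpz hq' ?_ ?_ ?_ <;> refine mul_inv_eq_iff_eq_mul.1 ?_
      · exact hzc _
      · rw [show a⁻¹ * h * p * (a⁻¹ * h)⁻¹ = a⁻¹ * (h * p * h⁻¹) * a by group, ← ha1]; group
      · rw [show a⁻¹ * h * q * (a⁻¹ * h)⁻¹ = a⁻¹ * (h * q * h⁻¹) * a by group, ← ha2]; group
    have haE : a ∉ d.E := fun e => hhF (by simpa using mul_mem (d.E_le_F e) hf)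
    obtain ⟨n1, n2⟩ := hxa x hx hxE hxc a haA haE
    set f := a⁻¹ * h with hfdef
    have hfx : f * x * f⁻¹ = x := by
      rcases hall f hf with e | e
      · rw [d.F_comm hx e, mul_inv_cancel_right]
      · obtain ⟨e', he', hfe⟩ : ∃ e' ∈ d.E, f = x * e' := ⟨_, e, (mul_inv_cancel_left _ _).symm⟩
        rw [hfe, mul_assoc x e' x, d.F_comm hx he']
        group
    have hhx : h * x * h⁻¹ * x⁻¹ = a * x * a⁻¹ * x⁻¹ := by
      have : h = a * f := by rw [hfdef, mul_inv_cancel_left]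
      rw [this, show a * f * x * (a * f)⁻¹ = a * (f * x * f⁻¹) * a⁻¹ by group, hfx]
    rcases hKz _ (commutator_mem hh (hD hx)) (by rw [hhx]; exact d.E_le_F (hxc a)) with e | e <;>
      rw [hhx] at e
    exacts [n1 e, n2 e]
  · have hDE : H ⊓ d.F ≤ d.E := by
      intro v hv
      refine ((hall v (mem_inf.1 hv).2).resolve_right fun e => hzD ?_)
      rw [← hxx, ← d.sq_eq_of_coset hx e]
      exact sq_mem (mem_inf.1 hv).1
    have hb8 : b * Nat.card (sqSub H ⊓ d.F : Subgroup S) ≤ 8 := by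
      rw [mul_comm, hmul, ← h8]
      exact card_le_of_le hDE
    have hk1 : Nat.card (sqSub H ⊓ d.F : Subgroup S) = 1 := by
      have := Nat.card_pos (α := (sqSub H ⊓ d.F : Subgroup S))
      by_contra hne
      have := Nat.mul_le_mul (Nat.le_of_lt hgt) (show 2 ≤ Nat.card (sqSub H ⊓ d.F : Subgroup S) by omega)
      have h5 : (5 : ℕ) ≤ b := hgt
      have := Nat.mul_le_mul h5 (show 2 ≤ Nat.card (sqSub H ⊓ d.F : Subgroup S) by omega)
      omega
    rw [hk1, one_mul] at hmul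
    have hEH : d.E ≤ H := by
      by_contra hno
      have h1 := card_le_half (inf_lt_right.2 hno)
      have h2' := card_le_of_le (le_inf inf_le_left hDE : H ⊓ d.F ≤ H ⊓ d.E)
      omega
    refine hHF (d.centralize hEH (eq_bot_of_card_le _ ?_))
    exact (card_le_of_le (inf_le_inf_left _ d.E_le_F)).trans hk1.le

end Setup

end CfsgLib.TwoGroups.Harada
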