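import Cfsg.Agent.TwoGroups.HaradaBase

/-!
The action on a normal elementary abelian subgroup of order 8.
-/

set_option autoImplicit false
set_option linter.unusedSectionVars false

namespace CfsgLib.TwoGroups.Harada

open Subgroup SqIndex

universe u

variable {S : Type u} [Group S] [Finite S] {d : Setup S}

/-- A four-subgroup of `E` given by two generators. -/
def Setup.four (d : Setup S) {z p : S} (hz : z ∈ d.E) (hp : p ∈ d.E) : Subgroup S where
  carrier := {x | x = 1 ∨ x = z ∨ x = p ∨ x = z * p}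
  one_mem' := Or.inl rfl
  mul_mem' := fun {a b} (ha : a = 1 ∨ a = z ∨ a = p ∨ a = z * p) (hb : b = 1 ∨ b = z ∨ b = p ∨ b = z * p) => by
    have hzz := d.Esq z hz
    have hpp := d.Esq p hp
    have hpz : p * z = z * p := d.E_comm hp hz
    show a * b = 1 ∨ a * b = z ∨ a * b = p ∨ a * b = z * p
    rcases ha with rfl | rfl | rfl | rfl <;> rcases hb with rfl | rfl | rfl | rfl
    · exact Or.inl (one_mul 1)
    · exact Or.inr (Or.inl (one_mul _))
    · exact Or.inr (Or.inr (Or.inl (one_mul _)))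
    · exact Or.inr (Or.inr (Or.inr (one_mul _)))
    · exact Or.inr (Or.inl (mul_one _))
    · exact Or.inl hzz
    · exact Or.inr (Or.inr (Or.inr rfl))
    · exact Or.inr (Or.inr (Or.inl (by rw [← mul_assoc, hzz, one_mul])))
    · exact Or.inr (Or.inr (Or.inl (mul_one _)))
    · exact Or.inr (Or.inr (Or.inr hpz))
    · exact Or.inl hpp
    · exact Or.inr (Or.inl (by rw [← mul_assoc, hpz, mul_assoc, hpp, mul_one]))
    · exact Or.inr (Or.inr (Or.inr (mul_one _)))
    · exact Or.inr (Or.inr (Or.inl (by rw [mul_assoc, hpz, ← mul_assoc, hzz, one_mul])))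
    · exact Or.inr (Or.inl (by rw [mul_assoc, hpp, mul_one]))
    · exact Or.inl (d.Esq _ (mul_mem hz hp))
  inv_mem' := fun {a} (ha : a = 1 ∨ a = z ∨ a = p ∨ a = z * p) => by
    have hi : a⁻¹ = a := by
      rcases ha with rfl | rfl | rfl | rfl
      · exact inv_one
      · exact inv_eq_of_mul_eq_one_right (d.Esq _ hz)
      · exact inv_eq_of_mul_eq_one_right (d.Esq _ hp)
      · exact inv_eq_of_mul_eq_one_right (d.Esq _ (mul_mem hz hp))
    show a⁻¹ = 1 ∨ a⁻¹ = z ∨ a⁻¹ = p ∨ a⁻¹ = z * p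
    rwa [hi]

theorem Setup.mem_four (d : Setup S) {z p : S} (hz : z ∈ d.E) (hp : p ∈ d.E) {x : S} :
    x ∈ d.four hz hp ↔ x = 1 ∨ x = z ∨ x = p ∨ x = z * p := Iff.rfl

theorem Setup.four_le (d : Setup S) {z p : S} (hz : z ∈ d.E) (hp : p ∈ d.E) : d.four hz hp ≤ d.E := by
  intro x hx
  rcases (d.mem_four hz hp).1 hx with rfl | rfl | rfl | rfl
  exacts [one_mem _, hz, hp, mul_mem hz hp]

theorem Setup.card_four (d : Setup S) {z p : S} (hz : z ∈ d.E) (hp : p ∈ d.E) (hz1 : z ≠ 1) (hp1 : p ≠ 1)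
    (hpz : p ≠ z) : Nat.card (d.four hz hp) = 4 := by
  classical
  let : Fintype (d.four hz hp) := Fintype.ofFinite _
  have h1 : z * p ≠ 1 := fun e => hpz ((inv_eq_of_mul_eq_one_right e).symm.trans
    (inv_eq_of_mul_eq_one_right (d.Esq z hz)))
  have h2 : z * p ≠ z := fun e => hp1 (mul_eq_left.1 e)
  have h3 : z * p ≠ p := fun e => hz1 (mul_eq_right.1 e)
  have hu : (Finset.univ : Finset (d.four hz hp)) =
      {1, ⟨z, Or.inr (Or.inl rfl)⟩, ⟨p, Or.inr (Or.inr (Or.inl rfl))⟩, ⟨z * p, Or.inr (Or.inr (Or.inr rfl))⟩} := by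
    refine (Finset.eq_univ_iff_forall.2 fun x => ?_).symm
    obtain ⟨x, hx⟩ := x
    rcases (d.mem_four hz hp).1 hx with rfl | rfl | rfl | rfl <;> simp [Subtype.ext_iff]
  rw [Nat.card_eq_fintype_card, ← Finset.card_univ, hu,
    Finset.card_insert_of_notMem (by simp [Subtype.ext_iff, hz1.symm, hp1.symm, h1.symm]),
    Finset.card_insert_of_notMem (by simp [Subtype.ext_iff, hpz.symm, h2.symm]),
    Finset.card_insert_of_notMem (by simp [Subtype.ext_iff, h3.symm]), Finset.card_singleton]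

/-- An element of `S` fixing three independent elements of an `E` of order 8 centralizes `E`. -/
theorem Setup.mem_F_of_fix (d : Setup S) (h8 : Nat.card d.E = 8) {z p q : S} (hz : z ∈ d.E) (hp : p ∈ d.E)
    (hq : q ∈ d.E) (hz1 : z ≠ 1) (hp1 : p ≠ 1) (hpz : p ≠ z) (hq' : q ∉ d.four hz hp) {g : S}
    (gz : g * z = z * g) (gp : g * p = p * g) (gq : g * q = q * g) : g ∈ d.F := by
  refine mem_centralizer_iff.2 fun e he => ?_
  set C := d.E ⊓ centralizer {g} with hC
  have hfour : d.four hz hp ≤ C := by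
    intro x hx
    refine mem_inf.2 ⟨d.four_le hz hp hx, mem_centralizer_singleton_iff.2 ?_⟩
    rcases (d.mem_four hz hp).1 hx with rfl | rfl | rfl | rfl
    · rw [one_mul, mul_one]
    · exact gz.symm
    · exact gp.symm
    · rw [mul_assoc, ← gp, ← mul_assoc, ← gz, mul_assoc]
  have hlt : d.four hz hp < C := lt_of_le_of_ne hfour fun e' =>
    hq' (e' ▸ mem_inf.2 ⟨hq, mem_centralizer_singleton_iff.2 gq.symm⟩)
  have h4 := d.card_four hz hp hz1 hp1 hpz
  have hgt : 4 < Nat.card C := h4 ▸ lt_of_le_of_ne (card_le_of_le hlt.le)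
    fun e' => hlt.ne (eq_of_le_of_card_ge hlt.le e'.ge)
  obtain ⟨k, hk⟩ := card_dvd_of_le (inf_le_left : C ≤ d.E)
  have hCE : C = d.E := by
    refine eq_of_le_of_card_ge inf_le_left ?_
    rw [h8] at hk ⊢
    rcases Nat.lt_or_ge k 2 with h | h
    · interval_cases k <;> simp_all
    · nlinarith
  have heC : e ∈ C := hCE.symm ▸ he
  exact mem_centralizer_singleton_iff.1 (mem_inf.1 heC).2

/-- The product of two elements of `E` outside a subgroup of index 2 lies inside. -/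
theorem Setup.mul_mem_of_index_two (d : Setup S) (h8 : Nat.card d.E = 8) {P : Subgroup S} (hP : P ≤ d.E)
    (h4 : Nat.card P = 4) {a b : S} (ha : a ∈ d.E) (hb : b ∈ d.E) (ha' : a ∉ P) (hb' : b ∉ P) :
    a * b ∈ P := by
  have hidx : (P.subgroupOf d.E).index = 2 := by
    have h := card_mul_index (P.subgroupOf d.E)
    rw [Nat.card_congr (subgroupOfEquivOfLe hP).toEquiv, h4, h8] at h
    omega
  exact (mul_mem_iff_of_index_two hidx (a := (⟨a, ha⟩ : d.E)) (b := ⟨b, hb⟩)).2
    ⟨fun h => absurd h ha', fun h => absurd h hb'⟩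

/-- The quotient by the centralizer of an `E` of order 8 has no elementary abelian subgroup of order 8. -/
theorem Setup.quot_eight (d : Setup S) (h8 : Nat.card d.E = 8) (H : Subgroup (S ⧸ d.F)) :
    (sqSub H).relIndex H ≤ 4 := by
  classical
  obtain ⟨z, hz, hz1, hzc⟩ := d.exists_central_mem (N := d.E) (by omega)
  have hzn : (zpowers z).Normal := ⟨fun n hn g => by
    obtain ⟨i, rfl⟩ := hn
    show g * z ^ i * g⁻¹ ∈ zpowers z
    rw [← conj_zpow, hzc]
    exact zpow_mem (mem_zpowers z) i⟩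
  have hzcases : ∀ x, x ∈ zpowers z → x = 1 ∨ x = z := by
    intro x hx
    obtain ⟨i, rfl⟩ := hx
    show z ^ i = 1 ∨ z ^ i = z
    rcases Int.even_or_odd i with ⟨j, rfl⟩ | ⟨j, rfl⟩
    · left; rw [← two_mul, zpow_mul, zpow_two, d.Esq z hz, one_zpow]
    · right; rw [zpow_add, zpow_mul, zpow_two, d.Esq z hz, one_zpow, one_mul, zpow_one]
  have hmapn : (d.E.map (QuotientGroup.mk' (zpowers z))).Normal :=
    d.En.map _ (QuotientGroup.mk'_surjective _)
  have hne : Nat.card (d.E.map (QuotientGroup.mk' (zpowers z))) ≠ 1 := by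
    intro e
    have hbot : d.E.map (QuotientGroup.mk' (zpowers z)) = ⊥ := eq_bot_of_card_le _ e.le
    rw [Subgroup.map_eq_bot_iff, QuotientGroup.ker_mk'] at hbot
    have h1 := card_le_of_le hbot
    rw [Nat.card_zpowers] at h1
    have h2 : orderOf z ≤ 2 := orderOf_le_of_pow_eq_one two_pos (by rw [pow_two]; exact d.Esq z hz)
    omega
  obtain ⟨_, ⟨p, hp, rfl⟩, hp1', hpc⟩ :=
    FourGroup.Base.exists_central (S := d.E.map (QuotientGroup.mk' (zpowers z))) hne (d.two.to_quotient _)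
  have hpz' : p ∉ zpowers z := fun h => hp1' ((QuotientGroup.eq_one_iff p).2 h)
  have hp1 : p ≠ 1 := fun e => hpz' (e ▸ one_mem _)
  have hpz : p ≠ z := fun e => hpz' (e ▸ mem_zpowers z)
  have hpd : ∀ g : S, g * p * g⁻¹ * p⁻¹ = 1 ∨ g * p * g⁻¹ * p⁻¹ = z := by
    intro g
    refine hzcases _ ((QuotientGroup.eq_one_iff _).1 ?_)
    rw [QuotientGroup.mk_mul, QuotientGroup.mk_mul, QuotientGroup.mk_mul, QuotientGroup.mk_inv,
      QuotientGroup.mk_inv, mul_inv_eq_one]
    exact hpc (g : S ⧸ zpowers z)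
  have hPn : ∀ g : S, ∀ x ∈ d.four hz hp, g * x * g⁻¹ ∈ d.four hz hp := by
    intro g x hx
    have hgp : g * p * g⁻¹ ∈ d.four hz hp := by
      rcases hpd g with e | e <;> rw [mul_inv_eq_iff_eq_mul] at e <;> rw [e]
      · rw [one_mul]; exact Or.inr (Or.inr (Or.inl rfl))
      · exact Or.inr (Or.inr (Or.inr rfl))
    rcases (d.mem_four hz hp).1 hx with e | e | e | e <;> subst e
    · rw [mul_one, mul_inv_cancel]; exact one_mem _
    · rw [hzc g]; exact Or.inr (Or.inl rfl)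
    · exact hgp
    · rw [← conj_mul, hzc g]; exact mul_mem (Or.inr (Or.inl rfl)) hgp
  obtain ⟨q, hq, hqP⟩ : ∃ q ∈ d.E, q ∉ d.four hz hp := by
    by_contra hno
    push Not at hno
    have := card_le_of_le (show d.E ≤ d.four hz hp from hno)
    rw [h8, d.card_four hz hp hz1 hp1 hpz] at this
    omega
  have hqd : ∀ g : S, g * q * g⁻¹ * q⁻¹ ∈ d.four hz hp := by
    intro g
    refine d.mul_mem_of_index_two h8 (d.four_le hz hp) (d.card_four hz hp hz1 hp1 hpz)
      (d.En.conj_mem q hq g) (inv_mem hq) (fun h => hqP ?_) (fun h => hqP ?_)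
    · have := hPn g⁻¹ _ h
      rwa [show g⁻¹ * (g * q * g⁻¹) * g⁻¹⁻¹ = q by group] at this
    · simpa using inv_mem h
  let f : S ⧸ d.F → Bool × d.four hz hp := fun x =>
    (decide (x.out * p * x.out⁻¹ * p⁻¹ = 1), ⟨_, hqd x.out⟩)
  have hfe : ∀ a b : S ⧸ d.F, f a = f b → a = b := by
    intro a b e
    simp only [f, Prod.mk.injEq, Subtype.mk.injEq] at e
    obtain ⟨e1, e2⟩ := e
    have ep : a.out * p * a.out⁻¹ = b.out * p * b.out⁻¹ := by
      refine mul_right_cancel (b := p⁻¹) ?_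
      by_cases h : a.out * p * a.out⁻¹ * p⁻¹ = 1
      · rw [h, (decide_eq_decide.1 e1).1 h]
      · rw [(hpd a.out).resolve_left h, (hpd b.out).resolve_left fun h' => h ((decide_eq_decide.1 e1).2 h')]
    rw [← QuotientGroup.out_eq' a, ← QuotientGroup.out_eq' b]
    refine QuotientGroup.eq.2 (d.mem_F_of_fix h8 hz hp hq hz1 hp1 hpz hqP ?_ ?_ ?_)
    · exact mul_inv_eq_iff_eq_mul.1 (hzc _)
    all_goals refine mul_inv_eq_iff_eq_mul.1 ?_
    · rw [show a.out⁻¹ * b.out * p * (a.out⁻¹ * b.out)⁻¹ = a.out⁻¹ * (b.out * p * b.out⁻¹) * a.out by group, ← ep]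
      group
    · rw [show a.out⁻¹ * b.out * q * (a.out⁻¹ * b.out)⁻¹ = a.out⁻¹ * (b.out * q * b.out⁻¹) * a.out by group,
        ← mul_right_cancel e2]
      group
  have hcardf : Nat.card (Bool × d.four hz hp) = 8 := by
    rw [Nat.card_prod, d.card_four hz hp hz1 hp1 hpz, Nat.card_eq_fintype_card (α := Bool), Fintype.card_bool]
  refine relIndex_small_quotient (d.two.to_quotient _) ((Nat.card_le_card_of_injective f hfe).trans hcardf.le)
    (fun h => ?_) H
  have hbij := (Nat.bijective_iff_injective_and_card f).2 ⟨hfe, h.trans hcardf.symm⟩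
  obtain ⟨a, ha⟩ := hbij.2 (false, ⟨1, one_mem _⟩)
  obtain ⟨b, hb⟩ := hbij.2 (true, ⟨p, Or.inr (Or.inr (Or.inl rfl))⟩)
  simp only [f, Prod.mk.injEq, Subtype.mk.injEq, decide_eq_false_iff_not, decide_eq_true_eq] at ha hb
  refine ⟨a, b, fun hab => hz1 ?_⟩
  have a1 : a.out * p * a.out⁻¹ = z * p :=
    mul_inv_eq_iff_eq_mul.1 ((hpd a.out).resolve_left ha.1)
  have a2 : a.out * q * a.out⁻¹ = q := mul_inv_eq_one.1 ha.2
  have b1 : b.out * q * b.out⁻¹ = p * q := mul_inv_eq_iff_eq_mul.1 (congrArg Subtype.val hb.2)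
  have hc : (a.out * b.out)⁻¹ * (b.out * a.out) ∈ d.F := by
    refine QuotientGroup.eq.1 ?_
    rw [QuotientGroup.mk_mul, QuotientGroup.mk_mul, QuotientGroup.out_eq', QuotientGroup.out_eq']
    exact hab
  have hcq := d.F_comm hc hq
  have e1 : a.out * b.out * q * (a.out * b.out)⁻¹ = z * p * q := by
    rw [show a.out * b.out * q * (a.out * b.out)⁻¹ = a.out * (b.out * q * b.out⁻¹) * a.out⁻¹ by group, b1,
      ← conj_mul, a1, a2]
  have e2 : b.out * a.out * q * (b.out * a.out)⁻¹ = p * q := by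
    rw [show b.out * a.out * q * (b.out * a.out)⁻¹ = b.out * (a.out * q * a.out⁻¹) * b.out⁻¹ by group, a2, b1]
  have e3 : b.out * a.out * q * (b.out * a.out)⁻¹ = a.out * b.out * q * (a.out * b.out)⁻¹ := by
    calc b.out * a.out * q * (b.out * a.out)⁻¹ = (a.out * b.out) * (((a.out * b.out)⁻¹ * (b.out * a.out)) * q *
          ((a.out * b.out)⁻¹ * (b.out * a.out))⁻¹) * (a.out * b.out)⁻¹ := by group
      _ = _ := by rw [← hcq, mul_inv_cancel_right]
  rw [e1, e2, mul_assoc] at e3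
  exact mul_eq_right.1 e3.symm

end CfsgLib.TwoGroups.Harada
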