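import Cfsg.Agent.TwoGroups.SqIndex
import Cfsg.Agent.TwoGroups.Omega2Central

/-!
2-groups with an involutory automorphism having at most two fixed points.
-/

set_option autoImplicit false
set_option linter.unusedSectionVars false

namespace CfsgLib.TwoGroups.InvolutionFix

open Subgroup SqIndex

universe u

/-- `R` is a 2-group and `σ` an automorphism with `σ² = 1` and at most two fixed points. -/
structure Fix2 {R : Type u} [Group R] (σ : R ≃* R) : Prop where
  two : IsPGroup 2 R
  invol : ∀ r, σ (σ r) = r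
  fix : Nat.card {r : R // σ r = r} ≤ 2

variable {R : Type u} [Group R] [Finite R] {σ : R ≃* R}

theorem eq_or_eq_one (h : Fix2 σ) {x : R} (hx1 : x ≠ 1) (hx : σ x = x) {r : R} (hr : σ r = r) :
    r = 1 ∨ r = x := by
  classical
  by_contra hno
  push Not at hno
  let : Fintype {r : R // σ r = r} := Fintype.ofFinite _
  have h3 := Finset.card_le_univ ({⟨1, map_one σ⟩, ⟨x, hx⟩, ⟨r, hr⟩} : Finset {r : R // σ r = r})
  rw [Finset.card_insert_of_notMem (by simp [Ne.symm hx1, Ne.symm hno.1]),
    Finset.card_insert_of_notMem (by simp [Ne.symm hno.2]), Finset.card_singleton,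
    ← Nat.card_eq_fintype_card] at h3
  have := h.fix
  omega

theorem exists_fixed (h : Fix2 σ) [Nontrivial R] :
    ∃ x : R, x ≠ 1 ∧ σ x = x ∧ x * x = 1 ∧ x ∈ center R := by
  have : Fact (Nat.Prime 2) := ⟨Nat.prime_two⟩
  have := h.two.center_nontrivial
  set Z := center R
  have hinv : ∀ z ∈ Z, σ z ∈ Z := fun z hz => mem_center_iff.2 fun g => by
    obtain ⟨g, rfl⟩ := σ.surjective g
    rw [← map_mul, mem_center_iff.1 hz g, map_mul]
  have h2 : 2 ∣ Nat.card Z := (h.two.to_subgroup Z).card_eq_or_dvd.resolve_left Finite.one_lt_card.ne'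
  obtain ⟨⟨w, hwZ⟩, hw⟩ := exists_prime_orderOf_dvd_card' 2 h2
  rw [orderOf_mk] at hw
  have hw2 : w * w = 1 := by rw [← pow_two, ← hw, pow_orderOf_eq_one]
  have hw1 : w ≠ 1 := fun e => by rw [e, orderOf_one] at hw; omega
  have key : ∃ x, x ≠ 1 ∧ σ x = x ∧ x ∈ Z ∧ x * x = 1 := by
    by_cases he : σ w = w
    · exact ⟨w, hw1, he, hwZ, hw2⟩
    · refine ⟨w * σ w, fun e => he ?_, ?_, mul_mem hwZ (hinv w hwZ), ?_⟩
      · rw [← inv_eq_of_mul_eq_one_right e]; exact inv_eq_of_mul_eq_one_right hw2
      · rw [map_mul, h.invol, mem_center_iff.1 hwZ (σ w)]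
      · rw [mul_assoc w, ← mul_assoc (σ w) w, mem_center_iff.1 hwZ (σ w), mul_assoc w (σ w) (σ w), ← map_mul,
          hw2, map_one, mul_one, hw2]
  obtain ⟨x, hx1, hx, hxZ, hx2⟩ := key
  exact ⟨x, hx1, hx, hx2, hxZ⟩

variable {x : R}

theorem normal_zpowers (hc : x ∈ center R) : (zpowers x).Normal :=
  ⟨fun n hn g => by
    rw [mem_center_iff.1 ((zpowers_le.2 hc) hn) g, mul_inv_cancel_right]
    exact hn⟩

theorem mem_zpowers_cases (hx2 : x * x = 1) {r : R} (hr : r ∈ zpowers x) : r = 1 ∨ r = x := by
  obtain ⟨i, rfl⟩ := hr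
  show x ^ i = 1 ∨ x ^ i = x
  rcases Int.even_or_odd i with ⟨j, rfl⟩ | ⟨j, rfl⟩
  · left; rw [← two_mul, zpow_mul, zpow_two, hx2, one_zpow]
  · right; rw [zpow_add, zpow_mul, zpow_two, hx2, one_zpow, one_mul, zpow_one]

/-- The data of the central involution `x` fixed by `σ`. -/
structure Bottom (σ : R ≃* R) (x : R) : Prop where
  f : Fix2 σ
  ne : x ≠ 1
  fixed : σ x = x
  sq : x * x = 1
  central : x ∈ center R

theorem Bottom.map_eq (b : Bottom σ x) : (zpowers x).map σ.toMonoidHom = zpowers x := by
  rw [MonoidHom.map_zpowers]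
  exact congrArg zpowers b.fixed

/-- The automorphism of the quotient. -/
noncomputable def quotAut (b : Bottom σ x) [(zpowers x).Normal] :
    R ⧸ zpowers x ≃* R ⧸ zpowers x :=
  QuotientGroup.congr (zpowers x) (zpowers x) σ b.map_eq

theorem quotAut_mk (b : Bottom σ x) [(zpowers x).Normal] (r : R) :
    quotAut b (r : R ⧸ zpowers x) = ((σ r : R) : R ⧸ zpowers x) := rfl

theorem Bottom.fixed_lift (b : Bottom σ x) {r : R} (hr : r⁻¹ * σ r ∈ zpowers x) :
    σ r = r ∨ σ r = r * x := by
  rcases mem_zpowers_cases b.sq hr with e | e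
  · exact Or.inl (inv_mul_eq_one.1 e).symm
  · exact Or.inr (by rw [← e, mul_inv_cancel_left])

theorem quot_fix2 (b : Bottom σ x) [(zpowers x).Normal] : Fix2 (quotAut b) where
  two := b.f.two.to_quotient _
  invol q := by
    induction q using QuotientGroup.induction_on with
    | H r => rw [quotAut_mk, quotAut_mk, b.f.invol]
  fix := by
    classical
    have key : ∀ q : {q : R ⧸ zpowers x // quotAut b q = q}, ∃ r : R, (r : R ⧸ zpowers x) = q ∧
        (σ r = r ∨ σ r = r * x) := by
      rintro ⟨q, hq⟩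
      obtain ⟨r, rfl⟩ := QuotientGroup.mk_surjective q
      exact ⟨r, rfl, b.fixed_lift (QuotientGroup.eq.1 (hq.symm.trans (quotAut_mk b r)))⟩
    choose r hr hr' using key
    refine (Nat.card_le_card_of_injective (fun q => decide (σ (r q) = r q)) fun p q e => ?_).trans (by simp)
    refine Subtype.ext ((hr p).symm.trans ((QuotientGroup.eq.2 ?_).trans (hr q)))
    have hfix : σ ((r p)⁻¹ * r q) = (r p)⁻¹ * r q := by
      rw [map_mul, map_inv]
      by_cases hp : σ (r p) = r p
      · rw [hp, (decide_eq_decide.1 e).1 hp]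
      · rw [(hr' p).resolve_left hp, (hr' q).resolve_left fun hq => hp ((decide_eq_decide.1 e).2 hq),
          mul_inv_rev, mul_assoc, ← mul_assoc (r p)⁻¹, mem_center_iff.1 b.central ((r p)⁻¹ * r q),
          inv_mul_cancel_left]
    rcases eq_or_eq_one b.f b.ne b.fixed hfix with e' | e' <;> rw [e']
    · exact one_mem _
    · exact mem_zpowers x

theorem card_quot_lt (b : Bottom σ x) : Nat.card (R ⧸ zpowers x) * 2 = Nat.card R := by
  have hx : orderOf x = 2 := by
    haveI : Fact (Nat.Prime 2) := ⟨Nat.prime_two⟩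
    exact orderOf_eq_prime (by rw [pow_two]; exact b.sq) b.ne
  rw [card_eq_card_quotient_mul_card_subgroup (zpowers x), Nat.card_zpowers, hx]

/-- An element moved by `σ` onto its product with `x`. -/
theorem exists_shift (b : Bottom σ x) [(zpowers x).Normal] [Nontrivial (R ⧸ zpowers x)] :
    ∃ y : R, σ y = y * x ∧ (y : R ⧸ zpowers x) ≠ 1 ∧ Bottom (quotAut b) (y : R ⧸ zpowers x) := by
  obtain ⟨q, hq1, hq, hq2, hqc⟩ := exists_fixed (quot_fix2 b)
  obtain ⟨y, rfl⟩ := QuotientGroup.mk_surjective q
  refine ⟨y, ?_, hq1, ⟨quot_fix2 b, hq1, hq, hq2, hqc⟩⟩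
  rcases b.fixed_lift (QuotientGroup.eq.1 (hq.symm.trans (quotAut_mk b y))) with e | e
  · refine absurd ((QuotientGroup.eq_one_iff y).2 ?_) hq1
    rcases eq_or_eq_one b.f b.ne b.fixed e with e' | e' <;> rw [e']
    · exact one_mem _
    · exact mem_zpowers x
  · exact e

theorem sq_eq_of_shift (b : Bottom σ x) [(zpowers x).Normal] {y : R} (hy : σ y = y * x)
    (by' : Bottom (quotAut b) (y : R ⧸ zpowers x)) (h8 : 8 ≤ Nat.card R) : y * y = x := by
  have := normal_zpowers by'.central
  have hne : Nontrivial ((R ⧸ zpowers x) ⧸ zpowers (y : R ⧸ zpowers x)) := by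
    have h1 := card_quot_lt b
    have h2 := card_quot_lt by'
    exact Finite.one_lt_card_iff_nontrivial.1 (by omega)
  obtain ⟨w, hw, -, -⟩ := exists_shift by'
  obtain ⟨w, rfl⟩ := QuotientGroup.mk_surjective w
  have hm : (w * y)⁻¹ * σ w ∈ zpowers x := by
    refine QuotientGroup.eq.1 ?_
    rw [QuotientGroup.mk_mul, ← hw, quotAut_mk]
  obtain ⟨c, hc, hcd⟩ : ∃ c, σ w = w * y * c ∧ (c = 1 ∨ c = x) :=
    ⟨_, (mul_inv_cancel_left _ _).symm, mem_zpowers_cases b.sq hm⟩
  have hσc : σ c = c := by rcases hcd with rfl | rfl; exacts [map_one σ, b.fixed]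
  have hcc : c * c = 1 := by rcases hcd with rfl | rfl; exacts [one_mul 1, b.sq]
  have hcen : ∀ g : R, g * c = c * g := by
    rcases hcd with rfl | rfl
    · intro g; rw [mul_one, one_mul]
    · exact mem_center_iff.1 b.central
  have h := b.f.invol w
  rw [hc, map_mul, map_mul, hc, hy, hσc] at h
  have e : w * y * c * (y * x) * c = w * (y * y * x) := by
    calc w * y * c * (y * x) * c = w * (y * (c * (y * x)) * c) := by group
      _ = w * (y * (y * x * c) * c) := by rw [← hcen]
      _ = w * (y * y * x * (c * c)) := by group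
      _ = w * (y * y * x) := by rw [hcc, mul_one]
  rw [e, mul_eq_left] at h
  exact (mul_eq_one_iff_eq_inv.1 h).trans (inv_eq_of_mul_eq_one_right b.sq)

/-- If `R` is not cyclic, at most half of the elements are inverted by `σ`. -/
theorem card_inverted (h : Fix2 σ) (hnc : ¬ IsCyclic R) :
    2 * Nat.card {r : R // σ r = r⁻¹} ≤ Nat.card R := by
  induction hn : Nat.card R using Nat.strong_induction_on generalizing R with
  | _ n ih =>
    by_cases hnt : Nontrivial R
    swap
    · rw [not_nontrivial_iff_subsingleton] at hnt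
      exact absurd isCyclic_of_subsingleton hnc
    obtain ⟨x, hx1, hx, hx2, hxc⟩ := exists_fixed h
    have b : Bottom σ x := ⟨h, hx1, hx, hx2, hxc⟩
    have := normal_zpowers hxc
    have hlt := card_quot_lt b
    by_cases hcy : IsCyclic (R ⧸ zpowers x)
    · have hcomm := (MonoidHom.isMulCommutative_of_isCyclic_of_ker_le_center (QuotientGroup.mk' (zpowers x))
        (by rw [QuotientGroup.ker_mk']; exact zpowers_le.2 hxc)).is_comm.comm
      let J : Subgroup R :=
        { carrier := {r | σ r = r⁻¹}
          one_mem' := by simp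
          mul_mem' := fun {a c} (ha : σ a = a⁻¹) (hc : σ c = c⁻¹) => by
            show σ (a * c) = (a * c)⁻¹
            rw [map_mul, ha, hc, mul_inv_rev, hcomm]
          inv_mem' := fun {a} (ha : σ a = a⁻¹) => by show σ a⁻¹ = a⁻¹⁻¹; rw [map_inv, ha] }
      have hJ : J ≠ ⊤ := by
        intro e
        refine hnc (Omega2Central.isCyclic_of_card_om_le h.two (fun r _ => mem_center_iff.2 fun g => hcomm g r) ?_)
        refine le_trans (Nat.card_le_card_of_injective
          (fun r => (⟨r.1, ?_⟩ : {r : R // σ r = r})) fun r r' e' => Subtype.ext (congrArg (fun w : {r : R // σ r = r} => (w : R)) e')) h.fix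
        have hr : σ r.1 = r.1⁻¹ := (e ▸ mem_top r.1 : r.1 ∈ J)
        rw [hr]
        exact inv_eq_of_mul_eq_one_right r.2
      have h2 := card_mul_index J
      have hi : 2 ≤ J.index := by
        have h0 : J.index ≠ 0 := index_ne_zero_of_finite
        have h1 : J.index ≠ 1 := fun e => hJ (index_eq_one.1 e)
        omega
      change 2 * Nat.card J ≤ n
      rw [← hn, ← h2, mul_comm 2]
      exact Nat.mul_le_mul_left _ hi
    · have hI := ih (Nat.card (R ⧸ zpowers x)) (by
        have := (Nat.card_pos : 0 < Nat.card (R ⧸ zpowers x))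
        omega) (quot_fix2 b) hcy rfl
      have hmap : Nat.card {r : R // σ r = r⁻¹} ≤
          Nat.card ({q : R ⧸ zpowers x // quotAut b q = q⁻¹} × Bool) := by
        classical
        refine Nat.card_le_card_of_injective (fun r => (⟨(r.1 : R ⧸ zpowers x), ?_⟩,
          decide (r.1 = (Quotient.out (r.1 : R ⧸ zpowers x))))) fun r r' e => ?_
        · rw [quotAut_mk, r.2]; rfl
        · simp only [Prod.mk.injEq, Subtype.mk.injEq] at e
          obtain ⟨e1, e2⟩ := e
          have hq : Quotient.out (r.1 : R ⧸ zpowers x) = Quotient.out (r'.1 : R ⧸ zpowers x) := by rw [e1]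
          rw [hq] at e2
          set o := Quotient.out (r'.1 : R ⧸ zpowers x) with ho
          have ho' : (o : R ⧸ zpowers x) = r'.1 := QuotientGroup.out_eq' _
          have h1 := mem_zpowers_cases b.sq (QuotientGroup.eq.1 (ho'.trans e1.symm))
          have h2 := mem_zpowers_cases b.sq (QuotientGroup.eq.1 ho')
          rw [inv_mul_eq_one] at h1 h2
          rw [inv_mul_eq_iff_eq_mul] at h1 h2
          refine Subtype.ext ?_
          by_cases hr : r.1 = o
          · rw [hr, (decide_eq_decide.1 e2).1 hr]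
          · rw [h1.resolve_left fun e' => hr e'.symm,
              h2.resolve_left fun e' => hr ((decide_eq_decide.1 e2).2 e'.symm)]
      rw [Nat.card_prod, Nat.card_eq_fintype_card (α := Bool), Fintype.card_bool] at hmap
      omega

/-- Square indices of subgroups of `R`. -/
theorem sqIndex (h : Fix2 σ) : ∀ D : Subgroup R, (sqSub D).relIndex D ≤ 4 ∧
    (3 ≤ (sqSub D).relIndex D → ∀ x : R, σ x = x → x ∈ D) := by
  induction hn : Nat.card R using Nat.strong_induction_on generalizing R with
  | _ n ih =>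
    intro D
    by_cases hnt : Nontrivial R
    swap
    · rw [not_nontrivial_iff_subsingleton] at hnt
      have : (sqSub D).relIndex D = 1 := relIndex_eq_one.2 fun y _ => by rw [Subsingleton.elim y 1]; exact one_mem _
      omega
    obtain ⟨x, hx1, hx, hx2, hxc⟩ := exists_fixed h
    have b : Bottom σ x := ⟨h, hx1, hx, hx2, hxc⟩
    have := normal_zpowers hxc
    have hcard := card_quot_lt b
    suffices (sqSub D).relIndex D ≤ 4 ∧ (3 ≤ (sqSub D).relIndex D → x ∈ D) by
      refine ⟨this.1, fun h3 r hr => ?_⟩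
      rcases eq_or_eq_one h hx1 hx hr with rfl | rfl
      · exact one_mem _
      · exact this.2 h3
    have hsmall : ∀ D' : Subgroup R, (sqSub D').relIndex D' ≤ Nat.card D' := fun D' =>
      Nat.le_of_dvd Nat.card_pos (Dvd.intro_left _ (card_mul_relIndex (sqSub_le D')))
    have hsplit := relIndex_eq_mul (QuotientGroup.mk' (zpowers x)) (sqSub_le D)
    rw [map_sqSub, QuotientGroup.ker_mk'] at hsplit
    obtain ⟨hI4, hI3⟩ := ih _ (by
      have := (Nat.card_pos : 0 < Nat.card (R ⧸ zpowers x))
      omega) (quot_fix2 b) rfl (D.map (QuotientGroup.mk' (zpowers x)))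
    set a := (sqSub (D.map (QuotientGroup.mk' (zpowers x)))).relIndex (D.map (QuotientGroup.mk' (zpowers x)))
    set c := (sqSub D ⊓ zpowers x).relIndex (D ⊓ zpowers x) with hc
    have hzcard : Nat.card (zpowers x) = 2 := by
      have h2 := card_eq_card_quotient_mul_card_subgroup (zpowers x)
      rw [← hcard] at h2
      exact (Nat.eq_of_mul_eq_mul_left (Nat.card_pos) h2).symm
    have hc2 : c ≤ 2 := by
      refine (Nat.le_of_dvd Nat.card_pos
        (Dvd.intro_left _ (card_mul_relIndex (inf_le_inf_right _ (sqSub_le D))))).trans ?_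
      exact (card_le_of_le inf_le_right).trans hzcard.le
    by_cases h8 : 8 ≤ Nat.card R
    swap
    · have hD := card_subgroup_dvd_card D
      have hR4 : Nat.card R ≤ 4 := by
        have : Fact (Nat.Prime 2) := ⟨Nat.prime_two⟩
        obtain ⟨j, hj⟩ := h.two.exists_card_eq
        rw [hj] at h8 ⊢
        have : j < 3 := (Nat.pow_lt_pow_iff_right (by norm_num : 1 < 2)).1 (by omega : 2 ^ j < 2 ^ 3)
        interval_cases j <;> norm_num
      refine ⟨(hsmall D).trans ((card_le_card_group D).trans hR4), fun h3 => ?_⟩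
      have hD3 := h3.trans (hsmall D)
      have : D = ⊤ := by
        refine eq_top_of_card_eq D ?_
        obtain ⟨k, hk⟩ := hD
        have := card_le_card_group D
        have hpos := (Nat.card_pos : 0 < Nat.card R)
        rcases Nat.lt_or_ge k 2 with hk2 | hk2
        · interval_cases k <;> omega
        · nlinarith
      rw [this]; exact mem_top x
    have : Nontrivial (R ⧸ zpowers x) := Finite.one_lt_card_iff_nontrivial.1 (by omega)
    obtain ⟨y, hy, -, by'⟩ := exists_shift b
    have hyy := sq_eq_of_shift b hy by' h8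
    have hbig : 3 ≤ a → x ∈ D ∧ c = 1 := by
      intro ha
      obtain ⟨d, hd, hdy⟩ := hI3 ha _ by'.fixed
      have hdd : d * d = x := by
        rcases mem_zpowers_cases hx2 (QuotientGroup.eq.1 hdy.symm) with e | e
        · rw [← inv_mul_eq_one.1 e, hyy]
        · have : d = y * x := by rw [← e, mul_inv_cancel_left]
          rw [this, mul_assoc y x, ← mul_assoc x y, ← mem_center_iff.1 hxc y, mul_assoc y x x, hx2, mul_one, hyy]
      have hxD : x ∈ sqSub D := hdd ▸ sq_mem hd
      refine ⟨sqSub_le D hxD, ?_⟩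
      rw [hc, relIndex_eq_one]
      intro r hr
      exact ⟨(zpowers_le.2 hxD) hr.2, hr.2⟩
    refine ⟨?_, fun h3 => ?_⟩
    · rw [hsplit]
      rcases Nat.lt_or_ge a 3 with ha | ha
      · nlinarith
      · rw [(hbig ha).2, mul_one]; exact hI4
    · by_contra hxD
      rcases Nat.lt_or_ge a 3 with ha | ha
      · have hc1 : c = 1 := by
          rw [hc, relIndex_eq_one]
          intro r hr
          rcases mem_zpowers_cases hx2 hr.2 with rfl | rfl
          · exact one_mem _
          · exact absurd hr.1 hxD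
        rw [hsplit, hc1] at h3
        omega
      · exact hxD (hbig ha).1

end CfsgLib.TwoGroups.InvolutionFix
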