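import Cfsg.Agent.TwoGroups.HaradaEightTwo
import Cfsg.Agent.TwoGroups.InvolutionFix

/-!
A normal elementary abelian subgroup of order 8 meeting `A` in a four-subgroup: the structure of its centralizer.
-/

set_option autoImplicit false
set_option linter.unusedSectionVars false

namespace CfsgLib.TwoGroups.Harada

open Subgroup SqIndex InvolutionFix

universe u

variable {S : Type u} [Group S] [Finite S]

namespace Setup

variable (d : Setup S)

/-- The data attached to an element `s` of `A` outside `E`. -/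
structure Four (d : Setup S) (s zs x : S) : Prop where
  h8 : Nat.card d.E = 8
  h4 : Nat.card (d.E ⊓ d.A : Subgroup S) = 4
  hs : s ∈ d.A
  hsE : s ∉ d.E
  zsP : zs ∈ d.E ⊓ d.A
  zs1 : zs ≠ 1
  dls : ∀ e ∈ d.E, s * e * s⁻¹ * e⁻¹ = 1 ∨ s * e * s⁻¹ * e⁻¹ = zs
  zs_ex : ∃ q ∈ d.E, s * q * s⁻¹ * q⁻¹ = zs
  hx : x ∈ d.F
  hxE : x ∉ d.E
  hxx : x * x ∈ d.E
  hxc : ∀ g : S, g * x * g⁻¹ * x⁻¹ ∈ d.E
  hw1 : x * x ≠ 1
  hwc : ∀ g : S, g * (x * x) * g⁻¹ = x * x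
  e0_one : s * x * s⁻¹ * x⁻¹ ≠ 1
  e0_zs : s * x * s⁻¹ * x⁻¹ ≠ zs

/-- An element of `F` commuting with `s` lies in `E`. -/
theorem comm_in_E (h4 : Nat.card (d.E ⊓ d.A : Subgroup S) = 4) {s : S} (hs : s ∈ d.A)
    (hsE : s ∉ d.E) {y : S} (hy : y ∈ d.F) (sy : s * y = y * s) : y ∈ d.E := by
  have hyA : y ∈ d.A := d.cent y fun a ha => by
    have hlt : d.E ⊓ d.A < d.A ⊓ centralizer {y} := by
      refine lt_of_le_of_ne (le_inf inf_le_right fun p hp =>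
        mem_centralizer_singleton_iff.2 (d.F_comm hy (mem_inf.1 hp).1)) fun e => hsE ?_
      exact (mem_inf.1 ((le_of_eq e.symm) (mem_inf.2 ⟨hs, mem_centralizer_singleton_iff.2 sy⟩))).1
    have hT : 4 < Nat.card (d.A ⊓ centralizer {y} : Subgroup S) := by
      rw [← h4]
      exact lt_of_le_of_ne (card_le_of_le hlt.le) fun e => hlt.ne (eq_of_le_of_card_ge hlt.le e.ge)
    exact mem_centralizer_singleton_iff.1
      (mem_inf.1 ((le_of_eq (card_le_eight_dvd inf_le_left d.cardA hT).symm) ha)).2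
  by_contra hyE
  have hfix := d.fixed_eq hyA hyE h4
  rw [inf_eq_left.2 fun e he => mem_centralizer_singleton_iff.2 (d.F_comm hy he)] at hfix
  exact hsE (by
    have := card_le_of_le (le_of_eq hfix : d.E ≤ d.E ⊓ d.A)
    have := d.large
    omega)

theorem exists_four (h8 : Nat.card d.E = 8) (h4 : Nat.card (d.E ⊓ d.A : Subgroup S) = 4)
    (hmax : ∀ N : Subgroup S, N.Normal → (∀ x ∈ N, x * x = 1) → Nat.card N ≤ 8) (hF : ¬ d.F ≤ d.E) :
    ∃ s zs x, Four d s zs x := by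
  classical
  have hAE : ¬ d.A ≤ d.E := fun h => by rw [inf_eq_right.2 h, d.cardA] at h4; omega
  obtain ⟨s, hs, hsE⟩ := d.exists_mem_A hAE
  have hfe := d.fixed_eq hs hsE h4
  have hk : Nat.card (d.dl s).ker = 4 := by
    rw [← h4, ← hfe]
    exact Nat.card_congr
      { toFun := fun y => ⟨(y.1 : S), mem_inf.2 ⟨y.1.2, mem_centralizer_singleton_iff.2 (d.dl_eq_one.1 y.2).symm⟩⟩
        invFun := fun y => ⟨⟨y.1, (mem_inf.1 y.2).1⟩,
          d.dl_eq_one.2 (mem_centralizer_singleton_iff.1 (mem_inf.1 y.2).2).symm⟩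
        left_inv := fun y => rfl
        right_inv := fun y => rfl }
  have hr2 : Nat.card (d.dl s).range = 2 := by
    have h := card_mul_index (d.dl s).ker
    rw [index_ker, hk, h8] at h
    omega
  obtain ⟨zs, ⟨⟨q, hq⟩, hqz⟩, hzs1⟩ : ∃ zs ∈ (d.dl s).range, zs ≠ 1 := by
    by_contra hno
    push Not at hno
    rw [(eq_bot_iff_forall _).2 hno, card_bot] at hr2
    omega
  rw [d.dl_apply] at hqz
  have hzsP : zs ∈ d.E ⊓ d.A := by
    rw [← hfe, ← hqz]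
    exact mem_inf.2 ⟨mul_mem (d.En.conj_mem q hq s) (inv_mem hq),
      mem_centralizer_singleton_iff.2 (d.inv_fix (d.hA s hs) hq).symm⟩
  have hdls : ∀ e ∈ d.E, s * e * s⁻¹ * e⁻¹ = 1 ∨ s * e * s⁻¹ * e⁻¹ = zs := fun e he =>
    or_iff_not_imp_left.2 fun h1 => eq_of_card_le_two hr2.le ⟨⟨e, he⟩, rfl⟩ ⟨⟨q, hq⟩, hqz⟩ h1 hzs1
  obtain ⟨x, hx, hxE, hxx, hxc⟩ := d.exists_central_mod hF
  have hxfix : ∀ g : S, g * (x * x) * g⁻¹ = x * x := fun g => by
    rw [← conj_mul]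
    refine d.sq_eq_of_coset hx ?_
    have h := d.En.conj_mem _ (hxc g) x⁻¹
    rwa [show x⁻¹ * (g * x * g⁻¹ * x⁻¹) * x⁻¹⁻¹ = x⁻¹ * (g * x * g⁻¹) by group] at h
  have hw1 : x * x ≠ 1 := by
    intro h1
    have hcom : ∀ e ∈ d.E, x * e = e * x := fun e he => (d.F_comm hx he).symm
    let X : Subgroup S :=
      { carrier := {y | y ∈ d.E ∨ x⁻¹ * y ∈ d.E}
        one_mem' := Or.inl (one_mem _)
        mul_mem' := fun {a c} (ha : a ∈ d.E ∨ x⁻¹ * a ∈ d.E) (hc : c ∈ d.E ∨ x⁻¹ * c ∈ d.E) => by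
          rcases ha with ha | ha <;> rcases hc with hc | hc
          · exact Or.inl (mul_mem ha hc)
          · right
            rw [show x⁻¹ * (a * c) = x⁻¹ * a * x * (x⁻¹ * c) by group]
            exact mul_mem (by simpa using d.En.conj_mem a ha x⁻¹) hc
          · right; rw [← mul_assoc]; exact mul_mem ha hc
          · left
            rw [show a * c = x * (x⁻¹ * a) * x⁻¹ * (x * x) * (x⁻¹ * c) by group]
            exact mul_mem (mul_mem (d.En.conj_mem _ ha x) hxx) hc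
        inv_mem' := fun {a} (ha : a ∈ d.E ∨ x⁻¹ * a ∈ d.E) => by
          rcases ha with ha | ha
          · exact Or.inl (inv_mem ha)
          · right
            rw [show x⁻¹ * a⁻¹ = x⁻¹ * (x⁻¹ * a)⁻¹ * x * (x * x)⁻¹ by group]
            exact mul_mem (by simpa using d.En.conj_mem _ (inv_mem ha) x⁻¹) (inv_mem hxx) }
    have hXn : X.Normal := ⟨fun v hv g => by
      rcases hv with hv | hv
      · exact Or.inl (d.En.conj_mem v hv g)
      · right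
        rw [show x⁻¹ * (g * v * g⁻¹) = x⁻¹ * (g * x * g⁻¹ * x⁻¹) * x * (g * (x⁻¹ * v) * g⁻¹) by group]
        exact mul_mem (by simpa using d.En.conj_mem _ (hxc g) x⁻¹) (d.En.conj_mem _ hv g)⟩
    have hle : d.E < X := lt_of_le_of_ne (fun v hv => Or.inl hv) fun e => hxE
      ((le_of_eq e.symm) (Or.inr (by simp)))
    have := card_le_half hle
    have := hmax X hXn (by
      rintro v (hv | hv)
      · exact d.Esq v hv
      · rw [d.sq_eq_of_coset hx hv, h1])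
    omega
  refine ⟨s, zs, x, h8, h4, hs, hsE, hzsP, hzs1, hdls, ⟨q, hq, hqz⟩, hx, hxE, hxx, hxc, hw1, hxfix,
    fun e => hxE (d.comm_in_E h4 hs hsE hx (mul_inv_eq_iff_eq_mul.1 (mul_inv_eq_one.1 e))), fun e => ?_⟩
  have hcom : s * (x * q) * s⁻¹ = x * q := by
    rw [← conj_mul, mul_inv_eq_iff_eq_mul.1 e, mul_inv_eq_iff_eq_mul.1 hqz]
    calc zs * x * (zs * q) = zs * (x * zs) * q := by group
      _ = x * q := by rw [← d.F_comm hx (mem_inf.1 hzsP).1, ← mul_assoc, d.Esq zs (mem_inf.1 hzsP).1, one_mul]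
  have h := d.comm_in_E h4 hs hsE (mul_mem hx (d.E_le_F hq)) (mul_inv_eq_iff_eq_mul.1 hcom)
  exact hxE (by simpa using mul_mem h (inv_mem hq))

variable {d} {s zs x : S}

theorem Four.ssq (c : Four d s zs x) : s * s = 1 := d.hA s c.hs

theorem Four.s_fix (c : Four d s zs x) {p : S} (hp : p ∈ d.E ⊓ d.A) : s * p * s⁻¹ = p := by
  rw [d.A_comm c.hs (mem_inf.1 hp).2, mul_inv_cancel_right]

theorem Four.e0P (c : Four d s zs x) : s * x * s⁻¹ * x⁻¹ ∈ d.E ⊓ d.A := by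
  rw [← d.fixed_eq c.hs c.hsE c.h4]
  refine mem_inf.2 ⟨c.hxc s, mem_centralizer_singleton_iff.2 ?_⟩
  have hsi : s⁻¹ = s := inv_eq_of_mul_eq_one_right c.ssq
  have h1 : s * (s * x * s⁻¹ * x⁻¹) * s⁻¹ = (s * x * s⁻¹ * x⁻¹)⁻¹ := by
    calc s * (s * x * s⁻¹ * x⁻¹) * s⁻¹ = (s * s) * x * s⁻¹ * x⁻¹ * s⁻¹ := by group
      _ = x * s * x⁻¹ * s⁻¹ := by rw [c.ssq, hsi, one_mul]
      _ = _ := by group
  rw [inv_eq_of_mul_eq_one_right (d.Esq _ (c.hxc s))] at h1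
  exact (mul_inv_eq_iff_eq_mul.1 h1).symm

theorem Four.wP (c : Four d s zs x) : x * x ∈ d.E ⊓ d.A :=
  mem_inf.2 ⟨c.hxx, d.cent _ fun a _ => mul_inv_eq_iff_eq_mul.1 (c.hwc a)⟩

/-- The elements of `E ⊓ A` in terms of two generators. -/
theorem four_cases_inf (h4 : Nat.card (d.E ⊓ d.A : Subgroup S) = 4) {a b p : S} (ha : a ∈ d.E ⊓ d.A)
    (hb : b ∈ d.E ⊓ d.A) (ha1 : a ≠ 1) (hb1 : b ≠ 1) (hba : b ≠ a) (hp : p ∈ d.E ⊓ d.A) :
    p = 1 ∨ p = a ∨ p = b ∨ p = a * b := by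
  have hle : d.four (mem_inf.1 ha).1 (mem_inf.1 hb).1 ≤ d.E ⊓ d.A := by
    intro y hy
    rcases (d.mem_four _ _).1 hy with e | e | e | e <;> rw [e]
    exacts [one_mem _, ha, hb, mul_mem ha hb]
  have heq := eq_of_le_of_card_ge hle (by rw [h4, d.card_four _ _ ha1 hb1 hba])
  exact (d.mem_four _ _).1 ((le_of_eq heq.symm) hp)

/-- The elements of `F` fixed by `s` modulo `E`. -/
theorem Four.fix_cases (c : Four d s zs x) {y : S} (hy : y ∈ d.F) (hc : s * y * s⁻¹ * y⁻¹ ∈ d.E) :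
    y ∈ d.E ∨ x⁻¹ * y ∈ d.E := by
  have small : ∀ v ∈ d.F, s * v * s⁻¹ * v⁻¹ = 1 ∨ s * v * s⁻¹ * v⁻¹ = zs → v ∈ d.E := by
    rintro v hv (e | e)
    · exact d.comm_in_E c.h4 c.hs c.hsE hv (mul_inv_eq_iff_eq_mul.1 (mul_inv_eq_one.1 e))
    · obtain ⟨q, hq, hqz⟩ := c.zs_ex
      have hz := (mem_inf.1 c.zsP).1
      have hcom : s * (v * q) * s⁻¹ = v * q := by
        rw [← conj_mul, mul_inv_eq_iff_eq_mul.1 e, mul_inv_eq_iff_eq_mul.1 hqz]
        calc zs * v * (zs * q) = zs * (v * zs) * q := by group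
          _ = v * q := by rw [← d.F_comm hv hz, ← mul_assoc, d.Esq zs hz, one_mul]
      have h := d.comm_in_E c.h4 c.hs c.hsE (mul_mem hv (d.E_le_F hq)) (mul_inv_eq_iff_eq_mul.1 hcom)
      simpa using mul_mem h (inv_mem hq)
  have hcP : s * y * s⁻¹ * y⁻¹ ∈ d.E ⊓ d.A := by
    rw [← d.fixed_eq c.hs c.hsE c.h4]
    refine mem_inf.2 ⟨hc, mem_centralizer_singleton_iff.2 ?_⟩
    have hsi : s⁻¹ = s := inv_eq_of_mul_eq_one_right c.ssq
    have h1 : s * (s * y * s⁻¹ * y⁻¹) * s⁻¹ = (s * y * s⁻¹ * y⁻¹)⁻¹ := by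
      calc s * (s * y * s⁻¹ * y⁻¹) * s⁻¹ = (s * s) * y * s⁻¹ * y⁻¹ * s⁻¹ := by group
        _ = y * s * y⁻¹ * s⁻¹ := by rw [c.ssq, hsi, one_mul]
        _ = _ := by group
    rw [inv_eq_of_mul_eq_one_right (d.Esq _ hc)] at h1
    exact (mul_inv_eq_iff_eq_mul.1 h1).symm
  have hshift : s * y * s⁻¹ * y⁻¹ = (s * x * s⁻¹ * x⁻¹) * (s * (x⁻¹ * y) * s⁻¹ * (x⁻¹ * y)⁻¹) := by
    set v := x⁻¹ * y with hv
    have hvF : v ∈ d.F := mul_mem (inv_mem c.hx) hy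
    have hyx : y = x * v := by rw [hv, mul_inv_cancel_left]
    have hvE : s * v * s⁻¹ * v⁻¹ ∈ d.E := by
      rw [show s * v * s⁻¹ * v⁻¹ = x⁻¹ * ((s * x * s⁻¹ * x⁻¹)⁻¹ * (s * y * s⁻¹ * y⁻¹)) * x⁻¹⁻¹ by
        rw [hyx]; group]
      exact d.En.conj_mem _ (mul_mem (inv_mem (c.hxc s)) hc) x⁻¹
    rw [hyx]
    calc s * (x * v) * s⁻¹ * (x * v)⁻¹ = (s * x * s⁻¹ * x⁻¹) * (x * (s * v * s⁻¹ * v⁻¹) * x⁻¹) := by group
      _ = _ := by rw [← d.F_comm c.hx hvE, mul_inv_cancel_right]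
  rcases four_cases_inf c.h4 c.e0P c.zsP c.e0_one c.zs1 (Ne.symm c.e0_zs) hcP with e | e | e | e
  · exact Or.inl (small y hy (Or.inl e))
  · exact Or.inr (small _ (mul_mem (inv_mem c.hx) hy) (Or.inl (mul_eq_left.1 (hshift.symm.trans e))))
  · exact Or.inl (small y hy (Or.inr e))
  · exact Or.inr (small _ (mul_mem (inv_mem c.hx) hy) (Or.inr (mul_left_cancel (hshift.symm.trans e))))

/-- An element commuting with `s` lies in `A` if `x ^ 2` differs from `zs`. -/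
theorem Four.centralizer_s (c : Four d s zs x) (hne : x * x ≠ zs) {g : S} (hg : g * s = s * g) : g ∈ d.A := by
  have hzsE := (mem_inf.1 c.zsP).1
  obtain ⟨q, hq, hqz⟩ := c.zs_ex
  have hgz : g * zs * g⁻¹ = zs := by
    have hgs : g * s * g⁻¹ = s := by rw [hg, mul_inv_cancel_right]
    have e : s * (g * q * g⁻¹) * s⁻¹ * (g * q * g⁻¹)⁻¹ = g * zs * g⁻¹ := by
      rw [← hqz]
      calc s * (g * q * g⁻¹) * s⁻¹ * (g * q * g⁻¹)⁻¹
          = (g * s * g⁻¹) * (g * q * g⁻¹) * (g * s * g⁻¹)⁻¹ * (g * q * g⁻¹)⁻¹ := by rw [hgs]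
        _ = _ := by group
    rcases c.dls _ (d.En.conj_mem q hq g) with h | h <;> rw [e] at h
    · exact absurd (conj_eq_one_iff.1 h) c.zs1
    · exact h
  have hgw := c.hwc g
  refine d.cent g fun a ha => ?_
  have hlt : d.E ⊓ d.A < d.A ⊓ centralizer {g} := by
    refine lt_of_le_of_ne (le_inf inf_le_right fun p hp => mem_centralizer_singleton_iff.2 ?_) fun e => c.hsE ?_
    · have e1 : Commute g zs := mul_inv_eq_iff_eq_mul.1 hgz
      have e2 : Commute g (x * x) := mul_inv_eq_iff_eq_mul.1 hgw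
      rcases four_cases_inf c.h4 c.zsP c.wP c.zs1 c.hw1 hne hp with e | e | e | e <;> rw [e]
      · rw [mul_one, one_mul]
      · exact e1.eq.symm
      · exact e2.eq.symm
      · exact (e1.mul_right e2).eq.symm
    · exact (mem_inf.1 ((le_of_eq e.symm) (mem_inf.2 ⟨c.hs, mem_centralizer_singleton_iff.2 hg.symm⟩))).1
  have hT : 4 < Nat.card (d.A ⊓ centralizer {g} : Subgroup S) := by
    rw [← c.h4]
    exact lt_of_le_of_ne (card_le_of_le hlt.le) fun e => hlt.ne (eq_of_le_of_card_ge hlt.le e.ge)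
  exact mem_centralizer_singleton_iff.1
    (mem_inf.1 ((le_of_eq (card_le_eight_dvd inf_le_left d.cardA hT).symm) ha)).2

/-- The image of `F` modulo `E`. -/
abbrev R (d : Setup S) : Subgroup (S ⧸ d.E) := d.F.map (QuotientGroup.mk' d.E)

/-- Conjugation by `s` on `F / E`. -/
def Four.σ (c : Four d s zs x) : R d ≃* R d :=
  have hn : (R d).Normal := (Setup.normal_F d).map _ (QuotientGroup.mk'_surjective _)
  have hss : (s : S ⧸ d.E) * s = 1 := by rw [← QuotientGroup.mk_mul, c.ssq, QuotientGroup.mk_one]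
  { toFun := fun r => ⟨(s : S ⧸ d.E) * r * (s : S ⧸ d.E)⁻¹, hn.conj_mem _ r.2 _⟩
    invFun := fun r => ⟨(s : S ⧸ d.E) * r * (s : S ⧸ d.E)⁻¹, hn.conj_mem _ r.2 _⟩
    left_inv := fun r => Subtype.ext (by
      show (s : S ⧸ d.E) * ((s : S ⧸ d.E) * r * (s : S ⧸ d.E)⁻¹) * (s : S ⧸ d.E)⁻¹ = r
      rw [show (s : S ⧸ d.E) * ((s : S ⧸ d.E) * r * (s : S ⧸ d.E)⁻¹) * (s : S ⧸ d.E)⁻¹ =
        ((s : S ⧸ d.E) * s) * r * ((s : S ⧸ d.E) * s)⁻¹ by group, hss, one_mul, inv_one, mul_one])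
    right_inv := fun r => Subtype.ext (by
      show (s : S ⧸ d.E) * ((s : S ⧸ d.E) * r * (s : S ⧸ d.E)⁻¹) * (s : S ⧸ d.E)⁻¹ = r
      rw [show (s : S ⧸ d.E) * ((s : S ⧸ d.E) * r * (s : S ⧸ d.E)⁻¹) * (s : S ⧸ d.E)⁻¹ =
        ((s : S ⧸ d.E) * s) * r * ((s : S ⧸ d.E) * s)⁻¹ by group, hss, one_mul, inv_one, mul_one])
    map_mul' := fun a b => Subtype.ext (conj_mul).symm }

theorem Four.σ_coe (c : Four d s zs x) (r : R d) :
    ((c.σ r : R d) : S ⧸ d.E) = (s : S ⧸ d.E) * r * (s : S ⧸ d.E)⁻¹ := rfl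

theorem Four.mk_x (c : Four d s zs x) : (x : S ⧸ d.E) ∈ R d := ⟨x, c.hx, rfl⟩

theorem Four.fix2 (c : Four d s zs x) : Fix2 c.σ := by
  classical
  refine ⟨(d.two.to_quotient _).to_subgroup _, fun r => c.σ.left_inv r, ?_⟩
  refine (Nat.card_le_card_of_injective (fun r => decide (r.1 = 1)) fun a b e => ?_).trans (by simp)
  have key : ∀ r : R d, c.σ r = r → r = 1 ∨ (r : S ⧸ d.E) = x := by
    rintro ⟨_, ⟨y, hy, rfl⟩⟩ h
    have h' := congrArg (fun r : R d => (r : S ⧸ d.E)) h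
    rw [c.σ_coe] at h'
    rcases c.fix_cases hy ((QuotientGroup.eq_one_iff _).1 (mul_inv_eq_one.2 h')) with e | e
    · exact Or.inl (Subtype.ext ((QuotientGroup.eq_one_iff y).2 e))
    · exact Or.inr (QuotientGroup.eq.2 e).symm
  refine Subtype.ext ?_
  by_cases ha : a.1 = 1
  · rw [ha, (decide_eq_decide.1 e).1 ha]
  · exact Subtype.ext (((key a.1 a.2).resolve_left ha).trans
      ((key b.1 b.2).resolve_left fun hb => ha ((decide_eq_decide.1 e).2 hb)).symm)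

theorem Four.card_F (c : Four d s zs x) : Nat.card (R d) * 8 = Nat.card d.F := by
  have h := card_map_mul (QuotientGroup.mk' d.E) d.F
  rwa [QuotientGroup.ker_mk', inf_eq_right.2 d.E_le_F, c.h8] at h

end Setup

end CfsgLib.TwoGroups.Harada
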