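import Cfsg.Agent.TwoGroups.HaradaTools

/-!
The case of a normal elementary abelian subgroup of order 16.
-/

set_option autoImplicit false
set_option linter.unusedSectionVars false

namespace CfsgLib.TwoGroups.Harada

open Subgroup SqIndex

universe u

variable {S : Type u} [Group S] [Finite S]

theorem mk_comm_of_mem {N : Subgroup S} [N.Normal] {a b : S} (h : a * b * a⁻¹ * b⁻¹ ∈ N) :
    (a : S ⧸ N) * b = b * a := by
  have := (QuotientGroup.eq_one_iff _).2 h
  rwa [QuotientGroup.mk_mul, QuotientGroup.mk_mul, QuotientGroup.mk_mul, QuotientGroup.mk_inv,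
    QuotientGroup.mk_inv, mul_inv_eq_one, mul_inv_eq_iff_eq_mul] at this

theorem mem_of_mk_comm {N : Subgroup S} [N.Normal] {a b : S} (h : (a : S ⧸ N) * b = b * a) :
    a * b * a⁻¹ * b⁻¹ ∈ N := by
  refine (QuotientGroup.eq_one_iff _).1 ?_
  rw [QuotientGroup.mk_mul, QuotientGroup.mk_mul, QuotientGroup.mk_mul, QuotientGroup.mk_inv,
    QuotientGroup.mk_inv, mul_inv_eq_one, mul_inv_eq_iff_eq_mul]
  exact h

namespace Setup

variable (d : Setup S)

/-- The facts about one element of `A` which give the bound for a normal subgroup of order 16. -/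
structure Core (d : Setup S) (s : S) : Prop where
  mem : s ∈ d.A
  not_mem : s ∉ d.E
  hK : Nat.card (centralizer {(s : S ⧸ d.E)}) ≤ 4
  hfix : ∀ x : S, s * x * s⁻¹ * x⁻¹ ∈ d.E → x ∉ d.E →
    Nat.card (d.E ⊓ centralizer {x} : Subgroup S) ≤ 4 ∧
      (s⁻¹ * x ∉ d.E → Nat.card (d.E ⊓ centralizer {x} ⊓ centralizer {s} : Subgroup S) ≤ 2)

theorem card_fix_sixteen (h16 : 16 ≤ Nat.card d.E) {s : S} (hs : s ∈ d.A) (hsE : s ∉ d.E) :
    Nat.card (d.E ⊓ centralizer {s} : Subgroup S) = 4 ∧ Nat.card d.E = 16 := by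
  have hle : Nat.card (d.E ⊓ centralizer {s} : Subgroup S) ≤ 4 := by
    rcases d.A_inter with h | h | h
    · exact d.card_fix_le_two h hs hsE
    · rw [d.fixed_eq hs hsE h, h]
    · exact absurd (h hs) hsE
  have h := d.card_le_sq (d.hA s hs) d.E le_rfl fun w hw => d.En.conj_mem w hw s
  have h' := Nat.mul_le_mul hle hle
  refine ⟨?_, by omega⟩
  by_contra hne
  have h3 : Nat.card (d.E ⊓ centralizer {s} : Subgroup S) ≤ 3 := by omega
  have := Nat.mul_le_mul h3 h3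
  omega

/-- Commuting modulo `E` lifts to commuting. -/
theorem lift (h16 : 16 ≤ Nat.card d.E) {s : S} (hs : s ∈ d.A) (hsE : s ∉ d.E) {x : S}
    (hx : s * x * s⁻¹ * x⁻¹ ∈ d.E) : ∃ e ∈ d.E, s * (e * x) = e * x * s := by
  obtain ⟨h4, hE⟩ := d.card_fix_sixteen h16 hs hsE
  have hk : Nat.card (d.dl s).ker = 4 := by
    rw [← h4]
    exact Nat.card_congr
      { toFun := fun y => ⟨(y.1 : S), mem_inf.2 ⟨y.1.2, mem_centralizer_singleton_iff.2 (d.dl_eq_one.1 y.2).symm⟩⟩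
        invFun := fun y => ⟨⟨y.1, (mem_inf.1 y.2).1⟩,
          d.dl_eq_one.2 (mem_centralizer_singleton_iff.1 (mem_inf.1 y.2).2).symm⟩
        left_inv := fun y => rfl
        right_inv := fun y => rfl }
  have hrange : (d.dl s).range = d.E ⊓ centralizer {s} := by
    refine eq_of_le_of_card_ge ?_ ?_
    · rintro _ ⟨y, rfl⟩
      exact mem_inf.2 ⟨d.dl_mem s y, mem_centralizer_singleton_iff.2 (d.inv_fix (d.hA s hs) y.2).symm⟩
    · have h := card_mul_index (d.dl s).ker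
      rw [index_ker, hk, hE] at h
      rw [h4]
      omega
  set c := s * x * s⁻¹ * x⁻¹ with hc
  have hcs : c * s = s * c := by
    have hsi : s⁻¹ = s := inv_eq_of_mul_eq_one_right (d.hA s hs)
    have h1 : s * c * s⁻¹ = c⁻¹ := by
      rw [hc]
      calc s * (s * x * s⁻¹ * x⁻¹) * s⁻¹ = (s * s) * x * s⁻¹ * x⁻¹ * s⁻¹ := by group
        _ = x * s * x⁻¹ * s⁻¹ := by rw [d.hA s hs, hsi, one_mul]
        _ = _ := by group
    rw [inv_eq_of_mul_eq_one_right (d.Esq _ hx)] at h1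
    exact (mul_inv_eq_iff_eq_mul.1 h1).symm
  obtain ⟨⟨e, he⟩, hec⟩ : c ∈ (d.dl s).range := hrange ▸ mem_inf.2 ⟨hx, mem_centralizer_singleton_iff.2 hcs⟩
  refine ⟨e, he, mul_inv_eq_iff_eq_mul.1 ?_⟩
  rw [d.dl_apply] at hec
  rw [← conj_mul, mul_inv_eq_iff_eq_mul.1 hec, mul_inv_eq_iff_eq_mul.1 hc.symm]
  calc c * e * (c * x) = (c * e * c) * x := by group
    _ = e * x := by rw [d.E_comm hx he, mul_assoc e, d.Esq c hx, mul_one]

/-- Elements commuting modulo `E` with two independent elements of `A`. -/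
theorem in_EA (h16 : 16 ≤ Nat.card d.E) (h2 : Nat.card (d.E ⊓ d.A : Subgroup S) = 2) {s u x : S}
    (hs : s ∈ d.A) (hu : u ∈ d.A) (hsE : s ∉ d.E) (huE : u ∉ d.E) (hsu : s⁻¹ * u ∉ d.E)
    (hx : s * x * s⁻¹ * x⁻¹ ∈ d.E) (hxu : u * x * u⁻¹ * x⁻¹ ∈ d.E) : ∃ e ∈ d.E, e * x ∈ d.A := by
  classical
  obtain ⟨z, hzE, hz1, hzc⟩ := d.exists_central_mem (N := d.E) (by omega)
  have hzA : z ∈ d.A := d.cent z fun a _ => mul_inv_eq_iff_eq_mul.1 (hzc a)
  have hP : ∀ v ∈ d.E, s * v = v * s → u * v = v * u → v = 1 ∨ v = z := by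
    intro v hv vs vu
    have hvA := d.fix_pair h2 hs hu hsE huE hsu hv vs vu
    by_contra hno
    push Not at hno
    let : Fintype (d.E ⊓ d.A : Subgroup S) := Fintype.ofFinite _
    have h := Finset.card_le_univ
      ({⟨1, one_mem _⟩, ⟨z, mem_inf.2 ⟨hzE, hzA⟩⟩, ⟨v, mem_inf.2 ⟨hv, hvA⟩⟩} : Finset (d.E ⊓ d.A : Subgroup S))
    rw [Finset.card_insert_of_notMem (by simp [Subtype.ext_iff, hz1.symm, hno.1.symm]),
      Finset.card_insert_of_notMem (by simp [Subtype.ext_iff, hno.2.symm]), Finset.card_singleton,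
      ← Nat.card_eq_fintype_card] at h
    omega
  have key : ∀ y : S, s * y = y * s → u * y = y * u → y ∈ d.A := by
    intro y sy uy
    have hT : 4 < Nat.card (d.A ⊓ centralizer {y} : Subgroup S) := by
      let : Fintype (d.A ⊓ centralizer {y} : Subgroup S) := Fintype.ofFinite _
      have m1 : s ∈ d.A ⊓ centralizer {y} := mem_inf.2 ⟨hs, mem_centralizer_singleton_iff.2 sy⟩
      have m2 : u ∈ d.A ⊓ centralizer {y} := mem_inf.2 ⟨hu, mem_centralizer_singleton_iff.2 uy⟩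
      have m3 : z ∈ d.A ⊓ centralizer {y} :=
        mem_inf.2 ⟨hzA, mem_centralizer_singleton_iff.2 (mul_inv_eq_iff_eq_mul.1 (hzc y)).symm⟩
      have hs' : s⁻¹ = s := inv_eq_of_mul_eq_one_right (d.hA s hs)
      rw [hs'] at hsu
      have a1 : s ≠ 1 := fun e => hsE (e ▸ one_mem _)
      have b1 : u ≠ 1 := fun e => huE (e ▸ one_mem _)
      have ab1 : s * u ≠ 1 := fun e => hsu (e ▸ one_mem _)
      have za : z ≠ s := fun e => hsE (e ▸ hzE)
      have zb : z ≠ u := fun e => huE (e ▸ hzE)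
      have zab : z ≠ s * u := fun e => hsu (e ▸ hzE)
      have ab : s ≠ u := fun e => ab1 (by rw [← e]; exact d.hA s hs)
      have aab : s ≠ s * u := fun e => b1 (mul_eq_left.1 e.symm)
      have bab : u ≠ s * u := fun e => a1 (mul_eq_right.1 e.symm)
      have h5 := Finset.card_le_univ ({⟨1, one_mem _⟩, ⟨z, m3⟩, ⟨s, m1⟩, ⟨u, m2⟩, ⟨s * u, mul_mem m1 m2⟩} :
        Finset (d.A ⊓ centralizer {y} : Subgroup S))
      rw [Finset.card_insert_of_notMem (by simp [Subtype.ext_iff, hz1.symm, a1.symm, b1.symm, ab1.symm]),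
        Finset.card_insert_of_notMem (by simp [Subtype.ext_iff, za, zb, zab]),
        Finset.card_insert_of_notMem (by simp [Subtype.ext_iff, ab, aab]),
        Finset.card_insert_of_notMem (by simp [Subtype.ext_iff, bab]), Finset.card_singleton,
        ← Nat.card_eq_fintype_card] at h5
      omega
    have hle := card_le_eight_dvd inf_le_left d.cardA hT
    exact d.cent y fun c hc => mem_centralizer_singleton_iff.1 (mem_inf.1 ((le_of_eq hle.symm) hc)).2
  obtain ⟨e, he, hes⟩ := d.lift h16 hs hsE hx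
  set y := e * x with hy
  have hus : Commute s u := d.A_comm hs hu
  have hc : u * y * u⁻¹ * y⁻¹ ∈ d.E := by
    refine mem_of_mk_comm ?_
    rw [hy, QuotientGroup.mk_mul, (QuotientGroup.eq_one_iff e).2 he, one_mul]
    exact mk_comm_of_mem hxu
  have hcs : Commute s (u * y * u⁻¹ * y⁻¹) :=
    (((Commute.mul_right hus (hes : Commute s y)).mul_right hus.inv_right).mul_right
      (Commute.inv_right (hes : Commute s y)))
  have hcu : u * (u * y * u⁻¹ * y⁻¹) = (u * y * u⁻¹ * y⁻¹) * u := by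
    have hui : u⁻¹ = u := inv_eq_of_mul_eq_one_right (d.hA u hu)
    have h1 : u * (u * y * u⁻¹ * y⁻¹) * u⁻¹ = (u * y * u⁻¹ * y⁻¹)⁻¹ := by
      calc u * (u * y * u⁻¹ * y⁻¹) * u⁻¹ = (u * u) * y * u⁻¹ * y⁻¹ * u⁻¹ := by group
        _ = y * u * y⁻¹ * u⁻¹ := by rw [d.hA u hu, hui, one_mul]
        _ = _ := by group
    rw [inv_eq_of_mul_eq_one_right (d.Esq _ hc)] at h1
    exact mul_inv_eq_iff_eq_mul.1 h1
  rcases hP _ hc hcs.eq hcu with h | h
  · exact ⟨e, he, key _ hes (mul_inv_eq_iff_eq_mul.1 (mul_inv_eq_one.1 h))⟩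
  obtain ⟨w, hw, hwu⟩ : ∃ w ∈ d.E ⊓ centralizer {s}, u * w ≠ w * u := by
    by_contra hno
    push Not at hno
    have hle := card_le_two (C := d.E ⊓ centralizer {s}) (z := z) fun v hv =>
      hP v (mem_inf.1 hv).1 (mem_centralizer_singleton_iff.1 (mem_inf.1 hv).2).symm (hno v hv)
    have := (d.card_fix_sixteen h16 hs hsE).1
    omega
  obtain ⟨hwE, hws⟩ := mem_inf.1 hw
  have sw : Commute s w := (mem_centralizer_singleton_iff.1 hws).symm
  have hm : u * w * u⁻¹ * w⁻¹ ∈ d.E := mul_mem (d.En.conj_mem w hwE u) (inv_mem hwE)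
  have hdw : u * w * u⁻¹ * w⁻¹ = z :=
    (hP _ hm (((Commute.mul_right hus sw).mul_right hus.inv_right).mul_right sw.inv_right).eq
      (d.inv_fix (d.hA u hu) hwE)).resolve_left fun h0 => hwu (mul_inv_eq_iff_eq_mul.1 (mul_inv_eq_one.1 h0))
  refine ⟨w * e, mul_mem hwE he, ?_⟩
  rw [mul_assoc, ← hy]
  refine key _ (Commute.mul_right sw (hes : Commute s y)).eq (mul_inv_eq_iff_eq_mul.1 ?_)
  rw [← conj_mul, mul_inv_eq_iff_eq_mul.1 h, mul_inv_eq_iff_eq_mul.1 hdw]
  calc z * w * (z * y) = (z * w * z) * y := by group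
    _ = w * y := by rw [d.E_comm hzE hwE, mul_assoc w, d.Esq z hzE, mul_one]

theorem core_of_four (h16 : 16 ≤ Nat.card d.E) (h4 : Nat.card (d.E ⊓ d.A : Subgroup S) = 4) {s : S}
    (hs : s ∈ d.A) (hsE : s ∉ d.E) : Core d s := by
  have hfe := d.fixed_eq hs hsE h4
  have hA : centralizer {s} ⊓ centralizer ((d.E ⊓ d.A : Subgroup S) : Set S) ≤ d.A := by
    intro y hy
    obtain ⟨hys, hyP⟩ := mem_inf.1 hy
    refine d.cent y fun a ha => ?_
    have hT : 4 < Nat.card (d.A ⊓ centralizer {y} : Subgroup S) := by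
      have hlt : d.E ⊓ d.A < d.A ⊓ centralizer {y} := by
        refine lt_of_le_of_ne (le_inf inf_le_right fun p hp =>
          mem_centralizer_singleton_iff.2 (mem_centralizer_iff.1 hyP p hp)) fun e => hsE ?_
        exact (mem_inf.1 ((le_of_eq e.symm) (mem_inf.2 ⟨hs, mem_centralizer_singleton_iff.2
          (mem_centralizer_singleton_iff.1 hys).symm⟩))).1
      rw [← h4]
      exact lt_of_le_of_ne (card_le_of_le hlt.le) fun e => hlt.ne (eq_of_le_of_card_ge hlt.le e.ge)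
    exact mem_centralizer_singleton_iff.1
      (mem_inf.1 ((le_of_eq (card_le_eight_dvd inf_le_left d.cardA hT).symm) ha)).2
  obtain ⟨z, hz, hz1, hzc⟩ := d.exists_central_mem (N := d.E) (by omega)
  have hzP : z ∈ d.E ⊓ d.A := mem_inf.2 ⟨hz, d.cent z fun a _ => mul_inv_eq_iff_eq_mul.1 (hzc a)⟩
  have hC : Nat.card (centralizer {s}) ≤ 16 := by
    refine (d.two_orbit inf_le_left h4 (fun x hx p hp => ?_) hzP hz1 fun x _ => hzc x).trans ?_
    · rw [← hfe] at hp ⊢
      refine mem_inf.2 ⟨d.En.conj_mem p (mem_inf.1 hp).1 x, mem_centralizer_singleton_iff.2 ?_⟩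
      have hxs : Commute x s := mem_centralizer_singleton_iff.1 hx
      have hps : Commute p s := mem_centralizer_singleton_iff.1 (mem_inf.1 hp).2
      exact ((hxs.mul_left hps).mul_left hxs.inv_left).eq
    · exact (Nat.mul_le_mul_right 2 ((card_le_of_le hA).trans d.cardA.le))
  refine ⟨hs, hsE, ?_, ?_⟩
  · have hle : centralizer {(s : S ⧸ d.E)} ≤ (centralizer {s}).map (QuotientGroup.mk' d.E) := by
      intro q hq
      obtain ⟨x, rfl⟩ := QuotientGroup.mk_surjective q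
      obtain ⟨e, he, hex⟩ := d.lift h16 hs hsE (mem_of_mk_comm (mem_centralizer_singleton_iff.1 hq).symm)
      refine ⟨e * x, mem_centralizer_singleton_iff.2 hex.symm, ?_⟩
      rw [QuotientGroup.mk'_apply, QuotientGroup.mk_mul, (QuotientGroup.eq_one_iff e).2 he, one_mul]
    refine (card_le_of_le hle).trans ?_
    have h := card_map_mul (QuotientGroup.mk' d.E) (centralizer {s})
    rw [QuotientGroup.ker_mk', inf_comm, hfe, h4] at h
    omega
  · intro x hx hxE
    obtain ⟨e, he, hex⟩ := d.lift h16 hs hsE hx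
    have hxx : d.E ⊓ centralizer {x} = d.E ⊓ centralizer {e * x} := (d.fix_congr (d.E_le_F he)).symm
    rw [hxx]
    set y := e * x with hy
    by_cases hsx : s⁻¹ * x ∈ d.E
    · refine ⟨?_, fun h => absurd hsx h⟩
      have : y = (e * (s * (s⁻¹ * x) * s⁻¹)) * s := by rw [hy]; group
      rw [this, d.fix_congr (d.E_le_F (mul_mem he (d.En.conj_mem _ hsx s))), hfe, h4]
    · have h2 : Nat.card (d.E ⊓ centralizer {y} ⊓ centralizer {s} : Subgroup S) ≤ 2 := by
        have hle : d.E ⊓ centralizer {y} ⊓ centralizer {s} ≤ d.E ⊓ d.A := by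
          rw [← hfe]; exact inf_le_inf_right _ inf_le_left
        have hlt : d.E ⊓ centralizer {y} ⊓ centralizer {s} < d.E ⊓ d.A := by
          refine lt_of_le_of_ne hle fun eq => hsx ?_
          have hyA : y ∈ d.A := hA (mem_inf.2 ⟨mem_centralizer_singleton_iff.2 hex.symm,
            mem_centralizer_iff.2 fun p hp =>
              mem_centralizer_singleton_iff.1 (mem_inf.1 (mem_inf.1 ((le_of_eq eq.symm) hp)).1).2⟩)
          have hidx : ((d.E ⊓ d.A).subgroupOf d.A).index = 2 := by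
            have h := card_mul_index ((d.E ⊓ d.A).subgroupOf d.A)
            rw [Nat.card_congr (subgroupOfEquivOfLe (inf_le_right : d.E ⊓ d.A ≤ d.A)).toEquiv, h4, d.cardA] at h
            omega
          have hyE : y ∉ d.E := fun h => hxE (by simpa [hy] using mul_mem (inv_mem he) h)
          have hsy : s⁻¹ * y ∈ d.E := (mem_inf.1 ((mul_mem_iff_of_index_two hidx
            (a := (⟨s⁻¹, inv_mem hs⟩ : d.A)) (b := ⟨y, hyA⟩)).2
            ⟨fun h => absurd (by simpa using inv_mem (mem_inf.1 h).1) hsE,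
              fun h => absurd (mem_inf.1 h).1 hyE⟩)).1
          have hsi := d.En.conj_mem e⁻¹ (inv_mem he) s⁻¹
          have := mul_mem hsi hsy
          rwa [hy, show s⁻¹ * e⁻¹ * s⁻¹⁻¹ * (s⁻¹ * (e * x)) = s⁻¹ * x by group] at this
        have := card_le_half hlt
        rw [h4] at this
        omega
      refine ⟨(d.card_le_sq (d.hA s hs) _ inf_le_left fun w hw => ?_).trans (Nat.mul_le_mul h2 h2), fun _ => h2⟩
      refine mem_inf.2 ⟨d.En.conj_mem w (mem_inf.1 hw).1 s, mem_centralizer_singleton_iff.2 ?_⟩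
      have hwy : Commute w y := mem_centralizer_singleton_iff.1 (mem_inf.1 hw).2
      exact ((Commute.mul_left (hex : Commute s y) hwy).mul_left (Commute.inv_left (hex : Commute s y))).eq

theorem card_map_A (h2 : Nat.card (d.E ⊓ d.A : Subgroup S) = 2) :
    Nat.card (d.A.map (QuotientGroup.mk' d.E)) = 4 := by
  have h := card_map_mul (QuotientGroup.mk' d.E) d.A
  rw [QuotientGroup.ker_mk', inf_comm, h2, d.cardA] at h
  omega

theorem core_of_two (h16 : 16 ≤ Nat.card d.E) (h2 : Nat.card (d.E ⊓ d.A : Subgroup S) = 2) :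
    ∃ s, Core d s := by
  have : Fact (Nat.Prime 2) := ⟨Nat.prime_two⟩
  obtain ⟨a, ha, haE, -⟩ := d.exists_second h2 1
  obtain ⟨b, hb, hbE, hab⟩ := d.exists_second h2 a
  have hne : Nontrivial (S ⧸ d.E) :=
    ⟨(a : S ⧸ d.E), 1, fun e => haE ((QuotientGroup.eq_one_iff a).1 e)⟩
  have := (d.two.to_quotient d.E).center_nontrivial
  obtain ⟨⟨q, hq⟩, hq1⟩ := exists_ne (1 : center (S ⧸ d.E))
  obtain ⟨x, rfl⟩ := QuotientGroup.mk_surjective q
  obtain ⟨e, he, hu⟩ := d.in_EA h16 h2 ha hb haE hbE hab (mem_of_mk_comm (mem_center_iff.1 hq _))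
    (mem_of_mk_comm (mem_center_iff.1 hq _))
  have hux : ((e * x : S) : S ⧸ d.E) = x := by
    rw [QuotientGroup.mk_mul, (QuotientGroup.eq_one_iff e).2 he, one_mul]
  have huE : e * x ∉ d.E := fun h => hq1 (Subtype.ext (hux.symm.trans ((QuotientGroup.eq_one_iff _).2 h)))
  obtain ⟨s, hs, hsE, hus⟩ := d.exists_second h2 (e * x)
  have hsu : s⁻¹ * (e * x) ∉ d.E := fun h => hus (by simpa [mul_assoc] using inv_mem h)
  have key : ∀ y, s * y * s⁻¹ * y⁻¹ ∈ d.E → ∃ f ∈ d.E, f * y ∈ d.A := fun y hy =>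
    d.in_EA h16 h2 hs hu hsE huE hsu hy (mem_of_mk_comm (by rw [hux]; exact (mem_center_iff.1 hq _).symm))
  refine ⟨s, hs, hsE, ?_, ?_⟩
  · refine (card_le_of_le (K := d.A.map (QuotientGroup.mk' d.E)) ?_).trans (d.card_map_A h2).le
    intro q hq'
    obtain ⟨y, rfl⟩ := QuotientGroup.mk_surjective q
    obtain ⟨f, hf, hfy⟩ := key y (mem_of_mk_comm (mem_centralizer_singleton_iff.1 hq').symm)
    refine ⟨f * y, hfy, ?_⟩
    rw [QuotientGroup.mk'_apply, QuotientGroup.mk_mul, (QuotientGroup.eq_one_iff f).2 hf, one_mul]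
  · intro y hy hyE
    obtain ⟨f, hf, hfy⟩ := key y hy
    have hfyE : f * y ∉ d.E := fun h => hyE (by simpa using mul_mem (inv_mem hf) h)
    rw [← d.fix_congr (g := y) (d.E_le_F hf)]
    refine ⟨d.card_fix_le_two h2 hfy hfyE, fun hsy => ?_⟩
    refine (card_le_of_le (K := d.E ⊓ d.A) ?_).trans h2.le
    intro w hw
    obtain ⟨hw1, hws⟩ := mem_inf.1 hw
    obtain ⟨hwE, hwy⟩ := mem_inf.1 hw1
    refine mem_inf.2 ⟨hwE, d.fix_pair h2 hs hfy hsE hfyE (fun h => hsy ?_) hwE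
      (mem_centralizer_singleton_iff.1 hws).symm (mem_centralizer_singleton_iff.1 hwy).symm⟩
    have := mul_mem (d.En.conj_mem f⁻¹ (inv_mem hf) s⁻¹) h
    rwa [show s⁻¹ * f⁻¹ * s⁻¹⁻¹ * (s⁻¹ * (f * y)) = s⁻¹ * y by group] at this

theorem exists_core (h16 : 16 ≤ Nat.card d.E) (hAE : ¬ d.A ≤ d.E) : ∃ s, Core d s := by
  rcases d.A_inter with h | h | h
  · exact d.core_of_two h16 h
  · obtain ⟨s, hs, hsE⟩ := d.exists_mem_A hAE
    exact ⟨s, d.core_of_four h16 h hs hsE⟩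
  · exact absurd h hAE

theorem F_eq_sixteen (h16 : 16 ≤ Nat.card d.E) {s : S} (c : Core d s) : d.F = d.E := by
  refine le_antisymm ?_ d.E_le_F
  by_contra hFE
  have hne : Nat.card (d.F.map (QuotientGroup.mk' d.E)) ≠ 1 := by
    intro e
    refine hFE ?_
    have hbot : d.F.map (QuotientGroup.mk' d.E) = ⊥ := eq_bot_of_card_le _ e.le
    rwa [Subgroup.map_eq_bot_iff, QuotientGroup.ker_mk'] at hbot
  have : (d.F.map (QuotientGroup.mk' d.E)).Normal :=
    (Setup.normal_F d).map _ (QuotientGroup.mk'_surjective _)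
  obtain ⟨_, ⟨x, hx, rfl⟩, hx1, hxc⟩ :=
    FourGroup.Base.exists_central (S := d.F.map (QuotientGroup.mk' d.E)) hne (d.two.to_quotient _)
  have hxE : x ∉ d.E := fun h => hx1 ((QuotientGroup.eq_one_iff x).2 h)
  have h := (c.hfix x (mem_of_mk_comm (mul_inv_eq_iff_eq_mul.1 (hxc _))) hxE).1
  rw [inf_eq_left.2 fun e he => mem_centralizer_singleton_iff.2 (d.F_comm hx he)] at h
  omega

/-- The quotient is small and subgroups of large index meet the centralizer of `s`. -/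
theorem quot_sixteen (h16 : 16 ≤ Nat.card d.E) {s : S} (c : Core d s) :
    Nat.card (S ⧸ d.E) ≤ 8 ∧ (Nat.card (S ⧸ d.E) = 8 → ∃ a b : S ⧸ d.E, a * b ≠ b * a) ∧
      ∀ H : Subgroup (S ⧸ d.E), 4 ≤ Nat.card H → ∃ q ∈ H, q ≠ 1 ∧ q ∈ centralizer {(s : S ⧸ d.E)} := by
  have : Fact (Nat.Prime 2) := ⟨Nat.prime_two⟩
  have hQ := d.two.to_quotient d.E
  obtain ⟨h4, hE⟩ := d.card_fix_sixteen h16 c.mem c.not_mem
  have hF := d.F_eq_sixteen h16 c
  set K := centralizer {(s : S ⧸ d.E)} with hK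
  have hK4 : Nat.card K ≤ 4 := c.hK
  have hs1 : (s : S ⧸ d.E) ≠ 1 := fun e => c.not_mem ((QuotientGroup.eq_one_iff s).1 e)
  have hsK : (s : S ⧸ d.E) ∈ K := mem_centralizer_singleton_iff.2 rfl
  have hmeet : Nat.card (S ⧸ d.E) < 4 * Nat.card K → ∀ H : Subgroup (S ⧸ d.E), 4 ≤ Nat.card H →
      ∃ q ∈ H, q ≠ 1 ∧ q ∈ K := by
    intro hlt H hH
    by_contra hno
    push Not at hno
    have := Nat.card_le_card_of_injective (fun p : H × K => (p.1 : S ⧸ d.E) * p.2) fun p p' e => ?_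
    · rw [Nat.card_prod] at this
      have := Nat.mul_le_mul_right (Nat.card K) hH
      omega
    · have e' : ((p'.1 : S ⧸ d.E))⁻¹ * p.1 = p'.2 * (p.2 : S ⧸ d.E)⁻¹ := by
        dsimp only at e
        rw [eq_mul_inv_iff_mul_eq, mul_assoc, e, inv_mul_cancel_left]
      have h1 : ((p'.1 : S ⧸ d.E))⁻¹ * p.1 = 1 := by
        by_contra h1
        exact hno _ (mul_mem (inv_mem p'.1.2) p.1.2) h1 (e' ▸ mul_mem p'.2.2 (inv_mem p.2.2))
      rw [h1, eq_comm, mul_inv_eq_one] at e'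
      exact Prod.ext (Subtype.ext (inv_mul_eq_one.1 h1).symm) (Subtype.ext e'.symm)
  have hK2 : 2 ≤ Nat.card K := (one_lt_card_iff_ne_bot _).2 fun e => hs1 (mem_bot.1 (e ▸ hsK))
  by_cases hKtop : K = ⊤
  · have hle : Nat.card (S ⧸ d.E) ≤ 4 := by rw [← card_top, ← hKtop]; exact hK4
    exact ⟨by omega, fun h => absurd h (by omega), hmeet (by omega)⟩
  have hnc : ∃ g : S ⧸ d.E, g * s ≠ s * g := by
    by_contra hno
    push Not at hno
    exact hKtop (eq_top_iff.2 fun g _ => mem_centralizer_singleton_iff.2 (hno g))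
  have hnt : Nontrivial (S ⧸ d.E) := ⟨_, 1, hs1⟩
  have := hQ.center_nontrivial
  obtain ⟨⟨q, hqZ⟩, hq⟩ := exists_prime_orderOf_dvd_card' 2
    ((hQ.to_subgroup (center (S ⧸ d.E))).card_eq_or_dvd.resolve_left Finite.one_lt_card.ne')
  rw [orderOf_mk] at hq
  have hq2 : q * q = 1 := by rw [← pow_two, ← hq, pow_orderOf_eq_one]
  have hq1 : q ≠ 1 := fun e => by rw [e, orderOf_one] at hq; omega
  have hqK : q ∈ K := mem_centralizer_singleton_iff.2 (mem_center_iff.1 hqZ _).symm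
  have hqs : q ≠ s := fun e => by
    obtain ⟨g, hg⟩ := hnc
    exact hg (e ▸ mem_center_iff.1 hqZ g)
  obtain ⟨x, rfl⟩ := QuotientGroup.mk_surjective q
  have hxE : x ∉ d.E := fun h => hq1 ((QuotientGroup.eq_one_iff x).2 h)
  obtain ⟨hx4, hx2⟩ := c.hfix x (mem_of_mk_comm (mem_centralizer_singleton_iff.1 hqK).symm) hxE
  have hsx : s⁻¹ * x ∉ d.E := fun h => hqs (QuotientGroup.eq.2 h).symm
  have hxx : x * x ∈ d.F := by rw [hF]; exact (QuotientGroup.eq_one_iff _).1 hq2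
  have hxcen : ∀ g : S, g * x * g⁻¹ * x⁻¹ ∈ d.E := fun g => mem_of_mk_comm (mem_center_iff.1 hqZ _)
  set W := d.E ⊓ centralizer {x} with hW
  have hWn : ∀ g : S, ∀ w ∈ W, g * w * g⁻¹ ∈ W := by
    intro g w hw
    refine mem_inf.2 ⟨d.En.conj_mem w (mem_inf.1 hw).1 g, ?_⟩
    have h1 : g * w * g⁻¹ ∈ d.E ⊓ centralizer {g * x * g⁻¹} := by
      refine mem_inf.2 ⟨d.En.conj_mem w (mem_inf.1 hw).1 g, mem_centralizer_singleton_iff.2 ?_⟩
      rw [conj_mul, conj_mul, mem_centralizer_singleton_iff.1 (mem_inf.1 hw).2]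
    rw [show g * x * g⁻¹ = (g * x * g⁻¹ * x⁻¹) * x by group, d.fix_congr (d.E_le_F (hxcen g))] at h1
    exact (mem_inf.1 h1).2
  have hW4 : Nat.card W = 4 := by
    have h := d.card_le_sq' hxx d.E le_rfl fun w hw => d.En.conj_mem w hw x
    rw [← hW, hE] at h
    by_contra hne
    have h3 : Nat.card W ≤ 3 := by omega
    have := Nat.mul_le_mul h3 h3
    omega
  have : W.Normal := ⟨fun n hn g => hWn g n hn⟩
  obtain ⟨z, hzW, hz1, hzc⟩ := d.exists_central_mem (N := W) (by omega)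
  set M := centralizer (W : Set S)
  have hSM := d.two_orbit (C := ⊤) (P := W) inf_le_left hW4 (fun g _ w hw => hWn g w hw) hzW hz1 fun g _ => hzc g
  rw [card_top, top_inf_eq] at hSM
  have hEM : d.E ≤ M := fun e he => mem_centralizer_iff.2 fun w hw => d.E_comm (mem_inf.1 hw).1 he
  have hMF : ∀ m ∈ M, m * m ∈ d.E := by
    intro m hm
    rw [← hF]
    refine mem_centralizer_iff.2 fun e he => ?_
    have hme : m * e * m⁻¹ ∈ d.E := d.En.conj_mem e he m
    have hc : m * e * m⁻¹ * e⁻¹ ∈ d.E := mul_mem hme (inv_mem he)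
    have hfix : m * (m * e * m⁻¹ * e⁻¹) = (m * e * m⁻¹ * e⁻¹) * m := by
      refine (mem_centralizer_iff.1 hm _ (mem_inf.2 ⟨hc, mem_centralizer_singleton_iff.2 ?_⟩)).symm
      refine (d.dl_eq_one (g := x) (e := ⟨_, hc⟩)).1 ?_ |>.symm
      set f : d.E := ⟨e, he⟩
      have h1 : d.dl x ⟨m * e * m⁻¹, hme⟩ = d.dl x f := by
        have hxw : d.dl x f ∈ W := mem_inf.2 ⟨d.dl_mem x f,
          mem_centralizer_singleton_iff.2 (d.inv_fix' hxx he).symm⟩
        have hmw : m * d.dl x f * m⁻¹ = d.dl x f := by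
          rw [← mem_centralizer_iff.1 hm _ hxw, mul_inv_cancel_right]
        have hmx := hxcen m
        rw [← hmw, d.dl_apply, d.dl_apply]
        calc x * (m * e * m⁻¹) * x⁻¹ * (m * e * m⁻¹)⁻¹
            = ((m * x * m⁻¹ * x⁻¹) * (x * (m * e * m⁻¹) * x⁻¹) * (m * x * m⁻¹ * x⁻¹)⁻¹) * (m * e * m⁻¹)⁻¹ := by
              rw [d.E_comm hmx (d.En.conj_mem _ hme x), mul_inv_cancel_right]
          _ = m * (x * e * x⁻¹ * e⁻¹) * m⁻¹ := by group
      have h2 : (⟨_, hc⟩ : d.E) = ⟨m * e * m⁻¹, hme⟩ * f⁻¹ := rfl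
      rw [h2, map_mul, h1, map_inv, mul_inv_cancel]
    refine (mul_inv_eq_iff_eq_mul.1 ?_).symm
    set k := m * e * m⁻¹ * e⁻¹ with hk
    have h1 : m * e * m⁻¹ = k * e := mul_inv_eq_iff_eq_mul.1 hk.symm
    calc m * m * e * (m * m)⁻¹ = (m * k * m⁻¹) * (m * e * m⁻¹) := by
          rw [conj_mul, ← h1]; group
      _ = k * (k * e) := by rw [hfix, mul_inv_cancel_right, h1]
      _ = e := by rw [← mul_assoc, d.Esq k hc, one_mul]
  have hsM : s ∉ M := by
    intro h
    have hle : W ≤ W ⊓ centralizer {s} := fun w hw =>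
      mem_inf.2 ⟨hw, mem_centralizer_singleton_iff.2 (mem_centralizer_iff.1 h w hw)⟩
    have := card_le_of_le hle
    have := hx2 hsx
    omega
  set N := M.map (QuotientGroup.mk' d.E) with hN
  have hNsq : ∀ m ∈ N, m * m = 1 := by
    rintro _ ⟨m, hm, rfl⟩
    rw [← map_mul]
    exact (QuotientGroup.eq_one_iff _).2 (hMF m hm)
  have hsN : (s : S ⧸ d.E) ∉ N := by
    rintro ⟨m, hm, hms⟩
    refine hsM ?_
    have := mul_mem hm (hEM (QuotientGroup.eq.1 hms))
    rwa [mul_inv_cancel_left] at this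
  have : M.Normal := Subgroup.normal_centralizer
  have hNn : N.Normal := Subgroup.Normal.map (inferInstance : M.Normal) _ (QuotientGroup.mk'_surjective _)
  have hsconj : ∀ m ∈ N, (s : S ⧸ d.E) * m * (s : S ⧸ d.E)⁻¹ ∈ N := fun m hm => hNn.conj_mem m hm _
  let φ : N →* S ⧸ d.E :=
    { toFun := fun m => m * ((s : S ⧸ d.E) * m * (s : S ⧸ d.E)⁻¹)
      map_one' := by simp
      map_mul' := fun a b => by
        have hab := comm_of_sq N hNsq b.2 (hsconj a a.2)
        simp only [Subgroup.coe_mul]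
        rw [← conj_mul]
        simp only [mul_assoc]
        simp only [← mul_assoc] at hab ⊢
        calc (a : S ⧸ d.E) * b * (s : S ⧸ d.E) * a * (s : S ⧸ d.E)⁻¹ * (s : S ⧸ d.E) * b * (s : S ⧸ d.E)⁻¹
            = (a : S ⧸ d.E) * ((b : S ⧸ d.E) * ((s : S ⧸ d.E) * a * (s : S ⧸ d.E)⁻¹)) *
              ((s : S ⧸ d.E) * b * (s : S ⧸ d.E)⁻¹) := by group
          _ = (a : S ⧸ d.E) * (((s : S ⧸ d.E) * a * (s : S ⧸ d.E)⁻¹) * b) *
              ((s : S ⧸ d.E) * b * (s : S ⧸ d.E)⁻¹) := by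
              rw [comm_of_sq N hNsq b.2 (hsconj a a.2)]
          _ = _ := by group }
  have hss : (s : S ⧸ d.E) * s = 1 := by
    rw [← QuotientGroup.mk_mul, d.hA s c.mem, QuotientGroup.mk_one]
  have hN2 : Nat.card (N ⊓ K : Subgroup (S ⧸ d.E)) ≤ 2 := by
    have hlt : N ⊓ K < K := inf_lt_right.2 fun h => hsN (h hsK)
    have := card_le_half hlt
    omega
  have hN4 : Nat.card N ≤ 4 := by
    have h := card_mul_index φ.ker
    rw [index_ker] at h
    rw [← h]
    refine le_of_le_of_eq (Nat.mul_le_mul (?_ : _ ≤ 2) (?_ : _ ≤ 2)) rfl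
    · refine le_trans (Nat.card_le_card_of_injective (fun m => (⟨(m.1 : S ⧸ d.E), mem_inf.2 ⟨m.1.2,
        mem_centralizer_singleton_iff.2 ?_⟩⟩ : (N ⊓ K : Subgroup (S ⧸ d.E)))) fun a b e => ?_) hN2
      · have hm : (s : S ⧸ d.E) * m.1 * (s : S ⧸ d.E)⁻¹ = m.1 :=
          (inv_eq_of_mul_eq_one_right (m.2 : (m.1 : S ⧸ d.E) * ((s : S ⧸ d.E) * m.1 * (s : S ⧸ d.E)⁻¹) = 1)).symm.trans
            (inv_eq_of_mul_eq_one_right (hNsq _ m.1.2))
        exact (mul_inv_eq_iff_eq_mul.1 hm).symm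
      · exact Subtype.ext (Subtype.ext (congrArg (fun w : (N ⊓ K : Subgroup (S ⧸ d.E)) => (w : S ⧸ d.E)) e))
    · refine le_trans (card_le_of_le ?_) hN2
      rintro _ ⟨m, rfl⟩
      have hsm := hsconj m m.2
      refine mem_inf.2 ⟨mul_mem m.2 hsm, mem_centralizer_singleton_iff.2 (mul_inv_eq_iff_eq_mul.1 ?_).symm⟩
      have h := comm_of_sq N hNsq m.2 hsm
      change (s : S ⧸ d.E) * ((m : S ⧸ d.E) * ((s : S ⧸ d.E) * m * (s : S ⧸ d.E)⁻¹)) * (s : S ⧸ d.E)⁻¹ =
        (m : S ⧸ d.E) * ((s : S ⧸ d.E) * m * (s : S ⧸ d.E)⁻¹)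
      have hsi : (s : S ⧸ d.E)⁻¹ = s := inv_eq_of_mul_eq_one_right hss
      rw [← conj_mul, h]
      congr 1
      calc (s : S ⧸ d.E) * ((s : S ⧸ d.E) * m * (s : S ⧸ d.E)⁻¹) * (s : S ⧸ d.E)⁻¹
          = ((s : S ⧸ d.E) * s) * m * ((s : S ⧸ d.E) * s)⁻¹ := by group
        _ = m := by rw [hss, inv_one, one_mul, mul_one]
  have hQcard : Nat.card (S ⧸ d.E) ≤ 2 * Nat.card N := by
    have h1 := card_eq_card_quotient_mul_card_subgroup d.E
    have h2 := card_map_mul (QuotientGroup.mk' d.E) M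
    rw [QuotientGroup.ker_mk', inf_eq_right.2 hEM, ← hN] at h2
    rw [h1, ← h2, hE] at hSM
    omega
  have hKc : 3 ≤ Nat.card K := by
    classical
    let : Fintype K := Fintype.ofFinite _
    have h := Finset.card_le_univ ({⟨1, one_mem _⟩, ⟨(s : S ⧸ d.E), hsK⟩, ⟨x, hqK⟩} : Finset K)
    rw [Finset.card_insert_of_notMem (by simp [Subtype.ext_iff, hs1.symm, hq1.symm]),
      Finset.card_insert_of_notMem (by simp [Subtype.ext_iff, hqs.symm]), Finset.card_singleton,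
      ← Nat.card_eq_fintype_card] at h
    exact h
  refine ⟨by omega, fun _ => ?_, hmeet (by omega)⟩
  obtain ⟨g, hg⟩ := hnc
  exact ⟨g, _, hg⟩

/-- The bound in the case of order 16. -/
theorem bound_sixteen (h16 : 16 ≤ Nat.card d.E) (hAE : ¬ d.A ≤ d.E) (H : Subgroup S) :
    (sqSub H).relIndex H ≤ 16 := by
  obtain ⟨s, c⟩ := d.exists_core h16 hAE
  have hE := (d.card_fix_sixteen h16 c.mem c.not_mem).2
  have hF := d.F_eq_sixteen h16 c
  obtain ⟨hQ8, hnc, hmeet⟩ := d.quot_sixteen h16 c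
  set π := QuotientGroup.mk' d.E
  have ha4 : (sqSub (H.map π)).relIndex (H.map π) ≤ 4 :=
    relIndex_small_quotient (d.two.to_quotient _) hQ8 hnc _
  have hsplit := relIndex_eq_mul π (sqSub_le H)
  rw [map_sqSub, QuotientGroup.ker_mk'] at hsplit
  rw [hsplit]
  have hb16 : (sqSub H ⊓ d.E).relIndex (H ⊓ d.E) ≤ 16 := by
    refine (Nat.le_of_dvd Nat.card_pos (Dvd.intro_left _
      (card_mul_relIndex (inf_le_inf_right d.E (sqSub_le H))))).trans ?_
    exact (card_le_of_le inf_le_right).trans hE.le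
  rcases Nat.lt_or_ge ((sqSub (H.map π)).relIndex (H.map π)) 3 with ha | ha
  · rcases d.half_or_centralize H with hb | hb
    · calc _ ≤ 2 * (sqSub H ⊓ d.E).relIndex (H ⊓ d.E) := Nat.mul_le_mul_right _ (by omega)
        _ ≤ 16 := by omega
    · have hker : H ≤ π.ker := by
        rw [QuotientGroup.ker_mk', ← hF]; exact hb
      rw [relIndex_map_eq_one π hker, one_mul]
      exact hb16
  · obtain ⟨q, ⟨x, hxH, rfl⟩, hq1, hqK⟩ := hmeet (H.map π) (by
      have h := card_mul_relIndex (sqSub_le (H.map π))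
      have hne : Nat.card (H.map π) ≠ 3 := by
        have : Fact (Nat.Prime 2) := ⟨Nat.prime_two⟩
        obtain ⟨j, hj⟩ := ((d.two.to_quotient d.E).to_subgroup (H.map π)).exists_card_eq
        rw [hj]
        rcases j with _ | _ | j
        · norm_num
        · norm_num
        · intro e; rw [pow_succ, pow_succ] at e; omega
      have := relIndex_sq_le_card (H.map π)
      omega)
    have hxE : x ∉ d.E := fun h => hq1 ((QuotientGroup.eq_one_iff x).2 h)
    have hfix := (c.hfix x (mem_of_mk_comm (mem_centralizer_singleton_iff.1 hqK).symm) hxE).1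
    exact Nat.mul_le_mul ha4 (d.cut_le hxH hfix)

end Setup

end CfsgLib.TwoGroups.Harada
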