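import Cfsg.Agent.S1138
import Cfsg.Agent.S1139
import Cfsg.Agent.SuzukiTwoGroup.CentralExt
import Cfsg.Agent.SuzukiTwoGroup.Center
import Cfsg.Agent.SuzukiTwoGroup.Order
import Cfsg.Agent.Solvable.Frattini
import Mathlib.GroupTheory.Frattini

/-!
2-groups with exactly three involutions and an automorphism of 3-power order moving them:
homocyclic of rank 2, or of order 64 and unique (the Sylow 2-subgroup of `U₃(4)`).
-/

set_option autoImplicit false
set_option linter.unusedSectionVars false

namespace CfsgLib.TwoGroups.RankTwoTransitive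

open Subgroup
open scoped commutatorElement

universe u

variable {T : Type u} [Group T]

/-- `T` has exactly three involutions, `z` one of them, and `ψ`, of 3-power order, moves `z`. -/
structure Tri [Finite T] (ψ : MulAut T) (z : T) : Prop where
  two : IsPGroup 2 T
  sq : z * z = 1
  ne : z ≠ 1
  card : Nat.card {x : T // x * x = 1} = 4
  move : ψ z ≠ z
  ord : ∃ k : ℕ, ψ ^ 3 ^ k = 1

/-- An automorphism of odd order fixing all involutions of an abelian 2-group is trivial. -/
theorem eq_one_of_fix_of_comm [Finite T] (hT : IsPGroup 2 T) (hc : ∀ x y : T, x * y = y * x)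
    {π : MulAut T} {N : ℕ} (hN : Odd N) (hπ : π ^ N = 1) (hfix : ∀ x : T, x * x = 1 → π x = x) :
    π = 1 := by
  refine MulEquiv.ext fun x => ?_
  obtain ⟨j, hj⟩ := hT x
  show π x = x
  induction j generalizing x with
  | zero => rw [pow_zero, pow_one] at hj; rw [hj, map_one]
  | succ j ih =>
    have h2 : π (x * x) = x * x := ih (x * x) (by rw [← sq, ← pow_mul, ← pow_succ']; exact hj)
    set c := π x * x⁻¹ with hcdef
    have hc2 : c * c = 1 := by
      rw [hcdef]
      calc π x * x⁻¹ * (π x * x⁻¹) = π x * (x⁻¹ * π x) * x⁻¹ := by group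
        _ = π x * (π x * x⁻¹) * x⁻¹ := by rw [hc x⁻¹ (π x)]
        _ = π (x * x) * (x * x)⁻¹ := by rw [map_mul]; group
        _ = 1 := by rw [h2, mul_inv_cancel]
    have hcf := hfix c hc2
    have hn : ∀ i : ℕ, (π ^ i) x = c ^ i * x := by
      intro i
      induction i with
      | zero => simp
      | succ i ihi =>
        rw [pow_succ', MulAut.mul_apply, ihi, map_mul, map_pow, hcf, pow_succ, mul_assoc]
        congr 1
        rw [hcdef, inv_mul_cancel_right]
    have hN' := hn N
    rw [hπ] at hN'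
    have h1 : c ^ N = 1 := (mul_eq_right.1 hN'.symm)
    have h3 : c = 1 := by
      obtain ⟨m, rfl⟩ := hN
      rwa [pow_succ, pow_mul, pow_two, hc2, one_pow, one_mul] at h1
    exact mul_inv_eq_one.1 h3

namespace Tri

variable [Finite T] {ψ : MulAut T} {z : T} (h : Tri ψ z)
include h

theorem move_two : ψ (ψ z) ≠ z := by
  intro he
  obtain ⟨k, hk⟩ := h.ord
  have hn : ∀ i : ℕ, (ψ ^ (2 * i + 1)) z = ψ z := by
    intro i
    induction i with
    | zero => simp
    | succ i ih =>
      rw [show 2 * (i + 1) + 1 = (2 * i + 1) + 2 from by ring, pow_add, MulAut.mul_apply, pow_two,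
        MulAut.mul_apply, he, ih]
  obtain ⟨i, hi⟩ : Odd (3 ^ k) := Odd.pow (by decide)
  have := hn i
  rw [← hi, hk] at this
  exact h.move this.symm

theorem sq_map {x : T} (hx : x * x = 1) : ψ x * ψ x = 1 := by rw [← map_mul, hx, map_one]

theorem cases {x : T} (hx : x * x = 1) : x = 1 ∨ x = z ∨ x = ψ z ∨ x = ψ (ψ z) := by
  classical
  let : Fintype {x : T // x * x = 1} := Fintype.ofFinite _
  have h4 : Fintype.card {x : T // x * x = 1} = 4 := by rw [← Nat.card_eq_fintype_card, h.card]
  let a : {x : T // x * x = 1} := ⟨1, one_mul 1⟩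
  let b : {x : T // x * x = 1} := ⟨z, h.sq⟩
  let c : {x : T // x * x = 1} := ⟨ψ z, h.sq_map h.sq⟩
  let d : {x : T // x * x = 1} := ⟨ψ (ψ z), h.sq_map (h.sq_map h.sq)⟩
  have hab : a ≠ b := fun e => h.ne (congrArg Subtype.val e).symm
  have hac : a ≠ c := fun e => h.ne (ψ.map_eq_one_iff.1 (congrArg Subtype.val e).symm)
  have had : a ≠ d := fun e => h.ne (ψ.map_eq_one_iff.1 (ψ.map_eq_one_iff.1 (congrArg Subtype.val e).symm))
  have hbc : b ≠ c := fun e => h.move (congrArg Subtype.val e).symm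
  have hbd : b ≠ d := fun e => h.move_two (congrArg Subtype.val e).symm
  have hcd : c ≠ d := fun e => h.move (ψ.injective (congrArg Subtype.val e)).symm
  have hs : ({a, b, c, d} : Finset {x : T // x * x = 1}) = Finset.univ := by
    refine Finset.eq_univ_of_card _ ?_
    rw [h4, Finset.card_insert_of_notMem (by simp [hab, hac, had]),
      Finset.card_insert_of_notMem (by simp [hbc, hbd]), Finset.card_insert_of_notMem (by simp [hcd]),
      Finset.card_singleton]
  have hm : (⟨x, hx⟩ : {x : T // x * x = 1}) ∈ ({a, b, c, d} : Finset _) := hs ▸ Finset.mem_univ _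
  simp only [Finset.mem_insert, Finset.mem_singleton] at hm
  rcases hm with e | e | e | e
  · exact Or.inl (congrArg Subtype.val e)
  · exact Or.inr (Or.inl (congrArg Subtype.val e))
  · exact Or.inr (Or.inr (Or.inl (congrArg Subtype.val e)))
  · exact Or.inr (Or.inr (Or.inr (congrArg Subtype.val e)))

theorem cube : ψ (ψ (ψ z)) = z := by
  rcases h.cases (h.sq_map (h.sq_map (h.sq_map h.sq))) with e | e | e | e
  · exact absurd (ψ.map_eq_one_iff.1 (ψ.map_eq_one_iff.1 (ψ.map_eq_one_iff.1 e))) h.ne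
  · exact e
  · exact absurd (ψ.injective e) h.move_two
  · exact absurd (ψ.injective (ψ.injective e)) h.move

theorem cube_fix {x : T} (hx : x * x = 1) : (ψ ^ 3) x = x := by
  rw [pow_succ, pow_two, MulAut.mul_apply, MulAut.mul_apply]
  rcases h.cases hx with rfl | rfl | rfl | rfl
  · simp
  · exact h.cube
  · rw [h.cube]
  · rw [h.cube]

theorem transitive (x y : T) (hx1 : x ≠ 1) (hx : x * x = 1) (hy1 : y ≠ 1) (hy : y * y = 1) :
    ∃ k : zpowers ψ, (zpowers ψ).subtype k x = y := by
  have key : ∀ i : ℕ, ∃ k : zpowers ψ, ∀ w : T, (zpowers ψ).subtype k w = (ψ ^ i) w := fun i =>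
    ⟨⟨ψ ^ i, npow_mem_zpowers ψ i⟩, fun _ => rfl⟩
  have h3 := h.cube
  obtain ⟨i, hi⟩ : ∃ i : ℕ, (ψ ^ i) x = y := by
    rcases h.cases hx with rfl | rfl | rfl | rfl <;> rcases h.cases hy with rfl | rfl | rfl | rfl <;>
      first
        | exact absurd rfl hx1
        | exact absurd rfl hy1
        | (refine ⟨0, ?_⟩; simp; done)
        | (refine ⟨1, ?_⟩; simp [h3]; done)
        | (refine ⟨2, ?_⟩; simp [pow_two, h3]; done)
  obtain ⟨k, hk⟩ := key i
  exact ⟨k, (hk x).trans hi⟩

theorem mem_center {x : T} (hx : x * x = 1) : x ∈ center T :=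
  SuzukiTwoGroup.involution_mem_center (zpowers ψ).subtype h.transitive h.two hx

/-- Only the identity is fixed. -/
theorem eq_one_of_fix {x : T} (hx : ψ x = x) : x = 1 := by
  obtain ⟨j, hj⟩ := h.two x
  induction j generalizing x with
  | zero => rwa [pow_zero, pow_one] at hj
  | succ j ih =>
    have hfx : ψ (x * x) = x * x := by rw [map_mul, hx]
    have hpw : (x * x) ^ 2 ^ j = 1 := by rw [← pow_two x, ← pow_mul, ← pow_succ']; exact hj
    have h2 : x * x = 1 := ih hfx hpw
    rcases h.cases h2 with e | e | e | e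
    · exact e
    · exact absurd (e ▸ hx : ψ z = z) h.move
    · exact absurd (ψ.injective (e ▸ hx : ψ (ψ z) = ψ z)) h.move
    · exact absurd (ψ.injective (ψ.injective (e ▸ hx : ψ (ψ (ψ z)) = ψ (ψ z)))) h.move

theorem prod_three {x : T} (hx : x * x = 1) : x * ψ x * ψ (ψ x) = 1 := by
  have key : z * ψ z * ψ (ψ z) = 1 := by
    refine h.eq_one_of_fix ?_
    rw [map_mul, map_mul, h.cube]
    exact (Subgroup.mem_center_iff.1 (h.mem_center h.sq) _).trans (mul_assoc _ _ _).symm
  have hzc := Subgroup.mem_center_iff.1 (h.mem_center h.sq)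
  rcases h.cases hx with rfl | rfl | rfl | rfl
  · simp
  · exact key
  · rw [h.cube, mul_assoc, mul_eq_one_comm, mul_assoc, mul_eq_one_comm, mul_assoc, ← mul_assoc z, key] <;> simp
  · rw [h.cube, mul_assoc, mul_eq_one_comm, key]

theorem center_sq (hna : ¬ ∀ x y : T, x * y = y * x) {x : T} (hx : x ∈ center T) : x * x = 1 := by
  by_contra hne
  refine hna (SuzukiTwoGroup.mul_comm_of_center_exponent _ (zpowers ψ).subtype (fun a b => ?_)
    h.transitive h.two rfl ⟨x, hx, hne⟩)
  obtain ⟨_, i, rfl⟩ := a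
  obtain ⟨_, j, rfl⟩ := b
  exact Subtype.ext ((Commute.refl ψ).zpow_zpow i j).eq

theorem card_center (hna : ¬ ∀ x y : T, x * y = y * x) : Nat.card (center T) = 4 := by
  rw [← h.card]
  exact Nat.card_congr (Equiv.subtypeEquivRight fun x => ⟨h.center_sq hna, h.mem_center⟩)

theorem restrict (M : Subgroup T) (hz : z ∈ M) (hM : M.map ψ.toMonoidHom = M) :
    ∃ ψ' : MulAut M, Tri ψ' ⟨z, hz⟩ ∧ ∀ x : M, ((ψ' x : M) : T) = ψ x := by
  let ψ' : MulAut M := (M.equivMapOfInjective ψ.toMonoidHom ψ.injective).trans (MulEquiv.subgroupCongr hM)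
  have hψ' : ∀ x : M, ((ψ' x : M) : T) = ψ x := fun x => rfl
  have hpow : ∀ (i : ℕ) (x : M), (((ψ' ^ i) x : M) : T) = (ψ ^ i) x := by
    intro i
    induction i with
    | zero => intro x; rfl
    | succ i ih => intro x; rw [pow_succ', pow_succ', MulAut.mul_apply, MulAut.mul_apply, hψ', ih]
  refine ⟨ψ', ⟨h.two.to_subgroup M, Subtype.ext h.sq, fun e => h.ne (congrArg Subtype.val e), ?_,
    fun e => h.move ((hψ' _).symm.trans (congrArg Subtype.val e)), ?_⟩, hψ'⟩
  · have hmem : ∀ x : T, x * x = 1 → x ∈ M := by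
      have hψz : ψ z ∈ M := hM ▸ ⟨z, hz, rfl⟩
      intro x hx
      rcases h.cases hx with rfl | rfl | rfl | rfl
      · exact one_mem _
      · exact hz
      · exact hψz
      · exact hM ▸ ⟨ψ z, hψz, rfl⟩
    rw [← h.card]
    exact Nat.card_congr
      { toFun := fun x => ⟨x.1.1, congrArg Subtype.val x.2⟩
        invFun := fun x => ⟨⟨x.1, hmem _ x.2⟩, Subtype.ext x.2⟩
        left_inv := fun x => rfl
        right_inv := fun x => rfl }
  · obtain ⟨k, hk⟩ := h.ord
    exact ⟨k, MulEquiv.ext fun x => Subtype.ext (by rw [hpow, hk]; rfl)⟩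

end Tri

/-- An automorphism of 3-power order of a group with at most 16 elements has order at most 3. -/
theorem pow_three_eq_one_of_card_le {W : Type*} [Group W] [Finite W] (hW : IsPGroup 2 W)
    (hc : Nat.card W ≤ 16) (a : MulAut W) (ha : ∃ k : ℕ, a ^ 3 ^ k = 1) : a ^ 3 = 1 := by
  classical
  by_contra hne
  have hex : ∃ j, a ^ 3 ^ j = 1 := ha
  set j := Nat.find hex with hj
  have hj2 : 2 ≤ j := by
    by_contra hlt
    have hs := Nat.find_spec hex
    rw [← hj] at hs
    rcases (by omega : j = 0 ∨ j = 1) with e | e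
    · rw [e, pow_zero, pow_one] at hs
      exact hne (by rw [hs, one_pow])
    · rw [e, pow_one] at hs
      exact hne hs
  set b := a ^ 3 ^ (j - 2) with hb
  have hb9 : b ^ 9 = 1 := by
    rw [hb, ← pow_mul, show 3 ^ (j - 2) * 9 = 3 ^ j by
      rw [show (9 : ℕ) = 3 ^ 2 from rfl, ← pow_add]; congr 1; omega]
    exact Nat.find_spec hex
  have hb3 : b ^ 3 ≠ 1 := by
    rw [hb, ← pow_mul, ← pow_succ]
    exact Nat.find_min hex (by omega)
  let Fx : Subgroup W :=
    { carrier := {w | (b ^ 3) w = w}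
      mul_mem' := fun {x y} hx hy => by
        show (b ^ 3) (x * y) = x * y
        rw [map_mul, show (b ^ 3) x = x from hx, show (b ^ 3) y = y from hy]
      one_mem' := map_one _
      inv_mem' := fun {x} hx => by
        show (b ^ 3) x⁻¹ = x⁻¹
        rw [map_inv, show (b ^ 3) x = x from hx] }
  have hFix : ∀ (w : W) (i : ℕ), w ∉ Fx → (b ^ i) w ∉ Fx := by
    intro w i hw hc'
    apply hw
    apply (b ^ i).injective
    rw [← MulAut.mul_apply, ← pow_add, add_comm, pow_add, MulAut.mul_apply]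
    exact hc'
  have horb : ∀ w : W, w ∉ Fx → Function.Injective fun i : Fin 9 => (b ^ (i : ℕ)) w := by
    intro w hw
    have key : ∀ m, 0 < m → m < 9 → (b ^ m) w ≠ w := by
      intro m hm0 hm9 he
      apply hw
      have hmn : ∀ n : ℕ, (b ^ (m * n)) w = w := by
        intro n
        induction n with
        | zero => simp
        | succ n ih => rw [Nat.mul_succ, pow_add, MulAut.mul_apply, he, ih]
      have h9 : ∀ n r : ℕ, b ^ (9 * n + r) = b ^ r := fun n r => by
        rw [pow_add, pow_mul, hb9, one_pow, one_mul]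
      show (b ^ 3) w = w
      interval_cases m
      · exact hmn 3
      · have := hmn 6; rwa [show 2 * 6 = 9 * 1 + 3 from rfl, h9] at this
      · exact hmn 1
      · have := hmn 3; rwa [show 4 * 3 = 9 * 1 + 3 from rfl, h9] at this
      · have := hmn 6; rwa [show 5 * 6 = 9 * 3 + 3 from rfl, h9] at this
      · have := hmn 2; rwa [show 6 * 2 = 9 * 1 + 3 from rfl, h9] at this
      · have := hmn 3; rwa [show 7 * 3 = 9 * 2 + 3 from rfl, h9] at this
      · have := hmn 6; rwa [show 8 * 6 = 9 * 5 + 3 from rfl, h9] at this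
    intro i k hik
    simp only at hik
    by_contra hne'
    rcases lt_or_gt_of_ne (fun e => hne' (Fin.ext e) : (i : ℕ) ≠ k) with hl | hl
    · refine key (k - i) (by omega) (by omega) ((b ^ (i : ℕ)).injective ?_)
      rw [← MulAut.mul_apply, ← pow_add, show (i : ℕ) + (k - i) = k by omega, hik]
    · refine key (i - k) (by omega) (by omega) ((b ^ (k : ℕ)).injective ?_)
      rw [← MulAut.mul_apply, ← pow_add, show (k : ℕ) + (i - k) = i by omega, hik]
  let : Fintype W := Fintype.ofFinite W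
  let S : Finset W := Finset.univ.filter fun w => w ∉ Fx
  have hScard : S.card + Nat.card Fx = Nat.card W := by
    rw [Nat.card_eq_fintype_card, Nat.card_eq_fintype_card, Fintype.card_subtype,
      ← Finset.card_univ, add_comm, Finset.card_filter_add_card_filter_not]
  obtain ⟨w, hw⟩ : ∃ w, w ∉ Fx := by
    by_contra hall
    push Not at hall
    exact hb3 (MulEquiv.ext hall)
  let O : W → Finset W := fun w => Finset.univ.image fun i : Fin 9 => (b ^ (i : ℕ)) w
  have hO : ∀ w, w ∉ Fx → (O w).card = 9 ∧ O w ⊆ S := fun w hw =>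
    ⟨by rw [Finset.card_image_of_injective _ (horb w hw)]; rfl,
      fun x hx => by
        simp only [O, Finset.mem_image, Finset.mem_univ, true_and] at hx
        obtain ⟨i, rfl⟩ := hx
        simp [S, hFix w i hw]⟩
  have h9 : 9 ≤ S.card := (hO w hw).1 ▸ Finset.card_le_card (hO w hw).2
  obtain ⟨dW, hdW⟩ := hW.exists_card_eq
  obtain ⟨dF, hdF⟩ := (hW.to_subgroup Fx).exists_card_eq
  rw [hdW, hdF] at hScard
  rw [hdW] at hc
  have hdW4 : dW ≤ 4 := by
    by_contra hlt
    have := Nat.pow_le_pow_right (show 0 < 2 by norm_num) (show 5 ≤ dW by omega)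
    omega
  have h12 : 12 ≤ S.card := by
    have hdF4 : dF ≤ 4 := by
      by_contra hlt
      have := Nat.pow_le_pow_right (show 0 < 2 by norm_num) (show 5 ≤ dF by omega)
      omega
    interval_cases dW <;> interval_cases dF <;> omega
  obtain ⟨w', hw', hw'O⟩ : ∃ w' ∈ S, w' ∉ O w := by
    by_contra hall
    push Not at hall
    have := Finset.card_le_card (show S ⊆ O w from hall)
    rw [(hO w hw).1] at this
    omega
  simp only [S, Finset.mem_filter, Finset.mem_univ, true_and] at hw'
  have hdisj : Disjoint (O w) (O w') := by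
    rw [Finset.disjoint_left]
    intro x hx hx'
    simp only [O, Finset.mem_image, Finset.mem_univ, true_and] at hx hx'
    obtain ⟨i, rfl⟩ := hx
    obtain ⟨k, hk⟩ := hx'
    apply hw'O
    simp only [O, Finset.mem_image, Finset.mem_univ, true_and]
    refine ⟨⟨((i : ℕ) + (9 - k)) % 9, Nat.mod_lt _ (by norm_num)⟩, ?_⟩
    show (b ^ (((i : ℕ) + (9 - k)) % 9)) w = w'
    rw [← pow_eq_pow_mod _ hb9, add_comm, pow_add, MulAut.mul_apply, ← hk, ← MulAut.mul_apply, ← pow_add,
      show 9 - (k : ℕ) + k = 9 by omega, hb9]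
    rfl
  have := Finset.card_le_card (Finset.union_subset (hO w hw).2 (hO w' hw').2)
  rw [Finset.card_union_of_disjoint hdisj, (hO w hw).1, (hO w' hw').1] at this
  have : 2 ^ dW ≤ 16 := hc
  have := Nat.one_le_two_pow (n := dF)
  omega

namespace Tri

variable [Finite T] {ψ : MulAut T} {z : T} (h : Tri ψ z)
include h

theorem card_quotient_le (hs : ∀ x : T, x * x ∈ center T) (hz : ∀ c ∈ center T, c * c = 1)
    (hcard : Nat.card (center T) = 4) : Nat.card (T ⧸ center T) ≤ 16 := by
  classical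
  set Z := center T with hZ
  have hcm : ∀ {c : T}, c ∈ Z → ∀ g : T, c * g = g * c := fun hc g => (mem_center_iff.1 hc g).symm
  have hcomm : ∀ x y : T, ⁅x, y⁆ ∈ Z := by
    intro x y
    have e : ⁅x, y⁆ = (x * y) * (x * y) * (y⁻¹ * (x * x)⁻¹ * y) * (y * y)⁻¹ := by
      rw [commutatorElement_def]; group
    rw [e]
    have h1 : y⁻¹ * (x * x)⁻¹ * y = (x * x)⁻¹ := by
      rw [mul_assoc, hcm (inv_mem (hs x)) y, inv_mul_cancel_left]
    rw [h1]
    exact mul_mem (mul_mem (hs _) (inv_mem (hs x))) (inv_mem (hs y))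
  letI : CommGroup (T ⧸ Z) := { (inferInstance : Group (T ⧸ Z)) with
    mul_comm := fun x y => by
      obtain ⟨x, rfl⟩ := QuotientGroup.mk'_surjective Z x
      obtain ⟨y, rfl⟩ := QuotientGroup.mk'_surjective Z y
      rw [← commutatorElement_eq_one_iff_mul_comm, ← map_commutatorElement]
      exact (QuotientGroup.eq_one_iff _).2 (hcomm x y) }
  let : Fintype (T ⧸ Z) := Fintype.ofFinite _
  have hψz := h.sq_map h.sq
  let lam : T → ℤ := fun c => if c = 1 ∨ c = z then 1 else -1
  have hlam2 : ∀ c, lam c * lam c = 1 := fun c => by simp only [lam]; split_ifs <;> rfl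
  have h3 := h.prod_three h.sq
  have hzc := hcm (h.mem_center h.sq)
  have e1 : z * ψ z = ψ (ψ z) := by
    rw [mul_eq_one_iff_eq_inv.1 h3]; exact inv_eq_of_mul_eq_one_right (h.sq_map hψz)
  have e2 : z * ψ (ψ z) = ψ z := by rw [← e1, ← mul_assoc, h.sq, one_mul]
  have e3 : ψ z * ψ (ψ z) = z := by rw [← e1, ← mul_assoc, ← hzc, mul_assoc, hψz, mul_one]
  have n1 := h.move
  have n2 := h.move_two
  have n3 : ψ z ≠ 1 := fun e => h.ne (ψ.map_eq_one_iff.1 e)
  have n4 : ψ (ψ z) ≠ 1 := fun e => n3 (ψ.map_eq_one_iff.1 e)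
  have n5 : ψ (ψ z) ≠ ψ z := fun e => n1 (ψ.injective e)
  have hlam : ∀ c d, c ∈ Z → d ∈ Z → lam (c * d) = lam c * lam d := by
    intro c d hc hd
    have hdc := hcm hc d
    rcases h.cases (hz c hc) with rfl | rfl | rfl | rfl <;>
      rcases h.cases (hz d hd) with rfl | rfl | rfl | rfl <;>
      simp [lam, h.sq, hψz, h.sq_map hψz, e1, e2, e3, ← hzc, n1, n2, n3, n4, n5, h.ne] <;>
      simp [hdc, e1, e2, e3, n1, n2, n3, n4, n5, h.ne]
  let Q : T ⧸ Z → T := fun v => v.out * v.out
  have hQmk : ∀ x : T, Q (x : T ⧸ Z) = x * x := by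
    intro x
    obtain ⟨⟨c, hc⟩, hc'⟩ := QuotientGroup.mk_out_eq_mul Z x
    show ((x : T ⧸ Z).out) * (x : T ⧸ Z).out = x * x
    rw [hc']
    calc x * c * (x * c) = x * (c * x) * c := by group
      _ = x * x * (c * c) := by rw [hcm hc x]; group
      _ = x * x := by rw [hz c hc, mul_one]
  let Bc : T ⧸ Z → T ⧸ Z → T := fun v w => ⁅v.out, w.out⁆
  have hQmul : ∀ v w, Q (v * w) = Q v * Q w * Bc v w := by
    intro v w
    have hv : ((v.out * w.out : T) : T ⧸ Z) = v * w := by
      rw [QuotientGroup.mk_mul, QuotientGroup.out_eq', QuotientGroup.out_eq']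
    rw [← hv, hQmk]
    show _ = v.out * v.out * (w.out * w.out) * ⁅v.out, w.out⁆
    generalize v.out = x
    generalize w.out = y
    have hyx : ⁅y, x⁆ = ⁅x, y⁆ := by
      rw [← commutatorElement_inv x y]
      exact inv_eq_of_mul_eq_one_right (hz _ (hcomm x y))
    calc x * y * (x * y) = x * (⁅y, x⁆ * (x * y)) * y := by simp only [commutatorElement_def]; group
      _ = ⁅y, x⁆ * (x * (x * y) * y) := by
          rw [← mul_assoc x, ← hcm (hcomm y x) x]; group
      _ = _ := by rw [hcm (hcomm y x), hyx]; group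
  have hBmul : ∀ v v' w, Bc (v * v') w = Bc v w * Bc v' w := by
    intro v v' w
    show ⁅(v * v').out, w.out⁆ = ⁅v.out, w.out⁆ * ⁅v'.out, w.out⁆
    obtain ⟨⟨c, hc⟩, hc'⟩ := QuotientGroup.mk_out_eq_mul Z (v.out * v'.out)
    rw [QuotientGroup.mk_mul, QuotientGroup.out_eq', QuotientGroup.out_eq'] at hc'
    rw [hc']
    generalize v.out = x
    generalize v'.out = x'
    generalize w.out = y
    calc ⁅x * x' * c, y⁆ = x * x' * (c * y * c⁻¹) * x'⁻¹ * x⁻¹ * y⁻¹ := by
          simp only [commutatorElement_def]; group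
      _ = x * ⁅x', y⁆ * (y * x⁻¹ * y⁻¹) := by
          rw [hcm hc y, mul_inv_cancel_right]; simp only [commutatorElement_def]; group
      _ = ⁅x', y⁆ * ⁅x, y⁆ := by
          rw [← hcm (hcomm x' y) x]; simp only [commutatorElement_def]; group
      _ = _ := hcm (hcomm x' y) _
  have hψZ : Z.map ψ.toMonoidHom = Z :=
    Subgroup.characteristic_iff_map_eq.1 inferInstance _
  let A : T ⧸ Z ≃* T ⧸ Z := QuotientGroup.congr Z Z ψ hψZ
  have hQA : ∀ v, Q (A v) = ψ (Q v) := by
    intro v
    induction v using QuotientGroup.induction_on with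
    | H x =>
      show Q ((ψ x : T) : T ⧸ Z) = ψ (Q (x : T ⧸ Z))
      rw [hQmk, hQmk, map_mul]
  have hQZ : ∀ v, Q v ∈ Z := fun v => hs _
  let s : T ⧸ Z → ℤ := fun v => lam (Q v)
  have horb : ∀ v, v ≠ 1 → s v + s (A v) + s (A (A v)) = -1 := by
    intro v hv
    have hne : Q v ≠ 1 := by
      intro e
      induction v using QuotientGroup.induction_on with
      | H x => exact hv ((QuotientGroup.eq_one_iff x).2 (h.mem_center ((hQmk x).symm.trans e)))
    simp only [s, hQA]
    rcases h.cases (hz _ (hQZ v)) with e | e | e | e <;> rw [e] at hne ⊢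
    · exact absurd rfl hne
    all_goals simp [lam, h.cube, n1, n2, n3, n4, n5, h.ne]
  have hQ1 : Q 1 = 1 := by rw [← QuotientGroup.mk_one Z, hQmk, mul_one]
  set S := ∑ v, s v with hSdef
  have h3S : 3 * S = 4 - (Fintype.card (T ⧸ Z) : ℤ) := by
    have hA1 : ∑ v, s (A v) = S := Fintype.sum_equiv A.toEquiv _ _ fun v => rfl
    have hA2 : ∑ v, s (A (A v)) = S := Fintype.sum_equiv (A.trans A).toEquiv _ _ fun v => rfl
    have hsum : ∑ v, (s v + s (A v) + s (A (A v))) = 3 * S := by
      rw [Finset.sum_add_distrib, Finset.sum_add_distrib, hA1, hA2]; ring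
    rw [← hsum, ← Finset.add_sum_erase _ _ (Finset.mem_univ (1 : T ⧸ Z)),
      Finset.sum_congr rfl fun v hv => horb v (Finset.mem_erase.1 hv).1, map_one, map_one]
    simp only [s, hQ1, lam, true_or, if_true, Finset.sum_const,
      Finset.card_erase_of_mem (Finset.mem_univ (1 : T ⧸ Z)), Finset.card_univ, nsmul_eq_mul]
    rw [Nat.cast_sub Fintype.card_pos]
    push_cast
    ring
  obtain ⟨d, hd⟩ := IsPGroup.iff_card.1 (h.two.to_quotient Z)
  rw [Nat.card_eq_fintype_card] at hd ⊢
  rcases Nat.eq_zero_or_pos d with rfl | hd1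
  · rw [hd]; norm_num
  have h2d : 2 ≤ 2 ^ d := by simpa using Nat.pow_le_pow_right (show 0 < 2 by norm_num) hd1
  rw [hd] at h3S
  obtain ⟨c, hc, hcard⟩ : ∃ c : ℕ, 1 - S = c ∧ 2 ^ d = (2 ^ 2 - 1) * c + 1 := by
    generalize 2 ^ d = m at h3S h2d ⊢
    exact ⟨(1 - S).toNat, by omega, by omega⟩
  have hgauss := SuzukiTwoGroup.gauss_sum_sq (h.two.to_quotient Z) s (fun v w => lam (Bc v w))
    (fun v => hlam2 _)
    (fun v w => by
      show lam (Q (v * w)) = _
      rw [hQmul, hlam _ _ (mul_mem (hQZ v) (hQZ w)) (hcomm _ _), hlam _ _ (hQZ v) (hQZ w)])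
    (fun v v' w => by rw [hBmul, hlam _ _ (hcomm _ _) (hcomm _ _)])
  rw [← hSdef, show S = 1 - (c : ℤ) by rw [← hc]; ring] at hgauss
  rcases SuzukiTwoGroup.arith le_rfl hd1 c hcard hgauss with rfl | rfl <;> rw [hd] <;> norm_num

end Tri

/-- The automorphism moving three involutions has order 3. -/
theorem pow_three_eq_one : ∀ (n : ℕ) {T : Type u} [Group T] [Finite T] {ψ : MulAut T} {z : T},
    Tri ψ z → Nat.card T = n → ψ ^ 3 = 1 := by
  intro n
  induction n using Nat.strongRecOn with | ind n ih => ?_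
  intro T _ _ ψ z h hn
  obtain ⟨k, hk⟩ := h.ord
  have hodd : Odd (3 ^ k) := Odd.pow (by decide)
  have hπ : (ψ ^ 3) ^ 3 ^ k = 1 := by rw [← pow_mul, mul_comm, pow_mul, hk, one_pow]
  by_cases hab : ∀ x y : T, x * y = y * x
  · exact eq_one_of_fix_of_comm h.two hab hodd hπ fun x hx => h.cube_fix hx
  have hproper : ∀ U : Subgroup T, z ∈ U → U.map ψ.toMonoidHom = U → U ≠ ⊤ →
      ∀ x ∈ U, (ψ ^ 3) x = x := by
    intro U hz hU hne x hx
    obtain ⟨ψ', h', hψ'⟩ := h.restrict U hz hU
    have hlt : Nat.card U < n := hn ▸ lt_of_le_of_ne (Nat.le_of_dvd Nat.card_pos (card_subgroup_dvd_card U))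
      (fun e => hne (Subgroup.eq_top_of_card_eq U e))
    have := congrArg (fun f : MulAut U => ((f ⟨x, hx⟩ : U) : T)) (ih _ hlt h' rfl)
    simp only [pow_succ, pow_zero, one_mul, MulAut.mul_apply, hψ', MulAut.one_apply] at this ⊢
    exact this
  set Z := center T with hZ
  set M := frattini T ⊔ Z with hM
  have hMn : M.Normal := Subgroup.sup_normal _ _
  have hMψ : M.map ψ.toMonoidHom = M := by
    have hF : (frattini T).map ψ.toMonoidHom = frattini T :=
      Subgroup.characteristic_iff_map_eq.1 inferInstance _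
    have hZψ : Z.map ψ.toMonoidHom = Z := Subgroup.characteristic_iff_map_eq.1 inferInstance _
    rw [hM, Subgroup.map_sup, hF, hZψ]
  have hMne : M ≠ ⊤ := by
    intro htop
    have hZtop : Z = ⊤ := frattini_nongenerating (by rwa [hM, sup_comm] at htop)
    exact hab fun x y => (mem_center_iff.1 (show x ∈ Z by rw [hZtop]; exact mem_top x) y).symm
  have hMfix := hproper M (mem_sup_right (h.mem_center h.sq)) hMψ hMne
  set π := ψ ^ 3 with hπdef
  set C := centralizer (M : Set T) with hC
  have hdiff : ∀ x : T, x⁻¹ * π x ∈ C := by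
    intro x
    rw [hC, mem_centralizer_iff]
    intro m hm
    have h1 := hMfix _ (hMn.conj_mem m hm x)
    rw [map_mul, map_mul, map_inv, hMfix m hm] at h1
    calc m * (x⁻¹ * π x) = x⁻¹ * (x * m * x⁻¹) * π x := by group
      _ = x⁻¹ * (π x * m * (π x)⁻¹) * π x := by rw [h1]
      _ = x⁻¹ * π x * m := by group
  have hCψ : C.map ψ.toMonoidHom = C := by
    have hCn : ∀ y ∈ C, ψ y ∈ C := by
      intro y hy
      rw [hC, mem_centralizer_iff]
      intro m hm
      obtain ⟨m', hm', rfl⟩ := hMψ.ge hm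
      show ψ m' * ψ y = ψ y * ψ m'
      rw [← map_mul, mem_centralizer_iff.1 hy m' hm', map_mul]
    refine Subgroup.eq_of_le_of_card_ge ?_ (le_of_eq (card_map_of_injective ψ.injective).symm)
    rintro _ ⟨y, hy, rfl⟩
    exact hCn y hy
  have hstab : (∀ x : T, π (x⁻¹ * π x) = x⁻¹ * π x) → π = 1 := by
    intro hf
    refine MulEquiv.ext fun x => ?_
    set c := x⁻¹ * π x with hcdef
    have hn' : ∀ i : ℕ, (π ^ i) x = x * c ^ i := by
      intro i
      induction i with
      | zero => simp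
      | succ i ihi =>
        rw [pow_succ', MulAut.mul_apply, ihi, map_mul, map_pow, hf x, pow_succ', ← mul_assoc,
          hcdef, mul_inv_cancel_left]
    have h1 := hn' (3 ^ k)
    rw [hπ] at h1
    have hc1 : c ^ 3 ^ k = 1 := mul_eq_left.1 h1.symm
    have hco : (orderOf c) = 1 := by
      obtain ⟨i, hi⟩ := (IsPGroup.iff_orderOf.1 h.two) c
      exact Nat.eq_one_of_dvd_coprimes (Nat.Coprime.pow i k (by norm_num : Nat.Coprime 2 3))
        (hi ▸ dvd_rfl) (orderOf_dvd_of_pow_eq_one hc1)
    exact (inv_mul_eq_one.1 (orderOf_eq_one_iff.1 hco)).symm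
  by_cases hCtop : C = ⊤
  · have hMZ : M ≤ Z := fun m hm => mem_center_iff.2 fun g =>
      (mem_centralizer_iff.1 (show g ∈ C from hCtop ▸ mem_top g) m hm).symm
    have hs : ∀ x : T, x * x ∈ center T := by
      intro x
      refine hMZ (mem_sup_left ?_)
      rw [← sq]
      exact Solvable.pow_mem_frattini h.two x
    have hW := h.card_quotient_le hs (fun c hc => h.center_sq hab hc) (h.card_center hab)
    have hψZ : Z.map ψ.toMonoidHom = Z := Subgroup.characteristic_iff_map_eq.1 inferInstance _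
    let A : MulAut (T ⧸ Z) := QuotientGroup.congr Z Z ψ hψZ
    have hApow : ∀ (i : ℕ) (x : T), (A ^ i) (x : T ⧸ Z) = (((ψ ^ i) x : T) : T ⧸ Z) := by
      intro i
      induction i with
      | zero => intro x; rfl
      | succ i ihi => intro x; rw [pow_succ', pow_succ', MulAut.mul_apply, MulAut.mul_apply, ihi]; rfl
    have hA := pow_three_eq_one_of_card_le (h.two.to_quotient Z) hW A ⟨k, MulEquiv.ext fun v => by
      induction v using QuotientGroup.induction_on with
      | H x => rw [hApow, hk]; rfl⟩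
    refine hstab fun x => h.cube_fix (h.center_sq hab ?_)
    have h2 := hApow 3 x
    rw [hA] at h2
    exact QuotientGroup.eq.1 h2
  · exact hstab fun x => hproper C (mem_centralizer_iff.2 fun m _ => mem_center_iff.1 (h.mem_center h.sq) m) hCψ hCtop _ (hdiff x)

end CfsgLib.TwoGroups.RankTwoTransitive
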