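import Cfsg.Prelude
import Mathlib.GroupTheory.Index

/-!
Sectional 2-rank through subgroups generated by squares.
-/

set_option autoImplicit false
set_option linter.unusedSectionVars false

namespace CfsgLib.TwoGroups.SqIndex

open Subgroup

variable {G : Type*} [Group G]

/-- The subgroup generated by the squares of the elements of `H`. -/
def sqSub (H : Subgroup G) : Subgroup G := closure {y | ∃ h ∈ H, h * h = y}

theorem sq_mem {H : Subgroup G} {h : G} (hh : h ∈ H) : h * h ∈ sqSub H :=
  subset_closure ⟨h, hh, rfl⟩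

theorem sqSub_le (H : Subgroup G) : sqSub H ≤ H := by
  rw [sqSub, closure_le]
  rintro _ ⟨h, hh, rfl⟩
  exact mul_mem hh hh

theorem sqSub_le_of {H K : Subgroup G} (h : ∀ x ∈ H, x * x ∈ K) : sqSub H ≤ K := by
  rw [sqSub, closure_le]
  rintro _ ⟨x, hx, rfl⟩
  exact h x hx

theorem sqSub_mono {H₁ H₂ : Subgroup G} (h : H₁ ≤ H₂) : sqSub H₁ ≤ sqSub H₂ :=
  sqSub_le_of fun _ hx => sq_mem (h hx)

theorem commutator_mem {H : Subgroup G} {a b : G} (ha : a ∈ H) (hb : b ∈ H) :
    a * b * a⁻¹ * b⁻¹ ∈ sqSub H := by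
  have e : a * b * a⁻¹ * b⁻¹ = (a * a) * (a⁻¹ * b * (a⁻¹ * b)) * (b⁻¹ * b⁻¹) := by group
  rw [e]
  exact mul_mem (mul_mem (sq_mem ha) (sq_mem (mul_mem (inv_mem ha) hb))) (sq_mem (inv_mem hb))

theorem conj_mem {H : Subgroup G} {h y : G} (hh : h ∈ H) (hy : y ∈ sqSub H) :
    h * y * h⁻¹ ∈ sqSub H := by
  have e : h * y * h⁻¹ = (h * y * h⁻¹ * y⁻¹) * y := by group
  rw [e]
  exact mul_mem (commutator_mem hh (sqSub_le _ hy)) hy

theorem map_sqSub {Q : Type*} [Group Q] (f : G →* Q) (H : Subgroup G) :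
    (sqSub H).map f = sqSub (H.map f) := by
  refine le_antisymm ?_ (sqSub_le_of ?_)
  · rw [map_le_iff_le_comap]
    exact sqSub_le_of fun x hx => by rw [mem_comap, map_mul]; exact sq_mem (mem_map_of_mem f hx)
  · rintro _ ⟨x, hx, rfl⟩
    rw [← map_mul]
    exact mem_map_of_mem f (sq_mem hx)

variable [Finite G]

theorem relIndex_ne_zero (K H : Subgroup G) : K.relIndex H ≠ 0 := by
  rw [Subgroup.relIndex]
  exact Subgroup.index_ne_zero_of_finite

theorem card_mul_relIndex {K H : Subgroup G} (h : K ≤ H) :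
    Nat.card K * K.relIndex H = Nat.card H := by
  rw [← relIndex_bot_left, ← relIndex_bot_left, relIndex_mul_relIndex _ _ _ bot_le h]

theorem card_map_mul {Q : Type*} [Group Q] (f : G →* Q) (H : Subgroup G) :
    Nat.card (H.map f) * Nat.card (H ⊓ f.ker : Subgroup G) = Nat.card H := by
  have h := Subgroup.card_mul_index (f.comp H.subtype).ker
  rw [Subgroup.index_ker, MonoidHom.range_comp, Subgroup.range_subtype] at h
  rw [← h, mul_comm]
  congr 1
  rw [← MonoidHom.comap_ker, Subgroup.comap_subtype]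
  exact (Nat.card_congr (Subgroup.subgroupOfEquivOfLe (inf_le_left : H ⊓ f.ker ≤ H)).toEquiv).symm.trans
    (by rw [Subgroup.inf_subgroupOf_left])

/-- The index splits along a homomorphism. -/
theorem relIndex_eq_mul {Q : Type*} [Group Q] [Finite Q] (f : G →* Q) {K H : Subgroup G} (h : K ≤ H) :
    K.relIndex H = (K.map f).relIndex (H.map f) * (K ⊓ f.ker).relIndex (H ⊓ f.ker) := by
  have h1 := card_mul_relIndex h
  have h2 := card_mul_relIndex (G := Q) (map_mono h : K.map f ≤ H.map f)
  have h3 := card_mul_relIndex (inf_le_inf_right f.ker h)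
  rw [← card_map_mul f H, ← card_map_mul f K, ← h2, ← h3] at h1
  have hpos : 0 < Nat.card (K.map f) * Nat.card (K ⊓ f.ker : Subgroup G) :=
    Nat.mul_pos Nat.card_pos Nat.card_pos
  apply Nat.eq_of_mul_eq_mul_left hpos
  rw [h1]
  ring

/-- A bound for the indices of the square-generated subgroups bounds the sectional rank. -/
theorem sectionalPRankLE {r : ℕ} (h : ∀ H : Subgroup G, (sqSub H).relIndex H ≤ 2 ^ r) :
    Cfsg.SectionalPRankLE 2 r G := by
  intro H N _ A _ hA
  set π : H →* H ⧸ N := QuotientGroup.mk' N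
  set J : Subgroup G := (A.comap π).map H.subtype with hJ
  set N' : Subgroup G := N.map H.subtype with hN'
  have hNJ : N ≤ A.comap π := fun n hn => by
    rw [mem_comap, show π n = 1 from (QuotientGroup.eq_one_iff n).2 hn]
    exact one_mem _
  have hsq : sqSub J ≤ N' := by
    refine sqSub_le_of ?_
    rintro _ ⟨x, hx, rfl⟩
    refine ⟨x * x, (QuotientGroup.eq_one_iff _).1 ?_, rfl⟩
    rw [← hA (π x) hx, pow_two]
    rfl
  have hcard : Nat.card A = N'.relIndex J := by
    have e : N.subgroupOf (A.comap π) = (π.comp (A.comap π).subtype).ker := by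
      rw [← MonoidHom.comap_ker, QuotientGroup.ker_mk']; rfl
    rw [hN', hJ, relIndex_map_map_of_injective _ _ H.subtype_injective, Subgroup.relIndex, e,
      Subgroup.index_ker, MonoidHom.range_comp, Subgroup.range_subtype,
      Subgroup.map_comap_eq_self_of_surjective (QuotientGroup.mk'_surjective N)]
  rw [hcard]
  refine le_trans (Nat.le_of_dvd (Nat.pos_of_ne_zero (relIndex_ne_zero _ _))
    (relIndex_dvd_of_le_left J hsq)) (h J)

end CfsgLib.TwoGroups.SqIndex
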