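import Cfsg.Agent.UThreeSylow.Basic
import Mathlib.GroupTheory.SpecificGroups.KleinFour

/-!
Structure of the Sylow 2-subgroups of `U₃(q)`, specialised to `q = 4`.
-/

set_option autoImplicit false

namespace CfsgLib.TwoGroups.UFour

open CfsgLib.UThreeSylow Subgroup
open scoped commutatorElement

variable {F : Type*} [Field F] [Fintype F] {n q : ℕ} {h : Good F n q}

theorem cA_inv (g : uSub h) : cA g⁻¹ = cA g := by
  have h1 := (coords_mul g g⁻¹).1
  rw [mul_inv_cancel, coords_one.1] at h1
  linear_combination -h1 - cA g * h.two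

theorem exists_not_fixed (h : Good F n q) : ∃ x : F, x ^ q ≠ x := by
  by_contra hc
  push Not at hc
  have h1 : Nat.card (trace h).ker = Fintype.card F := by
    rw [← Nat.card_eq_fintype_card]
    exact Nat.card_congr (Equiv.subtypeUnivEquiv fun x => (mem_trace_ker h).2 (hc x))
  rw [(card_fixed_and_surj h).1, h.card_eq, sq] at h1
  have := h.two_le
  nlinarith

theorem mem_center_iff_cA (g : uSub h) : g ∈ center (uSub h) ↔ cA g = 0 := by
  refine ⟨fun hg => ?_, fun hg => ?_⟩
  · by_contra ha
    have key : ∀ x : F, cA g ^ q * x = x ^ q * cA g := by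
      intro x
      have := congrArg cB (mem_center_iff.1 hg (gA h x))
      rw [(coords_mul _ _).2, (coords_mul _ _).2, cA_gA] at this
      linear_combination -this
    have h1 : cA g ^ q = cA g := by simpa using key 1
    obtain ⟨x, hx⟩ := exists_not_fixed h
    exact hx (mul_right_cancel₀ ha (by rw [← key x, h1, mul_comm])).symm.symm
  · obtain ⟨hz, he⟩ := zEl_cB hg
    rw [← he]
    exact mem_center_iff.2 fun g' => (zEl_comm _ g').symm

theorem card_center (h : Good F n q) : Nat.card (center (uSub h)) = q := by
  have hb : Function.Bijective (fun z : (trace h).ker =>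
      (⟨zEl h z, (mem_center_iff_cA _).2 (zEl_spec z).1⟩ : center (uSub h))) := by
    refine ⟨fun z z' e => Subtype.ext ?_, fun g => ?_⟩
    · rw [← (zEl_spec z).2, ← (zEl_spec z').2]
      exact congrArg (fun g : center (uSub h) => cB g.1) e
    · obtain ⟨hz, he⟩ := zEl_cB ((mem_center_iff_cA _).1 g.2)
      exact ⟨_, Subtype.ext he⟩
  rw [← Nat.card_eq_of_bijective _ hb, (card_fixed_and_surj h).1]

theorem sq_eq_one_iff (g : uSub h) : g * g = 1 ↔ cA g = 0 := by
  refine ⟨fun hg => ?_, fun hg => coords_ext ?_ ?_⟩
  · have h1 := (coords_sq g).2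
    rw [hg, coords_one.2] at h1
    exact eq_zero_of_pow_eq_zero h1.symm
  · rw [(coords_sq g).1, coords_one.1]
  · rw [(coords_sq g).2, coords_one.2, hg, zero_pow (Nat.succ_ne_zero q)]

theorem center_le_commutator (h : Good F n q) : center (uSub h) ≤ commutator (uSub h) := by
  intro g hg
  have hg' := (mem_center_iff_cA g).1 hg
  obtain ⟨hz, -⟩ := zEl_cB hg'
  obtain ⟨x, hx⟩ := exists_trace h ((mem_trace_ker h).1 hz)
  have hc : ⁅gA h 1, gA h x⁆ * (gA h x * gA h 1) = gA h 1 * gA h x := by
    rw [commutatorElement_def]; group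
  have hA : cA ⁅gA h 1, gA h x⁆ = 0 := by
    have := congrArg cA hc
    rw [(coords_mul _ _).1, (coords_mul _ _).1, (coords_mul _ _).1] at this
    linear_combination this
  have hB : cB ⁅gA h 1, gA h x⁆ = cB g := by
    have := congrArg cB hc
    rw [(coords_mul _ _).2, (coords_mul (gA h x) _).2, (coords_mul (gA h 1) _).2, hA, cA_gA, cA_gA,
      one_pow, zero_pow (show q ≠ 0 by have := h.two_le; omega)] at this
    linear_combination this + hx - x ^ q * h.two
  rw [show g = ⁅gA h 1, gA h x⁆ from coords_ext (hg'.trans hA.symm) hB.symm]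
  exact commutator_mem_commutator (mem_top _) (mem_top _)

theorem commutator_le_center (h : Good F n q) : commutator (uSub h) ≤ center (uSub h) := by
  rw [commutator_def, commutator_le]
  intro a _ b _
  rw [mem_center_iff_cA, commutatorElement_def, (coords_mul _ _).1, (coords_mul _ _).1,
    (coords_mul _ _).1, cA_inv, cA_inv]
  linear_combination (cA a + cA b) * h.two

theorem facts {S : Type*} [Group S] (h : Good F 2 4) (e : uSub h ≃* S) :
    Nat.card S = 64 ∧ IsKleinFour (center S) ∧
      center S = closure {x : S | orderOf x = 2} ∧ center S = commutator S ∧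
      Nat.card (S ⧸ center S) = 16 ∧ ∀ x : S ⧸ center S, x ^ 2 = 1 := by
  have hcard : Nat.card S = 64 := by
    rw [← Nat.card_congr e.toEquiv, card_uSub]
    norm_num
  have hcen : ∀ s : S, s ∈ center S ↔ cA (e.symm s) = 0 := by
    intro s
    rw [← mem_center_iff_cA, mem_center_iff, mem_center_iff]
    refine ⟨fun hs g => e.injective ?_, fun hs t => e.symm.injective ?_⟩
    · simpa using hs (e g)
    · simpa using hs (e.symm t)
  have hsq : ∀ s : S, s * s = 1 ↔ s ∈ center S := by
    intro s
    rw [hcen, ← sq_eq_one_iff, ← map_mul, MulEquiv.map_eq_one_iff]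
  have hc4 : Nat.card (center S) = 4 := by
    have h1 := card_center h
    rw [← h1]
    exact Nat.card_congr (e.toEquiv.subtypeEquiv fun g => by
      rw [hcen]; simp [mem_center_iff_cA]).symm
  have hK : IsKleinFour (center S) := by
    refine ⟨hc4, (Nat.dvd_prime Nat.prime_two).1 (Monoid.exponent_dvd_of_forall_pow_eq_one fun x =>
      Subtype.ext ?_) |>.resolve_left fun h1 => ?_⟩
    · rw [sq]; exact (hsq x.1).2 x.2
    · have := Monoid.exp_eq_one_iff.1 h1
      rw [Nat.card_of_subsingleton (1 : center S)] at hc4
      omega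
  refine ⟨hcard, hK, ?_, ?_, ?_, fun x => ?_⟩
  · refine le_antisymm (fun s hs => ?_) ((closure_le _).2 fun s hs => ?_)
    · by_cases h1 : s = 1
      · rw [h1]; exact one_mem _
      · exact subset_closure (orderOf_eq_prime (by rw [sq]; exact (hsq s).2 hs) h1)
    · rw [SetLike.mem_coe, ← hsq, ← sq, ← (show orderOf s = 2 from hs), pow_orderOf_eq_one]
  · have hmap : (commutator (uSub h)).map e.toMonoidHom = commutator S := by
      rw [commutator_def, commutator_def, map_commutator, map_top_of_surjective _ e.surjective]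
    rw [← hmap]
    ext s
    rw [hcen, mem_map_equiv, ← mem_center_iff_cA,
      le_antisymm (commutator_le_center h) (center_le_commutator h)]
  · have h2 := card_eq_card_quotient_mul_card_subgroup (center S)
    rw [hcard, hc4] at h2
    omega
  · obtain ⟨s, rfl⟩ := QuotientGroup.mk'_surjective _ x
    rw [← map_pow, QuotientGroup.mk'_apply, QuotientGroup.eq_one_iff, hcen, map_pow, sq,
      (coords_sq _).1]

end CfsgLib.TwoGroups.UFour
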